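import Groth.Agent.AbVarLib.HomFlat
import Groth.Agent.AbVarLib.KernelTorsor
import Groth.Agent.AlgGrpLib.KernelGrp
import Groth.Agent.AlgGrpLib.AffineHull
import Groth.Agent.SGA3xLib.SepFibre
import Groth.Agent.FlatMorGeneric.Scheme
import Groth.Agent.FlatMorThick.Affine
import Groth.Agent.Et18.Descent
import Groth.Agent.Props12.KerReduced
import Groth.Prelude.Def_Mor2

/-!
# Quasi-affine homomorphisms of group schemes over a field are affine
-/

set_option autoImplicit false

universe u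

open CategoryTheory CategoryTheory.Limits AlgebraicGeometry MonoidalCategory CartesianMonoidalCategory MonObj GrpObj
  TopologicalSpace

namespace Groth.Agent.CohDer1.QuasiAffHom

open Groth.Agent.AbVarLib

/-- Affineness of the self-fibre product is stable under base change. -/
theorem isAffineHom_fst_of_isPullback {X Y X' Y' : Scheme.{u}} {a : X' ⟶ X} {g : X' ⟶ Y'} {f : X ⟶ Y}
    {b : Y' ⟶ Y} (h : IsPullback a g f b) (hf : IsAffineHom (pullback.fst f f)) :
    IsAffineHom (pullback.fst g g) := by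
  have h1 : IsPullback (pullback.snd g g ≫ a) (pullback.fst g g) f (g ≫ b) :=
    (IsPullback.of_hasPullback g g).flip.paste_horiz h
  rw [← h.w] at h1
  let l := pullback.lift (pullback.fst g g ≫ a) (pullback.snd g g ≫ a) (f := f) (g := f)
    (by rw [Category.assoc, Category.assoc, h.w, pullback.condition_assoc])
  have h2 : IsPullback (l ≫ pullback.snd f f) (pullback.fst g g) f (a ≫ f) := by
    rw [pullback.lift_snd]; exact h1
  have h3 := IsPullback.of_right h2 (pullback.lift_fst _ _ _) (IsPullback.of_hasPullback f f).flip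
  exact MorphismProperty.of_isPullback h3 hf

section Field

variable {k : Type u} [Field k] {P Q : Over (Spec (CommRingCat.of k))} [GrpObj P] [GrpObj Q]
  [LocallyOfFiniteType P.hom] [LocallyOfFiniteType Q.hom]

/-- The self-fibre product of a quasi-affine homomorphism is affine over the factors. -/
theorem isAffineHom_fst_self (f : P ⟶ Q) [IsMonHom f] (hf : Mor2.IsQuasiAffine f.left) :
    IsAffineHom (pullback.fst f.left f.left) := by
  let N := pullback f η[Q]
  let i : N ⟶ P := pullback.fst f η[Q]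
  have hN : AlgGrp.IsKernel i f := by
    show IsPullback i (toUnit N) f η[Q]
    rw [toUnit_unique (toUnit N) (pullback.snd f η[Q])]
    exact IsPullback.of_hasPullback f η[Q]
  obtain ⟨_, _⟩ := AlgGrpLib.exists_grpObj_kernel f i hN
  have hsq := hN.map (Over.forget (Spec (CommRingCat.of k)))
  haveI : IsClosedImmersion (η[Q] : _ ⟶ Q).left :=
    SGA3xLib.isClosedImmersion_of_section Q.hom (η[Q] : _ ⟶ Q).left (Over.w η[Q])
  haveI hi : IsClosedImmersion i.left :=
    MorphismProperty.of_isPullback hsq.flip (‹IsClosedImmersion (η[Q] : _ ⟶ Q).left›)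
  obtain ⟨V, hV, heV, -⟩ := exists_isAffineOpen_mem_and_subset
    (x := (η[Q] : _ ⟶ Q).left (IsLocalRing.closedPoint k)) (U := ⊤) trivial
  have hNV : Set.range i.left ⊆ Set.range (f.left ⁻¹ᵁ V).ι := by
    rw [Scheme.Opens.range_ι]
    rintro _ ⟨z, rfl⟩
    show f.left (i.left z) ∈ V
    rw [← Scheme.Hom.comp_apply, show i.left ≫ f.left = (toUnit N).left ≫ (η[Q] : _ ⟶ Q).left from hsq.w,
      Scheme.Hom.comp_apply]
    convert heV using 2
    exact @Subsingleton.elim _ (inferInstanceAs (Subsingleton (PrimeSpectrum k))) _ _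
  let l := IsOpenImmersion.lift (f.left ⁻¹ᵁ V).ι i.left hNV
  have hl : l ≫ (f.left ⁻¹ᵁ V).ι = i.left := IsOpenImmersion.lift_fac _ _ _
  haveI : IsAffineHom l := by
    haveI : IsAffineHom (l ≫ (f.left ⁻¹ᵁ V).ι) := hl ▸ inferInstance
    exact MorphismProperty.of_postcomp @IsAffineHom (W' := @IsSeparated) l (f.left ⁻¹ᵁ V).ι inferInstance this
  haveI := hf.2 V hV
  haveI : N.left.IsQuasiAffine := Scheme.IsQuasiAffine.of_isAffineHom l
  have hNh : LocallyOfFiniteType N.hom := by
    rw [← Over.w i]; infer_instance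
  haveI : IsAffine N.left := AlgGrpLib.AffineHull.isAffine_of_isQuasiAffine N
  haveI : IsAffineHom N.hom := inferInstance
  have h1 : IsAffineHom (fst P N).left :=
    MorphismProperty.of_isPullback (IsPullback.of_hasPullback P.hom N.hom).flip ‹IsAffineHom N.hom›
  have h2 := (isPullback_kernel f i hN).map (Over.forget (Spec (CommRingCat.of k)))
  let e := h2.isoPullback
  have : e.hom ≫ pullback.fst f.left f.left = (fst P N).left := h2.isoPullback_hom_fst
  exact (MorphismProperty.cancel_left_of_respectsIso @IsAffineHom e.hom _).1 (this.symm ▸ h1)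

end Field

section AlgClosed

variable {K : Type u} [Field K] [IsAlgClosed K] {P Q : Over (Spec (CommRingCat.of K))} [GrpObj P] [GrpObj Q]
  [LocallyOfFiniteType P.hom] [LocallyOfFiniteType Q.hom]

local notation "S" => Spec (CommRingCat.of K)

/-- The image of a rational point. -/
noncomputable abbrev pt {X : Over S} (a : 𝟙_ (Over S) ⟶ X) : X.left := a.left (IsLocalRing.closedPoint K)

theorem pt_comp {X Y : Over S} (a : 𝟙_ (Over S) ⟶ X) (g : X ⟶ Y) : pt (a ≫ g) = g.left (pt a) :=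
  Scheme.Hom.comp_apply _ _ _

theorem exists_pt {X : Over S} [LocallyOfFiniteType X.hom] {z : X.left} (hz : IsClosed ({z} : Set X.left)) :
    ∃ a : 𝟙_ (Over S) ⟶ X, pt a = z :=
  ⟨Over.homMk (pointOfClosedPoint X.hom z hz) (pointOfClosedPoint_comp X.hom z hz),
    pointOfClosedPoint_apply X.hom z hz _⟩

theorem pt_inj {X : Over S} [LocallyOfFiniteType X.hom] {a b : 𝟙_ (Over S) ⟶ X} (h : pt a = pt b) : a = b :=
  Over.OverMorphism.ext (ext_of_apply_closedPoint_eq X.hom (Over.w a) (Over.w b) h)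

theorem comp_translate {X : Over S} [GrpObj X] (a b : 𝟙_ (Over S) ⟶ X) : b ≫ (AbVarLib.translate a).hom = a * b := by
  simp only [AbVarLib.translate, MonObj.comp_mul, Category.comp_id, ← Category.assoc]
  rw [toUnit_unique (b ≫ toUnit X) (𝟙 _), Category.id_comp]

theorem translate_apply {X : Over S} [GrpObj X] (a b : 𝟙_ (Over S) ⟶ X) :
    (AbVarLib.translate a).hom.left (pt b) = pt (a * b) := by rw [← pt_comp, comp_translate]

variable (f : P ⟶ Q) [IsMonHom f]

theorem exists_pt_of_mem_range {z : Q.left} (hz : IsClosed ({z} : Set Q.left)) (h : z ∈ Set.range f.left) :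
    ∃ p : 𝟙_ (Over S) ⟶ P, pt (p ≫ f) = z := by
  have := LocallyOfFiniteType.jacobsonSpace P.hom
  obtain ⟨x, hx⟩ := h
  obtain ⟨w, hw, hwc⟩ := nonempty_inter_closedPoints (Z := f.left ⁻¹' {z}) ⟨x, hx⟩
    (hz.preimage f.left.continuous).isLocallyClosed
  obtain ⟨p, rfl⟩ := exists_pt hwc
  exact ⟨p, (pt_comp p f).trans hw⟩

/-- Closed points in the closure of the image are in the image, when the image contains a dense
open subset of its closure. -/
theorem mem_range_of_mem_closure {W : Set Q.left} (hW : IsOpen W)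
    (hWR : W ∩ closure (Set.range f.left) ⊆ Set.range f.left)
    (hd : closure (Set.range f.left) ⊆ closure (W ∩ Set.range f.left))
    {y : Q.left} (hy : IsClosed ({y} : Set Q.left)) (hyc : y ∈ closure (Set.range f.left)) :
    y ∈ Set.range f.left := by
  have := LocallyOfFiniteType.jacobsonSpace Q.hom
  obtain ⟨Y0, rfl⟩ := exists_pt hy
  let C := closure (Set.range f.left)
  -- right translations by points of the image preserve the closure
  have hright : ∀ (p : 𝟙_ (Over S) ⟶ P) (c : 𝟙_ (Over S) ⟶ Q), pt c ∈ C → pt (c * (p ≫ f)) ∈ C := by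
    intro p c hc
    let ρP : P ⟶ P := 𝟙 P * (toUnit P ≫ p)
    let ρ : Q ⟶ Q := 𝟙 Q * (toUnit Q ≫ p ≫ f)
    have hcomm : ρP ≫ f = f ≫ ρ := by
      simp only [ρP, ρ, MonObj.mul_comp, MonObj.comp_mul, Category.id_comp, Category.comp_id, Category.assoc]
      rw [← Category.assoc f, toUnit_unique (f ≫ toUnit Q) (toUnit P)]
    have hc' : c ≫ ρ = c * (p ≫ f) := by
      simp only [ρ, MonObj.comp_mul, Category.comp_id, ← Category.assoc]
      rw [toUnit_unique (c ≫ toUnit Q) (𝟙 _), Category.id_comp]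
    rw [← hc', pt_comp]
    refine map_mem_closure ρ.left.continuous hc ?_
    rintro _ ⟨x, rfl⟩
    refine ⟨ρP.left x, ?_⟩
    rw [← Scheme.Hom.comp_apply, ← Over.comp_left, hcomm, Over.comp_left, Scheme.Hom.comp_apply]
  have hinv : pt Y0⁻¹ ∈ C := by
    rw [show Y0⁻¹ = Y0 ≫ (𝟙 Q)⁻¹ by rw [GrpObj.comp_inv, Category.comp_id], pt_comp]
    refine map_mem_closure ((𝟙 Q)⁻¹ : Q ⟶ Q).left.continuous hyc ?_
    rintro _ ⟨x, rfl⟩
    refine ⟨((𝟙 P)⁻¹ : P ⟶ P).left x, ?_⟩
    rw [← Scheme.Hom.comp_apply, ← Over.comp_left, GrpObj.inv_comp, Category.id_comp,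
      show f⁻¹ = f ≫ (𝟙 Q)⁻¹ by rw [GrpObj.comp_inv, Category.comp_id], Over.comp_left, Scheme.Hom.comp_apply]
  have hlc : IsLocallyClosed (W ∩ C) := hW.isLocallyClosed.inter isClosed_closure.isLocallyClosed
  have hne : (W ∩ C).Nonempty := by
    obtain ⟨z, hz, hz'⟩ := closure_nonempty_iff.1 ⟨_, hd hyc⟩
    exact ⟨z, hz, subset_closure hz'⟩
  obtain ⟨z₀, hz₀, hz₀c⟩ := nonempty_inter_closedPoints hne hlc
  obtain ⟨p₀, rfl⟩ := exists_pt_of_mem_range f hz₀c (hWR hz₀)
  let O : Set Q.left := (AbVarLib.translate Y0).hom.left ⁻¹' W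
  have hx : pt (Y0⁻¹ * (p₀ ≫ f)) ∈ O := by
    show (AbVarLib.translate Y0).hom.left _ ∈ W
    rw [translate_apply, mul_inv_cancel_left]
    exact hz₀.1
  have hO : IsOpen O := hW.preimage (AbVarLib.translate Y0).hom.left.continuous
  obtain ⟨z₁, hz₁O, hz₁W, hz₁R⟩ := mem_closure_iff.1 (hd (hright p₀ _ hinv)) O hO hx
  obtain ⟨z, hz, hzc⟩ := nonempty_inter_closedPoints (Z := O ∩ (W ∩ C))
    ⟨z₁, hz₁O, hz₁W, subset_closure hz₁R⟩ (hO.isLocallyClosed.inter hlc)
  obtain ⟨p, rfl⟩ := exists_pt_of_mem_range f hzc (hWR hz.2)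
  have h1 : pt (Y0 * (p ≫ f)) ∈ W := by
    rw [← translate_apply]; exact hz.1
  have hcl : IsClosed ({pt (Y0 * (p ≫ f))} : Set Q.left) :=
    ((pointEquivClosedPoint Q.hom) ⟨(Y0 * (p ≫ f)).left, Over.w _⟩).2
  obtain ⟨q, hq⟩ := exists_pt_of_mem_range f hcl (hWR ⟨h1, hright p _ hyc⟩)
  have : Y0 = (q * p⁻¹) ≫ f := by
    rw [MonObj.mul_comp, GrpObj.inv_comp, pt_inj hq, mul_inv_cancel_right]
  rw [this, pt_comp]
  exact ⟨_, rfl⟩

/-- Over an algebraically closed field, a quasi-compact homomorphism is affine as soon as it is so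
after base change to its source. -/
theorem isAffineHom_of_fst [QuasiCompact f.left] (hsp : IsAffineHom (pullback.fst f.left f.left)) :
    IsAffineHom f.left := by
  have := LocallyOfFiniteType.jacobsonSpace Q.hom
  haveI : IsLocallyNoetherian Q.left := LocallyOfFiniteType.isLocallyNoetherian Q.hom
  haveI : LocallyOfFiniteType f.left := by
    have : LocallyOfFiniteType (f.left ≫ Q.hom) := by rw [Over.w f]; infer_instance
    exact locallyOfFiniteType_of_comp f.left Q.hom
  let R := Set.range f.left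
  let Z : Closeds Q.left := ⟨closure R, isClosed_closure⟩
  let j := (Scheme.IdealSheafData.vanishingIdeal Z).subschemeι
  haveI : IsReduced (Scheme.IdealSheafData.vanishingIdeal Z).subscheme :=
    Props12.isReduced_subscheme_vanishingIdeal Z
  have hj : Set.range j = closure R := by
    simp [j, Z, Scheme.IdealSheafData.range_subschemeι, Scheme.IdealSheafData.coe_support_vanishingIdeal]
  let g := pullback.snd f.left j
  let a := pullback.fst f.left j
  have hag : IsPullback a g f.left j := IsPullback.of_hasPullback _ _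
  haveI : Surjective a := by
    refine ⟨fun x => ?_⟩
    obtain ⟨h', hh⟩ := hj.ge (subset_closure ⟨x, rfl⟩)
    obtain ⟨z, hz, -⟩ := Scheme.Pullback.exists_preimage_pullback (f := f.left) (g := j) x h' hh.symm
    exact ⟨z, hz⟩
  obtain ⟨U, hU, hfl, hfp⟩ := FlatMorGeneric.exists_dense_flat_lfp g
  let U' : Set ↥(Scheme.IdealSheafData.vanishingIdeal Z).subscheme := U ∩ Set.range g
  have hU'o : IsOpen U' := by
    haveI := hfl
    haveI := hfp
    have : UniversallyOpen (g ∣_ U) := inferInstance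
    have h := U.2.isOpenMap_subtype_val _ (g ∣_ U).isOpenMap.isOpen_range
    convert h using 1
    ext z
    constructor
    · rintro ⟨hz, x, rfl⟩
      exact ⟨⟨g x, hz⟩, ⟨⟨x, hz⟩, Subtype.ext (morphismRestrict_base_coe g U ⟨x, hz⟩)⟩, rfl⟩
    · rintro ⟨w, ⟨x, rfl⟩, rfl⟩
      exact ⟨((g ∣_ U) x).2, x.1, (morphismRestrict_base_coe g U x).symm⟩
  have hemb : Topology.IsEmbedding j := j.isEmbedding
  obtain ⟨W, hWo, hWU⟩ := hemb.isInducing.isOpen_iff.1 hU'o
  have hRj : ∀ z, z ∈ Set.range g ↔ j z ∈ R := fun z => by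
    constructor
    · rintro ⟨x, rfl⟩
      exact ⟨a x, by rw [← Scheme.Hom.comp_apply, hag.w, Scheme.Hom.comp_apply]⟩
    · rintro ⟨x, hx⟩
      obtain ⟨w, -, hw⟩ := Scheme.Pullback.exists_preimage_pullback (f := f.left) (g := j) x z hx
      exact ⟨w, hw⟩
  have hWR : W ∩ closure R ⊆ R := by
    rintro x ⟨hxW, hxC⟩
    obtain ⟨z, rfl⟩ := hj.ge hxC
    exact (hRj z).1 ((hWU.le : j ⁻¹' W ⊆ U') hxW).2
  have hdense : closure R ⊆ closure (W ∩ R) := by
    refine closure_minimal (fun x hx => ?_) isClosed_closure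
    obtain ⟨z, rfl⟩ := hj.ge (subset_closure hx)
    refine mem_closure_iff.2 fun O hO hzO => ?_
    obtain ⟨w, hwO, hwU⟩ := hU.inter_open_nonempty _ (hO.preimage j.continuous) ⟨z, hzO⟩
    have h1 : j w ∈ closure R := hj.le ⟨w, rfl⟩
    obtain ⟨V, hVo, hVU⟩ := hemb.isInducing.isOpen_iff.1 U.2
    obtain ⟨t, ⟨htO, htV⟩, htR⟩ := mem_closure_iff.1 h1 (O ∩ V) (hO.inter hVo) ⟨hwO, hVU.ge hwU⟩
    obtain ⟨s, rfl⟩ := hj.ge (subset_closure htR)
    exact ⟨j s, htO, (hWU.ge : U' ⊆ j ⁻¹' W) ⟨hVU.le htV, (hRj s).2 htR⟩, htR⟩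
  let Wo : Q.left.Opens := ⟨W, hWo⟩
  let U'' := j ⁻¹ᵁ Wo
  have hU'' : U'' ≤ U := fun z hz => ((hWU.le : j ⁻¹' W ⊆ U') hz).1
  -- affineness over W
  have hW : IsAffineHom (f.left ∣_ Wo) := by
    let g' := g ∣_ U''
    have hsq : IsPullback ((g ⁻¹ᵁ U'').ι ≫ a) g' f.left (U''.ι ≫ j) :=
      (isPullback_morphismRestrict g U'').flip.paste_horiz hag
    have haff : IsAffineHom (pullback.fst g' g') := isAffineHom_fst_of_isPullback hsq hsp
    haveI : Flat g' := by
      haveI := hfl
      refine ((MorphismProperty.arrow_mk_iso_iff @Flat (morphismRestrictRestrict g U (U.ι ⁻¹ᵁ U'') ≪≫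
        morphismRestrictEq g (?_ : U.ι ''ᵁ U.ι ⁻¹ᵁ U'' = U''))).1 inferInstance)
      rw [Scheme.Hom.image_preimage_eq_opensRange_inf, Scheme.Opens.opensRange_ι, inf_eq_right.2 hU'']
    haveI : Surjective g' := by
      refine ⟨fun z => ?_⟩
      obtain ⟨x, hx⟩ := ((hWU.le : j ⁻¹' W ⊆ U') z.2).2
      exact ⟨⟨x, show g x ∈ U'' from hx ▸ z.2⟩, Subtype.ext ((morphismRestrict_base_coe g U'' _).trans hx)⟩
    haveI : QuasiCompact g' := inferInstance
    haveI := Et18.descends_isAffineHom.{u}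
    have hg' : IsAffineHom g' := MorphismProperty.of_isPullback_of_descendsAlong (Q := Et18.FPQC.{u})
      (IsPullback.of_hasPullback g' g') ⟨⟨‹Surjective g'›, ‹Flat g'›⟩, ‹QuasiCompact g'›⟩ haff
    have hjW : IsAffineHom (j ∣_ Wo) := IsZariskiLocalAtTarget.restrict (P := @IsAffineHom) inferInstance _
    have h2 : IsAffineHom ((g ≫ j) ∣_ Wo) := by
      rw [morphismRestrict_comp]; exact MorphismProperty.comp_mem _ _ _ hg' hjW
    rw [show g ≫ j = a ≫ f.left from hag.w.symm, morphismRestrict_comp] at h2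
    haveI := h2
    haveI : Surjective (a ∣_ f.left ⁻¹ᵁ Wo) := IsZariskiLocalAtTarget.restrict (P := @Surjective) ‹Surjective a› _
    haveI : IsClosedImmersion (a ∣_ f.left ⁻¹ᵁ Wo) :=
      IsZariskiLocalAtTarget.restrict (P := @IsClosedImmersion) inferInstance _
    exact @FlatMorThick.isAffineHom_of_comp_surjective _ _ _ (a ∣_ f.left ⁻¹ᵁ Wo) (f.left ∣_ Wo) ‹_› ‹_› h2
  -- spreading out by translations
  let 𝒱 : Set Q.left.Opens := {V | IsAffineHom (f.left ∣_ V)}
  have hS := FlatMorGeneric.prop_morphismRestrict_sSup f.left @IsAffineHom 𝒱 fun V hV => hV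
  suffices hT : sSup 𝒱 = ⊤ by
    exact IsZariskiLocalAtTarget.of_iSup_eq_top (P := @IsAffineHom) (fun _ : Unit => sSup 𝒱)
      (by rw [iSup_const, hT]) fun _ => hS
  by_contra hT
  obtain ⟨y, hy, hyc⟩ := nonempty_inter_closedPoints (Z := ((sSup 𝒱 : Q.left.Opens) : Set Q.left)ᶜ)
    (Set.nonempty_compl.2 fun h => hT (Opens.ext h)) (sSup 𝒱).2.isClosed_compl.isLocallyClosed
  refine hy (Opens.mem_sSup.2 ?_)
  by_cases hyC : y ∈ closure R
  · have hyR := mem_range_of_mem_closure f hWo hWR hdense hyc hyC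
    obtain ⟨p, rfl⟩ := exists_pt_of_mem_range f hyc hyR
    obtain ⟨z, ⟨hzW, hzC⟩, hzc⟩ := nonempty_inter_closedPoints (Z := W ∩ closure R) (by
      obtain ⟨z, hz, hz'⟩ := closure_nonempty_iff.1 ⟨_, hdense hyC⟩
      exact ⟨z, hz, subset_closure hz'⟩) (hWo.isLocallyClosed.inter isClosed_closure.isLocallyClosed)
    obtain ⟨p₀, rfl⟩ := exists_pt_of_mem_range f hzc (hWR ⟨hzW, hzC⟩)
    let θ := (AbVarLib.translate (p₀ * p⁻¹)).hom.left
    let η' := (AbVarLib.translate ((p₀ * p⁻¹) ≫ f)).hom.left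
    have hθ : θ ≫ f.left = f.left ≫ η' := congrArg CommaMorphism.left (translate_comp f _)
    haveI : IsIso θ := inferInstanceAs (IsIso ((Over.forget _).map (AbVarLib.translate (p₀ * p⁻¹)).hom))
    haveI : IsIso η' := inferInstanceAs (IsIso ((Over.forget _).map (AbVarLib.translate ((p₀ * p⁻¹) ≫ f)).hom))
    refine ⟨η' ⁻¹ᵁ Wo, ?_, ?_⟩
    · show IsAffineHom (f.left ∣_ η' ⁻¹ᵁ Wo)
      have h2 : IsAffineHom ((θ ≫ f.left) ∣_ Wo) := by
        rw [morphismRestrict_comp]
        haveI : IsIso (θ ∣_ f.left ⁻¹ᵁ Wo) :=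
          IsZariskiLocalAtTarget.restrict (P := MorphismProperty.isomorphisms Scheme) ‹IsIso θ› _
        exact MorphismProperty.RespectsIso.precomp (P := @IsAffineHom) (θ ∣_ f.left ⁻¹ᵁ Wo) _ hW
      rw [hθ, morphismRestrict_comp] at h2
      exact (MorphismProperty.cancel_right_of_respectsIso @IsAffineHom _ (η' ∣_ Wo)).1 h2
    · show η' (pt (p ≫ f)) ∈ W
      rw [translate_apply, ← MonObj.mul_comp, inv_mul_cancel_right]
      exact hzW
  · refine ⟨⟨(closure R)ᶜ, isClosed_closure.isOpen_compl⟩, ?_, hyC⟩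
    show IsAffineHom _
    have : IsEmpty ↥(f.left ⁻¹ᵁ (⟨(closure R)ᶜ, isClosed_closure.isOpen_compl⟩ : Q.left.Opens)).toScheme :=
      ⟨fun x => x.2 (subset_closure ⟨x.1, rfl⟩)⟩
    infer_instance

end AlgClosed

/-- A quasi-affine homomorphism of group schemes locally of finite type over a field is affine. -/
theorem isAffineHom {k : Type u} [Field k] {P Q : Over (Spec (CommRingCat.of k))} [GrpObj P] [GrpObj Q]
    [LocallyOfFiniteType P.hom] [LocallyOfFiniteType Q.hom] (f : P ⟶ Q) [IsMonHom f]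
    (hf : Mor2.IsQuasiAffine f.left) : IsAffineHom f.left := by
  let G := Over.pullback (algPt k)
  letI : GrpObj (G.obj P) := Functor.grpObjObj
  letI : GrpObj (G.obj Q) := Functor.grpObjObj
  have hP := isPullback_pullback_map (algPt k) f
  haveI : LocallyOfFiniteType (G.obj P).hom := inferInstanceAs (LocallyOfFiniteType (pullback.snd _ _))
  haveI : LocallyOfFiniteType (G.obj Q).hom := inferInstanceAs (LocallyOfFiniteType (pullback.snd _ _))
  haveI := hf.1
  haveI : QuasiCompact (G.map f).left := MorphismProperty.of_isPullback hP inferInstance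
  haveI := Et18.descends_isAffineHom.{u}
  exact MorphismProperty.of_isPullback_of_descendsAlong (Q := Et18.FPQC.{u}) hP.flip (fpqc_pullback_algPt Q)
    (isAffineHom_of_fst (G.map f) (isAffineHom_fst_of_isPullback hP (isAffineHom_fst_self f hf)))

end Groth.Agent.CohDer1.QuasiAffHom
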