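import Groth.Agent.CohDer1.SliceGlobal
import Groth.Agent.CohDer1.QuasiAffHom
import Groth.Agent.AlgGrpLib.AntiAffineSections
import Groth.Agent.VarietyLib.SmoothStalk
import Groth.Agent.PicLib.FlatSections

/-!
# Anti-affine group schemes are smooth
-/

set_option autoImplicit false
set_option backward.isDefEq.respectTransparency.types false

universe u

open CategoryTheory CategoryTheory.Limits AlgebraicGeometry MonoidalCategory CartesianMonoidalCategory MonObj GrpObj
  TopologicalSpace
open scoped TensorProduct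

namespace Groth.Agent.CohDer1.AntiAff

open Groth.Agent.AbVarLib QuasiAffHom

/-- A morphism from a reduced scheme lifts through a surjective closed immersion. -/
theorem exists_lift_reduced {T H X : Scheme.{u}} [IsReduced T] (j : H ⟶ X) [IsClosedImmersion j] [Surjective j]
    (t : T ⟶ X) : ∃ l : T ⟶ H, l ≫ j = t := by
  haveI : IsClosedImmersion (pullback.fst t j) := inferInstance
  haveI : Surjective (pullback.fst t j) := inferInstance
  haveI := isIso_of_isClosedImmersion_of_surjective (pullback.fst t j)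
  exact ⟨inv (pullback.fst t j) ≫ pullback.snd t j, by
    rw [Category.assoc, ← pullback.condition, IsIso.inv_hom_id_assoc]⟩

section AlgClosed

variable {K : Type u} [Field K] [IsAlgClosed K]

local notation "S₀" => Spec (CommRingCat.of K)

/-- A reduced closed subscheme with the full underlying space of a group is smooth. -/
theorem smooth_reduced (G : Over S₀) [GrpObj G] [LocallyOfFiniteType G.hom] {H : Scheme.{u}} (j : H ⟶ G.left)
    [IsClosedImmersion j] [Surjective j] [IsReduced H] : Smooth (j ≫ G.hom) := by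
  let g := j ≫ G.hom
  haveI : LocallyOfFiniteType g := inferInstance
  haveI : LocallyOfFinitePresentation g := inferInstance
  have := LocallyOfFiniteType.jacobsonSpace g
  have : JacobsonSpace G.left := LocallyOfFiniteType.jacobsonSpace G.hom
  have : Nonempty H := by
    obtain ⟨h, -⟩ := j.surjective (η[G].left (IsLocalRing.closedPoint K))
    exact ⟨h⟩
  rw [← Scheme.Hom.smoothLocus_eq_top_iff, ← TopologicalSpace.Opens.coe_eq_univ, ← not_ne_iff,
    ← Set.nonempty_compl]
  intro hne
  obtain ⟨x, hx, hxc⟩ := nonempty_inter_closedPoints hne g.smoothLocus.2.isClosed_compl.isLocallyClosed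
  obtain ⟨y, hy, hyc⟩ := nonempty_inter_closedPoints g.dense_smoothLocus_of_perfectField.nonempty
    g.smoothLocus.2.isLocallyClosed
  have hcl : ∀ z : H, IsClosed ({z} : Set H) → IsClosed ({j z} : Set G.left) := fun z hz => by
    rw [← Set.image_singleton]; exact j.isClosedEmbedding.isClosedMap _ hz
  obtain ⟨a, ha⟩ := exists_pt (hcl x hxc)
  obtain ⟨b, hb⟩ := exists_pt (hcl y hyc)
  let θ := (AbVarLib.translate (b * a⁻¹)).hom.left
  haveI : IsIso θ := inferInstanceAs (IsIso ((Over.forget _).map (AbVarLib.translate (b * a⁻¹)).hom))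
  obtain ⟨θH, hθH⟩ := exists_lift_reduced j (j ≫ θ)
  obtain ⟨θH', hθH'⟩ := exists_lift_reduced j (j ≫ inv θ)
  haveI : IsIso θH := ⟨θH', by rw [← cancel_mono j]; simp [hθH', reassoc_of% hθH],
    by rw [← cancel_mono j]; simp [hθH, reassoc_of% hθH']⟩
  have hpt : θH x = y := by
    apply j.isClosedEmbedding.injective
    rw [← Scheme.Hom.comp_apply, hθH, Scheme.Hom.comp_apply, ← ha, ← hb, QuasiAffHom.translate_apply, inv_mul_cancel_right]
  have hg : θH ≫ g = g := by
    simp only [g, reassoc_of% hθH]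
    exact congrArg (j ≫ ·) (Over.w (AbVarLib.translate (b * a⁻¹)).hom)
  have h1 : x ∈ θH ⁻¹ᵁ g.smoothLocus := by
    show θH x ∈ g.smoothLocus
    rw [hpt]; exact hy
  rw [Scheme.Hom.preimage_smoothLocus_eq] at h1
  have key : ∀ (g' : H ⟶ S₀) [LocallyOfFinitePresentation g'], g' = g → x ∈ g'.smoothLocus → x ∈ g.smoothLocus := by
    rintro _ _ rfl h; exact h
  exact hx (key _ hg h1)

/-- A morphism into an affine open is `Spec` of a unique ring map. -/
theorem exists_algHom {X : Scheme.{u}} (hX : X ⟶ S₀) {U : X.Opens} (hU : IsAffineOpen U) [Algebra K Γ(X, U)]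
    (hU' : hU.fromSpec ≫ hX = Spec.map (CommRingCat.ofHom (algebraMap K Γ(X, U))))
    {C : Type u} [CommRing C] [Algebra K C] (t : Spec (CommRingCat.of C) ⟶ X)
    (ht : t ≫ hX = Spec.map (CommRingCat.ofHom (algebraMap K C))) (hrange : ∀ z, t z ∈ U) :
    ∃ φ : Γ(X, U) →ₐ[K] C, Spec.map (CommRingCat.ofHom φ.toRingHom) ≫ hU.fromSpec = t := by
  let l := IsOpenImmersion.lift hU.fromSpec t (by rw [hU.range_fromSpec]; rintro _ ⟨z, rfl⟩; exact hrange z)
  have hl : l ≫ hU.fromSpec = t := IsOpenImmersion.lift_fac _ _ _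
  let φ := Spec.preimage l
  have hφ : CommRingCat.ofHom (algebraMap K Γ(X, U)) ≫ φ = CommRingCat.ofHom (algebraMap K C) := by
    apply Spec.map_injective
    rw [Spec.map_comp, Spec.map_preimage, ← hU', reassoc_of% hl, ht]
  refine ⟨{ φ.hom with commutes' := fun c => congr($hφ c) }, ?_⟩
  show Spec.map φ ≫ _ = t
  rw [Spec.map_preimage, hl]

set_option maxHeartbeats 3200000 in
/-- An anti-affine algebraic group over an algebraically closed field is smooth. -/
theorem smooth_algClosed (G : Over S₀) [GrpObj G] [LocallyOfFiniteType G.hom] [QuasiCompact G.hom]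
    (hG : Function.Bijective G.hom.appTop) : Smooth G.hom := by
  classical
  haveI : CompactSpace G.left := QuasiCompact.compactSpace_of_compactSpace G.hom
  haveI : IsLocallyNoetherian G.left := LocallyOfFiniteType.isLocallyNoetherian G.hom
  have := LocallyOfFiniteType.jacobsonSpace G.hom
  let Z : Closeds G.left := ⟨Set.univ, isClosed_univ⟩
  let H := (Scheme.IdealSheafData.vanishingIdeal Z).subscheme
  let j : H ⟶ G.left := (Scheme.IdealSheafData.vanishingIdeal Z).subschemeι
  haveI : IsReduced H := Props12.isReduced_subscheme_vanishingIdeal Z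
  haveI : Surjective j := ⟨Set.range_eq_univ.1 ((Scheme.IdealSheafData.range_subschemeι _).trans (by
    rw [Scheme.IdealSheafData.coe_support_vanishingIdeal]; rfl))⟩
  haveI hsm : Smooth (j ≫ G.hom) := smooth_reduced G j
  let HO : Over S₀ := Over.mk (j ≫ G.hom)
  let jO : HO ⟶ G := Over.homMk j
  haveI : LocallyOfFiniteType HO.hom := inferInstanceAs (LocallyOfFiniteType (j ≫ G.hom))
  -- the chart at the origin
  let o : G.left := η[G].left (IsLocalRing.closedPoint K)
  obtain ⟨U, hU, hoU, -⟩ := exists_isAffineOpen_mem_and_subset (x := o) (U := ⊤) trivial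
  let R := Γ(G.left, U)
  letI algR : Algebra K R := (Spec.preimage (hU.fromSpec ≫ G.hom)).hom.toAlgebra
  have hU' : hU.fromSpec ≫ G.hom = Spec.map (CommRingCat.ofHom (algebraMap K R)) := by
    rw [show CommRingCat.ofHom (algebraMap K R) = Spec.preimage (hU.fromSpec ≫ G.hom) from rfl, Spec.map_preimage]
  haveI : Algebra.FiniteType K R := by
    refine RingHom.finiteType_algebraMap.1 ?_
    have : LocallyOfFiniteType (Spec.map (CommRingCat.ofHom (algebraMap K R))) := by rw [← hU']; infer_instance
    exact (HasRingHomProperty.Spec_iff (P := @LocallyOfFiniteType)).1 this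
  let UH := j ⁻¹ᵁ U
  have hUH : IsAffineOpen UH := hU.preimage j
  let Rb := Γ(H, UH)
  letI algRb : Algebra K Rb := ((j.app U).hom.comp (algebraMap K R)).toAlgebra
  let q : R →ₐ[K] Rb := { (j.app U).hom with commutes' := fun c => rfl }
  have hq : Function.Surjective q := j.app_surjective U hU
  have hjU : Spec.map (j.app U) ≫ hU.fromSpec = hUH.fromSpec ≫ j := by
    rw [Scheme.Hom.app_eq_appLE]; exact hU.SpecMap_appLE_fromSpec j hUH le_rfl
  have hUH' : hUH.fromSpec ≫ HO.hom = Spec.map (CommRingCat.ofHom (algebraMap K Rb)) := by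
    show hUH.fromSpec ≫ j ≫ G.hom = _
    rw [← Category.assoc, ← hjU, Category.assoc, hU', ← Spec.map_comp]
    rfl
  have hnil : ∀ x, q x = 0 → IsNilpotent x := by
    intro x hx
    have h1 : j ⁻¹ᵁ G.left.basicOpen x = ⊥ := by
      rw [Scheme.preimage_basicOpen, show (j.app U) x = 0 from hx, Scheme.basicOpen_zero]
    have h2 : G.left.basicOpen x = ⊥ := by
      refine eq_bot_iff.2 fun z hz => ?_
      obtain ⟨w, rfl⟩ := j.surjective z
      exact (h1.le (show w ∈ j ⁻¹ᵁ G.left.basicOpen x from hz) : False).elim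
    have h3 := hU.fromSpec_preimage_basicOpen x
    rw [h2] at h3
    exact (PrimeSpectrum.basicOpen_eq_bot_iff x).1 (h3.symm.trans (Opens.ext rfl))
  obtain ⟨xH, hxH⟩ := j.surjective o
  have hxHc : IsClosed ({xH} : Set H) := by
    have ho : IsClosed ({o} : Set G.left) := ((pointEquivClosedPoint G.hom) ⟨η[G].left, Over.w _⟩).2
    have : ({xH} : Set H) = j ⁻¹' {o} := by
      ext z; simp [← hxH, j.isClosedEmbedding.injective.eq_iff]
    rw [this]; exact ho.preimage j.continuous
  obtain ⟨eH, heH⟩ := exists_pt (X := HO) hxHc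
  have heHj : eH ≫ jO = η[G] := pt_inj (by
    rw [pt_comp, heH]; exact hxH)
  obtain ⟨eb, heb⟩ := exists_algHom (X := H) (C := K) (j ≫ G.hom) hUH hUH' eH.left
    (by rw [show eH.left ≫ j ≫ G.hom = 𝟙 _ from Over.w eH]; exact (Spec.map_id _).symm) (fun z => by
      rw [Subsingleton.elim (α := PrimeSpectrum K) z (IsLocalRing.closedPoint K)]
      show j (pt eH) ∈ U
      rw [heH, hxH]; exact hoU)
  haveI : (RingHom.ker eb.toRingHom).IsPrime := RingHom.ker_isPrime _
  have hreg : IsRegularLocalRing (Localization.AtPrime (RingHom.ker eb.toRingHom)) := by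
    haveI := VarietyLib.isRegularLocalRing_stalk_of_smooth K H (j ≫ G.hom) xH
    have hx : xH ∈ UH := by show j xH ∈ U; rw [hxH]; exact hoU
    have hid : (hUH.primeIdealOf ⟨xH, hx⟩).asIdeal = RingHom.ker eb.toRingHom := by
      have h1 : hUH.fromSpec (Spec.map (CommRingCat.ofHom eb.toRingHom) (IsLocalRing.closedPoint K)) = xH := by
        rw [← Scheme.Hom.comp_apply, heb]; exact heH
      have h2 : Spec.map (CommRingCat.ofHom eb.toRingHom) (IsLocalRing.closedPoint K) = hUH.primeIdealOf ⟨xH, hx⟩ :=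
        hUH.fromSpec.isOpenEmbedding.injective (h1.trans (hUH.fromSpec_primeIdealOf ⟨xH, hx⟩).symm)
      rw [← h2]
      show (IsLocalRing.maximalIdeal K).comap eb.toRingHom = _
      rw [IsLocalRing.maximalIdeal_eq_bot]
      rfl
    letI := TopCat.Presheaf.algebra_section_stalk H.presheaf (⟨xH, hx⟩ : UH)
    haveI hl := hUH.isLocalization_stalk ⟨xH, hx⟩
    simp only [hid] at hl
    exact IsRegularLocalRing.of_ringEquiv (R := H.presheaf.stalk xH)
      (IsLocalization.algEquiv (RingHom.ker eb.toRingHom).primeCompl (H.presheaf.stalk xH) _).toRingEquiv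
  obtain ⟨A, _, _, _, π, eA, hπ, hcompat, _, hmain⟩ := Slice.exists_slice q hq hnil eb hreg
  -- the slice
  let SO : Over S₀ := Over.mk (Spec.map (CommRingCat.ofHom (algebraMap K A)))
  let sO : SO ⟶ G := Over.homMk (Spec.map (CommRingCat.ofHom π.toRingHom) ≫ hU.fromSpec) (by
    rw [Category.assoc, hU', ← Spec.map_comp]
    exact congrArg (fun f => Spec.map (CommRingCat.ofHom f)) π.comp_algebraMap)
  let eS : 𝟙_ (Over S₀) ⟶ SO := Over.homMk (Spec.map (CommRingCat.ofHom eA.toRingHom)) (by
    show Spec.map _ ≫ Spec.map _ = 𝟙 _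
    rw [← Spec.map_comp, ← Spec.map_id]
    exact congrArg (fun f => Spec.map (CommRingCat.ofHom f)) eA.comp_algebraMap)
  have heSs : eS ≫ sO = η[G] := by
    rw [← heHj]
    refine Over.OverMorphism.ext ?_
    show Spec.map _ ≫ Spec.map _ ≫ hU.fromSpec = eH.left ≫ j
    rw [← heb, Category.assoc, ← hjU, ← Category.assoc, ← Category.assoc, ← Spec.map_comp, ← Spec.map_comp]
    exact congrArg (fun f => Spec.map (CommRingCat.ofHom f) ≫ hU.fromSpec) (congrArg AlgHom.toRingHom hcompat)
  let P := SO ⊗ HO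
  let mu : P ⟶ G := (snd SO HO ≫ jO) * (fst SO HO ≫ sO)
  let σ : HO ⟶ P := lift (toUnit HO ≫ eS) (𝟙 HO)
  let τ : SO ⟶ P := lift (𝟙 SO) (toUnit SO ≫ eH)
  have hσmu : σ ≫ mu = jO := by
    simp only [σ, mu, MonObj.comp_mul, lift_snd_assoc, lift_fst_assoc, Category.id_comp, Category.assoc, heSs,
      ← Hom.one_def, _root_.mul_one]
  have hτmu : τ ≫ mu = sO := by
    simp only [τ, mu, MonObj.comp_mul, lift_snd_assoc, lift_fst_assoc, Category.id_comp, Category.assoc, heHj,
      ← Hom.one_def, _root_.one_mul]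
  haveI hσs : Surjective σ.left := by
    have hsq : IsPullback σ (toUnit HO) (fst SO HO) eS := by
      refine IsPullback.of_isLimit' ⟨lift_fst _ _⟩ (PullbackCone.IsLimit.mk _ (fun s => s.fst ≫ snd SO HO)
        (fun s => ?_) (fun s => toUnit_unique _ _) (fun s m h1 _ => ?_))
      · refine CartesianMonoidalCategory.hom_ext _ _ ?_ ?_
        · rw [Category.assoc, lift_fst, ← Category.assoc, comp_toUnit, toUnit_unique (toUnit s.pt) s.snd, s.condition]
        · simp [σ]
      · rw [← h1]; simp [σ]
    haveI : Subsingleton SO.left := by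
      haveI : Subsingleton (PrimeSpectrum A) := ⟨fun p p' => PrimeSpectrum.ext (by
        rw [IsLocalRing.eq_maximalIdeal (IsArtinianRing.isMaximal_of_isPrime p.asIdeal),
          IsLocalRing.eq_maximalIdeal (IsArtinianRing.isMaximal_of_isPrime p'.asIdeal)])⟩
      exact inferInstanceAs (Subsingleton (PrimeSpectrum A))
    haveI : Surjective eS.left := ⟨fun z => ⟨IsLocalRing.closedPoint K, Subsingleton.elim _ _⟩⟩
    exact MorphismProperty.of_isPullback (P := @Surjective) (hsq.map (Over.forget _)).flip ‹Surjective eS.left›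
  have hmuj : ∀ p : P.left, mu.left p = j ((snd SO HO).left p) := fun p => by
    obtain ⟨h, rfl⟩ := σ.left.surjective p
    rw [← Scheme.Hom.comp_apply, ← Over.comp_left, hσmu, ← Scheme.Hom.comp_apply, ← Scheme.Hom.comp_apply]
    have e : σ.left ≫ (snd SO HO).left = 𝟙 _ := by
      rw [← Over.comp_left, lift_snd]; rfl
    rw [← Category.assoc, e, Category.id_comp]
    rfl
  -- the chart of the product
  let c₀ : pullback (Spec.map (CommRingCat.ofHom (algebraMap K A))) (Spec.map (CommRingCat.ofHom (algebraMap K Rb))) ⟶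
      pullback SO.hom HO.hom :=
    pullback.map _ _ _ _ (𝟙 _) hUH.fromSpec (𝟙 _) (by simp [SO]) (by rw [Category.comp_id]; exact hUH'.symm)
  let c : Spec (CommRingCat.of (A ⊗[K] Rb)) ⟶ P.left := (pullbackSpecIso K A Rb).inv ≫ c₀
  haveI : IsOpenImmersion c := inferInstanceAs (IsOpenImmersion ((pullbackSpecIso K A Rb).inv ≫ c₀))
  have hcfst : c ≫ (fst SO HO).left = Spec.map (CommRingCat.ofHom (algebraMap A (A ⊗[K] Rb))) := by
    show ((pullbackSpecIso K A Rb).inv ≫ c₀) ≫ pullback.fst _ _ = _
    rw [Category.assoc, pullback.lift_fst, ← Category.assoc, Category.comp_id]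
    exact pullbackSpecIso_inv_fst' K A Rb
  have hcsnd : c ≫ (snd SO HO).left = Spec.map (CommRingCat.ofHom
      (Algebra.TensorProduct.includeRight : Rb →ₐ[K] A ⊗[K] Rb).toRingHom) ≫ hUH.fromSpec := by
    show ((pullbackSpecIso K A Rb).inv ≫ c₀) ≫ pullback.snd _ _ = _
    rw [Category.assoc, pullback.lift_snd, ← Category.assoc, pullbackSpecIso_inv_snd]
    rfl
  have hrange : Set.range c = (snd SO HO).left ⁻¹' Set.range hUH.fromSpec := by
    show Set.range ((pullbackSpecIso K A Rb).inv ≫ c₀) = _
    rw [Scheme.Hom.comp_base, TopCat.coe_comp, Set.range_comp,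
      Set.range_eq_univ.2 (pullbackSpecIso K A Rb).inv.surjective, Set.image_univ, Scheme.Pullback.range_map,
      Scheme.Hom.id_base, TopCat.coe_id, Set.range_id, Set.preimage_univ, Set.univ_inter]
    rfl
  have hPA : c ≫ mu.left ≫ G.hom = Spec.map (CommRingCat.ofHom (algebraMap K (A ⊗[K] Rb))) := by
    rw [Over.w mu, ← Over.w (fst SO HO), reassoc_of% hcfst]
    show Spec.map _ ≫ Spec.map _ = _
    rw [← Spec.map_comp]
    exact congrArg (fun f => Spec.map (CommRingCat.ofHom f)) (IsScalarTower.algebraMap_eq K A (A ⊗[K] Rb)).symm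
  obtain ⟨φ, hφ⟩ := exists_algHom G.hom hU hU' (c ≫ mu.left) (by rw [Category.assoc]; exact hPA) fun z => by
    rw [Scheme.Hom.comp_apply, hmuj, ← Scheme.Hom.comp_apply c, hcsnd, Scheme.Hom.comp_apply]
    show hUH.fromSpec _ ∈ UH
    rw [← SetLike.mem_coe, ← hUH.range_fromSpec]
    exact ⟨_, rfl⟩
  -- the two compatibilities
  have hext : ∀ {T : Scheme.{u}} (a b : T ⟶ P.left), a ≫ (fst SO HO).left = b ≫ (fst SO HO).left →
      a ≫ (snd SO HO).left = b ≫ (snd SO HO).left → a = b := fun a b h1 h2 => pullback.hom_ext h1 h2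
  have hR : (Slice.prR eA).comp φ = q := by
    have e1 : Spec.map (CommRingCat.ofHom (Slice.prR (Rb := Rb) eA).toRingHom) ≫ c = hUH.fromSpec ≫ σ.left := by
      refine hext _ _ ?_ ?_
      · rw [Category.assoc, hcfst, Category.assoc, ← Over.comp_left, show σ ≫ fst SO HO = toUnit HO ≫ eS from lift_fst _ _,
          ← Spec.map_comp]
        show _ = hUH.fromSpec ≫ HO.hom ≫ Spec.map _
        rw [reassoc_of% hUH', ← Spec.map_comp]
        refine congrArg Spec.map (CommRingCat.hom_ext (RingHom.ext fun x => ?_))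
        simp [Slice.prR, Algebra.ofId_apply]
      · rw [Category.assoc, hcsnd, Category.assoc, ← Over.comp_left, show σ ≫ snd SO HO = 𝟙 HO from lift_snd _ _,
          ← Category.assoc, ← Spec.map_comp,
          show CommRingCat.ofHom (Algebra.TensorProduct.includeRight : Rb →ₐ[K] A ⊗[K] Rb).toRingHom ≫
            CommRingCat.ofHom (Slice.prR (Rb := Rb) eA).toRingHom = 𝟙 _ from
            CommRingCat.hom_ext (RingHom.ext fun x => by simp [Slice.prR]), Spec.map_id]
        exact (Category.id_comp _).trans (Category.comp_id _).symm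
    refine AlgHom.coe_ringHom_injective ?_
    have e2 : Spec.map (CommRingCat.ofHom ((Slice.prR (Rb := Rb) eA).comp φ).toRingHom) =
        Spec.map (j.app U) := by
      rw [← cancel_mono hU.fromSpec]
      rw [show CommRingCat.ofHom ((Slice.prR (Rb := Rb) eA).comp φ).toRingHom =
          CommRingCat.ofHom φ.toRingHom ≫ CommRingCat.ofHom (Slice.prR (Rb := Rb) eA).toRingHom from rfl,
        Spec.map_comp, Category.assoc, hφ, reassoc_of% e1, ← Over.comp_left, hσmu, hjU]
      rfl
    exact congrArg CommRingCat.Hom.hom (Spec.map_injective e2)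
  have hA : (Algebra.TensorProduct.productMap (AlgHom.id K A) ((Algebra.ofId K A).comp eb)).comp φ = π := by
    let pA := Algebra.TensorProduct.productMap (AlgHom.id K A) ((Algebra.ofId K A).comp eb)
    have e1 : Spec.map (CommRingCat.ofHom pA.toRingHom) ≫ c = τ.left := by
      refine hext _ _ ?_ ?_
      · rw [Category.assoc, hcfst, ← Over.comp_left, show τ ≫ fst SO HO = 𝟙 SO from lift_fst _ _, ← Spec.map_comp,
          show CommRingCat.ofHom (algebraMap A (A ⊗[K] Rb)) ≫ CommRingCat.ofHom pA.toRingHom = 𝟙 _ from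
            CommRingCat.hom_ext (RingHom.ext fun x => by simp [pA]), Spec.map_id]
        rfl
      · rw [Category.assoc, hcsnd, ← Over.comp_left, show τ ≫ snd SO HO = toUnit SO ≫ eH from lift_snd _ _,
          Over.comp_left]
        show _ = Spec.map _ ≫ eH.left
        rw [← heb, ← Category.assoc, ← Category.assoc, ← Spec.map_comp, ← Spec.map_comp]
        refine congrArg (fun f => Spec.map f ≫ hUH.fromSpec) (CommRingCat.hom_ext (RingHom.ext fun x => ?_))
        simp [pA, Algebra.ofId_apply]
    refine AlgHom.coe_ringHom_injective ?_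
    have e2 : Spec.map (CommRingCat.ofHom (pA.comp φ).toRingHom) = Spec.map (CommRingCat.ofHom π.toRingHom) := by
      rw [← cancel_mono hU.fromSpec,
        show CommRingCat.ofHom (pA.comp φ).toRingHom = CommRingCat.ofHom φ.toRingHom ≫ CommRingCat.ofHom pA.toRingHom from rfl,
        Spec.map_comp, Category.assoc, hφ, reassoc_of% e1, ← Over.comp_left, hτmu]
      rfl
    exact congrArg CommRingCat.Hom.hom (Spec.map_injective e2)
  obtain ⟨s, hs0, hsbij⟩ := hmain φ hR hA
  -- the isomorphism over a neighbourhood of the origin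
  let f : CommRingCat.of R ⟶ CommRingCat.of (A ⊗[K] Rb) := CommRingCat.ofHom φ.toRingHom
  let D : (Spec (CommRingCat.of R)).Opens := PrimeSpectrum.basicOpen s
  haveI hD : IsIso (Spec.map f ∣_ D) := by
    refine ((MorphismProperty.isomorphisms Scheme).arrow_mk_iso_iff
      (SpecMapRestrictBasicOpenIso f s)).2 ?_
    haveI : IsIso (CommRingCat.ofHom (Localization.awayMap f.hom s)) :=
      (ConcreteCategory.isIso_iff_bijective _).2 hsbij
    exact inferInstanceAs (IsIso (Spec.map _))
  let V : G.left.Opens := hU.fromSpec ''ᵁ D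
  have hsqc : IsPullback (Spec.map f) c hU.fromSpec mu.left := by
    refine IsOpenImmersion.isPullback _ _ _ _ hφ.symm (Opens.ext ?_)
    show mu.left ⁻¹' Set.range hU.fromSpec = Set.range c
    rw [hU.range_fromSpec, hrange, hUH.range_fromSpec]
    ext p
    show mu.left p ∈ U ↔ j ((snd SO HO).left p) ∈ U
    rw [hmuj]
  have hsq2 : IsPullback ((Spec.map f ⁻¹ᵁ D).ι ≫ c) (Spec.map f ∣_ D) mu.left (D.ι ≫ hU.fromSpec) :=
    (isPullback_morphismRestrict (Spec.map f) D).flip.paste_horiz hsqc.flip
  haveI hV : IsIso (mu.left ∣_ V) := by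
    let e : D.toScheme ≅ V.toScheme := hU.fromSpec.isoImage D
    have he : e.inv ≫ D.ι ≫ hU.fromSpec = V.ι := by
      rw [Iso.inv_comp_eq]; exact (Scheme.Hom.isoImage_hom_ι _ _).symm
    have h1 : IsPullback (mu.left ⁻¹ᵁ V).ι (mu.left ∣_ V) mu.left (e.inv ≫ D.ι ≫ hU.fromSpec) :=
      he.symm ▸ (isPullback_morphismRestrict mu.left V).flip
    let l := hsq2.lift (mu.left ⁻¹ᵁ V).ι ((mu.left ∣_ V) ≫ e.inv) (by rw [Category.assoc, he, ← morphismRestrict_ι])
    have h2 : IsPullback (l ≫ (Spec.map f ⁻¹ᵁ D).ι ≫ c) (mu.left ∣_ V) mu.left (e.inv ≫ D.ι ≫ hU.fromSpec) := by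
      rw [hsq2.lift_fst]; exact h1
    exact MorphismProperty.of_isPullback (P := MorphismProperty.isomorphisms Scheme)
      (IsPullback.of_right h2 (hsq2.lift_snd _ _ _) hsq2) hD
  have hoV : o ∈ V := by
    let z := Spec.map (CommRingCat.ofHom (eb.comp q).toRingHom) (IsLocalRing.closedPoint K)
    refine ⟨z, ?_, ?_⟩
    · show s ∉ (IsLocalRing.maximalIdeal K).comap (eb.comp q).toRingHom
      rw [Ideal.mem_comap, IsLocalRing.maximalIdeal_eq_bot]
      exact hs0
    · show hU.fromSpec z = o
      rw [← hxH, ← heH, ← Scheme.Hom.comp_apply]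
      have : Spec.map (CommRingCat.ofHom (eb.comp q).toRingHom) ≫ hU.fromSpec = eH.left ≫ j := by
        rw [← heb, Category.assoc, ← hjU, ← Category.assoc, ← Spec.map_comp]; rfl
      rw [this]; rfl
  -- spreading by translations
  let 𝒱 : Set G.left.Opens := {W | IsIso (mu.left ∣_ W)}
  have hS := FlatMorGeneric.prop_morphismRestrict_sSup mu.left (MorphismProperty.isomorphisms Scheme) 𝒱
    fun W hW => hW
  have hT : sSup 𝒱 = ⊤ := by
    by_contra hT
    obtain ⟨y, hy, hyc⟩ := nonempty_inter_closedPoints (Z := ((sSup 𝒱 : G.left.Opens) : Set G.left)ᶜ)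
      (Set.nonempty_compl.2 fun h => hT (Opens.ext h)) (sSup 𝒱).2.isClosed_compl.isLocallyClosed
    refine hy (Opens.mem_sSup.2 ?_)
    obtain ⟨a, rfl⟩ := exists_pt hyc
    let η' := (AbVarLib.translate a⁻¹).hom
    haveI : IsIso η'.left := inferInstanceAs (IsIso ((Over.forget _).map (AbVarLib.translate a⁻¹).hom))
    obtain ⟨θH, hθH⟩ := exists_lift_reduced j (j ≫ η'.left)
    obtain ⟨θH', hθH'⟩ := exists_lift_reduced j (j ≫ inv η'.left)
    haveI : IsIso θH := ⟨θH', by rw [← cancel_mono j]; simp [hθH', reassoc_of% hθH],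
      by rw [← cancel_mono j]; simp [hθH, reassoc_of% hθH']⟩
    let θO : HO ⟶ HO := Over.homMk θH (by
      show θH ≫ j ≫ G.hom = j ≫ G.hom
      rw [reassoc_of% hθH]
      exact congrArg (j ≫ ·) (Over.w η'))
    haveI : IsIso ((Over.forget S₀).map θO) := inferInstanceAs (IsIso θH)
    haveI : IsIso θO := isIso_of_reflects_iso θO (Over.forget _)
    let Θ : P ⟶ P := SO ◁ θO
    haveI : IsIso Θ.left := inferInstanceAs (IsIso ((Over.forget _).map (SO ◁ θO)))
    have hθO : θO ≫ jO = jO ≫ η' := Over.OverMorphism.ext hθH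
    have hcomm : Θ ≫ mu = mu ≫ η' := by
      simp only [Θ, mu, η', AbVarLib.translate, MonObj.comp_mul, whiskerLeft_snd_assoc, whiskerLeft_fst_assoc,
        Category.comp_id]
      rw [hθO]
      simp only [η', AbVarLib.translate, MonObj.comp_mul, Category.comp_id, ← Category.assoc]
      rw [toUnit_unique ((snd SO HO ≫ jO) ≫ toUnit G) (toUnit P),
        toUnit_unique (((snd SO HO ≫ jO) * (fst SO HO ≫ sO)) ≫ toUnit G) (toUnit P), _root_.mul_assoc]
    refine ⟨η'.left ⁻¹ᵁ V, ?_, ?_⟩
    · show IsIso (mu.left ∣_ η'.left ⁻¹ᵁ V)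
      have h2 : IsIso ((Θ.left ≫ mu.left) ∣_ V) := by
        rw [morphismRestrict_comp]
        exact IsIso.comp_isIso'
          (IsZariskiLocalAtTarget.restrict (P := MorphismProperty.isomorphisms Scheme) ‹IsIso Θ.left› _) hV
      rw [← Over.comp_left, hcomm, Over.comp_left, morphismRestrict_comp] at h2
      haveI : IsIso (η'.left ∣_ V) :=
        IsZariskiLocalAtTarget.restrict (P := MorphismProperty.isomorphisms Scheme) ‹IsIso η'.left› _
      exact @IsIso.of_isIso_comp_right _ _ _ _ _ (mu.left ∣_ η'.left ⁻¹ᵁ V) (η'.left ∣_ V) ‹_› h2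
    · show η'.left (pt a) ∈ V
      rw [QuasiAffHom.translate_apply, inv_mul_cancel, Hom.one_def, toUnit_unique (toUnit (𝟙_ (Over S₀))) (𝟙 _), Category.id_comp]
      exact hoV
  haveI hμ : IsIso mu.left :=
    IsZariskiLocalAtTarget.of_iSup_eq_top (P := MorphismProperty.isomorphisms Scheme) (fun _ : Unit => sSup 𝒱)
      (by rw [iSup_const, hT]) fun _ => hS
  haveI : IsIso ((Over.forget S₀).map mu) := hμ
  haveI : IsIso mu := isIso_of_reflects_iso mu (Over.forget _)
  -- the retraction to the slice is constant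
  haveI : QuasiSeparatedSpace G.left := inferInstance
  haveI : IsAffine SO.left := inferInstanceAs (IsAffine (Spec _))
  let r : G ⟶ SO := CategoryTheory.inv mu ≫ fst SO HO
  have hr := AlgGrpLib.eq_const_of_affine (Z := SO) hG η[G] r
  have hid : 𝟙 SO = toUnit SO ≫ η[G] ≫ r := by
    have h1 : sO ≫ r = 𝟙 SO := by
      rw [← hτmu]; simp [r, τ]
    rw [← h1]
    conv_lhs => rw [hr]
    rw [← Category.assoc, comp_toUnit]
  haveI : IsIso (toUnit SO) := ⟨η[G] ≫ r, hid.symm, toUnit_unique _ _⟩
  haveI : IsIso (snd SO HO) := by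
    refine ⟨lift (toUnit HO ≫ CategoryTheory.inv (toUnit SO)) (𝟙 HO), CartesianMonoidalCategory.hom_ext _ _ ?_ ?_, lift_snd _ _⟩
    · rw [Category.assoc, lift_fst, ← Category.assoc, comp_toUnit, Category.id_comp, ← comp_toUnit (fst SO HO),
        Category.assoc, IsIso.hom_inv_id, Category.comp_id]
    · rw [Category.assoc, lift_snd, Category.comp_id, Category.id_comp]
  let e := CategoryTheory.inv mu ≫ snd SO HO
  haveI : IsIso e.left := inferInstanceAs (IsIso ((Over.forget _).map e))
  rw [← Over.w e]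
  exact MorphismProperty.comp_mem (W := @Smooth) e.left HO.hom inferInstance hsm

end AlgClosed

/-- An anti-affine algebraic group over a field is smooth. -/
theorem smooth {k : Type u} [Field k] (G : Over (Spec (CommRingCat.of k))) [GrpObj G]
    [LocallyOfFiniteType G.hom] [QuasiCompact G.hom] (hG : Function.Bijective G.hom.appTop) : Smooth G.hom := by
  let F := Over.pullback (algPt k)
  letI : GrpObj (F.obj G) := Functor.grpObjObj
  haveI : LocallyOfFiniteType (F.obj G).hom := inferInstanceAs (LocallyOfFiniteType (pullback.snd _ _))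
  haveI : QuasiCompact (F.obj G).hom := inferInstanceAs (QuasiCompact (pullback.snd _ _))
  haveI : CompactSpace G.left := QuasiCompact.compactSpace_of_compactSpace G.hom
  haveI : IsLocallyNoetherian G.left := LocallyOfFiniteType.isLocallyNoetherian G.hom
  haveI : QuasiSeparatedSpace G.left := inferInstance
  have hb : Function.Bijective (F.obj G).hom.appTop :=
    PicLib.bijective_appTop_of_isPullback (pullback.fst G.hom (algPt k)) (pullback.snd G.hom (algPt k)) G.hom
      (algPt k) (IsPullback.of_hasPullback _ _) hG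
  exact MorphismProperty.of_pullback_snd_of_descendsAlong (P := @Smooth) (Q := @Surjective ⊓ @Flat ⊓ @QuasiCompact)
    (g := algPt k) ⟨⟨inferInstance, inferInstance⟩, inferInstance⟩ (smooth_algClosed (F.obj G) hb)

end Groth.Agent.CohDer1.AntiAff
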