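import Groth.Agent.S9152
import Groth.Agent.S7609
import Groth.Agent.CAlgH3.CMRing
import Groth.Agent.DimLib.BaseChange
import Groth.Agent.DimLib.Components
import Groth.Prelude.Def_Red
import Mathlib.AlgebraicGeometry.AlgClosed.Basic

/-!
# Group schemes locally of finite type over a field are Cohen–Macaulay
-/

set_option autoImplicit false
set_option backward.isDefEq.respectTransparency.types false

universe u

open CategoryTheory Limits AlgebraicGeometry MonoidalCategory CartesianMonoidalCategory MonObj GrpObj TopologicalSpace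

namespace Groth.Agent.CohDer1

variable {k : Type u} [Field k]

/-- The Cohen–Macaulay points of a scheme locally of finite type over a field form an open set. -/
theorem isOpen_cmSet {X : Scheme.{u}} (f : X ⟶ Spec (CommRingCat.of k)) [LocallyOfFiniteType f] :
    IsOpen {x : X | LocCoh.IsCohenMacaulayLocalRing (X.presheaf.stalk x)} := by
  refine isOpen_iff_forall_mem_open.2 fun x hx => ?_
  obtain ⟨U, hU, hxU, -⟩ := exists_isAffineOpen_mem_and_subset (x := x) (U := ⊤) trivial
  letI : Algebra k Γ(X, U) :=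
    (((Scheme.ΓSpecIso (CommRingCat.of k)).inv ≫ f.appLE ⊤ U le_top).hom).toAlgebra
  haveI : Algebra.FiniteType k Γ(X, U) := by
    have h1 : (f.appLE ⊤ U le_top).hom.FiniteType :=
      LocallyOfFiniteType.finiteType_appLE f (isAffineOpen_top _) hU le_top
    exact h1.comp (RingHom.FiniteType.of_surjective _
      (ConcreteCategory.bijective_of_isIso (Scheme.ΓSpecIso (CommRingCat.of k)).inv).2)
  have key : ∀ y : ↥U, LocCoh.IsCohenMacaulayLocalRing (X.presheaf.stalk y.1) ↔
      LocCoh.IsCohenMacaulayLocalRing (Localization.AtPrime (hU.primeIdealOf y).asIdeal) := by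
    intro y
    letI := TopCat.Presheaf.algebra_section_stalk X.presheaf y
    haveI := hU.isLocalization_stalk y
    let e : Localization.AtPrime (hU.primeIdealOf y).asIdeal ≃+* X.presheaf.stalk y.1 :=
      (IsLocalization.algEquiv (hU.primeIdealOf y).asIdeal.primeCompl _ _).toRingEquiv
    exact ⟨fun h => haveI := h; CAlgH3.isCohenMacaulayLocalRing_of_ringEquiv e.symm,
      fun h => haveI := h; CAlgH3.isCohenMacaulayLocalRing_of_ringEquiv e⟩
  have hO := Groth.Agent.S9152.result k Γ(X, U)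
  refine ⟨hU.fromSpec '' {q | LocCoh.IsCohenMacaulayLocalRing (Localization.AtPrime q.asIdeal)}, ?_,
    hU.fromSpec.isOpenEmbedding.isOpenMap _ hO, ⟨hU.primeIdealOf ⟨x, hxU⟩, (key ⟨x, hxU⟩).1 hx,
      hU.fromSpec_primeIdealOf ⟨x, hxU⟩⟩⟩
  rintro _ ⟨q, hq, rfl⟩
  have hqU : hU.fromSpec q ∈ U := hU.range_fromSpec.subset (Set.mem_range_self q)
  have hq' : hU.primeIdealOf ⟨_, hqU⟩ = q :=
    hU.fromSpec.isOpenEmbedding.injective (hU.fromSpec_primeIdealOf ⟨_, hqU⟩)
  refine (key ⟨_, hqU⟩).2 ?_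
  rw [hq']
  exact hq

/-- A nonempty scheme locally of finite type over a field has a Cohen–Macaulay point. -/
theorem exists_cm_point {X : Scheme.{u}} (f : X ⟶ Spec (CommRingCat.of k)) [LocallyOfFiniteType f] [Nonempty X] :
    ∃ x : X, LocCoh.IsCohenMacaulayLocalRing (X.presheaf.stalk x) := by
  obtain ⟨x₀⟩ := ‹Nonempty X›
  obtain ⟨U, hU, hxU, -⟩ := exists_isAffineOpen_mem_and_subset (x := x₀) (U := ⊤) trivial
  haveI : IsLocallyNoetherian X := LocallyOfFiniteType.isLocallyNoetherian f
  haveI : IsNoetherianRing Γ(X, U) := IsLocallyNoetherian.component_noetherian ⟨U, hU⟩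
  haveI : Nontrivial Γ(X, U) := PrimeSpectrum.nontrivial (hU.primeIdealOf ⟨x₀, hxU⟩)
  obtain ⟨p, hp, -⟩ := Ideal.exists_minimalPrimes_le (J := (hU.primeIdealOf ⟨x₀, hxU⟩).asIdeal) bot_le
  haveI : p.IsPrime := hp.1.1
  have hdim : ringKrullDim (Localization.AtPrime p) = 0 := by
    rw [IsLocalization.AtPrime.ringKrullDim_eq_height p (Localization.AtPrime p),
      Ideal.height_eq_zero_iff.2 hp]
    rfl
  have hcm : LocCoh.IsCohenMacaulayLocalRing (Localization.AtPrime p) := by
    rw [CAlgH3.isCohenMacaulayLocalRing_iff_depth, hdim]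
    have h := CAlgH3.depth_le_supportDim (R := Localization.AtPrime p) (M := Localization.AtPrime p)
    rw [Module.supportDim_self_eq_ringKrullDim, hdim] at h
    exact (le_antisymm h (WithBot.coe_le_coe.2 bot_le)).symm
  let q : PrimeSpectrum Γ(X, U) := ⟨p, hp.1.1⟩
  refine ⟨hU.fromSpec q, ?_⟩
  have hqU : hU.fromSpec q ∈ U := hU.range_fromSpec.subset (Set.mem_range_self q)
  have hq' : hU.primeIdealOf ⟨_, hqU⟩ = q :=
    hU.fromSpec.isOpenEmbedding.injective (hU.fromSpec_primeIdealOf ⟨_, hqU⟩)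
  letI := TopCat.Presheaf.algebra_section_stalk X.presheaf (⟨_, hqU⟩ : U)
  haveI := hU.isLocalization_stalk ⟨_, hqU⟩
  have e : Localization.AtPrime (hU.primeIdealOf ⟨_, hqU⟩).asIdeal ≃+* X.presheaf.stalk (hU.fromSpec q) :=
    (IsLocalization.algEquiv (hU.primeIdealOf ⟨_, hqU⟩).asIdeal.primeCompl _ _).toRingEquiv
  haveI : LocCoh.IsCohenMacaulayLocalRing (Localization.AtPrime (hU.primeIdealOf ⟨_, hqU⟩).asIdeal) := by
    rw [hq']
    exact hcm
  exact CAlgH3.isCohenMacaulayLocalRing_of_ringEquiv e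

/-- Over an algebraically closed field all points of a group scheme are Cohen–Macaulay. -/
theorem cm_grp_algClosed [IsAlgClosed k] (G : Over (Spec (CommRingCat.of k))) [GrpObj G]
    [LocallyOfFiniteType G.hom] (z : G.left) : LocCoh.IsCohenMacaulayLocalRing (G.left.presheaf.stalk z) := by
  haveI : Nonempty G.left := ⟨η[G].left (IsLocalRing.closedPoint k)⟩
  set C := {x : G.left | LocCoh.IsCohenMacaulayLocalRing (G.left.presheaf.stalk x)}
  have hC : IsOpen C := isOpen_cmSet G.hom
  obtain ⟨x₀, hx₀C, hx₀⟩ := DimLib.exists_isClosed_singleton_mem G.hom (S := C) (exists_cm_point G.hom)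
    hC.isLocallyClosed
  have hclosed : ∀ x : G.left, IsClosed ({x} : Set G.left) → x ∈ C := by
    intro x hx
    let y : 𝟙_ (Over (Spec (CommRingCat.of k))) ⟶ G :=
      Over.homMk (pointOfClosedPoint G.hom x hx) (pointOfClosedPoint_comp G.hom x hx)
    let y₀ : 𝟙_ (Over (Spec (CommRingCat.of k))) ⟶ G :=
      Over.homMk (pointOfClosedPoint G.hom x₀ hx₀) (pointOfClosedPoint_comp G.hom x₀ hx₀)
    let α : G ≅ G := (GrpObj.mulRight y₀).symm ≪≫ GrpObj.mulRight y
    have h1 : η[G] ≫ (GrpObj.mulRight y₀).hom = y₀ := by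
      simp [comp_lift_assoc]
      rw [← Category.id_comp (η[G] : 𝟙_ _ ⟶ G), lift_comp_one_left]
    have h2 : η[G] ≫ (GrpObj.mulRight y).hom = y := by
      simp [comp_lift_assoc]
      rw [← Category.id_comp (η[G] : 𝟙_ _ ⟶ G), lift_comp_one_left]
    have hα : y₀ ≫ α.hom = y := by
      rw [show y₀ ≫ α.hom = (y₀ ≫ (GrpObj.mulRight y₀).inv) ≫ (GrpObj.mulRight y).hom from
        (Category.assoc _ _ _).symm, show y₀ ≫ (GrpObj.mulRight y₀).inv = η[G] from
        (Iso.comp_inv_eq _).2 h1.symm, h2]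
    have hpt : α.hom.left x₀ = x := by
      have h := congrArg (fun q : 𝟙_ (Over (Spec (CommRingCat.of k))) ⟶ G => q.left.base (IsLocalRing.closedPoint k)) hα
      rw [← pointOfClosedPoint_apply G.hom x hx (IsLocalRing.closedPoint k),
        ← pointOfClosedPoint_apply G.hom x₀ hx₀ (IsLocalRing.closedPoint k)]
      exact h
    haveI : IsIso α.hom.left := inferInstanceAs (IsIso ((Over.forget _).map α.hom))
    show LocCoh.IsCohenMacaulayLocalRing (G.left.presheaf.stalk x)
    rw [← hpt]
    have : IsIso (α.hom.left.stalkMap x₀) := inferInstance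
    haveI : LocCoh.IsCohenMacaulayLocalRing (G.left.presheaf.stalk x₀) := hx₀C
    exact CAlgH3.isCohenMacaulayLocalRing_of_ringEquiv
      (asIso (α.hom.left.stalkMap x₀)).commRingCatIsoToRingEquiv.symm
  by_contra hz
  obtain ⟨x, hx, hxc⟩ := DimLib.exists_isClosed_singleton_mem G.hom (S := Cᶜ) ⟨z, hz⟩
    hC.isClosed_compl.isLocallyClosed
  exact hx (hclosed x hxc)

/-- Group schemes locally of finite type over a field are Cohen–Macaulay. -/
theorem cm_grp (G : Over (Spec (CommRingCat.of k))) [GrpObj G] [LocallyOfFiniteType G.hom] (x : G.left) :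
    LocCoh.IsCohenMacaulayLocalRing (G.left.presheaf.stalk x) := by
  let K := AlgebraicClosure k
  let s : Spec (CommRingCat.of K) ⟶ Spec (CommRingCat.of k) := Spec.map (CommRingCat.ofHom (algebraMap k K))
  letI : G.left.Over (Spec (CommRingCat.of k)) := ⟨G.hom⟩
  haveI : LocallyOfFiniteType (G.left ↘ Spec (CommRingCat.of k)) := ‹LocallyOfFiniteType G.hom›
  haveI : LocallyOfFiniteType (Red.bc s G).hom := inferInstanceAs (LocallyOfFiniteType (pullback.snd G.hom s))
  obtain ⟨z, hz, -⟩ := DimLib.exists_bc_point G.hom K x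
  have h := (Groth.Agent.S7609.result k G.left K z).2 (cm_grp_algClosed (Red.bc s G) z)
  rw [← hz]
  exact h

end Groth.Agent.CohDer1
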