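import Groth.Agent.Coherent.TensorSections
import Groth.Agent.Coherent.PullUnit
import Groth.Agent.Coherent.QcohOps
import Groth.Agent.DCat.PullTensor
import Groth.Agent.Coherent.RelExact14.Sections
import Groth.Agent.Coherent.TensorQcoh
import Groth.Agent.EGA43.InjFibre.PullSections

/-!
# The projection formula along an affine morphism
-/

set_option autoImplicit false
set_option linter.style.haveILetI false
set_option backward.isDefEq.respectTransparency false
set_option maxHeartbeats 1000000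

universe u

open CategoryTheory CategoryTheory.Limits AlgebraicGeometry Opposite TopologicalSpace
open Groth.Agent.Coherent Groth.Agent.PicLib Groth.Agent.AmpleLib
open Groth.Agent.EGA43.InjFibre
open scoped TensorProduct

noncomputable section

namespace Groth.Agent.CohDer1.ProjAffine

variable {P P' : Scheme.{u}} (g : P' ⟶ P)

/-- `(a, n) ↦ a ⊗ g^* n`. -/
def projBilinA (M : P'.Modules) (K : P.Modules) :
    Bilin ((Scheme.Modules.pushforward g).obj M) K
      ((Scheme.Modules.pushforward g).obj (CohB1.tensorMod M ((Scheme.Modules.pullback g).obj K))) where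
  app U a n := (show Γ(CohB1.tensorMod M ((Scheme.Modules.pullback g).obj K), g ⁻¹ᵁ U) from
    tmul (show Γ(M, g ⁻¹ᵁ U) from a) (pullSec g n))
  add_left U a a' n := tmul_add_left (show Γ(M, g ⁻¹ᵁ U) from a) (show Γ(M, g ⁻¹ᵁ U) from a') (pullSec g n)
  add_right U a n n' := by
    show tmul (show Γ(M, g ⁻¹ᵁ U) from a) (pullSec g (n + n')) =
      tmul (show Γ(M, g ⁻¹ᵁ U) from a) (pullSec g n) + tmul (show Γ(M, g ⁻¹ᵁ U) from a) (pullSec g n')
    rw [show pullSec g (n + n') = pullSec g n + pullSec g n' from map_add _ _ _, tmul_add_right]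
  smul_left U r a n := by
    show tmul (g.app U r • (show Γ(M, g ⁻¹ᵁ U) from a)) (pullSec g n) =
      g.app U r • tmul (show Γ(M, g ⁻¹ᵁ U) from a) (pullSec g n)
    rw [tmul_smul_left]
  smul_right U r a n := by
    show tmul (show Γ(M, g ⁻¹ᵁ U) from a) (pullSec g (r • n)) =
      g.app U r • tmul (show Γ(M, g ⁻¹ᵁ U) from a) (pullSec g n)
    rw [pullSec_smul, tmul_smul_right]
  res U V h a n := by
    show resM _ (g.preimage_mono h) (tmul (show Γ(M, g ⁻¹ᵁ U) from a) (pullSec g n)) = _
    rw [resM_tmul, resM_pullSec g h]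
    rfl

/-- `g_*M ⊗ K ⟶ g_*(M ⊗ g^*K)`. -/
def projA (M : P'.Modules) (K : P.Modules) :
    CohB1.tensorMod ((Scheme.Modules.pushforward g).obj M) K ⟶
      (Scheme.Modules.pushforward g).obj (CohB1.tensorMod M ((Scheme.Modules.pullback g).obj K)) :=
  (projBilinA g M K).desc

theorem projA_tmul (M : P'.Modules) (K : P.Modules) (U : P.Opens) (a : Γ(M, g ⁻¹ᵁ U)) (n : Γ(K, U)) :
    (projA g M K).app U (tmul (show Γ((Scheme.Modules.pushforward g).obj M, U) from a) n) =
      (show Γ((Scheme.Modules.pushforward g).obj (CohB1.tensorMod M ((Scheme.Modules.pullback g).obj K)), U) from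
        tmul a (pullSec g n)) :=
  Bilin.desc_tmul _ U _ n

/-- The projection map as a natural transformation. -/
def projNatA (K : P.Modules) :
    Scheme.Modules.pushforward g ⋙ DCoh.tensorRightMod K ⟶
      DCoh.tensorRightMod ((Scheme.Modules.pullback g).obj K) ⋙ Scheme.Modules.pushforward g where
  app M := projA g M K
  naturality {M M'} φ := by
    refine AmpleLib.hom_ext fun U a n => ?_
    show (projA g M' K).app U (((DCoh.tensorRightMod K).map ((Scheme.Modules.pushforward g).map φ)).app U (tmul a n)) =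
      ((Scheme.Modules.pushforward g).map ((DCoh.tensorRightMod ((Scheme.Modules.pullback g).obj K)).map φ)).app U
        ((projA g M K).app U (tmul a n))
    rw [RelExact14.tensorRightMod_map, RelExact14.tensorRightMod_map,
      show (projA g M K).app U (tmul a n) = _ from projA_tmul g M K U a n]
    refine (congrArg ((projA g M' K).app U) (tensorMap_tmul _ _ a n)).trans ?_
    refine (projA_tmul g M' K U _ n).trans ?_
    exact (tensorMap_tmul φ (𝟙 _) (show Γ(M, g ⁻¹ᵁ U) from a) (pullSec g n)).symm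

variable [IsAffineHom g]

theorem bijective_projA_app (M : P'.Modules) (K : P.Modules) [Coh.IsQCoh M] [Coh.IsQCoh K] {V : P.Opens}
    (hV : IsAffineOpen V) : Function.Bijective ((projA g M K).app V) := by
  haveI : Coh.IsQCoh ((Scheme.Modules.pushforward g).obj M) := isQCoh_push g M
  haveI : Coh.IsQCoh ((Scheme.Modules.pullback g).obj K) := EGA43.InjFibre.isQCoh_pullback g K
  let hV' := hV.preimage g
  let Q := (Scheme.Modules.pullback g).obj K
  let _ := (g.appLE V (g ⁻¹ᵁ V) le_rfl).hom.toAlgebra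
  let _ := Module.compHom Γ(Q, g ⁻¹ᵁ V) (g.appLE V (g ⁻¹ᵁ V) le_rfl).hom
  let _ := Module.compHom Γ(M, g ⁻¹ᵁ V) (g.appLE V (g ⁻¹ᵁ V) le_rfl).hom
  have : IsScalarTower Γ(P, V) Γ(P', g ⁻¹ᵁ V) Γ(Q, g ⁻¹ᵁ V) :=
    IsScalarTower.of_algebraMap_smul fun _ _ => rfl
  have : IsScalarTower Γ(P, V) Γ(P', g ⁻¹ᵁ V) Γ(M, g ⁻¹ᵁ V) :=
    IsScalarTower.of_algebraMap_smul fun _ _ => rfl
  obtain ⟨μ, hμ, hμm⟩ := pullMap_isBaseChange g hV hV' le_rfl K
  refine (Function.Bijective.of_comp_iff _ (bijective_tmulMap hV ((Scheme.Modules.pushforward g).obj M) K)).1 ?_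
  have happ : (g.appLE V (g ⁻¹ᵁ V) le_rfl).hom = (g.app V).hom := by
    rw [← Scheme.Hom.appLE_eq_app]
  let es : Γ((Scheme.Modules.pushforward g).obj M, V) ≃ₗ[Γ(P, V)] Γ(M, g ⁻¹ᵁ V) :=
    { toFun := fun s => (show Γ(M, g ⁻¹ᵁ V) from s)
      invFun := fun s => (show Γ((Scheme.Modules.pushforward g).obj M, V) from s)
      left_inv := fun _ => rfl
      right_inv := fun _ => rfl
      map_add' := fun _ _ => rfl
      map_smul' := fun r s => by
        show (g.app V).hom r • (show Γ(M, g ⁻¹ᵁ V) from s) = (g.appLE V (g ⁻¹ᵁ V) le_rfl).hom r • (show Γ(M, g ⁻¹ᵁ V) from s)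
        rw [happ] }
  let e₁ := TensorProduct.congr es (LinearEquiv.refl Γ(P, V) Γ(K, V))
  let e₂ := (TensorProduct.AlgebraTensorModule.cancelBaseChange Γ(P, V) Γ(P', g ⁻¹ᵁ V) Γ(P', g ⁻¹ᵁ V)
    Γ(M, g ⁻¹ᵁ V) Γ(K, V)).symm
  let e₃ := TensorProduct.congr (LinearEquiv.refl Γ(P', g ⁻¹ᵁ V) Γ(M, g ⁻¹ᵁ V)) hμ.equiv
  refine (congrArg Function.Bijective (funext fun z => ?_)).mpr
    ((bijective_tmulMap hV' M Q).comp (e₃.bijective.comp (e₂.bijective.comp e₁.bijective)))
  show (projA g M K).app V (tmulMap ((Scheme.Modules.pushforward g).obj M) K V z) = tmulMap M Q (g ⁻¹ᵁ V) (e₃ (e₂ (e₁ z)))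
  induction z using TensorProduct.induction_on with
  | zero => simp only [map_zero]
  | tmul a n =>
    refine (projA_tmul g M K V a n).trans ?_
    simp only [e₁, e₂, e₃, TensorProduct.congr_tmul, LinearEquiv.refl_apply,
      TensorProduct.AlgebraTensorModule.cancelBaseChange_symm_tmul, IsBaseChange.equiv_tmul, one_smul, tmulMap_tmul]
    rw [hμm, pullMap_eq_resM_pullSec, resM_refl]
    rfl
  | add a b ha hb => simp only [map_add] at ha hb ⊢; rw [ha, hb]

theorem isIso_projA (M : P'.Modules) (K : P.Modules) [Coh.IsQCoh M] [Coh.IsQCoh K] : IsIso (projA g M K) := by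
  refine TwistLib.G.isIso_of_bijective_on_basis _ (fun V => IsAffineOpen V) (fun V x hx => ?_)
    fun V hV => bijective_projA_app g M K hV
  obtain ⟨W, hW, hxW, hWV⟩ := exists_isAffineOpen_mem_and_subset (x := x) (U := V) hx
  exact ⟨W, hW, hxW, hWV⟩

end Groth.Agent.CohDer1.ProjAffine
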