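import Groth.Agent.DirImgLib.Colim
import Groth.Agent.Coherent.InternalHomAdj
import Groth.Agent.SerreDual.ExtShLocFree
import Groth.Agent.Coherent.TensorQcoh
import Groth.Agent.Coherent.RelExact14.Sections
import Groth.Agent.EGA43.InjFibre.Scheme
import Groth.Prelude.Def_DDual2

/-!
# Kernel functors on quasi-coherent modules
-/

set_option autoImplicit false
set_option backward.isDefEq.respectTransparency false
set_option linter.style.haveILetI false

universe u

open CategoryTheory CategoryTheory.Limits AlgebraicGeometry
open Groth.Agent.Coherent Groth.Agent.SerreDual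

namespace Groth.Agent.CohDer1.FKExact

/-- Tensoring with a module preserves colimits. -/
theorem preservesColimits_tensorRightMod {X : Scheme.{u}} (M : X.Modules) :
    PreservesColimitsOfSize.{u, u} (DCoh.tensorRightMod M) := by
  haveI : PreservesColimitsOfSize.{u, u} (tensE M) := (tensorHomAdj M).leftAdjoint_preservesColimits
  let e : DCoh.tensorRightMod M ≅ twistF M :=
    NatIso.ofComponents (fun _ => Iso.refl _) fun {A B} g => by
      refine (Category.comp_id _).trans (Eq.trans ?_ (Category.id_comp _).symm)
      exact Groth.Agent.Coherent.RelExact14.tensorRightMod_map M g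
  exact preservesColimits_of_natIso (e ≪≫ twistTensIso M).symm

variable {P X Y : Scheme.{u}} (p : P ⟶ X) (q : P ⟶ Y) [IsAffineHom q] (K : P.Modules)

/-- `M ↦ q_*(p^*M ⊗ K)` commutes with colimits of quasi-coherent modules when `q` is affine. -/
theorem preservesColimits_FK (hK : Coh.IsQCoh K) (J : Type u) [SmallCategory J] :
    PreservesColimitsOfShape J (ObjectProperty.ι (QCohCat.isQCoh X) ⋙ Scheme.Modules.pullback p ⋙
      DCoh.tensorRightMod K ⋙ Coh.push q) := by
  haveI := preservesColimits_tensorRightMod K
  haveI : PreservesColimitsOfSize.{u, u} (Scheme.Modules.pullback p) :=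
    (Scheme.Modules.pullbackPushforwardAdjunction p).leftAdjoint_preservesColimits
  refine ⟨fun {D} => ?_⟩
  haveI : PreservesColimit ((D ⋙ ObjectProperty.ι (QCohCat.isQCoh X)) ⋙ Scheme.Modules.pullback p ⋙ DCoh.tensorRightMod K)
      (Coh.push q) := DirImgLib.preservesColimit_pushforward q _ fun j => by
    haveI := hK
    haveI : Coh.IsQCoh (D.obj j).obj := (D.obj j).property
    haveI : Coh.IsQCoh ((Scheme.Modules.pullback p).obj (D.obj j).obj) := EGA43.InjFibre.isQCoh_pullback p _
    exact isQCoh_tensorMod ((Scheme.Modules.pullback p).obj (D.obj j).obj) K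
  haveI : PreservesColimit (D ⋙ ObjectProperty.ι (QCohCat.isQCoh X))
      ((Scheme.Modules.pullback p ⋙ DCoh.tensorRightMod K) ⋙ Coh.push q) :=
    @comp_preservesColimit _ _ _ _ _ _ _ _ _ _ _ inferInstance ‹_›
  haveI : PreservesColimit (D ⋙ ObjectProperty.ι (QCohCat.isQCoh X))
      (Scheme.Modules.pullback p ⋙ DCoh.tensorRightMod K ⋙ Coh.push q) :=
    preservesColimit_of_natIso _ (Functor.associator _ _ _)
  exact comp_preservesColimit (ObjectProperty.ι (QCohCat.isQCoh X)) _

end Groth.Agent.CohDer1.FKExact
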