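import Groth.Agent.DCat.KFlatSheaf
import Groth.Agent.DCat.ExtKFlat
import Groth.Agent.ModStalk.Pullback
import Groth.Agent.CohDer1.FKExact
import Groth.Prelude.Def_KoszTw

/-!
# `M ↦ p^*M ⊗ K` is exact for `K` flat over the base
-/

set_option autoImplicit false
set_option backward.isDefEq.respectTransparency false
set_option linter.style.haveILetI false

universe u

open CategoryTheory CategoryTheory.Limits AlgebraicGeometry
open Groth.Agent.DCat Groth.Agent.ModStalk

namespace Groth.Agent.CohDer1.FlatTwist

variable {P X : Scheme.{u}} (p : P ⟶ X) (K : P.Modules)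

theorem mono_map (hK : FlatMod.IsFlatOver p K) {M N : X.Modules} (f : M ⟶ N) [Mono f] :
    Mono ((DCoh.tensorRightMod K).map ((Scheme.Modules.pullback p).map f)) := by
  refine Preadditive.mono_of_isZero_kernel _ (isZero_of_stalks fun x => ?_)
  suffices Mono ((DerSch.stalkFunctor P x).map
      ((DCoh.tensorRightMod K).map ((Scheme.Modules.pullback p).map f))) from
    IsZero.of_iso (isZero_kernel_of_mono _) (PreservesKernel.iso (DerSch.stalkFunctor P x) _)
  let g := (Scheme.Modules.pullback p).map f
  let φ := (p.stalkMap x).hom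
  let T := modT (P.presheaf.stalk x)
  let Kx := (DerSch.stalkFunctor P x).obj K
  suffices Mono ((T.map ((DerSch.stalkFunctor P x).map g)).app Kx) by
    show Mono ((DerSch.stalkFunctor P x).map (((shT P).map g).app K))
    have e₀ := stalkTensor_nat₁ x g K
    haveI h' : Mono ((DerSch.stalkFunctor P x).map (((shT P).map g).app K) ≫
        (stalkTensorIso x ((Scheme.Modules.pullback p).obj N) K).hom) := by
      rw [e₀]
      exact mono_comp _ _
    exact mono_of_mono _ (stalkTensorIso x ((Scheme.Modules.pullback p).obj N) K).hom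
  rw [ModuleCat.mono_iff_injective]
  let e := pullbackStalkIso p x
  let sf := (DerSch.stalkFunctor X (p.base x)).map f
  have hsf : Function.Injective sf.hom := (ModuleCat.mono_iff_injective sf).1 inferInstance
  have hflat : Module.Flat (X.presheaf.stalk (p.base x)) ((ModuleCat.restrictScalars.{u} φ).obj Kx) := hK x
  have hE : Function.Injective (((modExt φ).obj Kx).map sf).hom := by
    have h2 : Function.Injective ((((modT _).obj ((ModuleCat.restrictScalars.{u} φ).obj Kx))).map sf).hom :=
      Module.Flat.lTensor_preserves_injective_linearMap (M := (ModuleCat.restrictScalars.{u} φ).obj Kx) sf.hom hsf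
    have h3 : Mono ((ModuleCat.restrictScalars.{u} φ).map (((modExt φ).obj Kx).map sf)) := by
      haveI := (ModuleCat.mono_iff_injective _).2 h2
      haveI : Mono ((ModuleCat.restrictScalars.{u} φ).map (((modExt φ).obj Kx).map sf) ≫
          (extCancelIso φ Kx _).hom) := by
        rw [extCancelIso_natural₂]
        infer_instance
      exact mono_of_mono _ (extCancelIso φ Kx _).hom
    exact (ModuleCat.mono_iff_injective ((ModuleCat.restrictScalars.{u} φ).map (((modExt φ).obj Kx).map sf))).1 h3
  have hG : Function.Injective ((T.obj Kx).map ((DerSch.stalkFunctor P x).map g)).hom := by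
    have hn : (T.obj Kx).map ((DerSch.stalkFunctor P x).map g) ≫ (T.obj Kx).map (e.hom.app N) =
        (T.obj Kx).map (e.hom.app M) ≫ ((modExt φ).obj Kx).map sf := by
      rw [← Functor.map_comp]
      exact (congrArg (T.obj Kx).map (e.hom.naturality f)).trans ((T.obj Kx).map_comp _ _)
    haveI := (ModuleCat.mono_iff_injective _).2 hE
    haveI : Mono ((T.obj Kx).map ((DerSch.stalkFunctor P x).map g) ≫ (T.obj Kx).map (e.hom.app N)) := by
      rw [hn]
      exact @mono_comp _ _ _ _ _ ((T.obj Kx).mapIso (e.app M)).hom (IsIso.mono_of_iso _) _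
        ‹Mono (((modExt φ).obj Kx).map sf)›
    exact (ModuleCat.mono_iff_injective _).1 (mono_of_mono _ ((T.obj Kx).map (e.hom.app N)))
  exact (LinearMap.lTensor_inj_iff_rTensor_inj _ ((DerSch.stalkFunctor P x).map g).hom).1 hG

/-- `M ↦ p^*M ⊗ K` is exact. -/
theorem exact_twist (hK : FlatMod.IsFlatOver p K) :
    PreservesFiniteLimits (Scheme.Modules.pullback p ⋙ DCoh.tensorRightMod K) ∧
      PreservesColimitsOfSize.{u, u} (Scheme.Modules.pullback p ⋙ DCoh.tensorRightMod K) := by
  haveI := FKExact.preservesColimits_tensorRightMod K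
  haveI : PreservesColimitsOfSize.{u, u} (Scheme.Modules.pullback p) :=
    (Scheme.Modules.pullbackPushforwardAdjunction p).leftAdjoint_preservesColimits
  haveI : PreservesColimitsOfSize.{u, u} (Scheme.Modules.pullback p ⋙ DCoh.tensorRightMod K) := inferInstance
  haveI : PreservesFiniteColimits (Scheme.Modules.pullback p ⋙ DCoh.tensorRightMod K) :=
    PreservesColimitsOfSize.preservesFiniteColimits _
  haveI : (Scheme.Modules.pullback p).Additive := inferInstance
  refine ⟨?_, inferInstance⟩
  have e := (Functor.preservesFiniteLimits_tfae (Scheme.Modules.pullback p ⋙ DCoh.tensorRightMod K)).out 0 3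
  refine e.1 fun S hS => ⟨?_, ?_⟩
  · have e' := (Functor.preservesFiniteColimits_tfae (Scheme.Modules.pullback p ⋙ DCoh.tensorRightMod K)).out 3 0
    exact (e'.1 inferInstance S hS).1
  · haveI := hS.mono_f
    exact mono_map p K hK S.f

end Groth.Agent.CohDer1.FlatTwist
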