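import Groth.Agent.CohDer1.HomTrunc
import Mathlib

/-!
# Composites killing cohomology degree by degree
-/

set_option autoImplicit false
set_option backward.isDefEq.respectTransparency.types false
set_option linter.style.haveILetI false
set_option maxHeartbeats 400000

universe w v u

open CategoryTheory CategoryTheory.Limits CategoryTheory.Triangulated DerivedCategory

namespace Groth.Agent.CohDer1.ComposeTrunc

variable {A : Type u} [Category.{v} A] [Abelian A] [HasDerivedCategory.{w} A]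

local notation "t₀" => (TStructure.t (C := A))

theorem exists_lift_seq (K : ℕ ⥤ CochainComplex A ℤ) (h0 : ∀ i : ℤ, 0 < i → IsZero ((K.obj 0).homology i)) :
    ∀ n : ℕ, (∀ j : ℕ, j < n → HomologicalComplex.homologyMap (K.map (homOfLE (Nat.le_succ j))) (-(j : ℤ)) = 0) →
      ∃ (Z : DerivedCategory A) (_ : Z.IsLE (-(n : ℤ))) (φ : Q.obj (K.obj 0) ⟶ Z) (ι : Z ⟶ Q.obj (K.obj n)),
        φ ≫ ι = Q.map (K.map (homOfLE (Nat.zero_le n)))
  | 0, _ => by
    refine ⟨Q.obj (K.obj 0), ?_, 𝟙 _, Q.map (K.map (homOfLE le_rfl)), Category.id_comp _⟩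
    rw [isLE_Q_obj_iff, CochainComplex.isLE_iff]
    intro i hi
    rw [HomologicalComplex.exactAt_iff_isZero_homology]
    exact h0 i (by simpa using hi)
  | n + 1, hz => by
    obtain ⟨Z, hZ, φ, ι, hφ⟩ := exists_lift_seq K h0 n fun j hj => hz j (by lia)
    have h1 : (DerivedCategory.homologyFunctor A (-(n : ℤ))).map (ι ≫ Q.map (K.map (homOfLE (Nat.le_succ n)))) = 0 := by
      rw [Functor.map_comp, HomTrunc.H_map_Q_eq_zero _ _ (hz n (by lia)), comp_zero]
    obtain ⟨g, hg⟩ := HomTrunc.exists_lift (-(n : ℤ)) _ h1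
    refine ⟨((t₀).truncLT (-(n : ℤ))).obj (Q.obj (K.obj (n + 1))),
      (t₀).isLE_truncLT_obj _ _ _ (by push_cast; lia), φ ≫ g, ((t₀).truncLTι (-(n : ℤ))).app _, ?_⟩
    rw [Category.assoc, hg, reassoc_of% hφ, ← Functor.map_comp, ← Functor.map_comp]
    rfl

theorem exists_desc_seq (K : ℕᵒᵖ ⥤ CochainComplex A ℤ)
    (h0 : ∀ i : ℤ, i < 0 → IsZero ((K.obj (Opposite.op 0)).homology i)) :
    ∀ n : ℕ, (∀ j : ℕ, j < n → HomologicalComplex.homologyMap (K.map (homOfLE (Nat.le_succ j)).op) (j : ℤ) = 0) →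
      ∃ (Z : DerivedCategory A) (_ : Z.IsGE (n : ℤ)) (π : Q.obj (K.obj (Opposite.op n)) ⟶ Z)
        (φ : Z ⟶ Q.obj (K.obj (Opposite.op 0))), π ≫ φ = Q.map (K.map (homOfLE (Nat.zero_le n)).op)
  | 0, _ => by
    refine ⟨Q.obj (K.obj (Opposite.op 0)), ?_, Q.map (K.map (homOfLE le_rfl).op), 𝟙 _, Category.comp_id _⟩
    rw [isGE_Q_obj_iff, CochainComplex.isGE_iff]
    intro i hi
    rw [HomologicalComplex.exactAt_iff_isZero_homology]
    exact h0 i (by simpa using hi)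
  | n + 1, hz => by
    obtain ⟨Z, hZ, π, φ, hφ⟩ := exists_desc_seq K h0 n fun j hj => hz j (by lia)
    have h1 : (DerivedCategory.homologyFunctor A (n : ℤ)).map (Q.map (K.map (homOfLE (Nat.le_succ n)).op) ≫ π) = 0 := by
      rw [Functor.map_comp, HomTrunc.H_map_Q_eq_zero _ _ (hz n (by lia)), zero_comp]
    obtain ⟨g, hg⟩ := HomTrunc.exists_desc (n : ℤ) ((n : ℤ) + 1) rfl _ h1
    refine ⟨((t₀).truncGE ((n : ℤ) + 1)).obj (Q.obj (K.obj (Opposite.op (n + 1)))),
      (t₀).isGE_truncGE_obj _ _ _ (by push_cast; lia), ((t₀).truncGEπ ((n : ℤ) + 1)).app _, g ≫ φ, ?_⟩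
    rw [reassoc_of% hg, hφ, ← Functor.map_comp, ← Functor.map_comp]
    rfl

end Groth.Agent.CohDer1.ComposeTrunc
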