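import Mathlib.Algebra.Homology.BifunctorHomotopy
import Mathlib.Algebra.Homology.HomotopyCategory.MappingCone

/-!
# A bifunctor applied to a mapping cone in the first variable
-/

universe v₁ v₂ v₃ u₁ u₂ u₃

open CategoryTheory Category Limits CochainComplex HomologicalComplex

namespace Groth.Agent.CohDer1.ConeBifunctor

variable {C₁ : Type u₁} {C₂ : Type u₂} {D : Type u₃} [Category.{v₁} C₁] [Category.{v₂} C₂]
  [Category.{v₃} D] [Preadditive C₁] [Preadditive C₂] [Preadditive D] [HasBinaryBiproducts C₁]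
  [HasBinaryBiproducts D]
  (F : C₁ ⥤ C₂ ⥤ D) [F.Additive] [∀ X, (F.obj X).Additive]
  {K L : CochainComplex C₁ ℤ} (φ : K ⟶ L) (M : CochainComplex C₂ ℤ)
  [HomologicalComplex.HasMapBifunctor K M F (ComplexShape.up ℤ)]
  [HomologicalComplex.HasMapBifunctor L M F (ComplexShape.up ℤ)]
  [HomologicalComplex.HasMapBifunctor (mappingCone φ) M F (ComplexShape.up ℤ)]

local notation "T₀" => mapBifunctorMap φ (𝟙 M) F (ComplexShape.up ℤ)

/-- The homotopy `φ ≫ inr ≃ 0`. -/
noncomputable def inrHomotopy : Homotopy (φ ≫ mappingCone.inr φ) 0 :=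
  homotopyCofiber.inrCompHomotopy φ (fun j => ⟨j - 1, by simp⟩)

lemma inrHomotopy_hom (p : ℤ) :
    (inrHomotopy φ).hom (p + 1) p = (mappingCone.inl φ).v (p + 1) p (by omega) := by
  simp [inrHomotopy, mappingCone.inl, homotopyCofiber.inrCompHomotopy_hom]

/-- The image of that homotopy. -/
noncomputable def homotopy :
    Homotopy (mapBifunctorMap (φ ≫ mappingCone.inr φ) (𝟙 M) F (ComplexShape.up ℤ))
      (mapBifunctorMap (0 : K ⟶ mappingCone φ) (𝟙 M) F (ComplexShape.up ℤ)) :=
  mapBifunctorMapHomotopy₁ (inrHomotopy φ) (𝟙 M) F _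

lemma map_comp_inr :
    T₀ ≫ mapBifunctorMap (mappingCone.inr φ) (𝟙 M) F (ComplexShape.up ℤ) =
      mapBifunctorMap (φ ≫ mappingCone.inr φ) (𝟙 M) F (ComplexShape.up ℤ) := by
  ext n p q h
  simp

lemma map_zero₁ :
    mapBifunctorMap (0 : K ⟶ mappingCone φ) (𝟙 M) F (ComplexShape.up ℤ) = 0 := by
  ext n p q h
  simp

/-- The comparison map. -/
noncomputable def fwd : mappingCone T₀ ⟶ HomologicalComplex.mapBifunctor (mappingCone φ) M F (ComplexShape.up ℤ) :=
  mappingCone.desc _ (HomComplex.Cochain.ofHomotopy (homotopy F φ M))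
    (mapBifunctorMap (mappingCone.inr φ) (𝟙 M) F (ComplexShape.up ℤ)) (by
      rw [HomComplex.δ_ofHomotopy, map_comp_inr, map_zero₁]
      simp)

/-- Its degreewise inverse. -/
noncomputable def bwd (n : ℤ) :
    (HomologicalComplex.mapBifunctor (mappingCone φ) M F (ComplexShape.up ℤ)).X n ⟶ (mappingCone T₀).X n :=
  mapBifunctorDesc (fun p q h =>
    (F.map ((mappingCone.fst φ).1.v p (p + 1) rfl)).app (M.X q) ≫
        HomologicalComplex.ιMapBifunctor K M F (ComplexShape.up ℤ) (p + 1) q (n + 1)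
          (by simp at h ⊢; omega) ≫
        (mappingCone.inl T₀).v (n + 1) n (by omega) +
      (F.map ((mappingCone.snd φ).v p p (add_zero p))).app (M.X q) ≫
        HomologicalComplex.ιMapBifunctor L M F (ComplexShape.up ℤ) p q n h ≫
        (mappingCone.inr T₀).f n)

@[reassoc]
lemma ι_fwd_inl (p q n : ℤ) (h : p + 1 + q = n + 1) :
    HomologicalComplex.ιMapBifunctor K M F (ComplexShape.up ℤ) (p + 1) q (n + 1) h ≫
      (mappingCone.inl T₀).v (n + 1) n (by omega) ≫ (fwd F φ M).f n =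
    (F.map ((mappingCone.inl φ).v (p + 1) p (by omega))).app (M.X q) ≫
      HomologicalComplex.ιMapBifunctor (mappingCone φ) M F (ComplexShape.up ℤ) p q n
        (by simp; omega) := by
  rw [fwd, mappingCone.inl_v_desc_f]
  simp only [HomComplex.Cochain.ofHomotopy, HomComplex.Cochain.mk_v, homotopy,
    mapBifunctorMapHomotopy₁]
  rw [mapBifunctorMapHomotopy.ιMapBifunctor_hom₁ (inrHomotopy φ) (𝟙 M) F _ p (p + 1) q (n + 1) n h
      (by simp),
    inrHomotopy_hom, ιMapBifunctorOrZero_eq _ _ _ _ _ _ _ (by simp; omega)]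
  simp

@[reassoc]
lemma ι_fwd_inr (p q n : ℤ) (h : p + q = n) :
    HomologicalComplex.ιMapBifunctor L M F (ComplexShape.up ℤ) p q n h ≫
      (mappingCone.inr T₀).f n ≫ (fwd F φ M).f n =
    (F.map ((mappingCone.inr φ).f p)).app (M.X q) ≫
      HomologicalComplex.ιMapBifunctor (mappingCone φ) M F (ComplexShape.up ℤ) p q n h := by
  simp [fwd]

lemma bwd_fwd (n : ℤ) : bwd F φ M n ≫ (fwd F φ M).f n = 𝟙 _ := by
  apply mapBifunctor.hom_ext
  intro p q h
  have h' : p + q = n := h
  rw [bwd, ι_mapBifunctorDesc_assoc, Preadditive.add_comp, assoc, assoc, assoc, assoc,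
    ι_fwd_inl F φ M p q n (by omega), ι_fwd_inr F φ M p q n h', ← NatTrans.comp_app_assoc,
    ← NatTrans.comp_app_assoc, ← Preadditive.add_comp, ← NatTrans.app_add, ← F.map_comp,
    ← F.map_comp, ← F.map_add, mappingCone.id_X, F.map_id, NatTrans.id_app, id_comp, comp_id]

lemma fwd_bwd (n : ℤ) : (fwd F φ M).f n ≫ bwd F φ M n = 𝟙 _ := by
  apply mappingCone.ext_from _ (n + 1) n rfl
  · apply mapBifunctor.hom_ext
    intro i q h
    obtain ⟨p, rfl⟩ : ∃ p, i = p + 1 := ⟨i - 1, by omega⟩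
    have h' : p + 1 + q = n + 1 := h
    rw [comp_id, ι_fwd_inl_assoc F φ M p q n h', bwd, ι_mapBifunctorDesc, Preadditive.comp_add,
      ← NatTrans.comp_app_assoc, ← NatTrans.comp_app_assoc, ← F.map_comp, ← F.map_comp,
      mappingCone.inl_v_fst_v, mappingCone.inl_v_snd_v, F.map_id, F.map_zero]
    simp
  · apply mapBifunctor.hom_ext
    intro p q h
    rw [comp_id, ι_fwd_inr_assoc F φ M p q n h, bwd, ι_mapBifunctorDesc,
      Preadditive.comp_add, ← NatTrans.comp_app_assoc, ← NatTrans.comp_app_assoc, ← F.map_comp,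
      ← F.map_comp, mappingCone.inr_f_fst_v, mappingCone.inr_f_snd_v, F.map_id, F.map_zero]
    simp

/-- A bifunctor commutes with mapping cones in the first variable. -/
noncomputable def iso :
    HomologicalComplex.mapBifunctor (mappingCone φ) M F (ComplexShape.up ℤ) ≅ mappingCone T₀ :=
  (HomologicalComplex.Hom.isoOfComponents
    (fun n => ⟨(fwd F φ M).f n, bwd F φ M n, fwd_bwd F φ M n, bwd_fwd F φ M n⟩)
    (fun i j _ => (fwd F φ M).comm i j)).symm

end Groth.Agent.CohDer1.ConeBifunctor
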