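import Groth.Agent.CAlgH.PowerSeriesEval
import Groth.Agent.CAlgMisc2.LocalFinite
import Groth.Agent.AdicRing.Basic
import Groth.Agent.S7949
import Mathlib.RingTheory.HopfAlgebra.TensorProduct
import Mathlib.RingTheory.MvPolynomial.Ideal
import Mathlib.RingTheory.LocalRing.Module
import Mathlib.RingTheory.MvPowerSeries.Equiv

/-!
# Connected finite flat group schemes over complete local rings
-/

set_option autoImplicit false

universe u v

open TensorProduct IsLocalRing Finsupp

namespace Groth.Agent.CohDer1.ConnFlatPres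

/-- Indices of the monomials below the exponents `q`. -/
abbrev Bx {n : ℕ} (q : Fin n → ℕ) := (i : Fin n) → Fin (q i)

/-- The exponent of an index. -/
noncomputable def ex {n : ℕ} {q : Fin n → ℕ} (a : Bx q) : Fin n →₀ ℕ :=
  Finsupp.equivFunOnFinite.symm fun i => (a i : ℕ)

@[simp] lemma ex_apply {n : ℕ} {q : Fin n → ℕ} (a : Bx q) (i : Fin n) : ex a i = (a i : ℕ) := rfl

lemma ex_injective {n : ℕ} {q : Fin n → ℕ} : Function.Injective (ex (q := q)) := fun a b h =>
  funext fun i => Fin.ext (congrArg (fun d : Fin n →₀ ℕ => d i) h)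

section Truncated

open MvPolynomial

variable (K : Type u) [CommRing K] {n : ℕ} (q : Fin n → ℕ)

/-- The ideal of the powers of the variables. -/
noncomputable def pows : Ideal (MvPolynomial (Fin n) K) :=
  Ideal.span (Set.range fun i => (X i : MvPolynomial (Fin n) K) ^ q i)

lemma pows_eq : pows K q =
    Ideal.span ((fun s => monomial s (1 : K)) '' Set.range fun i => Finsupp.single i (q i)) := by
  rw [pows, ← Set.range_comp]
  congr 1
  exact congrArg Set.range (funext fun i => X_pow_eq_monomial)

lemma truncated_bijective :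
    Function.Bijective (Finsupp.linearCombination K fun a : Bx q =>
      Ideal.Quotient.mk (pows K q) (monomial (ex a) 1)) := by
  classical
  refine ⟨(injective_iff_map_eq_zero _).2 fun c hc => ?_, ?_⟩
  · rw [Finsupp.linearCombination_apply, Finsupp.sum] at hc
    simp only [← Ideal.Quotient.mkₐ_eq_mk K, ← map_smul, ← map_sum] at hc
    rw [Ideal.Quotient.mkₐ_eq_mk, Ideal.Quotient.eq_zero_iff_mem, pows_eq, mem_ideal_span_monomial_image] at hc
    ext b
    by_contra hb
    have hcoe : coeff (ex b) (∑ a ∈ c.support, monomial (ex a) (c a • (1 : K))) = c b := by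
      rw [coeff_sum, Finset.sum_eq_single b]
      · simp
      · intro a _ hab; rw [coeff_monomial, if_neg (fun h => hab (ex_injective h))]
      · intro h; simp [Finsupp.notMem_support_iff.1 h]
    obtain ⟨_, ⟨i, rfl⟩, hle⟩ := hc (ex b) (by rw [MvPolynomial.mem_support_iff, hcoe]; exact hb)
    have := hle i
    simp at this
    exact absurd (b i).2 (by omega)
  · rw [← LinearMap.range_eq_top, Finsupp.range_linearCombination, eq_top_iff]
    rintro z -
    obtain ⟨F, rfl⟩ := Ideal.Quotient.mk_surjective z
    induction F using MvPolynomial.induction_on' with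
    | add F G hF hG => rw [map_add]; exact add_mem hF hG
    | monomial d c =>
      by_cases hd : ∀ i, d i < q i
      · rw [← mul_one c, ← smul_eq_mul, ← smul_monomial, ← Ideal.Quotient.mkₐ_eq_mk K, map_smul]
        refine Submodule.smul_mem _ _ (Submodule.subset_span ⟨fun i => ⟨d i, hd i⟩, ?_⟩)
        dsimp only
        rw [Ideal.Quotient.mkₐ_eq_mk, show ex (fun i => (⟨d i, hd i⟩ : Fin (q i))) = d from Finsupp.ext fun i => rfl]
      · push Not at hd
        obtain ⟨i, hi⟩ := hd
        rw [Ideal.Quotient.eq_zero_iff_mem.2 ?_]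
        · exact zero_mem _
        rw [pows_eq, mem_ideal_span_monomial_image]
        intro xi hxi
        refine ⟨_, ⟨i, rfl⟩, ?_⟩
        have : xi = d := by
          by_contra h
          exact (MvPolynomial.mem_support_iff.1 hxi) (by simp [coeff_monomial, Ne.symm h])
        subst this
        exact Finsupp.single_le_iff.2 hi

lemma prod_pow_eq_monomial (a : Bx q) :
    ∏ i, (X i : MvPolynomial (Fin n) K) ^ (a i : ℕ) = monomial (ex a) 1 := by
  rw [← prod_X_pow_eq_monomial]
  refine (Finset.prod_subset (Finset.subset_univ _) fun i _ hi => ?_).symm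
  rw [Finsupp.notMem_support_iff, ex_apply] at hi
  rw [hi, pow_zero]

end Truncated

section Series

open MvPowerSeries

variable {R : Type u} [CommRing R] {n : ℕ} (q : Fin n → ℕ)

lemma coe_prod_pow (a : Bx q) :
    ∏ i, (X i : MvPowerSeries (Fin n) R) ^ (a i : ℕ) = monomial (ex a) 1 := by
  rw [← MvPolynomial.coe_monomial, ← prod_pow_eq_monomial]
  change _ = MvPolynomial.coeToMvPowerSeries.ringHom _
  rw [map_prod]
  exact Finset.prod_congr rfl fun i _ => by rw [map_pow]; exact congrArg (· ^ _) (MvPolynomial.coe_X i).symm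

lemma sub_mem_span_pows (F : MvPowerSeries (Fin n) R) :
    F - ∑ a : Bx q, coeff (ex a) F • monomial (ex a) (1 : R) ∈
      Ideal.span (Set.range fun i => (X i : MvPowerSeries (Fin n) R) ^ q i) := by
  classical
  let first : (Fin n →₀ ℕ) → Option (Fin n) := fun d =>
    if h : (Finset.univ.filter fun i => q i ≤ d i).Nonempty then some ((Finset.univ.filter fun i => q i ≤ d i).min' h)
    else none
  let G : Fin n → MvPowerSeries (Fin n) R := fun i d =>
    if first (d + single i (q i)) = some i then coeff (d + single i (q i)) F else 0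
  have hT : ∀ i d, coeff d ((X i : MvPowerSeries (Fin n) R) ^ q i * G i) =
      if first d = some i then coeff d F else 0 := by
    intro i d
    rw [X_pow_eq, coeff_monomial_mul]
    by_cases h : single i (q i) ≤ d
    · rw [if_pos h, one_mul]
      change (if first (d - single i (q i) + single i (q i)) = some i then
        coeff (d - single i (q i) + single i (q i)) F else 0) = _
      rw [tsub_add_cancel_of_le h]
    · rw [if_neg h, if_neg]
      intro hf
      apply h
      simp only [first] at hf
      split_ifs at hf with hne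
      rw [Finsupp.single_le_iff, ← Option.some.inj hf]
      exact (Finset.mem_filter.1 (Finset.min'_mem _ hne)).2
  have e : F - ∑ a : Bx q, coeff (ex a) F • monomial (ex a) (1 : R) = ∑ i, X i ^ q i * G i := by
    ext d
    rw [map_sub, map_sum, map_sum]
    simp only [hT, map_smul, coeff_monomial, smul_eq_mul, mul_ite, mul_one, mul_zero]
    by_cases hd : ∀ i, d i < q i
    · let b : Bx q := fun i => ⟨d i, hd i⟩
      have hb : ex b = d := Finsupp.ext fun i => rfl
      rw [Finset.sum_eq_single b, if_pos hb.symm, hb, sub_self, Finset.sum_eq_zero]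
      · intro i _
        rw [if_neg]
        intro hf
        simp only [first] at hf
        split_ifs at hf with hne
        obtain ⟨j, hj⟩ := hne
        exact absurd (hd j) (Nat.not_lt.2 (Finset.mem_filter.1 hj).2)
      · intro a _ hab
        rw [if_neg]
        exact fun h => hab (ex_injective (h.symm.trans hb.symm))
      · exact fun h => absurd (Finset.mem_univ _) h
    · push Not at hd
      have hne : (Finset.univ.filter fun i => q i ≤ d i).Nonempty := by
        obtain ⟨i, hi⟩ := hd; exact ⟨i, by simp [hi]⟩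
      have hf : first d = some ((Finset.univ.filter fun i => q i ≤ d i).min' hne) := dif_pos hne
      rw [Finset.sum_eq_zero (s := (Finset.univ : Finset (Bx q))), sub_zero]
      · simp [hf]
      · intro a _
        rw [if_neg]
        intro h
        obtain ⟨i, hi⟩ := hd
        rw [h, ex_apply] at hi
        exact absurd (a i).2 (Nat.not_lt.2 hi)
  rw [e]
  exact Ideal.sum_mem _ fun i _ => Ideal.mul_mem_right _ _ (Ideal.subset_span ⟨i, rfl⟩)

end Series

section Complete

variable {R : Type u} [CommRing R] [IsLocalRing R] [IsNoetherianRing R] {A : Type v} [CommRing A] [IsLocalRing A]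
  [Algebra R A] [Module.Finite R A]

lemma map_maximalIdeal_le : (maximalIdeal R).map (algebraMap R A) ≤ maximalIdeal A := by
  refine le_maximalIdeal fun h => ?_
  have h2 : (⊤ : Submodule R A) ≤ maximalIdeal R • ⊤ := by
    rw [Ideal.smul_top_eq_map, h, Submodule.restrictScalars_top]
  have := Submodule.eq_bot_of_le_smul_of_le_jacobson_bot (maximalIdeal R) (⊤ : Submodule R A) Module.Finite.fg_top h2
    (maximalIdeal_le_jacobson _)
  exact one_ne_zero ((Submodule.eq_bot_iff _).1 this (1 : A) trivial)

lemma isAdicComplete_maximalIdeal [IsAdicComplete (maximalIdeal R) R] : IsAdicComplete (maximalIdeal A) A := by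
  haveI hcA : IsAdicComplete ((maximalIdeal R).map (algebraMap R A)) A :=
    (IsAdicComplete.map_algebraMap_iff _ _).2 (AdicRing.isAdicComplete_of_finite (maximalIdeal R) A)
  haveI : IsNoetherianRing A := IsNoetherianRing.of_finite R A
  set J : Ideal A := (maximalIdeal R).map (algebraMap R A) with hJ
  have hrad : maximalIdeal A ≤ J.radical := by
    rw [Ideal.radical_eq_sInf]
    refine le_sInf fun P ⟨hP, hPp⟩ => ?_
    haveI := hPp
    have hc : P.comap (algebraMap R A) = maximalIdeal R :=
      ((maximalIdeal.isMaximal R).eq_of_le (Ideal.IsPrime.comap _).ne_top (Ideal.map_le_iff_le_comap.1 hP)).symm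
    haveI : (P.comap (algebraMap R A)).IsMaximal := hc ▸ maximalIdeal.isMaximal R
    exact (IsLocalRing.eq_maximalIdeal (Ideal.isMaximal_of_isIntegral_of_isMaximal_comap (R := R) P this)).ge
  obtain ⟨d, hd⟩ := Ideal.exists_pow_le_of_le_radical_of_fg hrad (IsNoetherian.noetherian _)
  rcases Nat.eq_zero_or_pos d with rfl | hd'
  · exact absurd (top_le_iff.1 ((le_of_eq (by simp)).trans (hd.trans map_maximalIdeal_le)))
      (maximalIdeal.isMaximal A).ne_top
  exact (Groth.Agent.S9604.result (maximalIdeal A) J d 1 hd' one_pos hd (by simpa using map_maximalIdeal_le) A).2 hcA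

end Complete

section Main

variable {R : Type u} [CommRing R] [IsLocalRing R] [IsNoetherianRing R] [IsAdicComplete (maximalIdeal R) R]
  {A : Type v} [CommRing A] [IsLocalRing A] [Algebra R A] [Module.Finite R A] [Module.Flat R A]

open MvPowerSeries in
/-- Lifting a truncated polynomial presentation of the closed fibre. -/
theorem exists_presentation {n : ℕ} (q : Fin n → ℕ) (hq : ∀ i, 0 < q i)
    (e : (ResidueField R ⊗[R] A) ≃ₐ[ResidueField R] (MvPolynomial (Fin n) (ResidueField R) ⧸ pows (ResidueField R) q)) :
    ∃ g : Fin n → MvPolynomial (Fin n) R, (∀ i, (∀ d, (g i).coeff d ∈ maximalIdeal R) ∧ (g i).degreeOf i < q i) ∧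
      Nonempty (A ≃ₐ[R] (MvPowerSeries (Fin n) R ⧸
        Ideal.span (Set.range fun i => (MvPowerSeries.X i : MvPowerSeries (Fin n) R) ^ q i + ↑(g i)))) := by
  classical
  haveI : IsNoetherianRing A := IsNoetherianRing.of_finite R A
  let ι : A →ₐ[R] ResidueField R ⊗[R] A := Algebra.TensorProduct.includeRight
  have hsurj : Function.Surjective ι := TensorProduct.mk_surjective R A (ResidueField R) Ideal.Quotient.mk_surjective
  choose t ht using fun i => hsurj (e.symm (Ideal.Quotient.mk _ (MvPolynomial.X i)))
  let b : Bx q → A := fun a => ∏ i, t i ^ (a i : ℕ)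
  have hb : ∀ a, ι (b a) = e.symm (Ideal.Quotient.mk _ (MvPolynomial.monomial (ex a) 1)) := fun a => by
    simp only [b, map_prod, map_pow, ht, ← prod_pow_eq_monomial]
  have htq : ∀ i, ι (t i ^ q i) = 0 := fun i => by
    have h0 : Ideal.Quotient.mk (pows (ResidueField R) q) (MvPolynomial.X i ^ q i) = 0 :=
      Ideal.Quotient.eq_zero_iff_mem.2 (Ideal.subset_span ⟨i, rfl⟩)
    rw [map_pow, ht, ← map_pow, ← map_pow, h0, map_zero]
  let b' : ULift.{u} (Bx q) → A := fun a => b a.down
  have hmk : ∀ a, TensorProduct.mk R (ResidueField R) A 1 (b' a) = ι (b a.down) := fun a => rfl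
  have hbar : Function.Bijective (Finsupp.linearCombination (ResidueField R)
      (TensorProduct.mk R (ResidueField R) A 1 ∘ b')) := by
    have h1 := (e.symm.bijective.comp (truncated_bijective (ResidueField R) q)).comp
      (Finsupp.domLCongr (R := ResidueField R) (M := ResidueField R) Equiv.ulift).bijective
    convert h1 using 1
    have e1 : Finsupp.linearCombination (ResidueField R) (TensorProduct.mk R (ResidueField R) A 1 ∘ b') =
        e.symm.toLinearMap ∘ₗ (Finsupp.linearCombination (ResidueField R) fun a : Bx q =>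
          Ideal.Quotient.mk (pows (ResidueField R) q) (MvPolynomial.monomial (ex a) 1)) ∘ₗ
          (Finsupp.domLCongr (R := ResidueField R) (M := ResidueField R) Equiv.ulift).toLinearMap :=
      Finsupp.lhom_ext fun a c => by simp [hb, hmk]
    rw [e1]
    rfl
  have hbb := Module.IsLocalRing.linearCombination_bijective_of_flat b' hbar
  let B : Module.Basis (ULift.{u} (Bx q)) R A := Module.Basis.mk hbb.1
    (by rw [← Finsupp.range_linearCombination, LinearMap.range_eq_top.2 hbb.2])
  have hB : ∀ a, B a = b' a := fun a => Module.Basis.mk_apply _ _ a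
  let g : Fin n → MvPolynomial (Fin n) R := fun i =>
    ∑ a : Bx q, MvPolynomial.monomial (ex a) (-(B.repr (t i ^ q i) ⟨a⟩))
  have hexp : ∀ x : A, x = ∑ a : Bx q, B.repr x ⟨a⟩ • b a := fun x => by
    conv_lhs => rw [← B.sum_repr x]
    exact (Fintype.sum_equiv Equiv.ulift _ _ fun a => by rw [hB]; rfl)
  have hcoef : ∀ i a, B.repr (t i ^ q i) ⟨a⟩ ∈ maximalIdeal R := by
    intro i a
    have h1 : Finsupp.linearCombination (ResidueField R) (TensorProduct.mk R (ResidueField R) A 1 ∘ b')
        ((B.repr (t i ^ q i)).mapRange (IsLocalRing.residue R) (map_zero _)) = 0 := by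
      rw [← htq i, Finsupp.linearCombination_apply, Finsupp.sum_mapRange_index (by simp)]
      conv_rhs => rw [← B.linearCombination_repr (t i ^ q i)]
      rw [Finsupp.linearCombination_apply, map_finsuppSum]
      refine Finsupp.sum_congr fun c _ => ?_
      rw [map_smul, hB, Function.comp_apply, hmk, ← IsScalarTower.algebraMap_smul (ResidueField R)]
      rfl
    have h2 := DFunLike.congr_fun (hbar.1 (h1.trans (map_zero _).symm)) ⟨a⟩
    rwa [Finsupp.mapRange_apply, Finsupp.zero_apply, IsLocalRing.residue_eq_zero_iff] at h2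
  have hg : ∀ i, (∀ d, (g i).coeff d ∈ maximalIdeal R) ∧ (g i).degreeOf i < q i := by
    refine fun i => ⟨fun d => ?_, (MvPolynomial.degreeOf_lt_iff (hq i)).2 fun d hd => ?_⟩
    · rw [MvPolynomial.coeff_sum]
      refine Ideal.sum_mem _ fun a _ => ?_
      rw [MvPolynomial.coeff_monomial]
      split_ifs
      · exact neg_mem (hcoef i a)
      · exact zero_mem _
    · obtain ⟨a, -, ha⟩ := Finset.mem_biUnion.1 (MvPolynomial.support_sum hd)
      rw [Finset.mem_singleton.1 (MvPolynomial.support_monomial_subset ha)]
      exact (a i).2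
  haveI := isAdicComplete_maximalIdeal (R := R) (A := A)
  haveI : Nontrivial (ResidueField R ⊗[R] A) := by
    haveI : Nontrivial (MvPolynomial (Fin n) (ResidueField R) ⧸ pows (ResidueField R) q) := by
      refine Ideal.Quotient.nontrivial_iff.2 fun h => ?_
      have h1 := (truncated_bijective (ResidueField R) q).1 (a₁ := Finsupp.single (fun i => ⟨0, hq i⟩) 1) (a₂ := 0)
      have : Subsingleton (MvPolynomial (Fin n) (ResidueField R) ⧸ pows (ResidueField R) q) :=
        Ideal.Quotient.subsingleton_iff.2 h
      exact one_ne_zero (Finsupp.single_eq_zero.1 (h1 (Subsingleton.elim _ _)))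
    exact e.toEquiv.nontrivial
  have htI : ∀ i, t i ∈ maximalIdeal A := fun i => by
    rw [mem_maximalIdeal]
    intro hu
    have := ((hu.pow (q i)).map ι)
    rw [htq i] at this
    exact not_isUnit_zero this
  obtain ⟨φ₀, hC, hX⟩ := CAlgH.exists_mvPowerSeries_eval (algebraMap R A) (maximalIdeal A) t htI
  let φ : MvPowerSeries (Fin n) R →ₐ[R] A := { φ₀ with commutes' := fun c => RingHom.congr_fun hC c }
  have hφX : ∀ i, φ (X i) = t i := hX
  have hmon : ∀ a, φ (monomial (ex a) 1) = b a := fun a => by
    simp only [b, ← coe_prod_pow, map_prod, map_pow, hφX]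
  let f : Fin n → MvPowerSeries (Fin n) R := fun i => (X i : MvPowerSeries (Fin n) R) ^ q i + ↑(g i)
  let I : Ideal (MvPowerSeries (Fin n) R) := Ideal.span (Set.range f)
  have hcoe : ∀ i, ((g i : MvPolynomial (Fin n) R) : MvPowerSeries (Fin n) R) =
      ∑ a : Bx q, (-(B.repr (t i ^ q i) ⟨a⟩)) • monomial (ex a) (1 : R) := fun i => by
    change MvPolynomial.coeToMvPowerSeries.ringHom _ = _
    rw [map_sum]
    refine Finset.sum_congr rfl fun a _ => ?_
    rw [MvPolynomial.coeToMvPowerSeries.ringHom_apply, MvPolynomial.coe_monomial, ← map_smul, smul_eq_mul, mul_one]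
  have hI : ∀ x ∈ I, φ x = 0 := fun x hx => RingHom.mem_ker.1 ((Ideal.span_le (I := RingHom.ker φ)).2 (by
    rintro _ ⟨i, rfl⟩
    rw [SetLike.mem_coe, RingHom.mem_ker, map_add, map_pow, hφX, hcoe, map_sum]
    simp only [neg_smul, map_neg, map_smul, hmon, Finset.sum_neg_distrib, ← hexp, add_neg_cancel]) hx)
  let Φ : (MvPowerSeries (Fin n) R ⧸ I) →ₐ[R] A := Ideal.Quotient.liftₐ I φ hI
  let L : (Bx q → R) →ₗ[R] (MvPowerSeries (Fin n) R ⧸ I) :=
    Fintype.linearCombination R fun a => Ideal.Quotient.mk I (monomial (ex a) 1)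
  have hL : Function.Surjective L := by
    haveI : Nontrivial (MvPowerSeries (Fin n) R ⧸ I) := Φ.toRingHom.domain_nontrivial
    haveI : IsLocalRing (MvPowerSeries (Fin n) R ⧸ I) :=
      IsLocalRing.of_surjective' (Ideal.Quotient.mk I) Ideal.Quotient.mk_surjective
    haveI : IsHausdorff (maximalIdeal R) (MvPowerSeries (Fin n) R ⧸ I) := by
      rw [← IsHausdorff.map_algebraMap_iff (S := MvPowerSeries (Fin n) R ⧸ I)]
      refine IsHausdorff.of_isLocalRing _ _ fun h => ?_
      have h1 := congrArg (Ideal.map Φ.toRingHom) h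
      rw [Ideal.map_map, Ideal.map_top, show Φ.toRingHom.comp (algebraMap R (MvPowerSeries (Fin n) R ⧸ I)) =
        algebraMap R A from RingHom.ext fun c => Φ.commutes c] at h1
      exact (maximalIdeal.isMaximal A).ne_top (top_le_iff.1 (h1 ▸ map_maximalIdeal_le))
    haveI : IsPrecomplete (maximalIdeal R) (Bx q → R) :=
      AdicRing.isPrecomplete_of_finite (maximalIdeal R) (Bx q → R)
    refine AdicRing.surjective_of_sup_smul_top (I := maximalIdeal R) L (eq_top_iff.2 fun x _ => ?_)
    obtain ⟨F, rfl⟩ := Ideal.Quotient.mk_surjective x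
    have hmem : ∀ y ∈ Ideal.span (Set.range fun i => (X i : MvPowerSeries (Fin n) R) ^ q i),
        Ideal.Quotient.mk I y ∈ (maximalIdeal R).map (algebraMap R (MvPowerSeries (Fin n) R ⧸ I)) := by
      intro y hy
      refine (Ideal.span_le (I := Ideal.comap (Ideal.Quotient.mk I)
        ((maximalIdeal R).map (algebraMap R (MvPowerSeries (Fin n) R ⧸ I))))).2 ?_ hy
      rintro _ ⟨i, rfl⟩
      rw [SetLike.mem_coe, Ideal.mem_comap]
      have e1 : Ideal.Quotient.mk I (X i ^ q i) = -Ideal.Quotient.mk I ↑(g i) := by
        rw [eq_neg_iff_add_eq_zero, ← map_add]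
        exact Ideal.Quotient.eq_zero_iff_mem.2 (Ideal.subset_span ⟨i, rfl⟩)
      rw [e1, neg_mem_iff, hcoe, map_sum]
      refine Ideal.sum_mem _ fun a _ => ?_
      rw [Algebra.smul_def, map_mul]
      exact Ideal.mul_mem_right _ _ (Ideal.mem_map_of_mem _ (neg_mem (hcoef i a)))
    rw [Submodule.mem_sup]
    refine ⟨L fun a => coeff (ex a) F, ⟨_, rfl⟩, _, ?_, add_sub_cancel _ _⟩
    rw [Ideal.smul_top_eq_map, Submodule.restrictScalars_mem]
    convert hmem _ (sub_mem_span_pows q F) using 1
    rw [map_sub]
    congr 1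
    simp only [L, Fintype.linearCombination_apply, ← Ideal.Quotient.mkₐ_eq_mk R, map_sum, map_smul]
  have hΦ : Function.Bijective Φ := by
    have key : ∀ c : Bx q → R, Φ (L c) = ∑ a, c a • b a := fun c => by
      simp only [L, Fintype.linearCombination_apply, map_sum, map_smul]
      exact Finset.sum_congr rfl fun a _ => congrArg _ (hmon a)
    refine ⟨(injective_iff_map_eq_zero Φ).2 fun x hx => ?_, fun y => ⟨L fun a => B.repr y ⟨a⟩, (key _).trans (hexp y).symm⟩⟩
    obtain ⟨c, rfl⟩ := hL x
    rw [key] at hx
    have h1 : ∑ a : ULift.{u} (Bx q), c a.down • B a = 0 := by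
      rw [← hx]
      exact Fintype.sum_equiv Equiv.ulift _ _ fun a => by rw [hB]; rfl
    have h2 := Fintype.linearIndependent_iff.1 B.linearIndependent _ h1
    rw [show c = 0 from funext fun a => h2 ⟨a⟩, map_zero]
  exact ⟨g, hg, ⟨(AlgEquiv.ofBijective Φ hΦ).symm⟩⟩

end Main

end Groth.Agent.CohDer1.ConnFlatPres
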