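import Mathlib

/-!
# Conormal modules of two smooth presentations after base change

For two extensions of an algebra by formally smooth rings, the conormal module of one is a direct
summand of the conormal module of the other plus a projective module, compatibly with any base
change.  Applied to localisations of base changes this transports projectivity of conormal modules.
-/

set_option autoImplicit false

universe u

noncomputable section

open TensorProduct

namespace Groth.Agent.CohDer1.ConormalRetract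

open Algebra Algebra.Extension

theorem projective_baseChange_cotangent {R L D : Type u} [CommRing R] [CommRing L] [Algebra R L]
    [CommRing D] [Algebra L D] (P₁ P₂ : Extension.{u} R L) [FormallySmooth R P₁.Ring]
    [FormallySmooth R P₂.Ring] (h : Module.Projective D (D ⊗[L] P₁.Cotangent)) :
    Module.Projective D (D ⊗[L] P₂.Cotangent) := by
  let e₁ : P₁.Cotangent ≃ₗ[L] P₁.infinitesimal.Cotangent :=
    LinearEquiv.ofBijective _ (Cotangent.map_toInfinitesimal_bijective P₁)
  let e₂ : P₂.Cotangent ≃ₗ[L] P₂.infinitesimal.Cotangent :=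
    LinearEquiv.ofBijective _ (Cotangent.map_toInfinitesimal_bijective P₂)
  let d₂ : P₂.CotangentSpace ≃ₗ[L] P₂.infinitesimal.CotangentSpace :=
    LinearEquiv.ofBijective _ (CotangentSpace.map_toInfinitesimal_bijective P₂)
  let f := Extension.homInfinitesimal P₂ P₁
  let g := Extension.homInfinitesimal P₁ P₂
  let η := (g.comp f).sub (Hom.id P₂.infinitesimal)
  let i : P₂.Cotangent →ₗ[L] P₁.Cotangent × P₂.CotangentSpace :=
    ((e₁.symm.toLinearMap ∘ₗ Cotangent.map f).prod
      (d₂.symm.toLinearMap ∘ₗ P₂.infinitesimal.cotangentComplex)) ∘ₗ e₂.toLinearMap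
  let r : P₁.Cotangent × P₂.CotangentSpace →ₗ[L] P₂.Cotangent :=
    e₂.symm.toLinearMap ∘ₗ
      ((Cotangent.map g ∘ₗ e₁.toLinearMap).coprod (-(η ∘ₗ d₂.toLinearMap)))
  have hri : r ∘ₗ i = LinearMap.id := by
    refine LinearMap.ext fun x => e₂.injective ?_
    have h1 := LinearMap.congr_fun (Cotangent.map_sub_map (g.comp f) (Hom.id P₂.infinitesimal)) (e₂ x)
    rw [LinearMap.sub_apply, Cotangent.map_id, LinearMap.id_apply, Cotangent.map_comp] at h1
    simp only [LinearMap.comp_apply, LinearMap.coe_restrictScalars] at h1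
    show e₂ (e₂.symm (Cotangent.map g (e₁ (e₁.symm (Cotangent.map f (e₂ x)))) +
      -η (d₂ (d₂.symm (P₂.infinitesimal.cotangentComplex (e₂ x)))))) = e₂ x
    rw [LinearEquiv.apply_symm_apply, LinearEquiv.apply_symm_apply, LinearEquiv.apply_symm_apply, ← h1]
    abel
  have : Module.Projective P₂.Ring Ω[P₂.Ring⁄R] := inferInstance
  have : Module.Projective L P₂.CotangentSpace :=
    inferInstanceAs (Module.Projective L (L ⊗[P₂.Ring] Ω[P₂.Ring⁄R]))
  have : Module.Projective D (D ⊗[L] P₁.Cotangent × D ⊗[L] P₂.CotangentSpace) := inferInstance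
  refine Module.Projective.of_split
    ((TensorProduct.prodRight L D D P₁.Cotangent P₂.CotangentSpace).toLinearMap ∘ₗ i.baseChange D)
    (r.baseChange D ∘ₗ (TensorProduct.prodRight L D D P₁.Cotangent P₂.CotangentSpace).symm.toLinearMap) ?_
  refine LinearMap.ext fun x => ?_
  simp only [LinearMap.comp_apply, LinearEquiv.coe_coe, LinearEquiv.symm_apply_apply,
    LinearMap.id_apply]
  rw [← LinearMap.comp_apply, ← LinearMap.baseChange_comp, hri, LinearMap.baseChange_id]
  rfl

section Loc

variable {k A B L : Type u} [Field k] [CommRing A] [Algebra k A] [CommRing B] [Algebra k B]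
  [CommRing L] [Algebra (A ⊗[k] B) L] [Algebra A L] [IsScalarTower A (A ⊗[k] B) L]
  (P : Extension.{u} k B) (M : Submonoid (A ⊗[k] B)) [IsLocalization M L]

/-- The surjection of the base change of an extension. -/
abbrev bcMap : A ⊗[k] P.Ring →ₐ[A] A ⊗[k] B :=
  Algebra.TensorProduct.map (AlgHom.id A A) (IsScalarTower.toAlgHom k P.Ring B)

theorem bcMap_surjective : Function.Surjective (bcMap (A := A) P) :=
  LinearMap.lTensor_surjective A (g := (IsScalarTower.toAlgHom k P.Ring B).toLinearMap)
    P.algebraMap_surjective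

/-- The localised base change of the ring of an extension. -/
abbrev LocRing : Type u := Localization (M.comap (bcMap (A := A) P))

/-- Its map to the localisation. -/
abbrev locMap : LocRing P M →ₐ[A] L :=
  IsLocalization.liftAlgHom (M := M.comap (bcMap (A := A) P))
    (f := (IsScalarTower.toAlgHom A (A ⊗[k] B) L).comp (bcMap (A := A) P))
    fun t => IsLocalization.map_units L (⟨bcMap (A := A) P t, t.2⟩ : M)

theorem locMap_algebraMap (x : A ⊗[k] P.Ring) :
    locMap P M (L := L) (algebraMap (A ⊗[k] P.Ring) (LocRing P M) x) =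
      algebraMap (A ⊗[k] B) L (bcMap (A := A) P x) :=
  IsLocalization.lift_eq (M := M.comap (bcMap (A := A) P)) _ x

theorem locMap_surjective : Function.Surjective (locMap P M (L := L)) := fun y => by
  obtain ⟨⟨s, m⟩, h⟩ := IsLocalization.surj M y
  obtain ⟨x, rfl⟩ := bcMap_surjective (A := A) P s
  obtain ⟨t, ht⟩ := bcMap_surjective (A := A) P m
  have ht' : t ∈ M.comap (bcMap (A := A) P) := Submonoid.mem_comap.2 (ht ▸ m.2)
  refine ⟨IsLocalization.mk' (LocRing P M) x (⟨t, ht'⟩ : M.comap (bcMap (A := A) P)),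
    (IsLocalization.map_units L m).mul_right_cancel ?_⟩
  rw [h, ← ht, ← locMap_algebraMap (L := L) P M, ← locMap_algebraMap (L := L) P M, ← map_mul, IsLocalization.mk'_spec]

/-- The base change of an extension, localised. -/
abbrev locExt : Extension.{u} A L := Extension.ofSurjective (locMap P M) (locMap_surjective P M)

theorem formallySmooth_locExt [FormallySmooth k P.Ring] : FormallySmooth A (locExt P M (L := L)).Ring :=
  inferInstanceAs (FormallySmooth A (LocRing P M))

/-- `P.Ring → A ⊗ P.Ring → ` localisation. -/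
abbrev locIncl : P.Ring →+* LocRing P M :=
  (algebraMap (A ⊗[k] P.Ring) (LocRing P M)).comp
    (Algebra.TensorProduct.includeRight : P.Ring →ₐ[k] A ⊗[k] P.Ring).toRingHom

theorem flat_locIncl : (locIncl (A := A) P M).Flat := by
  have h1 : (Algebra.TensorProduct.includeLeftRingHom : P.Ring →+* P.Ring ⊗[k] A).Flat := by
    rw [show (Algebra.TensorProduct.includeLeftRingHom : P.Ring →+* P.Ring ⊗[k] A) =
      algebraMap P.Ring (P.Ring ⊗[k] A) from rfl, RingHom.flat_algebraMap_iff]
    infer_instance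
  have h2 : (Algebra.TensorProduct.comm k P.Ring A).toRingEquiv.toRingHom.Flat :=
    RingHom.Flat.of_bijective (Algebra.TensorProduct.comm k P.Ring A).bijective
  have h3 : (algebraMap (A ⊗[k] P.Ring) (LocRing P M)).Flat :=
    RingHom.flat_algebraMap_iff.2 (IsLocalization.flat _ (M.comap (bcMap (A := A) P)))
  exact (h1.comp h2).comp h3

theorem ker_locMap :
    RingHom.ker (locMap P M (L := L)) = Ideal.map (locIncl P M) P.ker := by
  have hk : RingHom.ker (bcMap (A := A) P) =
      P.ker.map (Algebra.TensorProduct.includeRight : P.Ring →ₐ[k] A ⊗[k] P.Ring).toRingHom :=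
    Algebra.TensorProduct.lTensor_ker (A := A) (IsScalarTower.toAlgHom k P.Ring B) P.algebraMap_surjective
  rw [← Ideal.map_map, ← hk]
  refine le_antisymm (fun z hz => ?_) (Ideal.map_le_iff_le_comap.2 fun x hx => ?_)
  · obtain ⟨x, t, rfl⟩ := IsLocalization.exists_mk'_eq (M.comap (bcMap (A := A) P)) z
    have hx0 : algebraMap (A ⊗[k] B) L (bcMap (A := A) P x) = 0 := by
      rw [← locMap_algebraMap P M (L := L), ← IsLocalization.mk'_spec (LocRing P M) x t, map_mul,
        RingHom.mem_ker.1 hz, zero_mul]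
    obtain ⟨⟨m, hm⟩, hmx⟩ := (IsLocalization.map_eq_zero_iff M L _).1 hx0
    obtain ⟨m', rfl⟩ := bcMap_surjective (A := A) P m
    rw [← map_mul] at hmx
    rw [IsLocalization.mk'_mem_map_algebraMap_iff]
    exact ⟨m', hm, RingHom.mem_ker.2 hmx⟩
  · rw [Ideal.mem_comap, RingHom.mem_ker, locMap_algebraMap, RingHom.mem_ker.1 hx, map_zero]

theorem nonempty_tensor_cotangent_equiv [Algebra k L] [IsScalarTower k A L] [Algebra B L] [IsScalarTower k B L]
    (hB : ∀ b : B, algebraMap B L b = algebraMap (A ⊗[k] B) L (1 ⊗ₜ b)) :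
    Nonempty (L ⊗[B] P.Cotangent ≃ₗ[L] (locExt P M (L := L)).Cotangent) := by
  let Q : Extension.{u} k L :=
    Extension.ofSurjective ((locMap P M (L := L)).restrictScalars k) (locMap_surjective P M)
  let f : P.Hom Q :=
    { toRingHom := locIncl P M
      toRingHom_algebraMap := fun x => by
        show algebraMap (A ⊗[k] P.Ring) (LocRing P M) ((1 : A) ⊗ₜ algebraMap k P.Ring x) =
          algebraMap k (LocRing P M) x
        rw [IsScalarTower.algebraMap_apply k (A ⊗[k] P.Ring) (LocRing P M),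
          Algebra.TensorProduct.algebraMap_apply]
        congr 1
        rw [Algebra.algebraMap_eq_smul_one, Algebra.algebraMap_eq_smul_one, TensorProduct.smul_tmul]
      algebraMap_toRingHom := fun x => by
        show locMap P M (algebraMap (A ⊗[k] P.Ring) (LocRing P M) ((1 : A) ⊗ₜ x)) = _
        rw [locMap_algebraMap, hB]
        simp }
  letI alg : Algebra P.Ring Q.Ring := (locIncl P M).toAlgebra
  have halg : algebraMap P.Ring Q.Ring = f.toRingHom := rfl
  haveI hflat : Module.Flat P.Ring Q.Ring := flat_locIncl P M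
  have hker : Q.ker = Ideal.map (locIncl P M) P.ker := ker_locMap P M
  suffices h : Function.Bijective ((f.mapKer halg).liftBaseChange Q.Ring) from
    ⟨Extension.tensorCotangent f halg h⟩
  refine ⟨?_, ?_⟩
  · have hc : Q.ker.subtype.restrictScalars Q.Ring ∘ₗ
        (f.mapKer halg).liftBaseChange Q.Ring =
        (TensorProduct.AlgebraTensorModule.rid P.Ring Q.Ring
          Q.Ring).toLinearMap ∘ₗ P.ker.subtype.baseChange Q.Ring := by
      refine TensorProduct.AlgebraTensorModule.curry_injective ?_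
      refine LinearMap.ext fun q => LinearMap.ext fun x => ?_
      simp [Algebra.smul_def, halg, mul_comm]
    have hinj : Function.Injective ((TensorProduct.AlgebraTensorModule.rid P.Ring Q.Ring
        Q.Ring).toLinearMap ∘ₗ P.ker.subtype.baseChange Q.Ring) :=
      (TensorProduct.AlgebraTensorModule.rid P.Ring Q.Ring Q.Ring).injective.comp
        (Module.Flat.lTensor_preserves_injective_linearMap (M := Q.Ring) P.ker.subtype Subtype.val_injective)
    rw [← hc] at hinj
    exact Function.Injective.of_comp (f := Subtype.val) hinj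
  · rintro ⟨z, hz⟩
    rw [hker] at hz
    suffices h : ∀ z ∈ Ideal.map (locIncl P M) P.ker, ∃ w : Q.Ring ⊗[P.Ring] P.ker,
        (((f.mapKer halg).liftBaseChange Q.Ring w : Q.ker) :
          Q.Ring) = z by
      obtain ⟨w, hw⟩ := h z hz
      exact ⟨w, Subtype.ext hw⟩
    intro z hz
    induction hz using Submodule.span_induction with
    | mem z hz =>
      obtain ⟨x, hx, rfl⟩ := hz
      refine ⟨1 ⊗ₜ (⟨x, hx⟩ : P.ker), ?_⟩
      rw [LinearMap.liftBaseChange_tmul, one_smul]
      rfl
    | zero => exact ⟨0, by simp; rfl⟩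
    | add a b _ _ ha hb =>
      obtain ⟨v, hv⟩ := ha
      obtain ⟨w, hw⟩ := hb
      exact ⟨v + w, by rw [map_add]; simp [hv, hw]; rfl⟩
    | smul c a _ ha =>
      obtain ⟨v, hv⟩ := ha
      exact ⟨(show Q.Ring from c) • v, by rw [map_smul, Submodule.coe_smul, hv]; rfl⟩

end Loc

theorem projective_transfer {k A B₁ B₂ L D : Type u} [Field k] [CommRing A] [Algebra k A]
    [CommRing B₁] [Algebra k B₁] [CommRing B₂] [Algebra k B₂] [CommRing L] [CommRing D]
    (χ₁ : A ⊗[k] B₁ →+* L) (M₁ : Submonoid (A ⊗[k] B₁))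
    (h₁ : @IsLocalization (A ⊗[k] B₁) _ M₁ L _ χ₁.toAlgebra)
    (χ₂ : A ⊗[k] B₂ →+* L) (M₂ : Submonoid (A ⊗[k] B₂))
    (h₂ : @IsLocalization (A ⊗[k] B₂) _ M₂ L _ χ₂.toAlgebra)
    (hA : ∀ a : A, χ₁ (a ⊗ₜ 1) = χ₂ (a ⊗ₜ 1)) (δ : L →+* D)
    [Algebra B₁ D] (hD₁ : ∀ b : B₁, algebraMap B₁ D b = δ (χ₁ (1 ⊗ₜ b)))
    [Algebra B₂ D] (hD₂ : ∀ b : B₂, algebraMap B₂ D b = δ (χ₂ (1 ⊗ₜ b)))
    (P₁ : Extension.{u} k B₁) (P₂ : Extension.{u} k B₂)
    [FormallySmooth k P₁.Ring] [FormallySmooth k P₂.Ring]
    (h : Module.Projective D (D ⊗[B₁] P₁.Cotangent)) :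
    Module.Projective D (D ⊗[B₂] P₂.Cotangent) := by
  letI a₁ : Algebra (A ⊗[k] B₁) L := χ₁.toAlgebra
  letI a₂ : Algebra (A ⊗[k] B₂) L := χ₂.toAlgebra
  letI : Algebra A L := (χ₁.comp (algebraMap A (A ⊗[k] B₁))).toAlgebra
  haveI : IsScalarTower A (A ⊗[k] B₁) L := IsScalarTower.of_algebraMap_eq' rfl
  haveI : IsScalarTower A (A ⊗[k] B₂) L := IsScalarTower.of_algebraMap_eq fun a => hA a
  letI : Algebra k L := ((algebraMap A L).comp (algebraMap k A)).toAlgebra
  haveI : IsScalarTower k A L := IsScalarTower.of_algebraMap_eq' rfl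
  letI : Algebra B₁ L := (χ₁.comp (Algebra.TensorProduct.includeRight : B₁ →ₐ[k] A ⊗[k] B₁).toRingHom).toAlgebra
  letI : Algebra B₂ L := (χ₂.comp (Algebra.TensorProduct.includeRight : B₂ →ₐ[k] A ⊗[k] B₂).toRingHom).toAlgebra
  have hk : ∀ c : k, algebraMap k L c = χ₁ (algebraMap k A c ⊗ₜ 1) := fun c => rfl
  haveI : IsScalarTower k B₁ L := IsScalarTower.of_algebraMap_eq fun c => by
    rw [hk]
    show χ₁ _ = χ₁ ((1 : A) ⊗ₜ algebraMap k B₁ c)
    rw [Algebra.algebraMap_eq_smul_one, Algebra.algebraMap_eq_smul_one, TensorProduct.smul_tmul]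
  haveI : IsScalarTower k B₂ L := IsScalarTower.of_algebraMap_eq fun c => by
    rw [hk, hA]
    show χ₂ _ = χ₂ ((1 : A) ⊗ₜ algebraMap k B₂ c)
    rw [Algebra.algebraMap_eq_smul_one, Algebra.algebraMap_eq_smul_one, TensorProduct.smul_tmul]
  letI : Algebra L D := δ.toAlgebra
  haveI : IsScalarTower B₁ L D := IsScalarTower.of_algebraMap_eq hD₁
  haveI : IsScalarTower B₂ L D := IsScalarTower.of_algebraMap_eq hD₂
  haveI := formallySmooth_locExt (L := L) P₁ M₁
  haveI := formallySmooth_locExt (L := L) P₂ M₂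
  obtain ⟨e₁⟩ := nonempty_tensor_cotangent_equiv (L := L) P₁ M₁ fun _ => rfl
  obtain ⟨e₂⟩ := nonempty_tensor_cotangent_equiv (L := L) P₂ M₂ fun _ => rfl
  have g₁ : Module.Projective D (D ⊗[L] (locExt P₁ M₁ (L := L)).Cotangent) :=
    Module.Projective.of_equiv ((TensorProduct.AlgebraTensorModule.cancelBaseChange B₁ L D D
      P₁.Cotangent).symm ≪≫ₗ TensorProduct.AlgebraTensorModule.congr (LinearEquiv.refl D D) e₁)
  have g₂ := projective_baseChange_cotangent (D := D) (locExt P₁ M₁ (L := L)) (locExt P₂ M₂ (L := L)) g₁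
  exact Module.Projective.of_equiv ((TensorProduct.AlgebraTensorModule.congr (LinearEquiv.refl D D) e₂).symm ≪≫ₗ
    TensorProduct.AlgebraTensorModule.cancelBaseChange B₂ L D D P₂.Cotangent)

end Groth.Agent.CohDer1.ConormalRetract
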