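import Groth.Agent.DCat.KFlatSheaf
import Groth.Agent.ModStalk.Pullback
import Groth.Agent.ModStalk.Tensor
import Groth.Agent.CohDer1.FlatTwist
import Groth.Prelude.Def_KoszTw

/-!
# Maps of modules that are isomorphisms near a point
-/

set_option autoImplicit false
set_option backward.isDefEq.respectTransparency false
set_option linter.style.haveILetI false

universe u

open CategoryTheory CategoryTheory.Limits AlgebraicGeometry Opposite TopologicalSpace
open Groth.Agent.DCat Groth.Agent.ModStalk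

namespace Groth.Agent.CohDer1.StalkLocal

variable {P X : Scheme.{u}}

theorem isIso_stalk_twist (p : P ⟶ X) (K : P.Modules) {M N : X.Modules} (f : M ⟶ N) (x : P)
    (h : IsIso ((DerSch.stalkFunctor X (p.base x)).map f)) :
    IsIso ((DerSch.stalkFunctor P x).map ((Scheme.Modules.pullback p ⋙ DCoh.tensorRightMod K).map f)) := by
  let g := (Scheme.Modules.pullback p).map f
  haveI := h
  haveI hg : IsIso ((DerSch.stalkFunctor P x).map g) :=
    (NatIso.isIso_map_iff (pullbackStalkIso p x) f).2 (@Functor.map_isIso _ _ _ _ _ _ (ModuleCat.extendScalars (p.stalkMap x).hom) _ h)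
  show IsIso ((DerSch.stalkFunctor P x).map (((shT P).map g).app K))
  have e₀ := stalkTensor_nat₁ x g K
  haveI : IsIso ((DerSch.stalkFunctor P x).map (((shT P).map g).app K) ≫
      (stalkTensorIso x ((Scheme.Modules.pullback p).obj N) K).hom) := by
    rw [e₀]
    infer_instance
  exact IsIso.of_isIso_comp_right _ (stalkTensorIso x ((Scheme.Modules.pullback p).obj N) K).hom

theorem bijective_app_of_stalk {M N : X.Modules} (f : M ⟶ N) (U : X.Opens)
    (h : ∀ x ∈ U, IsIso ((DerSch.stalkFunctor X x).map f)) : Function.Bijective (f.app U) := by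
  let F : TopCat.Sheaf Ab.{u} X := ⟨M.presheaf, M.isSheaf⟩
  let G : TopCat.Sheaf Ab.{u} X := ⟨N.presheaf, N.isSheaf⟩
  let φ : F ⟶ G := ⟨f.mapPresheaf⟩
  haveI : ∀ x : U, IsIso ((TopCat.Presheaf.stalkFunctor Ab.{u} x.1).map φ.1) := fun x => by
    rw [ConcreteCategory.isIso_iff_bijective]
    haveI := h x.1 x.2
    exact ConcreteCategory.bijective_of_isIso ((DerSch.stalkFunctor X x.1).map f)
  haveI := TopCat.Presheaf.app_isIso_of_stalkFunctor_map_iso φ U
  exact ConcreteCategory.bijective_of_isIso (φ.1.app (op U))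

theorem isIso_stalk_of_bijective {M N : X.Modules} (f : M ⟶ N) {O : X.Opens} {x : X} (hx : x ∈ O)
    (h : ∀ U ≤ O, Function.Bijective (f.app U)) : IsIso ((DerSch.stalkFunctor X x).map f) := by
  rw [ConcreteCategory.isIso_iff_bijective]
  refine ⟨fun a b hab => ?_, fun b => ?_⟩
  · obtain ⟨U, hU, s, rfl⟩ := M.presheaf.exists_germ_eq (x := x) a
    obtain ⟨V, hV, t, rfl⟩ := M.presheaf.exists_germ_eq (x := x) b
    rw [DerSch.stalkFunctor_map_germ, DerSch.stalkFunctor_map_germ] at hab
    obtain ⟨W, hW, iU, iV, e⟩ := N.presheaf.germ_eq x hU hV _ _ hab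
    have hW' : x ∈ W ⊓ O := ⟨hW, hx⟩
    refine TopCat.Presheaf.germ_ext M.presheaf (W ⊓ O) hW' (homOfLE inf_le_left ≫ iU) (homOfLE inf_le_left ≫ iV) ?_
    apply (h (W ⊓ O) inf_le_right).1
    have hle : W ⊓ O ≤ W := inf_le_left
    have e1 := congr($(f.mapPresheaf.naturality (homOfLE hle ≫ iU).op) s)
    have e2 := congr($(f.mapPresheaf.naturality (homOfLE hle ≫ iV).op) t)
    refine e1.trans (Eq.trans ?_ e2.symm)
    show N.presheaf.map (homOfLE hle ≫ iU).op (f.app U s) = N.presheaf.map (homOfLE hle ≫ iV).op (f.app V t)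
    rw [op_comp, op_comp, Functor.map_comp, Functor.map_comp]
    exact congrArg (N.presheaf.map (homOfLE hle).op) e
  · obtain ⟨V, hV, t, rfl⟩ := N.presheaf.exists_germ_eq (x := x) b
    obtain ⟨s, hs⟩ := (h (V ⊓ O) inf_le_right).2 (N.presheaf.map (homOfLE inf_le_left).op t)
    refine ⟨M.presheaf.germ (V ⊓ O) x ⟨hV, hx⟩ s, ?_⟩
    rw [DerSch.stalkFunctor_map_germ, hs]
    exact N.presheaf.germ_res_apply (homOfLE inf_le_left) x ⟨hV, hx⟩ t

theorem isIso_stalk_push {Q : Scheme.{u}} (g : Q ⟶ X) {M N : Q.Modules} (f : M ⟶ N) {O : X.Opens} {x : X}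
    (hx : x ∈ O) (h : ∀ z ∈ g ⁻¹ᵁ O, IsIso ((DerSch.stalkFunctor Q z).map f)) :
    IsIso ((DerSch.stalkFunctor X x).map ((Scheme.Modules.pushforward g).map f)) :=
  isIso_stalk_of_bijective _ hx fun U hU =>
    bijective_app_of_stalk f (g ⁻¹ᵁ U) fun z hz => h z (g.preimage_mono hU hz)

end Groth.Agent.CohDer1.StalkLocal
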