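import Groth.Agent.CohDer1.FKFlat
import Groth.Agent.CohDer1.StalkLocal
import Groth.Agent.Coherent.QcohOps

/-!
# Transformations of functors on quasi-coherent modules that are isomorphisms on a cover
-/

set_option autoImplicit false
set_option backward.isDefEq.respectTransparency false
set_option linter.style.haveILetI false

universe u v' u'

open CategoryTheory CategoryTheory.Limits AlgebraicGeometry TopologicalSpace Opposite
open Groth.Agent.Coherent

namespace Groth.Agent.CohDer1.CoverIso

variable {X : Scheme.{u}}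

theorem isIso_stalk_unit (U : X.Opens) (M : X.Modules) {x : X} (hx : x ∈ U) :
    IsIso ((DerSch.stalkFunctor X x).map ((Scheme.Modules.restrictAdjunction U.ι).unit.app M)) :=
  StalkLocal.isIso_stalk_of_bijective _ hx fun W hW => by
    rw [Scheme.Modules.restrictAdjunction_unit_app_app]
    refine resM_bijective_of_eq M _ ?_
    rw [Scheme.Hom.image_preimage_eq_opensRange_inf, Scheme.Opens.opensRange_ι, inf_eq_right.2 hW]

theorem isQCoh_piece (U : X.Opens) [IsAffineHom U.ι] (M : X.Modules) [Coh.IsQCoh M] :
    Coh.IsQCoh ((Scheme.Modules.pushforward U.ι).obj ((Scheme.Modules.restrictFunctor U.ι).obj M)) := by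
  haveI : Coh.IsQCoh ((Scheme.Modules.restrictFunctor U.ι).obj M) :=
    Scheme.Modules.isQuasicoherent_restrictFunctor U.ι M
  exact isQCoh_push U.ι ((Scheme.Modules.restrictFunctor U.ι).obj M)

variable {C : Type u'} [Category.{v'} C] [Abelian C] {F G : QCohCat.QCoh X ⥤ C} [F.Additive] [G.Additive]
  [PreservesFiniteLimits F] [PreservesFiniteLimits G]

/-- Left exact functors agree as soon as they agree on direct images from a finite affine cover. -/
theorem isIso_app_of_cover (τ : F ⟶ G) {n : ℕ} (U : Fin n → X.Opens) (hcov : ∀ x : X, ∃ i, x ∈ U i)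
    [∀ i, IsAffineHom (U i).ι]
    (hbase : ∀ i (N : (U i).toScheme.Modules) (_ : Coh.IsQCoh N)
      (hN' : QCohCat.isQCoh X ((Scheme.Modules.pushforward (U i).ι).obj N)), IsIso (τ.app ⟨_, hN'⟩))
    (M : QCohCat.QCoh X) : IsIso (τ.app M) := by
  letI : Abelian (QCohCat.QCoh X) := inferInstance
  haveI : HasFiniteBiproducts (QCohCat.QCoh X) := Abelian.hasFiniteBiproducts
  let P : QCohCat.QCoh X → Fin n → QCohCat.QCoh X := fun M i =>
    ⟨(Scheme.Modules.pushforward (U i).ι).obj ((Scheme.Modules.restrictFunctor (U i).ι).obj M.obj),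
      haveI : Coh.IsQCoh M.obj := M.property
      isQCoh_piece (U i) M.obj⟩
  have hP : ∀ (M : QCohCat.QCoh X) (i : Fin n), IsIso (τ.app (P M i)) := fun M i => hbase i _
    (haveI : Coh.IsQCoh M.obj := M.property
     Scheme.Modules.isQuasicoherent_restrictFunctor (U i).ι M.obj) _
  let J : QCohCat.QCoh X → QCohCat.QCoh X := fun M => ⨁ P M
  have hJ : ∀ M, IsIso (τ.app (J M)) := fun M => by
    haveI := hP M
    refine ⟨∑ i, G.map (biproduct.π (P M) i) ≫ inv (τ.app (P M i)) ≫ F.map (biproduct.ι (P M) i), ?_, ?_⟩
    · rw [Preadditive.comp_sum, ← F.map_id, ← biproduct.total, F.map_sum]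
      refine Finset.sum_congr rfl fun i _ => ?_
      rw [← τ.naturality_assoc, IsIso.hom_inv_id_assoc, F.map_comp]
    · rw [Preadditive.sum_comp, ← G.map_id, ← biproduct.total, G.map_sum]
      refine Finset.sum_congr rfl fun i _ => ?_
      rw [Category.assoc, Category.assoc, τ.naturality, IsIso.inv_hom_id_assoc, G.map_comp]
  let g : ∀ M, M ⟶ J M := fun M => biproduct.lift fun i =>
    (ObjectProperty.homMk ((Scheme.Modules.restrictAdjunction (U i).ι).unit.app M.obj) : M ⟶ P M i)
  have hg : ∀ M, Mono (g M) := fun M => by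
    haveI : Mono ((ObjectProperty.ι (QCohCat.isQCoh X)).map (g M)) := by
      refine Preadditive.mono_of_isZero_kernel _ (ModStalk.isZero_of_stalks fun x => ?_)
      obtain ⟨i, hi⟩ := hcov x
      haveI := isIso_stalk_unit (U i) M.obj hi
      let S := DerSch.stalkFunctor X x
      let k := kernel.ι ((ObjectProperty.ι (QCohCat.isQCoh X)).map (g M))
      have h1 : (ObjectProperty.ι (QCohCat.isQCoh X)).map (g M) ≫
          (ObjectProperty.ι (QCohCat.isQCoh X)).map (biproduct.π (P M) i) =
          (Scheme.Modules.restrictAdjunction (U i).ι).unit.app M.obj := by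
        rw [← Functor.map_comp, biproduct.lift_π]
        rfl
      have h2 : S.map k ≫ S.map ((Scheme.Modules.restrictAdjunction (U i).ι).unit.app M.obj) = 0 := by
        rw [← S.map_comp, ← h1, ← Category.assoc, kernel.condition, zero_comp, S.map_zero]
      have h3 : S.map k = 0 := by
        rw [← cancel_mono (S.map ((Scheme.Modules.restrictAdjunction (U i).ι).unit.app M.obj)), h2, zero_comp]
      exact IsZero.of_mono_eq_zero _ h3
    exact (ObjectProperty.ι (QCohCat.isQCoh X)).mono_of_mono_map inferInstance
  have hmono : ∀ M, Mono (τ.app M) := fun M => by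
    haveI := hg M
    haveI := hJ M
    haveI : Mono (τ.app M ≫ G.map (g M)) := by
      rw [← τ.naturality]
      infer_instance
    exact mono_of_mono (τ.app M) (G.map (g M))
  haveI := hg M
  haveI := hJ M
  haveI := hmono (cokernel (g M))
  have hl := Abelian.monoIsKernelOfCokernel (f := g M) _ (cokernelIsCokernel (g M))
  have hw : g M ≫ cokernel.π (g M) = 0 := cokernel.condition _
  let hF := isLimitForkMapOfIsLimit' F hw hl
  obtain ⟨d, hd⟩ := KernelFork.IsLimit.lift' hF (G.map (g M) ≫ inv (τ.app (J M))) (by
    rw [← cancel_mono (τ.app (cokernel (g M))), Category.assoc, Category.assoc, τ.naturality,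
      IsIso.inv_hom_id_assoc, ← G.map_comp, hw, G.map_zero, zero_comp])
  simp only [Fork.ι_ofι] at hd
  refine ⟨d, ?_, ?_⟩
  · rw [← cancel_mono (F.map (g M)), Category.assoc, hd, Category.id_comp, ← τ.naturality_assoc,
      IsIso.hom_inv_id, Category.comp_id]
  · rw [← cancel_mono (G.map (g M)), Category.assoc, ← τ.naturality, reassoc_of% hd, Category.id_comp,
      IsIso.inv_hom_id, Category.comp_id]

end Groth.Agent.CohDer1.CoverIso
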