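import Mathlib.AlgebraicGeometry.Morphisms.UniversallyOpen
import Mathlib.AlgebraicGeometry.Morphisms.ClosedImmersion
import Mathlib.AlgebraicGeometry.ResidueField
import Mathlib.CategoryTheory.Monoidal.Cartesian.Grp
import Mathlib.CategoryTheory.Monoidal.Cartesian.Over
import Mathlib.CategoryTheory.Limits.Constructions.Over.Connected
import Mathlib.RingTheory.Artinian.Ring

/-!
# Products of dense open subsets of a group scheme over a local artinian ring
-/

set_option autoImplicit false
set_option backward.isDefEq.respectTransparency.types false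

universe u

open CategoryTheory Limits MonoidalCategory CartesianMonoidalCategory MonObj GrpObj AlgebraicGeometry

namespace Groth.Agent.CohDer1.DenseMulArtin

theorem universallyOpen_of_surjective_closedImmersion {X Y : Scheme.{u}} (i : X ⟶ Y) [IsClosedImmersion i] [Surjective i] : UniversallyOpen i := by
  constructor
  intro X' Y' i₁ i₂ f' H
  haveI : IsClosedImmersion f' := MorphismProperty.of_isPullback H.flip inferInstance
  haveI : Surjective f' := MorphismProperty.of_isPullback H.flip ‹Surjective i›
  exact (f'.isClosedEmbedding.isEmbedding.toHomeomorphOfSurjective f'.surjective).isOpenMap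

theorem universallyOpen_of_artinian {A : Type u} [CommRing A] [IsArtinianRing A] [IsLocalRing A]
    {T : Scheme.{u}} (f : T ⟶ Spec (CommRingCat.of A)) : UniversallyOpen f := by
  let i := Spec.map (CommRingCat.ofHom (IsLocalRing.residue A))
  haveI : IsClosedImmersion i := IsClosedImmersion.spec_of_surjective _ IsLocalRing.residue_surjective
  haveI : Surjective i := by
    constructor
    intro x
    haveI : Subsingleton ↥(Spec (CommRingCat.of A)) := inferInstanceAs (Subsingleton (PrimeSpectrum A))
    exact ⟨IsLocalRing.closedPoint _, Subsingleton.elim _ _⟩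
  haveI := universallyOpen_of_surjective_closedImmersion i
  haveI : Surjective (pullback.fst f i) := MorphismProperty.pullback_fst f i ‹_›
  haveI hc : UniversallyOpen (pullback.fst f i ≫ f) := by
    rw [pullback.condition]
    infer_instance
  constructor
  intro X' Y' i₁ i₂ f' H
  have := hc.out _ _ _ ((IsPullback.of_hasPullback i₁ (pullback.fst f i)).paste_horiz H)
  exact IsOpenMap.of_comp (Scheme.Hom.continuous _)
    (MorphismProperty.pullback_fst (P := @Surjective) _ _ ‹Surjective (pullback.fst f i)›).1 this

variable {A : Type u} [CommRing A] [IsArtinianRing A] [IsLocalRing A] {G : Over (Spec (CommRingCat.of A))}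

/-- `U × V` as a subset of `G × G`. -/
def prodSet (U V : Set G.left) : Set ↥(G ⊗ G).left :=
  (fst G G).left ⁻¹' U ∩ (snd G G).left ⁻¹' V

theorem isOpenMap_fst_left (G T : Over (Spec (CommRingCat.of A))) : IsOpenMap (fst G T).left.base := by
  haveI : UniversallyOpen (fst G T).left :=
    MorphismProperty.pullback_fst (P := @UniversallyOpen) (f := G.hom) (g := T.hom)
      (universallyOpen_of_artinian T.hom)
  exact (fst G T).left.isOpenMap

variable [GrpObj G]

theorem isOpenMap_mul : IsOpenMap (μ[G]).left.base := by
  let e : G ⊗ G ≅ G ⊗ G :=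
    { hom := lift (fst G G * snd G G) (snd G G)
      inv := lift (fst G G * (snd G G)⁻¹) (snd G G)
      hom_inv_id := by
        apply CartesianMonoidalCategory.hom_ext
        · simp [MonObj.comp_mul, GrpObj.comp_inv]
        · simp
      inv_hom_id := by
        apply CartesianMonoidalCategory.hom_ext
        · simp [MonObj.comp_mul, GrpObj.comp_inv]
        · simp }
  have h : μ[G] = e.hom ≫ fst G G := by
    rw [lift_fst, Hom.mul_def, lift_fst_snd, Category.id_comp]
  rw [h]
  exact (isOpenMap_fst_left G G).comp ((Over.forget _).mapIso e).hom.homeomorph.isOpenMap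

variable (z : G.left)

/-- The residue field point of `z`. -/
noncomputable abbrev ptObj : Over (Spec (CommRingCat.of A)) := Over.mk (G.left.fromSpecResidueField z ≫ G.hom)

/-- The residue field point of `z`. -/
noncomputable abbrev ptHom : ptObj z ⟶ G := Over.homMk (G.left.fromSpecResidueField z)

/-- `a ↦ a⁻¹ z` -/
noncomputable def sigma : G ⊗ ptObj z ≅ G ⊗ ptObj z where
  hom := lift ((fst G (ptObj z))⁻¹ * (snd G (ptObj z) ≫ ptHom z)) (snd G (ptObj z))
  inv := lift ((snd G (ptObj z) ≫ ptHom z) * (fst G (ptObj z))⁻¹) (snd G (ptObj z))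
  hom_inv_id := by
    apply CartesianMonoidalCategory.hom_ext
    · simp [MonObj.comp_mul, GrpObj.comp_inv]
    · simp
  inv_hom_id := by
    apply CartesianMonoidalCategory.hom_ext
    · simp [MonObj.comp_mul, GrpObj.comp_inv]
    · simp

theorem mem_mul_of_mem {U V : Set G.left} (r : ↥(G ⊗ ptObj z).left) (hU : (fst G (ptObj z)).left.base r ∈ U)
    (hV : (fst G (ptObj z)).left.base ((sigma z).hom.left.base r) ∈ V) :
    z ∈ μ[G].left.base '' prodSet U V := by
  let w : G ⊗ ptObj z ⟶ G ⊗ G := lift (fst G (ptObj z)) ((sigma z).hom ≫ fst G (ptObj z))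
  refine ⟨w.left.base r, ⟨?_, ?_⟩, ?_⟩
  · change (w ≫ fst G G).left.base r ∈ U
    rw [lift_fst]
    exact hU
  · change (w ≫ snd G G).left.base r ∈ V
    rw [lift_snd]
    exact hV
  · change (w ≫ μ[G]).left.base r = z
    have hσ : (sigma z).hom ≫ fst G (ptObj z) = (fst G (ptObj z))⁻¹ * (snd G (ptObj z) ≫ ptHom z) :=
      lift_fst _ _
    rw [← Hom.mul_def, hσ, mul_inv_cancel_left]
    exact (G.left.range_fromSpecResidueField z).le ⟨_, rfl⟩

theorem mem_mul_of_dense {U V : Set G.left} (hU : IsOpen U) (hUd : Dense U) (hVd : Dense V) :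
    z ∈ μ[G].left.base '' prodSet U V := by
  let p := (fst G (ptObj z)).left
  have hd : ∀ W : Set G.left, Dense W → Dense (p.base ⁻¹' W) := fun W hW => by
    rw [dense_iff_closure_eq, ← (isOpenMap_fst_left G _).preimage_closure_eq_closure_preimage p.continuous,
      hW.closure_eq, Set.preimage_univ]
  let e := (Over.forget _).mapIso (sigma z)
  obtain ⟨o⟩ : Nonempty ↥(Spec (G.left.residueField z)) :=
    inferInstanceAs (Nonempty (PrimeSpectrum (G.left.residueField z)))
  obtain ⟨x, -, hx⟩ := (hd _ hUd).inter_open_nonempty _ isOpen_univ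
    ⟨(lift (ptHom z) (𝟙 (ptObj z))).left.base o, trivial⟩
  obtain ⟨r, hr1, hr2⟩ := ((hd _ hVd).preimage e.hom.homeomorph.isOpenMap).inter_open_nonempty _
    (hU.preimage p.continuous) ⟨x, hx⟩
  exact mem_mul_of_mem z r hr1 hr2

end Groth.Agent.CohDer1.DenseMulArtin
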