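import Mathlib.NumberTheory.RamificationInertia.Basic
import Mathlib.NumberTheory.RamificationInertia.Valuation
import Mathlib.FieldTheory.SeparableClosure
import Mathlib.FieldTheory.PurelyInseparable.Basic
import Mathlib.RingTheory.Polynomial.Eisenstein.Basic
import Mathlib.RingTheory.Polynomial.GaussLemma
import Mathlib.RingTheory.DedekindDomain.IntegralClosure
import Mathlib.GroupTheory.Archimedean
import Mathlib.RingTheory.AdjoinRoot

/-!
# Index of a diagonal hypersurface over a discrete valuation field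
-/

set_option autoImplicit false
set_option linter.deprecated false

universe u

open Polynomial IsDedekindDomain WithZero

namespace Groth.Agent.CohDer1.DiagIndex

/-- The gcd of the `d / δ`. -/
abbrev idx (d N : ℕ) : ℕ := ((Finset.Icc 1 N).filter (fun δ => δ ∣ d)).gcd (fun δ => d / δ)

lemma idx_dvd_of_dvd_mul {d N : ℕ} (s M : ℕ) (hs : 1 ≤ s) (hsN : s ≤ N) (h : d ∣ s * M) (hd : 1 ≤ d) :
    idx d N ∣ M := by
  have hg : 0 < Nat.gcd d s := Nat.gcd_pos_of_pos_left _ hd
  have hmem : Nat.gcd d s ∈ (Finset.Icc 1 N).filter (fun δ => δ ∣ d) :=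
    Finset.mem_filter.2 ⟨Finset.mem_Icc.2 ⟨hg, (Nat.gcd_le_right _ hs).trans hsN⟩, Nat.gcd_dvd_left d s⟩
  refine (Finset.gcd_dvd hmem).trans ((Nat.coprime_div_gcd_div_gcd hg).dvd_of_dvd_mul_left ?_)
  have hgd := Nat.gcd_dvd_left d s
  have hgs := Nat.gcd_dvd_right d s
  apply Nat.dvd_of_mul_dvd_mul_left hg
  rwa [← mul_assoc, Nat.mul_div_cancel' hgd, Nat.mul_div_cancel' hgs]

lemma gcd_mem_of_forall (H : AddSubgroup ℤ) (s : Finset ℕ) (f : ℕ → ℕ) (h : ∀ i ∈ s, (f i : ℤ) ∈ H) :
    ((s.gcd f : ℕ) : ℤ) ∈ H := by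
  obtain ⟨g, rfl⟩ := Int.subgroup_cyclic H
  simp only [← AddSubgroup.zmultiples_eq_closure, Int.mem_zmultiples_iff, Int.dvd_natCast] at h ⊢
  exact Finset.dvd_gcd h

variable {R : Type u} [CommRing R] [IsDomain R] [IsDiscreteValuationRing R] (K : Type u) [Field K] [Algebra R K]
  [IsFractionRing R K]

lemma exists_ext (ϖ : R) (hϖ : Irreducible ϖ) (d N : ℕ) (hd : 1 ≤ d) (δ : ℕ)
    (hδ : δ ∈ (Finset.Icc 1 N).filter (fun δ => δ ∣ d)) :
    ∃ (L : Type u) (_ : Field L) (_ : Algebra K L),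
        FiniteDimensional K L ∧ ((d / δ : ℕ) : ℤ) = (Module.finrank K L : ℤ) ∧
        ∃ x : Fin (N + 1) → L, x ≠ 0 ∧
          x 0 ^ d = ∑ i : Fin N, algebraMap K L (algebraMap R K (ϖ ^ ((i : ℕ) + 1))) * x i.succ ^ d := by
  simp only [Finset.mem_filter, Finset.mem_Icc] at hδ
  obtain ⟨⟨hδ1, hδN⟩, hδd⟩ := hδ
  obtain ⟨e, rfl⟩ := hδd
  rw [Nat.mul_div_cancel_left e hδ1]
  have he : 0 < e := Nat.pos_of_mul_pos_left hd
  have hmon : (X ^ e - C ϖ).Monic := monic_X_pow_sub_C ϖ he.ne'
  have hdeg : (X ^ e - C ϖ).natDegree = e := natDegree_X_pow_sub_C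
  have hprime : (Ideal.span {ϖ}).IsPrime := (Ideal.span_singleton_prime hϖ.ne_zero).2 hϖ.prime
  have heis : (X ^ e - C ϖ).IsEisensteinAt (Ideal.span {ϖ}) := by
    refine ⟨?_, fun {n} hn => ?_, ?_⟩
    · rw [hmon.leadingCoeff]
      exact fun h => hprime.ne_top ((Ideal.eq_top_iff_one _).2 h)
    · rw [hdeg] at hn
      rw [coeff_sub, coeff_X_pow, if_neg hn.ne, coeff_C, zero_sub, neg_mem_iff]
      split_ifs
      exacts [Ideal.mem_span_singleton_self _, zero_mem _]
    · rw [coeff_sub, coeff_X_pow, if_neg he.ne, coeff_C_zero, zero_sub, neg_mem_iff, Ideal.span_singleton_pow,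
        Ideal.mem_span_singleton, pow_two]
      exact fun h => hϖ.not_isUnit (isUnit_of_dvd_one ((mul_dvd_mul_iff_left hϖ.ne_zero).1 (by rwa [mul_one])))
  have hirr : Irreducible ((X ^ e - C ϖ).map (algebraMap R K)) :=
    (Monic.irreducible_iff_irreducible_map_fraction_map hmon).1
      (heis.irreducible hprime hmon.isPrimitive (by omega))
  have := Fact.mk hirr
  let f := (X ^ e - C ϖ).map (algebraMap R K)
  have hf0 : f ≠ 0 := hirr.ne_zero
  refine ⟨AdjoinRoot f, inferInstance, inferInstance, (AdjoinRoot.powerBasis hf0).finite, ?_, ?_⟩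
  · rw [(AdjoinRoot.powerBasis hf0).finrank, AdjoinRoot.powerBasis_dim, hmon.natDegree_map, hdeg]
  · have hroot : AdjoinRoot.root f ^ e = algebraMap K (AdjoinRoot f) (algebraMap R K ϖ) := by
      have := AdjoinRoot.eval₂_root f
      simp only [f, Polynomial.map_sub, Polynomial.map_pow, map_X, map_C, eval₂_sub, eval₂_pow, eval₂_X, eval₂_C,
        sub_eq_zero] at this
      exact this
    let j : Fin N := ⟨δ - 1, by omega⟩
    refine ⟨Fin.cons (AdjoinRoot.root f) (Pi.single j 1), fun h => ?_, ?_⟩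
    · simpa using congrFun h j.succ
    · simp only [Fin.cons_zero, Fin.cons_succ]
      rw [Finset.sum_eq_single j (fun b _ hb => by rw [Pi.single_eq_of_ne hb, zero_pow (by omega), mul_zero])
        (fun h => absurd (Finset.mem_univ j) h), Pi.single_eq_same, one_pow, mul_one, map_pow, map_pow, ← hroot,
        ← pow_mul, show ((j : ℕ) + 1) = δ by simp [j]; omega, mul_comm e δ]

omit [IsDiscreteValuationRing R] in
lemma exists_two_max {L : Type u} [Field L] (w : Valuation L ℤᵐ⁰) {n : ℕ} (f : Fin n → L) (h0 : ∑ i, f i = 0)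
    (hne : ∃ i, f i ≠ 0) : ∃ i j, i ≠ j ∧ w (f i) = w (f j) ∧ w (f i) ≠ 0 := by
  classical
  obtain ⟨i₀, hi₀⟩ := hne
  obtain ⟨j, -, hj⟩ := Finset.exists_max_image Finset.univ (fun i => w (f i)) ⟨i₀, Finset.mem_univ _⟩
  have hj0 : w (f j) ≠ 0 := fun h => by
    have := hj i₀ (Finset.mem_univ _)
    rw [h, le_zero_iff, map_eq_zero] at this
    exact hi₀ this
  by_contra hc
  push Not at hc
  have := w.map_sum_eq_of_lt (Finset.mem_univ j) (f := f) fun i hi => by
    simp only [Finset.mem_sdiff, Finset.mem_singleton] at hi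
    refine lt_of_le_of_ne (hj i (Finset.mem_univ _)) fun h => hj0 ?_
    rw [← h]
    exact hc i j hi.2 h
  rw [h0, map_zero] at this
  exact hj0 this.symm

theorem idx_dvd_finrank (ϖ : R) (hϖ : Irreducible ϖ) (d N : ℕ) (hd : 1 ≤ d)
    (Ls L : Type u) [Field Ls] [Field L] [Algebra K Ls] [Algebra Ls L] [Algebra K L] [IsScalarTower K Ls L]
    [FiniteDimensional K L] [Algebra.IsSeparable K Ls] [IsPurelyInseparable Ls L]
    (x : Fin (N + 1) → L) (hx : x ≠ 0)
    (heq : x 0 ^ d = ∑ i : Fin N, algebraMap K L (algebraMap R K (ϖ ^ ((i : ℕ) + 1))) * x i.succ ^ d) :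
    idx d N ∣ Module.finrank K L := by
  classical
  have : FiniteDimensional K Ls := FiniteDimensional.left K Ls L
  have : FiniteDimensional Ls L := FiniteDimensional.right K Ls L
  letI : Algebra R Ls := Algebra.compHom Ls (algebraMap R K)
  have : IsScalarTower R K Ls := IsScalarTower.of_algebraMap_eq fun _ => rfl
  let B := integralClosure R Ls
  have : Module.Finite R B := IsIntegralClosure.finite R K Ls B
  have : IsDedekindDomain B := IsIntegralClosure.isDedekindDomain R K Ls B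
  have : IsFractionRing B Ls := integralClosure.isFractionRing_of_finite_extension K Ls
  have hinjB : Function.Injective (algebraMap R B) := fun a b h =>
    IsFractionRing.injective R K ((algebraMap K Ls).injective (congrArg (algebraMap B Ls) h))
  have : Module.IsTorsionFree R B := (Module.isTorsionFree_iff_algebraMap_injective).2 hinjB
  obtain ⟨p, hp⟩ := ExpChar.exists Ls
  obtain ⟨m, hm⟩ := IsPurelyInseparable.finrank_eq_pow Ls L p
  have : ExpChar L p := expChar_of_injective_algebraMap (algebraMap Ls L).injective p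
  have hmem : ∀ y : L, y ^ p ^ m ∈ (algebraMap Ls L).range := fun y => by
    obtain ⟨n, z, hz⟩ := (isPurelyInseparable_iff_minpoly_eq_X_pow_sub_C Ls p).1 inferInstance y
    have hz' := minpoly.aeval Ls y
    rw [hz, map_sub, map_pow, aeval_X, aeval_C, sub_eq_zero] at hz'
    have hdvd := minpoly.degree_dvd (K := Ls) (Algebra.IsIntegral.isIntegral y)
    rw [hz, natDegree_X_pow_sub_C, hm] at hdvd
    obtain ⟨c, hc⟩ := hdvd
    rw [hc, pow_mul, hz']
    exact ⟨z ^ c, map_pow _ _ _⟩
  let e : Ls ≃+* (algebraMap Ls L).range :=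
    RingEquiv.ofBijective (algebraMap Ls L).rangeRestrict
      ⟨fun a b h => (algebraMap Ls L).injective (congrArg Subtype.val h), (algebraMap Ls L).rangeRestrict_surjective⟩
  let φ : L →+* Ls := e.symm.toRingHom.comp ((iterateFrobenius L p m).codRestrict _ fun y => by
    rw [iterateFrobenius_def]; exact hmem y)
  have hφ : ∀ y, algebraMap Ls L (φ y) = y ^ p ^ m := fun y => by
    have := congrArg Subtype.val (e.apply_symm_apply ((iterateFrobenius L p m).codRestrict _ (fun y => by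
      rw [iterateFrobenius_def]; exact hmem y) y))
    exact this.trans (iterateFrobenius_def ..)
  let P : HeightOneSpectrum R :=
    ⟨IsLocalRing.maximalIdeal R, inferInstance, IsDiscreteValuationRing.not_a_field R⟩
  have hP0 : IsLocalRing.maximalIdeal R ≠ ⊥ := IsDiscreteValuationRing.not_a_field R
  rw [← Module.finrank_mul_finrank K Ls L, ← Ideal.sum_ramification_inertia B K Ls hP0, hm, Finset.sum_mul]
  refine Finset.dvd_sum fun Q hQ => ?_
  obtain ⟨hQp, hQlo⟩ := (IsDedekindDomain.mem_primesOverFinset_iff hP0 B).1 hQ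
  let Qw : HeightOneSpectrum B := ⟨Q, hQp, Ideal.ne_bot_of_liesOver_of_ne_bot hP0 Q⟩
  have : Qw.asIdeal.LiesOver P.asIdeal := hQlo
  set M := (IsLocalRing.maximalIdeal R).ramificationIdx' Q * p ^ m with hM
  suffices h : idx d N ∣ M by
    rw [mul_right_comm]
    exact h.mul_right _
  let w : Valuation L ℤᵐ⁰ := (Qw.valuation Ls).comap φ
  have hπ : w (algebraMap K L (algebraMap R K ϖ)) = exp (-(M : ℤ)) := by
    have h1 : φ (algebraMap K L (algebraMap R K ϖ)) = (algebraMap K Ls (algebraMap R K ϖ)) ^ p ^ m := by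
      apply (algebraMap Ls L).injective
      rw [hφ, map_pow, ← IsScalarTower.algebraMap_apply K Ls L]
    simp only [w, Valuation.comap_apply, h1, map_pow]
    rw [← HeightOneSpectrum.valuation_liesOver Ls P Qw, HeightOneSpectrum.valuation_of_algebraMap,
      HeightOneSpectrum.intValuation_singleton P hϖ.ne_zero hϖ.maximalIdeal_eq, ← pow_mul, ← exp_nsmul]
    simp [M, P, Qw]
  let f : Fin (N + 1) → L := Fin.cons (-x 0 ^ d)
    fun i => algebraMap K L (algebraMap R K (ϖ ^ ((i : ℕ) + 1))) * x i.succ ^ d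
  have hval : ∀ i : Fin (N + 1), w (f i) = exp (-(M : ℤ)) ^ (i : ℕ) * w (x i) ^ d := by
    intro i
    refine Fin.cases ?_ ?_ i
    · simp [f]
    · intro i
      simp [f, map_pow, hπ]
  obtain ⟨i, j, hij, hw, hw0⟩ := exists_two_max w f (by simp [f, Fin.sum_univ_succ, heq]) (by
    obtain ⟨i, hi⟩ := Function.ne_iff.1 hx
    refine ⟨i, fun h => hi ?_⟩
    have := congrArg w h
    rw [hval, map_zero, mul_eq_zero] at this
    have h2 := this.resolve_left (pow_ne_zero _ exp_ne_zero)
    exact (map_eq_zero w).1 (eq_zero_of_pow_eq_zero h2))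
  rw [hval, hval] at hw
  rw [hval, mul_ne_zero_iff] at hw0
  have hxj : w (x j) ^ d ≠ 0 := fun h => by
    rw [h, mul_zero] at hw
    exact mul_ne_zero hw0.1 hw0.2 hw
  have hwi : w (x i) ≠ 0 := fun h => hw0.2 (by rw [h, zero_pow (by omega)])
  have hwj : w (x j) ≠ 0 := fun h => hxj (by rw [h, zero_pow (by omega)])
  have hlog := congrArg log hw
  rw [log_mul hw0.1 hw0.2, log_mul (pow_ne_zero _ exp_ne_zero) hxj, log_pow, log_pow, log_pow, log_pow, log_exp] at hlog
  simp only [nsmul_eq_mul] at hlog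
  refine idx_dvd_of_dvd_mul ((i : ℤ) - j).natAbs M ?_ ?_ ?_ hd
  · have : (i : ℕ) ≠ (j : ℕ) := fun h => hij (Fin.ext h)
    omega
  · omega
  · rw [← Int.natCast_dvd_natCast, Nat.cast_mul, Int.natCast_natAbs]
    have : ((i : ℤ) - j) * M = (d : ℤ) * (log (w (x i)) - log (w (x j))) := by linarith
    rcases abs_choice ((i : ℤ) - j) with h | h <;> rw [h]
    · exact Dvd.intro _ this.symm
    · rw [neg_mul, dvd_neg]
      exact Dvd.intro _ this.symm

theorem index_eq (ϖ : R) (hϖ : Irreducible ϖ) (d N : ℕ) (hd : 1 ≤ d) :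
    AddSubgroup.closure {m : ℤ | ∃ (L : Type u) (_ : Field L) (_ : Algebra K L),
        FiniteDimensional K L ∧ m = (Module.finrank K L : ℤ) ∧
        ∃ x : Fin (N + 1) → L, x ≠ 0 ∧
          x 0 ^ d = ∑ i : Fin N, algebraMap K L (algebraMap R K (ϖ ^ ((i : ℕ) + 1))) * x i.succ ^ d} =
      AddSubgroup.zmultiples ((idx d N : ℕ) : ℤ) := by
  refine le_antisymm ((AddSubgroup.closure_le _).2 ?_) (AddSubgroup.zmultiples_le_of_mem ?_)
  · rintro _ ⟨L, _, _, _, rfl, x, hx, heq⟩
    rw [SetLike.mem_coe, Int.mem_zmultiples_iff, Int.natCast_dvd_natCast]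
    exact idx_dvd_finrank K ϖ hϖ d N hd (separableClosure K L) L x hx heq
  · exact gcd_mem_of_forall _ _ _ fun δ hδ => AddSubgroup.subset_closure (exists_ext K ϖ hϖ d N hd δ hδ)

end Groth.Agent.CohDer1.DiagIndex
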