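import Groth.Prelude.Def_CAlg
import Mathlib.RingTheory.KrullDimension.Zero
import Mathlib.RingTheory.Ideal.MinimalPrime.Noetherian
import Mathlib.RingTheory.Ideal.MinimalPrime.Localization
import Mathlib.RingTheory.Localization.Away.Basic
import Mathlib.RingTheory.LocalRing.ResidueField.Ideal
import Mathlib.Algebra.Group.Pi.Units
import Mathlib.RingTheory.LocalProperties.Reduced
import Mathlib.Tactic

/-!
# Noetherian local rings of dimension one: elements avoiding the minimal primes
-/

set_option autoImplicit false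

universe u

namespace Groth.Agent.CohDer1.DimOneLocal

variable {A : Type u} [CommRing A] [IsLocalRing A] [IsNoetherianRing A]

/-- The minimal primes, as points of the spectrum. -/
abbrev Mn (A : Type u) [CommRing A] : Type u := {p : PrimeSpectrum A // p.asIdeal ∈ minimalPrimes A}

theorem maximal_not_minimal (hdim : ringKrullDim A = 1) : IsLocalRing.maximalIdeal A ∉ minimalPrimes A := by
  intro h
  have h0 : Ring.KrullDimLE 0 A := Ring.krullDimLE_zero_iff.mpr fun I hI => by
    have := h.2 ⟨hI, bot_le⟩ (IsLocalRing.le_maximalIdeal hI.ne_top)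
    rw [show I = IsLocalRing.maximalIdeal A from le_antisymm (IsLocalRing.le_maximalIdeal hI.ne_top) this]
    infer_instance
  have := Ring.krullDimLE_iff.mp h0
  rw [hdim] at this
  norm_num at this

theorem minimal_or_eq (hdim : ringKrullDim A = 1) (q : Ideal A) (hq : q.IsPrime) :
    q ∈ minimalPrimes A ∨ q = IsLocalRing.maximalIdeal A := by
  haveI : Ring.KrullDimLE 1 A := Ring.krullDimLE_iff.mpr (by rw [hdim]; norm_num)
  exact (Ring.krullDimLE_one_iff.mp ‹_› q hq).imp_right fun h => IsLocalRing.eq_maximalIdeal h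

theorem not_le_minimal (hdim : ringKrullDim A = 1) {p : Ideal A} (hp : p ∈ minimalPrimes A) :
    ¬ IsLocalRing.maximalIdeal A ≤ p := by
  intro h
  have := le_antisymm (IsLocalRing.le_maximalIdeal hp.1.1.ne_top) h
  exact maximal_not_minimal hdim (this ▸ hp)

theorem exists_avoiding (hdim : ringKrullDim A = 1) :
    ∃ f ∈ IsLocalRing.maximalIdeal A, ∀ p ∈ minimalPrimes A, f ∉ p := by
  by_contra! h
  have hfin := minimalPrimes.finite_of_isNoetherianRing A
  have hsub : (IsLocalRing.maximalIdeal A : Set A) ⊆ ⋃ i ∈ (↑hfin.toFinset : Set (Ideal A)), (id i : Ideal A) := by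
    intro f hf
    obtain ⟨p, hp, hfp⟩ := h f hf
    exact Set.mem_biUnion (hfin.mem_toFinset.mpr hp) hfp
  obtain ⟨p, hp, hle⟩ := (Ideal.subset_union_prime ⊥ ⊥
    (fun i hi _ _ => (hfin.mem_toFinset.mp hi).1.1)).mp hsub
  exact not_le_minimal hdim (hfin.mem_toFinset.mp hp) hle

theorem radical_iff (hdim : ringKrullDim A = 1) (f : A) (hf : f ∈ IsLocalRing.maximalIdeal A) :
    IsLocalRing.maximalIdeal A = (Ideal.span {f}).radical ↔ ∀ p ∈ minimalPrimes A, f ∉ p := by
  refine ⟨fun h p hp hfp => not_le_minimal hdim hp ?_, fun h => le_antisymm ?_ ?_⟩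
  · rw [h, hp.1.1.radical_le_iff, Ideal.span_singleton_le_iff_mem]
    exact hfp
  · rw [Ideal.radical_eq_sInf]
    refine le_sInf fun q hq => ?_
    rcases minimal_or_eq hdim q hq.2 with hq' | hq'
    · exact absurd (hq.1 (Ideal.mem_span_singleton_self f)) (h q hq')
    · exact hq'.ge
  · rw [(IsLocalRing.maximalIdeal.isMaximal A).isPrime.radical_le_iff, Ideal.span_singleton_le_iff_mem]
    exact hf

section Product

variable (hdim : ringKrullDim A = 1) (f : A) (hf : f ∈ IsLocalRing.maximalIdeal A)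
  (h : ∀ p ∈ minimalPrimes A, f ∉ p)

include hdim hf h in
theorem isUnit_away_of_avoiding {u : A} (hu : ∀ p ∈ minimalPrimes A, u ∉ p) :
    IsUnit (algebraMap A (Localization.Away f) u) := by
  by_cases hu' : IsUnit u
  · exact hu'.map _
  obtain ⟨n, hn⟩ : f ∈ (Ideal.span {u}).radical := by
    rw [← (radical_iff hdim u hu').mpr hu]
    exact hf
  obtain ⟨t, ht⟩ := Ideal.mem_span_singleton.mp hn
  refine isUnit_of_mul_isUnit_left (y := algebraMap A _ t) ?_
  rw [← map_mul, ← ht, map_pow]
  exact (IsLocalization.Away.algebraMap_isUnit f).pow n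

include h in
theorem isUnit_pi : IsUnit (algebraMap A (∀ p : (Mn A), Localization.AtPrime p.1.asIdeal) f) := by
  rw [Pi.isUnit_iff]
  intro p
  rw [Pi.algebraMap_apply]
  exact IsLocalization.map_units _ (⟨f, h _ p.2⟩ : p.1.asIdeal.primeCompl)

/-- `A_f → ∏ A_p` -/
noncomputable def phi : Localization.Away f →ₐ[A] ∀ p : (Mn A), Localization.AtPrime p.1.asIdeal :=
  IsLocalization.liftAlgHom (M := Submonoid.powers f) (f := Algebra.ofId A _) (by
    rintro ⟨_, n, rfl⟩
    rw [map_pow]
    exact (isUnit_pi f h).pow n)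

theorem phi_algebraMap (a : A) : phi f h (algebraMap A _ a) = algebraMap A _ a := AlgHom.commutes _ a

include hdim hf in
theorem phi_injective : Function.Injective (phi f h) := by
  rw [injective_iff_map_eq_zero]
  intro x hx
  obtain ⟨⟨a, s⟩, has⟩ := IsLocalization.surj (Submonoid.powers f) x
  dsimp only at has
  have ha : algebraMap A (∀ p : (Mn A), Localization.AtPrime p.1.asIdeal) a = 0 := by
    rw [← phi_algebraMap f h, ← has, map_mul, hx, zero_mul]
  let J : Ideal A := Submodule.colon (⊥ : Submodule A A) {a}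
  have hJ : ∀ q ∈ minimalPrimes A, ¬ J ≤ q := fun q hq hle => by
    haveI := hq.1.1
    have h0 : algebraMap A (Localization.AtPrime q) a = 0 := congrFun ha ⟨⟨q, hq.1.1⟩, hq⟩
    obtain ⟨t, ht⟩ := (IsLocalization.map_eq_zero_iff q.primeCompl _ a).mp h0
    exact t.2 (hle (Submodule.mem_colon_singleton.mpr (by simpa [smul_eq_mul] using ht)))
  obtain ⟨n, hn⟩ : f ∈ J.radical := by
    rw [Ideal.radical_eq_sInf, Submodule.mem_sInf]
    intro q hq
    rcases minimal_or_eq hdim q hq.2 with hq' | hq'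
    · exact absurd hq.1 (hJ q hq')
    · exact hq' ▸ hf
  have h2 := Submodule.mem_colon_singleton.mp hn
  rw [Submodule.mem_bot, smul_eq_mul] at h2
  have h3 : algebraMap A (Localization.Away f) a = 0 :=
    (IsLocalization.map_eq_zero_iff (Submonoid.powers f) _ a).mpr ⟨⟨f ^ n, n, rfl⟩, h2⟩
  rw [h3] at has
  exact (IsUnit.mul_left_eq_zero (IsLocalization.map_units (Localization.Away f) s)).mp has

theorem exists_sep (p : (Mn A)) : ∃ s : A, s ∉ p.1.asIdeal ∧
    ∀ q : (Mn A), q ≠ p → algebraMap A (Localization.AtPrime q.1.asIdeal) s = 0 := by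
  classical
  haveI : Finite (Mn A) := by
    have := (minimalPrimes.finite_of_isNoetherianRing A).to_subtype
    exact Finite.of_injective (β := minimalPrimes A) (fun p => ⟨p.1.asIdeal, p.2⟩) fun a b e =>
      Subtype.ext (PrimeSpectrum.ext (congrArg Subtype.val e))
  letI := Fintype.ofFinite (Mn A)
  have h0 : ∀ q : (Mn A), ∃ b : A, b ∉ p.1.asIdeal ∧ (q ≠ p → algebraMap A (Localization.AtPrime q.1.asIdeal) b = 0) := by
    intro q
    by_cases hqp : q = p
    · exact ⟨1, fun h1 => p.1.isPrime.ne_top ((Ideal.eq_top_iff_one _).mpr h1), fun h => absurd hqp h⟩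
    · have hnle : ¬ q.1.asIdeal ≤ p.1.asIdeal := fun hle =>
        hqp (Subtype.ext (PrimeSpectrum.ext (le_antisymm hle (p.2.2 ⟨q.1.isPrime, bot_le⟩ hle))))
      obtain ⟨b, hbq, hbp⟩ := SetLike.not_le_iff_exists.mp hnle
      haveI := Ring.KrullDimLE.of_isLocalization q.1.asIdeal q.2 (Localization.AtPrime q.1.asIdeal)
      obtain ⟨n, hn⟩ := (Ring.KrullDimLE.isNilpotent_iff_mem_maximalIdeal (R := Localization.AtPrime q.1.asIdeal)
        (x := algebraMap A _ b)).mpr ((IsLocalization.AtPrime.to_map_mem_maximal_iff _ q.1.asIdeal b).mpr hbq)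
      exact ⟨b ^ n, fun hb => hbp (p.1.isPrime.mem_of_pow_mem n hb), fun _ => by rw [map_pow, hn]⟩
  choose b hb1 hb2 using h0
  refine ⟨∏ q, b q, fun hm => ?_, fun q hq => ?_⟩
  · obtain ⟨q, -, hq⟩ := Ideal.IsPrime.prod_mem_iff.mp hm
    exact hb1 q hq
  · rw [map_prod]
    exact Finset.prod_eq_zero (Finset.mem_univ q) (hb2 q hq)

include hdim hf in
theorem phi_surjective : Function.Surjective (phi f h) := by
  classical
  haveI : Finite (Mn A) := by
    have := (minimalPrimes.finite_of_isNoetherianRing A).to_subtype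
    exact Finite.of_injective (β := minimalPrimes A) (fun p => ⟨p.1.asIdeal, p.2⟩) fun a b e =>
      Subtype.ext (PrimeSpectrum.ext (congrArg Subtype.val e))
  letI := Fintype.ofFinite (Mn A)
  intro z
  choose s hs1 hs2 using fun p : (Mn A) => exists_sep p
  choose ab hab using fun p : (Mn A) => IsLocalization.surj p.1.asIdeal.primeCompl (z p)
  let u : A := ∑ p, s p * ((ab p).2 : A)
  let a : A := ∑ p, s p * (ab p).1
  have hsum : ∀ (c : (Mn A) → A) (q : (Mn A)), algebraMap A (Localization.AtPrime q.1.asIdeal) (∑ p, s p * c p) =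
      algebraMap A _ (s q) * algebraMap A _ (c q) := by
    intro c q
    rw [map_sum, Finset.sum_eq_single q (fun p _ hp => by rw [map_mul, hs2 p q (Ne.symm hp), zero_mul])
      (fun hq => absurd (Finset.mem_univ q) hq), map_mul]
  have huq : ∀ q : (Mn A), IsUnit (algebraMap A (Localization.AtPrime q.1.asIdeal) u) := fun q => by
    rw [hsum]
    exact (IsLocalization.map_units _ (⟨s q, hs1 q⟩ : q.1.asIdeal.primeCompl)).mul (IsLocalization.map_units _ (ab q).2)
  have hu : ∀ p ∈ minimalPrimes A, u ∉ p := fun p hp => by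
    haveI := hp.1.1
    exact (IsLocalization.AtPrime.isUnit_to_map_iff (Localization.AtPrime p) p u).mp (huq ⟨⟨p, hp.1.1⟩, hp⟩)
  obtain ⟨v, hv⟩ := isUnit_away_of_avoiding hdim f hf h hu
  refine ⟨algebraMap A _ a * ↑v⁻¹, ?_⟩
  funext q
  have e1 : phi f h (algebraMap A _ a * ↑v⁻¹) * algebraMap A _ u = algebraMap A _ a := by
    rw [← phi_algebraMap f h u, ← map_mul, mul_assoc, ← hv, Units.inv_mul, mul_one, phi_algebraMap]
  have e2 := congrFun e1 q
  simp only [Pi.mul_apply, Pi.algebraMap_apply] at e2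
  apply (huq q).mul_right_cancel
  rw [e2, hsum, hsum, ← hab q]
  ring

end Product

theorem away_iff (hdim : ringKrullDim A = 1) (f : A) (hf : f ∈ IsLocalRing.maximalIdeal A) :
    (∀ p ∈ minimalPrimes A, f ∉ p) ↔
      Nonempty (Localization.Away f ≃ₐ[A] (∀ p : (Mn A), Localization.AtPrime p.1.asIdeal)) := by
  refine ⟨fun h => ⟨AlgEquiv.ofBijective (phi f h) ⟨phi_injective hdim f hf h, phi_surjective hdim f hf h⟩⟩,
    fun ⟨e⟩ p hp hfp => ?_⟩
  have hu := (IsLocalization.Away.algebraMap_isUnit (S := Localization.Away f) f).map e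
  rw [AlgEquiv.commutes, Pi.isUnit_iff] at hu
  haveI := hp.1.1
  exact (IsLocalization.AtPrime.isUnit_to_map_iff (Localization.AtPrime p) p f).mp (hu ⟨⟨p, hp.1.1⟩, hp⟩) hfp

theorem residue_iff [IsReduced A] (hdim : ringKrullDim A = 1) (f : A) (hf : f ∈ IsLocalRing.maximalIdeal A) :
    (∀ p ∈ minimalPrimes A, f ∉ p) ↔
      Nonempty (Localization.Away f ≃ₐ[A] (∀ p : (Mn A), p.1.asIdeal.ResidueField)) := by
  have hb : ∀ p : (Mn A), Function.Bijective
      (IsScalarTower.toAlgHom A (Localization.AtPrime p.1.asIdeal) p.1.asIdeal.ResidueField) := by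
    intro p
    refine ⟨(injective_iff_map_eq_zero _).mpr fun x hx => ?_, Ideal.Quotient.mk_surjective⟩
    haveI := Ring.KrullDimLE.of_isLocalization p.1.asIdeal p.2 (Localization.AtPrime p.1.asIdeal)
    haveI : IsReduced (Localization.AtPrime p.1.asIdeal) := inferInstance
    exact IsNilpotent.eq_zero ((Ring.KrullDimLE.isNilpotent_iff_mem_maximalIdeal).mpr
      (Ideal.Quotient.eq_zero_iff_mem.mp hx))
  let e := AlgEquiv.piCongrRight fun p : (Mn A) => AlgEquiv.ofBijective _ (hb p)
  rw [away_iff hdim f hf]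
  exact ⟨fun ⟨g⟩ => ⟨g.trans e⟩, fun ⟨g⟩ => ⟨g.trans e.symm⟩⟩

theorem exists_nzd (hdim : ringKrullDim A = 1) (hA : LocCoh.depth A A = 1 ∨ IsReduced A) :
    ∃ g ∈ IsLocalRing.maximalIdeal A, g ∈ nonZeroDivisors A := by
  rcases hA with hA | hA
  · by_contra! hc
    have : LocCoh.depth A A ≤ 0 := by
      rw [LocCoh.depth, LocCoh.idealDepth, if_neg]
      · refine iSup₂_le fun rs hrs => ?_
        rcases rs with _ | ⟨r, rs⟩
        · simp
        · exfalso
          refine hc r (hrs.2 r (by simp)) (mem_nonZeroDivisors_iff_right.mpr fun z hz => ?_)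
          have hr := ((RingTheory.Sequence.isWeaklyRegular_cons_iff A r rs).mp hrs.1).1
          exact hr (by simp [smul_eq_mul, mul_comm r z, hz])
      · rw [smul_eq_mul, ← Ideal.one_eq_top, mul_one, Ideal.one_eq_top]
        exact (IsLocalRing.maximalIdeal.isMaximal A).ne_top
    rw [hA] at this
    norm_num at this
  · obtain ⟨g, hg, hg'⟩ := exists_avoiding hdim
    refine ⟨g, hg, mem_nonZeroDivisors_iff_right.mpr fun z hz => ?_⟩
    have : z ∈ nilradical A := by
      rw [nilradical_eq_sInf, Submodule.mem_sInf]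
      intro q hq
      haveI : Ideal.IsPrime q := hq
      obtain ⟨p, hp, hpq⟩ := Ideal.exists_minimalPrimes_le (I := (⊥ : Ideal A)) (J := q) bot_le
      exact hpq ((hp.1.1.mem_or_mem (show z * g ∈ p by rw [hz]; exact p.zero_mem)).resolve_right (hg' p hp))
    rwa [nilradical_eq_zero, Ideal.zero_eq_bot, Ideal.mem_bot] at this

theorem nzd_iff (hdim : ringKrullDim A = 1) (hA : LocCoh.depth A A = 1 ∨ IsReduced A)
    (f : A) (hf : f ∈ IsLocalRing.maximalIdeal A) :
    ((∀ p ∈ minimalPrimes A, f ∉ p) ↔ f ∈ nonZeroDivisors A) ∧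
    ((∀ p ∈ minimalPrimes A, f ∉ p) ↔ IsLocalization (nonZeroDivisors A) (Localization.Away f)) := by
  have hnd : ∀ u ∈ nonZeroDivisors A, ∀ p ∈ minimalPrimes A, u ∉ p := fun u hu p hp hup =>
    Set.disjoint_left.mp (Ideal.disjoint_nonZeroDivisors_of_mem_minimalPrimes hp) hup hu
  have h4 : (∀ p ∈ minimalPrimes A, f ∉ p) ↔ f ∈ nonZeroDivisors A := by
    refine ⟨fun h => ?_, hnd f⟩
    obtain ⟨g, hg, hg'⟩ := exists_nzd hdim hA
    obtain ⟨n, hn⟩ : g ∈ (Ideal.span {f}).radical := (radical_iff hdim f hf).mpr h ▸ hg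
    obtain ⟨t, ht⟩ := Ideal.mem_span_singleton.mp hn
    have := pow_mem hg' n
    rw [ht] at this
    exact (mul_mem_nonZeroDivisors.mp this).1
  refine ⟨h4, fun h => ?_, fun hL => h4.mpr ?_⟩
  · refine IsLocalization.of_le (Submonoid.powers f) _ ?_ fun r hr => isUnit_away_of_avoiding hdim f hf h (hnd r hr)
    exact Submonoid.powers_le.mpr (h4.mp h)
  · refine mem_nonZeroDivisors_iff_right.mpr fun z hz => ?_
    refine IsLocalization.injective (Localization.Away f) (le_refl (nonZeroDivisors A)) ?_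
    rw [map_zero]
    apply (IsLocalization.Away.algebraMap_isUnit (S := Localization.Away f) f).mul_left_eq_zero.mp
    rw [← map_mul, hz, map_zero]

end Groth.Agent.CohDer1.DimOneLocal
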