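import Groth.Agent.HopfLib.ComodHom
import Groth.Agent.HopfLib.Integral
import Groth.Prelude.Def_W4c1tameactTame

/-!
# The contragredient comodule and total integrals from exactness of invariants
-/

set_option autoImplicit false

noncomputable section

open TensorProduct

universe u v w

namespace Groth.Agent.CohDer1.DualComod

variable {k : Type u} [CommRing k] {A : Type v} [CommRing A] [HopfAlgebra k A]
  {V : Type w} [AddCommGroup V] [Module k V] [Module.Projective k V] [Module.Finite k V]

open ComodTens (dualCoactFun)

/-- The coaction of the contragredient. -/
def dualCoact (c : HopfRep.Comod k A V) : Module.Dual k V →ₗ[k] Module.Dual k V ⊗[k] A :=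
  (dualTensorHomEquiv k V A).symm.toLinearMap ∘ₗ
    { toFun := dualCoactFun c
      map_add' := ComodTens.dualCoactFun_add c
      map_smul' := ComodTens.dualCoactFun_smul c }

theorem dualTensorHom_dualCoact (c : HopfRep.Comod k A V) (f : Module.Dual k V) :
    dualTensorHom k V A (dualCoact c f) = dualCoactFun c f := by
  show dualTensorHomEquiv k V A ((dualTensorHomEquiv k V A).symm _) = _
  rw [LinearEquiv.apply_symm_apply]
  rfl

/-- The contragredient of a finite projective comodule. -/
@[reducible] def dual (c : HopfRep.Comod k A V) : HopfRep.Comod k A (Module.Dual k V) where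
  coact := dualCoact c
  coassoc := by
    refine LinearMap.ext fun f => ?_
    refine (dualTensorHom_bijective (R := k) (M := V) (N := A ⊗[k] A)).1 (LinearMap.ext fun v => ?_)
    simp only [LinearMap.comp_apply, LinearEquiv.coe_coe]
    let S := HopfAlgebraStruct.antipode k (A := A)
    let Ψ : (V ⊗[k] A) ⊗[k] A →ₗ[k] A ⊗[k] A :=
      TensorProduct.map S S ∘ₗ (TensorProduct.comm k A A).toLinearMap ∘ₗ
        ((TensorProduct.lid k A).toLinearMap ∘ₗ f.rTensor A).rTensor A
    have hL : ∀ z : Module.Dual k V ⊗[k] A, dualTensorHom k V (A ⊗[k] A)
        (TensorProduct.assoc k (Module.Dual k V) A A ((dualCoact c).rTensor A z)) v =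
          (TensorProduct.map S LinearMap.id ∘ₗ (TensorProduct.comm k A A).toLinearMap)
            ((dualTensorHom k V A z).rTensor A (c.coact v)) := by
      intro z
      induction z using TensorProduct.induction_on with
      | zero => simp
      | add x y hx hy => simp only [map_add, LinearMap.add_apply, LinearMap.rTensor_add, hx, hy]
      | tmul φ x =>
        rw [LinearMap.rTensor_tmul]
        have h1 : ∀ p : Module.Dual k V ⊗[k] A, dualTensorHom k V (A ⊗[k] A)
            (TensorProduct.assoc k (Module.Dual k V) A A (p ⊗ₜ x)) v =
              dualTensorHom k V A p v ⊗ₜ x := by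
          intro p
          induction p using TensorProduct.induction_on with
          | zero => simp
          | add a b ha hb => simp only [add_tmul, map_add, LinearMap.add_apply, ha, hb]
          | tmul ψ y => simp [dualTensorHom_apply, smul_tmul']
        rw [h1, dualTensorHom_dualCoact, ComodTens.dualCoactFun_apply]
        induction c.coact v using TensorProduct.induction_on with
        | zero => simp
        | add a b ha hb => simp only [map_add, add_tmul, LinearMap.add_apply, ha, hb]
        | tmul a b => simp [dualTensorHom_apply, S, tmul_smul, smul_tmul']
    have hR : ∀ z : Module.Dual k V ⊗[k] A, dualTensorHom k V (A ⊗[k] A)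
        ((CoalgebraStruct.comul (R := k) (A := A)).lTensor _ z) v =
          CoalgebraStruct.comul (R := k) (dualTensorHom k V A z v) := by
      intro z
      induction z using TensorProduct.induction_on with
      | zero => simp
      | add x y hx hy => simp only [map_add, LinearMap.add_apply, hx, hy]
      | tmul φ x => simp [dualTensorHom_apply]
    rw [hL, hR, dualTensorHom_dualCoact]
    have e1 : (TensorProduct.map S LinearMap.id ∘ₗ (TensorProduct.comm k A A).toLinearMap)
        ((dualCoactFun c f).rTensor A (c.coact v)) = Ψ (c.coact.rTensor A (c.coact v)) := by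
      induction c.coact v using TensorProduct.induction_on with
      | zero => simp
      | add a b ha hb => simp only [map_add, ha, hb]
      | tmul a b =>
        simp only [LinearMap.rTensor_tmul, LinearMap.comp_apply, LinearEquiv.coe_coe,
          TensorProduct.comm_tmul, TensorProduct.map_tmul, LinearMap.id_apply, Ψ,
          ComodTens.dualCoactFun_apply]
        congr 1
        induction c.coact a using TensorProduct.induction_on with
        | zero => simp
        | add p q hp hq => simp only [map_add, hp, hq]
        | tmul p q => simp [S]
    have e2 : c.coact.rTensor A (c.coact v) = (TensorProduct.assoc k V A A).symm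
        ((CoalgebraStruct.comul (R := k) (A := A)).lTensor V (c.coact v)) := by
      rw [LinearEquiv.eq_symm_apply]
      exact LinearMap.congr_fun c.coassoc v
    rw [e1, e2, ComodTens.dualCoactFun_apply]
    induction c.coact v using TensorProduct.induction_on with
    | zero => simp
    | add a b ha hb => simp only [map_add, ha, hb]
    | tmul a b =>
      simp only [LinearMap.lTensor_tmul, TensorProduct.map_tmul, TensorProduct.lid_tmul, map_smul,
        HopfLib.comul_antipode]
      induction CoalgebraStruct.comul (R := k) b using TensorProduct.induction_on with
      | zero => simp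
      | add p q hp hq => simp only [map_add, tmul_add, smul_add, hp, hq]
      | tmul p q => simp [Ψ, S, tmul_smul, smul_tmul']
  counit_comp := by
    refine LinearMap.ext fun f => ?_
    refine (dualTensorHom_bijective (R := k) (M := V) (N := k)).1 (LinearMap.ext fun v => ?_)
    have hR : ∀ z : Module.Dual k V ⊗[k] A, dualTensorHom k V k
        ((CoalgebraStruct.counit (R := k) (A := A)).lTensor _ z) v =
          CoalgebraStruct.counit (R := k) (dualTensorHom k V A z v) := by
      intro z
      induction z using TensorProduct.induction_on with
      | zero => simp
      | add x y hx hy => simp only [map_add, LinearMap.add_apply, hx, hy]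
      | tmul φ x => simp [dualTensorHom_apply]
    simp only [LinearMap.comp_apply]
    rw [hR, dualTensorHom_dualCoact, ComodTens.dualCoactFun_apply]
    have h := congrArg (fun z => f (TensorProduct.rid k V z)) (LinearMap.congr_fun c.counit_comp v)
    simp only [LinearMap.comp_apply, LinearMap.flip_apply, TensorProduct.mk_apply,
      TensorProduct.rid_tmul, one_smul] at h
    simp only [LinearMap.flip_apply, TensorProduct.mk_apply, dualTensorHom_apply, smul_eq_mul, mul_one]
    rw [← h]
    induction c.coact v using TensorProduct.induction_on with
    | zero => simp
    | add a b ha hb => simp only [map_add, ha, hb]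
    | tmul a b => simp [mul_comm, HopfAlgebra.counit_antipode]

theorem isDual_dual (c : HopfRep.Comod k A V) : ComodTens.Comod.IsDual c (dual c) :=
  dualTensorHom_dualCoact c

section TotalIntegral

/-- If invariants are exact on relative Hopf modules, a total integral exists. -/
theorem exists_totalIntegral {k : Type u} [CommRing k] {A : Type u} [CommRing A] [HopfAlgebra k A]
    [Module.Finite k A] [Module.Projective k A]
    {B : Type u} [CommRing B] [Algebra k B] [cB : HopfRep.Comod k A B] [GLin.IsCoactAlg k A B]
    (hexact : ∀ (M N : Type u) [AddCommGroup M] [Module k M] [Module B M] [IsScalarTower k B M]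
      [HopfRep.Comod k A M] [TameAct.IsHopfMod k A B M]
      [AddCommGroup N] [Module k N] [Module B N] [IsScalarTower k B N]
      [HopfRep.Comod k A N] [TameAct.IsHopfMod k A B N] (f : M →ₗ[B] N),
      Hoch.IsComodHom A (f.restrictScalars k) → Function.Surjective f →
      ∀ n ∈ HopfRep.fixedPts k A N, ∃ m ∈ HopfRep.fixedPts k A M, f m = n) :
    ∃ α : A →ₗ[k] B, Hoch.IsComodHom A α ∧ α 1 = 1 := by
  let cA : HopfRep.Comod k A A := inferInstance
  let d := dual cA
  let M := B ⊗[k] Module.Dual k A
  let cM : HopfRep.Comod k A M := ComodTens.Comod.tensor cB d
  have hHM : @TameAct.IsHopfMod k _ A _ _ B _ _ M _ _ _ _ _ cM := by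
    constructor
    intro b m
    induction m using TensorProduct.induction_on with
    | zero => simp
    | add x y hx hy => simp only [smul_add, map_add, hx, hy]
    | tmul b' φ =>
      rw [TensorProduct.smul_tmul', smul_eq_mul]
      show (ComodTens.Comod.tensor cB d).coact _ = _
      simp only [ComodTens.tensor_coact_tmul, GLin.IsCoactAlg.coact_mul (k := k) (A := A)]
      show _ = TameAct.hmSMul k A B M (cB.coact b) ((ComodTens.Comod.tensor cB d).coact (b' ⊗ₜ φ))
      rw [ComodTens.tensor_coact_tmul]
      induction cB.coact b using TensorProduct.induction_on with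
      | zero => simp
      | add x y hx hy => simp only [add_mul, add_tmul, map_add, LinearMap.add_apply, hx, hy]
      | tmul x a =>
        induction cB.coact b' using TensorProduct.induction_on with
        | zero => simp
        | add p q hp hq => simp only [mul_add, add_tmul, map_add, hp, hq]
        | tmul y a' =>
          induction d.coact φ using TensorProduct.induction_on with
          | zero => simp
          | add p q hp hq => simp only [tmul_add, map_add, hp, hq]
          | tmul ψ c =>
            simp [mul_assoc]
            rfl
  have hHB : TameAct.IsHopfMod k A B B := by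
    constructor
    intro b m
    rw [smul_eq_mul, GLin.IsCoactAlg.coact_mul (k := k) (A := A)]
    induction cB.coact b using TensorProduct.induction_on with
    | zero => simp
    | add x y hx hy => simp only [add_mul, map_add, LinearMap.add_apply, hx, hy]
    | tmul x a =>
      induction cB.coact m using TensorProduct.induction_on with
      | zero => simp
      | add p q hp hq => simp only [mul_add, map_add, hp, hq]
      | tmul y a' => simp
  let f : M →ₗ[B] B := (TensorProduct.AlgebraTensorModule.rid k B B).toLinearMap ∘ₗ
    TensorProduct.AlgebraTensorModule.lTensor B B (LinearMap.applyₗ (1 : A))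
  have hf : ∀ (b : B) (φ : Module.Dual k A), f (b ⊗ₜ φ) = φ 1 • b := fun b φ => by
    show (TensorProduct.AlgebraTensorModule.rid k B B) (b ⊗ₜ φ 1) = _
    simp
  have hfc : @Hoch.IsComodHom k _ A _ _ _ M _ _ cM B _ _ cB (f.restrictScalars k) := by
    refine LinearMap.ext fun m => ?_
    simp only [LinearMap.comp_apply]
    induction m using TensorProduct.induction_on with
    | zero => simp
    | add x y hx hy => simp only [map_add, hx, hy]
    | tmul b φ =>
      rw [LinearMap.restrictScalars_apply, hf, map_smul]
      show _ = (f.restrictScalars k).rTensor A ((ComodTens.Comod.tensor cB d).coact (b ⊗ₜ φ))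
      rw [ComodTens.tensor_coact_tmul]
      have h1 : dualTensorHom k A A (d.coact φ) 1 = φ 1 • (1 : A) := by
        rw [show dualTensorHom k A A (d.coact φ) = dualCoactFun cA φ from dualTensorHom_dualCoact cA φ,
          ComodTens.dualCoactFun_apply]
        show TensorProduct.lid k A (TensorProduct.map φ _ (CoalgebraStruct.comul (R := k) (1 : A))) = _
        rw [Bialgebra.comul_one, Algebra.TensorProduct.one_def]
        simp
      have h2 : ∀ p : Module.Dual k A ⊗[k] A, (f.restrictScalars k).rTensor A
          (TensorProduct.map LinearMap.id (LinearMap.mul' k A)
            (AlgebraTensorModule.tensorTensorTensorComm k k k k B A (Module.Dual k A) A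
              (cB.coact b ⊗ₜ[k] p))) = cB.coact b * (1 ⊗ₜ[k] dualTensorHom k A A p 1) := by
        intro p
        induction cB.coact b using TensorProduct.induction_on with
        | zero => simp
        | add x y hx hy => simp only [add_tmul, add_mul, map_add, hx, hy]
        | tmul x a =>
          induction p using TensorProduct.induction_on with
          | zero => simp
          | add q r hq hr => simp only [tmul_add, map_add, LinearMap.add_apply, mul_add, hq, hr]
          | tmul ψ c => simp [hf, dualTensorHom_apply, smul_tmul]
      rw [h2, h1, tmul_smul, ← Algebra.TensorProduct.one_def, mul_smul_comm, mul_one]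
  have hsurj : Function.Surjective f := fun b =>
    ⟨b ⊗ₜ CoalgebraStruct.counit (R := k) (A := A), by rw [hf, Bialgebra.counit_one, one_smul]⟩
  obtain ⟨x, hx, hfx⟩ := @hexact M B _ _ _ _ cM hHM _ _ _ _ cB hHB f hfc hsurj 1
    (by
      show cB.coact 1 = (1 : B) ⊗ₜ[k] (1 : A)
      rw [GLin.IsCoactAlg.coact_one (k := k) (A := A) (R := B), Algebra.TensorProduct.one_def])
  refine ⟨HopfLib.ComodHom.toHom B x, ?_, ?_⟩
  · rw [HopfLib.ComodHom.isComodHom_iff,
      ← HopfLib.ComodHom.toHom_rightComm_coact cA cB d (isDual_dual cA),
      ← HopfLib.ComodHom.toHom_rightComm_tmul_one]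
    exact congrArg (fun z => HopfLib.ComodHom.toHom (B ⊗[k] A)
      (TensorProduct.rightComm k B (Module.Dual k A) A z)) hx
  · refine Eq.trans ?_ hfx
    clear hx hfx
    induction x using TensorProduct.induction_on with
    | zero => simp
    | add p q hp hq => simp only [map_add, LinearMap.add_apply, hp, hq]
    | tmul b φ => rw [hf, HopfLib.ComodHom.toHom_tmul]

end TotalIntegral

end Groth.Agent.CohDer1.DualComod
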