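import Groth.Agent.FlatCrit.Tor
import Groth.Prelude.Def_W4c6puncthilbintroLift
import Mathlib

/-!
Flat first-order liftings of an ideal are the ideals attached to homomorphisms `I → R/I`.
-/

set_option autoImplicit false

universe u

open DualNumber TrivSqZeroExt
open scoped TensorProduct

attribute [local instance] W4c6puncthilbintro.dualAlgebra

namespace Groth.Agent.CohDer1.DualLift

variable {A R : Type u} [CommRing A] [CommRing R] [Algebra A R]

theorem algebraMap_eq (x : DualNumber A) :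
    algebraMap (DualNumber A) (DualNumber R) x =
      inl (algebraMap A R x.fst) + inr (algebraMap A R x.snd) := by
  show W4c6puncthilbintro.dualMap A R x = _
  conv_lhs => rw [← inl_fst_add_inr_snd_eq x, DualNumber.inr_eq_smul_eps, map_add, map_smul,
    W4c6puncthilbintro.dualMap_inl, W4c6puncthilbintro.dualMap_eps]
  refine TrivSqZeroExt.ext ?_ ?_ <;> simp [TrivSqZeroExt.algebraMap_eq_inl', Algebra.smul_def]

instance : IsScalarTower A (DualNumber A) (DualNumber R) :=
  IsScalarTower.of_algebraMap_eq fun a => by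
    show algebraMap A (DualNumber R) a = W4c6puncthilbintro.dualMap A R (algebraMap A (DualNumber A) a)
    exact ((W4c6puncthilbintro.dualMap A R).commutes a).symm

/-- The ideal generated by `ε`. -/
abbrev epsIdeal (A : Type u) [CommRing A] : Ideal (DualNumber A) := Ideal.span {ε}

theorem mem_epsIdeal {x : DualNumber A} (h : x ∈ epsIdeal A) : x.fst = 0 := by
  obtain ⟨c, rfl⟩ := Ideal.mem_span_singleton'.1 h
  simp

theorem mk_eps_smul (J : Ideal (DualNumber R)) (r : DualNumber R) :
    (ε : DualNumber A) • (Ideal.Quotient.mk J r) = Ideal.Quotient.mk J (inr r.fst) := by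
  show Ideal.Quotient.mk J (algebraMap (DualNumber A) (DualNumber R) ε * r) = _
  congr 1
  rw [algebraMap_eq]
  refine TrivSqZeroExt.ext ?_ ?_ <;> simp

theorem tmul_smul_quot (J : Ideal (DualNumber R)) {X : Type u} [AddCommGroup X] [Module (DualNumber A) X]
    (c : DualNumber A) (x : X) (m : DualNumber R ⧸ J) :
    x ⊗ₜ[DualNumber A] (c • m) = (c • x) ⊗ₜ[DualNumber A] m :=
  (TensorProduct.smul_tmul c x m).symm

theorem algebraMap_mul_tmul {S Y : Type u} [CommRing S] [Algebra A S] [AddCommGroup Y] [Module A Y] (a : A) (y : Y) :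
    (algebraMap A S a * 1) ⊗ₜ[A] y = (1 : S) ⊗ₜ[A] (a • y) := by
  rw [← TensorProduct.smul_tmul, Algebra.smul_def]

variable {J : Ideal (DualNumber R)} {I : Ideal R}

/-- The flatness criterion. -/
theorem flat_of_eps [Module.Flat A (R ⧸ I)] (hJI : Ideal.map (TrivSqZeroExt.fstHom A R R) J = I)
    (hker : ∀ b : R, inr b ∈ J → b ∈ I) : Module.Flat (DualNumber A) (DualNumber R ⧸ J) := by
  classical
  let E := epsIdeal A
  let M := DualNumber R ⧸ J
  let R' := DualNumber A ⧸ E
  have hlift : ∀ a ∈ I, ∃ r ∈ J, r.fst = a := fun a ha => by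
    rw [← hJI, Ideal.mem_map_iff_of_surjective _ (fun x => ⟨inl x, fst_inl R x⟩)] at ha
    obtain ⟨r, hr, rfl⟩ := ha
    exact ⟨r, hr, rfl⟩
  have hJfst : ∀ r ∈ J, r.fst ∈ I := fun r hr => hJI ▸ Ideal.mem_map_of_mem (TrivSqZeroExt.fstHom A R R) hr
  refine Groth.Agent.FlatCrit.flat_of_isNilpotent (I := E) ?_ ?_ ⟨2, ?_⟩
  · intro z w hzw
    rw [← sub_eq_zero] at hzw ⊢
    rw [← map_sub] at hzw
    generalize z - w = t at hzw
    obtain ⟨m, rfl⟩ : ∃ m : M, t = (⟨ε, Ideal.mem_span_singleton_self _⟩ : E) ⊗ₜ m := by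
      clear hzw
      induction t using TensorProduct.induction_on with
      | zero => exact ⟨0, (TensorProduct.tmul_zero _ _).symm⟩
      | tmul x m =>
        obtain ⟨c, hc⟩ := Ideal.mem_span_singleton'.1 x.2
        exact ⟨c • m, (congrArg (· ⊗ₜ[DualNumber A] m) (Subtype.ext hc.symm : x = c • (⟨ε, Ideal.mem_span_singleton_self _⟩ : E))).trans
          (TensorProduct.smul_tmul c _ m)⟩
      | add p q hp hq =>
        obtain ⟨m, rfl⟩ := hp
        obtain ⟨m', rfl⟩ := hq
        exact ⟨m + m', (TensorProduct.tmul_add _ _ _).symm⟩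
    obtain ⟨r, rfl⟩ := Ideal.Quotient.mk_surjective m
    have h0 : (ε : DualNumber A) • (Ideal.Quotient.mk J r) = 0 := by
      have h := congrArg (TensorProduct.lid (DualNumber A) M) hzw
      rwa [LinearMap.rTensor_tmul, map_zero, TensorProduct.lid_tmul] at h
    rw [mk_eps_smul, Ideal.Quotient.eq_zero_iff_mem] at h0
    obtain ⟨s, hs, hs1⟩ := hlift _ (hker _ h0)
    have e : Ideal.Quotient.mk J r = (ε : DualNumber A) • Ideal.Quotient.mk J (inl (r - s).snd) := by
      rw [mk_eps_smul, Ideal.Quotient.eq]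
      have : r - inr ((inl (r - s).snd : DualNumber R)).fst = s :=
        TrivSqZeroExt.ext (by simp [hs1]) (by simp)
      rwa [this]
    rw [e]
    rw [tmul_smul_quot, show (ε : DualNumber A) • (⟨ε, Ideal.mem_span_singleton_self _⟩ : E) = 0 from
      Subtype.ext (eps_mul_eps (R := A)), TensorProduct.zero_tmul]
  · refine Groth.Agent.FlatCrit.quotFlat_of_flat E ?_
    have hsmul0 : ∀ c : DualNumber A, (Ideal.Quotient.mk E c : R') = algebraMap A R' c.fst := fun c => by
      rw [IsScalarTower.algebraMap_apply A (DualNumber A) R', Ideal.Quotient.algebraMap_eq]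
      rw [Ideal.Quotient.eq, TrivSqZeroExt.algebraMap_eq_inl']
      exact Ideal.mem_span_singleton'.2 ⟨inl c.snd, TrivSqZeroExt.ext (by simp) (by simp)⟩
    let fst' : M →ₗ[A] R ⧸ I := (Ideal.Quotient.liftₐ J ((Ideal.Quotient.mkₐ A I).comp
      (TrivSqZeroExt.fstHom A R R)) fun r hr => Ideal.Quotient.eq_zero_iff_mem.2 (hJfst r hr)).toLinearMap
    have hfst : ∀ r : DualNumber R, fst' (Ideal.Quotient.mk J r) = Ideal.Quotient.mk I r.fst := fun r => rfl
    let φ : M →ₗ[DualNumber A] R' ⊗[A] (R ⧸ I) :=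
      { toFun := fun m => 1 ⊗ₜ fst' m
        map_add' := fun m m' => by rw [map_add, TensorProduct.tmul_add]
        map_smul' := fun c m => by
          obtain ⟨r, rfl⟩ := Ideal.Quotient.mk_surjective m
          show (1 : R') ⊗ₜ fst' (c • Ideal.Quotient.mk J r) = (Ideal.Quotient.mk E c * 1) ⊗ₜ[A] fst' (Ideal.Quotient.mk J r)
          rw [show c • Ideal.Quotient.mk J r = Ideal.Quotient.mk J (algebraMap (DualNumber A) (DualNumber R) c * r)
            from rfl, hfst, hfst, hsmul0]
          refine Eq.trans ?_ (algebraMap_mul_tmul (S := R') c.fst (Ideal.Quotient.mk I r.fst)).symm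
          rw [algebraMap_eq]
          simp [Algebra.smul_def] }
    let ψ₀ : (R ⧸ I) →ₗ[A] R' ⊗[DualNumber A] M :=
      (I.restrictScalars A).liftQ
        { toFun := fun r => (1 : R') ⊗ₜ Ideal.Quotient.mk J (inl r)
          map_add' := fun r r' => by rw [inl_add, map_add, TensorProduct.tmul_add]
          map_smul' := fun a r => by
            rw [RingHom.id_apply, show (inl (a • r) : DualNumber R) = a • inl r from inl_smul _ _ _]
            show (1 : R') ⊗ₜ[DualNumber A] (a • Ideal.Quotient.mk J (inl r)) = _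
            rw [← algebraMap_smul (DualNumber A) a (Ideal.Quotient.mk J (inl r)), TensorProduct.tmul_smul,
              algebraMap_smul] }
        (fun a ha => by
          obtain ⟨s, hs, rfl⟩ := hlift a ha
          show (1 : R') ⊗ₜ[DualNumber A] Ideal.Quotient.mk J (inl s.fst) = 0
          have e : Ideal.Quotient.mk J (inl s.fst) = (ε : DualNumber A) • Ideal.Quotient.mk J (inl (-s.snd)) := by
            rw [mk_eps_smul, Ideal.Quotient.eq]
            have : inl s.fst - inr ((inl (-s.snd) : DualNumber R)).fst = s :=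
              TrivSqZeroExt.ext (by simp) (by simp)
            rwa [this]
          rw [e, tmul_smul_quot, show (ε : DualNumber A) • (1 : R') = Ideal.Quotient.mk E (ε * 1) from rfl,
            mul_one, Ideal.Quotient.eq_zero_iff_mem.2 (Ideal.mem_span_singleton_self _), TensorProduct.zero_tmul])
    let ψ : R' ⊗[A] (R ⧸ I) →ₗ[R'] R' ⊗[DualNumber A] M := LinearMap.liftBaseChange R' ψ₀
    let Φ : R' ⊗[DualNumber A] M →ₗ[R'] R' ⊗[A] (R ⧸ I) := LinearMap.liftBaseChange R' φ
    have h1 : ψ ∘ₗ Φ = LinearMap.id := by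
      refine TensorProduct.AlgebraTensorModule.ext fun c m => ?_
      obtain ⟨r, rfl⟩ := Ideal.Quotient.mk_surjective m
      simp only [LinearMap.comp_apply, LinearMap.id_apply, Φ, LinearMap.liftBaseChange_tmul, map_smul]
      show c • ψ ((1 : R') ⊗ₜ fst' (Ideal.Quotient.mk J r)) = _
      rw [LinearMap.liftBaseChange_tmul]
      refine (congrArg (c • ·) (one_smul R' _)).trans ?_
      rw [hfst]
      show c • ((1 : R') ⊗ₜ[DualNumber A] Ideal.Quotient.mk J (inl r.fst)) = _
      rw [TensorProduct.smul_tmul', smul_eq_mul]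
      refine (congrArg (· ⊗ₜ[DualNumber A] _) (mul_one c)).trans ?_
      have e : Ideal.Quotient.mk J r = Ideal.Quotient.mk J (inl r.fst) +
          (ε : DualNumber A) • Ideal.Quotient.mk J (inl r.snd) := by
        rw [mk_eps_smul, ← map_add, fst_inl, inl_fst_add_inr_snd_eq]
      rw [e, TensorProduct.tmul_add, tmul_smul_quot, left_eq_add]
      refine (congrArg (· ⊗ₜ[DualNumber A] _) (?_ : _ = (0 : R'))).trans (TensorProduct.zero_tmul _ _)
      obtain ⟨c, rfl⟩ := Ideal.Quotient.mk_surjective c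
      show Ideal.Quotient.mk E ((ε : DualNumber A) * c) = 0
      exact Ideal.Quotient.eq_zero_iff_mem.2 (Ideal.mul_mem_right _ _ (Ideal.mem_span_singleton_self _))
    have h2 : Φ ∘ₗ ψ = LinearMap.id := by
      refine TensorProduct.AlgebraTensorModule.ext fun c m => ?_
      obtain ⟨r, rfl⟩ := Ideal.Quotient.mk_surjective m
      simp only [LinearMap.comp_apply, LinearMap.id_apply, ψ, LinearMap.liftBaseChange_tmul, map_smul]
      show c • Φ ((1 : R') ⊗ₜ[DualNumber A] Ideal.Quotient.mk J (inl r)) = _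
      rw [LinearMap.liftBaseChange_tmul]
      refine (congrArg (c • ·) (one_smul R' _)).trans ?_
      show c • ((1 : R') ⊗ₜ[A] fst' (Ideal.Quotient.mk J (inl r))) = _
      rw [hfst, fst_inl, TensorProduct.smul_tmul', smul_eq_mul]
      exact congrArg (· ⊗ₜ[A] _) (mul_one c)
    exact Module.Flat.of_linearEquiv (LinearEquiv.ofLinear Φ ψ h2 h1)
  · rw [pow_two, Ideal.span_singleton_mul_span_singleton, eps_mul_eps]
    simp

/-- Flatness forces `εr ∈ J` only for `r ∈ I`. -/
theorem mem_of_flat (hJI : Ideal.map (TrivSqZeroExt.fstHom A R R) J = I)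
    [Module.Flat (DualNumber A) (DualNumber R ⧸ J)] {b : R} (hb : inr b ∈ J) : b ∈ I := by
  classical
  let E := epsIdeal A
  let M := DualNumber R ⧸ J
  let m : M := Ideal.Quotient.mk J (inl b)
  have h0 : (ε : DualNumber A) • m = 0 := by
    rw [mk_eps_smul, fst_inl, Ideal.Quotient.eq_zero_iff_mem]; exact hb
  have hz : (⟨ε, Ideal.mem_span_singleton_self _⟩ : E) ⊗ₜ[DualNumber A] m = 0 := by
    apply Module.Flat.rTensor_preserves_injective_linearMap E.subtype Subtype.val_injective
    apply (TensorProduct.lid (DualNumber A) M).injective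
    rw [LinearMap.rTensor_tmul, map_zero, map_zero, TensorProduct.lid_tmul]
    exact h0
  let f : M →+ R ⧸ I := (Ideal.Quotient.lift J ((Ideal.Quotient.mk I).comp
    (TrivSqZeroExt.fstHom A R R).toRingHom) fun r hr => Ideal.Quotient.eq_zero_iff_mem.2
      (hJI ▸ Ideal.mem_map_of_mem (TrivSqZeroExt.fstHom A R R) hr)).toAddMonoidHom
  have hf : ∀ r : DualNumber R, f (Ideal.Quotient.mk J r) = Ideal.Quotient.mk I r.fst := fun r => rfl
  have hfs : ∀ (c : DualNumber A) (x : M), f (c • x) = c.fst • f x := fun c x => by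
    obtain ⟨r, rfl⟩ := Ideal.Quotient.mk_surjective x
    rw [show c • Ideal.Quotient.mk J r = Ideal.Quotient.mk J (algebraMap (DualNumber A) (DualNumber R) c * r)
      from rfl, hf, hf, algebraMap_eq]
    rw [Algebra.smul_def, IsScalarTower.algebraMap_apply A R (R ⧸ I), Ideal.Quotient.algebraMap_eq, ← map_mul]
    congr 1
    simp
  let β : E →+ M →+ R ⧸ I :=
    AddMonoidHom.mk' (fun x => AddMonoidHom.mk' (fun y => x.1.snd • f y) fun y y' => by rw [map_add, smul_add])
      fun x x' => AddMonoidHom.ext fun y => by simp [add_smul]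
  have hβ := congrArg (TensorProduct.liftAddHom β fun c x y => by
    show (c • (x : DualNumber A)).snd • f y = (x : DualNumber A).snd • f (c • y)
    rw [hfs, smul_eq_mul, TrivSqZeroExt.snd_mul, mem_epsIdeal x.2, smul_smul]
    simp [mul_comm]) hz
  rw [map_zero, TensorProduct.liftAddHom_tmul] at hβ
  change (ε : DualNumber A).snd • f m = 0 at hβ
  rw [snd_eps, one_smul, hf, fst_inl, Ideal.Quotient.eq_zero_iff_mem] at hβ
  exact hβ

theorem liftIdeal_flat [Module.Flat A (R ⧸ I)] (φ : I →ₗ[R] R ⧸ I) :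
    Ideal.map (TrivSqZeroExt.fstHom A R R) (W4c6puncthilbintro.liftIdeal I φ) = I ∧
      Module.Flat (DualNumber A) (DualNumber R ⧸ W4c6puncthilbintro.liftIdeal I φ) := by
  have hI : Ideal.map (TrivSqZeroExt.fstHom A R R) (W4c6puncthilbintro.liftIdeal I φ) = I := by
    refine le_antisymm (Ideal.map_le_iff_le_comap.2 fun r hr => hr.1) fun a ha => ?_
    obtain ⟨b, hb⟩ := Ideal.Quotient.mk_surjective (φ ⟨a, ha⟩)
    have hmem : (inl a + inr b : DualNumber R) ∈ W4c6puncthilbintro.liftIdeal I φ :=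
      ⟨by simpa using ha, by simpa using hb⟩
    have := Ideal.mem_map_of_mem (TrivSqZeroExt.fstHom A R R) hmem
    simpa using this
  refine ⟨hI, flat_of_eps hI fun b hb => ?_⟩
  obtain ⟨h, hh⟩ := hb
  rw [snd_inr, show (⟨(inr b : DualNumber R).fst, h⟩ : I) = 0 from Subtype.ext (fst_inr R b), map_zero,
    Ideal.Quotient.eq_zero_iff_mem] at hh
  exact hh

theorem liftIdeal_injective : Function.Injective (W4c6puncthilbintro.liftIdeal I) := by
  intro φ ψ h
  refine LinearMap.ext fun a => ?_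
  obtain ⟨b, hb⟩ := Ideal.Quotient.mk_surjective (φ a)
  have hmem : (inl a.1 + inr b : DualNumber R) ∈ W4c6puncthilbintro.liftIdeal I φ :=
    ⟨by simp, by simpa using hb⟩
  rw [h] at hmem
  obtain ⟨h1, h2⟩ := hmem
  rw [← hb]
  simpa using h2

theorem exists_phi (hJI : Ideal.map (TrivSqZeroExt.fstHom A R R) J = I)
    [Module.Flat (DualNumber A) (DualNumber R ⧸ J)] :
    ∃ φ : I →ₗ[R] R ⧸ I, J = W4c6puncthilbintro.liftIdeal I φ := by
  classical
  have hlift : ∀ a : I, ∃ r ∈ J, r.fst = (a : R) := fun a => by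
    have ha : (a : R) ∈ Ideal.map (TrivSqZeroExt.fstHom A R R) J := hJI.symm ▸ a.2
    rw [Ideal.mem_map_iff_of_surjective _ (fun x => ⟨inl x, fst_inl R x⟩)] at ha
    obtain ⟨r, hr, h⟩ := ha
    exact ⟨r, hr, h⟩
  have key : ∀ r ∈ J, ∀ s ∈ J, r.fst = s.fst → Ideal.Quotient.mk I r.snd = Ideal.Quotient.mk I s.snd := by
    intro r hr s hs h
    rw [Ideal.Quotient.eq]
    refine mem_of_flat (A := A) hJI ?_
    have e : (inr (r.snd - s.snd) : DualNumber R) = r - s := TrivSqZeroExt.ext (by simp [h]) (by simp)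
    rw [e]; exact sub_mem hr hs
  choose g hg hg1 using hlift
  let φ : I →ₗ[R] R ⧸ I :=
    { toFun := fun a => Ideal.Quotient.mk I (g a).snd
      map_add' := fun a b => by
        rw [← map_add, ← TrivSqZeroExt.snd_add]
        exact key _ (hg _) _ (add_mem (hg _) (hg _)) (by simp [hg1])
      map_smul' := fun c a => by
        rw [RingHom.id_apply, key _ (hg _) (inl c * g a) (J.mul_mem_left _ (hg _)) (by simp [hg1])]
        simp [Algebra.smul_def] }
  refine ⟨φ, Ideal.ext fun r => ⟨fun hr => ?_, fun hr => ?_⟩⟩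
  · have h1 : r.fst ∈ I := hJI ▸ Ideal.mem_map_of_mem (TrivSqZeroExt.fstHom A R R) hr
    exact ⟨h1, key r hr _ (hg ⟨r.fst, h1⟩) (hg1 ⟨r.fst, h1⟩).symm⟩
  · obtain ⟨h1, h2⟩ := hr
    change Ideal.Quotient.mk I r.snd = Ideal.Quotient.mk I (g ⟨r.fst, h1⟩).snd at h2
    rw [Ideal.Quotient.eq] at h2
    have h3 : r.snd - (g ⟨r.fst, h1⟩).snd ∈ Ideal.map (TrivSqZeroExt.fstHom A R R) J := by rw [hJI]; exact h2
    rw [Ideal.mem_map_iff_of_surjective _ (fun x => ⟨inl x, fst_inl R x⟩)] at h3
    obtain ⟨s, hs, hs1⟩ := h3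
    have e : r = g ⟨r.fst, h1⟩ + (ε : DualNumber R) * s := by
      have hs1' : s.fst = r.snd - (g ⟨r.fst, h1⟩).snd := hs1
      refine TrivSqZeroExt.ext ?_ ?_
      · simp [hg1]
      · simp [hs1']
    rw [e]
    exact add_mem (hg _) (J.mul_mem_left _ hs)

end Groth.Agent.CohDer1.DualLift
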