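import Mathlib.Algebra.Category.ModuleCat.Colimits
import Mathlib.Algebra.Category.ModuleCat.Monoidal.Closed
import Mathlib.Algebra.Category.ModuleCat.EpiMono
import Mathlib.Algebra.Category.ModuleCat.Abelian
import Mathlib.LinearAlgebra.TensorProduct.Tower
import Mathlib.CategoryTheory.Limits.Preserves.Finite
import Mathlib.CategoryTheory.Limits.Preserves.Shapes.Products
import Mathlib.CategoryTheory.Adjunction.Limits

/-!
# Right exact sum preserving functors on modules
-/

set_option autoImplicit false
set_option backward.isDefEq.respectTransparency false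
set_option linter.style.haveILetI false

universe u v' u'

open CategoryTheory CategoryTheory.Limits TensorProduct MonoidalCategory

namespace Groth.Agent.CohDer1.EWModules

variable {A : Type u} [CommRing A]

/-- The map `a ↦ a • m`. -/
noncomputable def eltHom {M : ModuleCat.{u} A} (m : M) : ModuleCat.of A A ⟶ M :=
  ModuleCat.ofHom (LinearMap.toSpanSingleton A M m)

lemma eltHom_comp {M N : ModuleCat.{u} A} (m : M) (f : M ⟶ N) : eltHom m ≫ f = eltHom (f m) := by
  ext
  simp [eltHom]

lemma eltHom_add {M : ModuleCat.{u} A} (m n : M) : eltHom (m + n) = eltHom m + eltHom n := by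
  ext; simp [eltHom]

lemma eltHom_smul {M : ModuleCat.{u} A} (a : A) (m : M) : eltHom (a • m) = (a • 𝟙 (ModuleCat.of A A)) ≫ eltHom m := by
  ext; simp [eltHom]

lemma smul_id_eq_eltHom (a : A) : a • 𝟙 (ModuleCat.of A A) = eltHom (M := ModuleCat.of A A) a := by
  ext; simp [eltHom]

/-- The canonical map from a sum of copies of `A`. -/
noncomputable def cover (M : ModuleCat.{u} A) : (∐ fun _ : M => ModuleCat.of A A) ⟶ M :=
  Sigma.desc fun m => eltHom m

instance epi_cover (M : ModuleCat.{u} A) : Epi (cover M) := by
  rw [ModuleCat.epi_iff_surjective]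
  intro m
  refine ⟨Sigma.ι (fun _ : M => ModuleCat.of A A) m (1 : A), ?_⟩
  rw [← ModuleCat.comp_apply, cover, Sigma.ι_desc]
  simp [eltHom]

variable {C : Type u'} [Category.{v'} C] [Preadditive C] (G H : ModuleCat.{u} A ⥤ C)
  [PreservesFiniteColimits G] [∀ J : Type u, PreservesColimitsOfShape (Discrete J) G]
  [PreservesFiniteColimits H] [∀ J : Type u, PreservesColimitsOfShape (Discrete J) H]

/-- Maps out of `G M` are determined on elements. -/
lemma hom_ext {M : ModuleCat.{u} A} {Z : C} {a b : G.obj M ⟶ Z}
    (h : ∀ m : M, G.map (eltHom m) ≫ a = G.map (eltHom m) ≫ b) : a = b := by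
  rw [← cancel_epi (G.map (cover M))]
  refine Cofan.IsColimit.hom_ext (isColimitCofanMkObjOfIsColimit G _ _ (coproductIsCoproduct _)) _ _ fun m => ?_
  simp only [Cofan.inj, Cofan.mk_ι_app]
  rw [← G.map_comp_assoc, ← G.map_comp_assoc, cover, Sigma.ι_desc]
  exact h m

lemma isIso_app_of_isIso_app_ring [G.Additive] [H.Additive] (t : G ⟶ H) [IsIso (t.app (ModuleCat.of A A))]
    (M : ModuleCat.{u} A) : IsIso (t.app M) := by
  have hfree : ∀ J : Type u, IsIso (t.app (∐ fun _ : J => ModuleCat.of A A)) := fun J => by
    let cG := isColimitCofanMkObjOfIsColimit G _ _ (coproductIsCoproduct fun _ : J => ModuleCat.of A A)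
    let cH := isColimitCofanMkObjOfIsColimit H _ _ (coproductIsCoproduct fun _ : J => ModuleCat.of A A)
    refine ⟨Cofan.IsColimit.desc cH (fun j => inv (t.app (ModuleCat.of A A)) ≫
      G.map (Sigma.ι (fun _ : J => ModuleCat.of A A) j)), Cofan.IsColimit.hom_ext cG _ _ fun j => ?_,
      Cofan.IsColimit.hom_ext cH _ _ fun j => ?_⟩
    · simp only [Cofan.inj, Cofan.mk_ι_app]
      rw [← Category.assoc, t.naturality]
      exact (Category.assoc _ _ _).trans ((congrArg (_ ≫ ·) (Cofan.IsColimit.fac cH _ j)).trans (by simp))
    · refine ((Category.assoc _ _ _).symm.trans (congrArg (· ≫ _) (Cofan.IsColimit.fac cH _ j))).trans ?_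
      simp
  let P := ∐ fun _ : M => ModuleCat.of A A
  let p : P ⟶ M := cover M
  let q : (∐ fun _ : ↑(kernel p : ModuleCat.{u} A) => ModuleCat.of A A) ⟶ P := cover (kernel p) ≫ kernel.ι p
  have hw : q ≫ p = 0 := by simp [q]
  have hc : IsColimit (CokernelCofork.ofπ p hw) := by
    have h := Abelian.epiIsCokernelOfKernel (f := p) _ (kernelIsKernel p)
    haveI : Epi (cover (kernel p : ModuleCat.{u} A)) := epi_cover _
    exact isCokernelEpiComp h (cover (kernel p : ModuleCat.{u} A)) (by simp [q])
  have hcG := isColimitCoforkMapOfIsColimit' G hw hc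
  have hcH := isColimitCoforkMapOfIsColimit' H hw hc
  haveI := hfree M
  haveI := hfree ↑(kernel p : ModuleCat.{u} A)
  obtain ⟨d, hd⟩ := CokernelCofork.IsColimit.desc' hcH (inv (t.app P) ≫ G.map p) (by
    rw [← cancel_epi (t.app (∐ fun _ : ↑(kernel p : ModuleCat.{u} A) => ModuleCat.of A A)), ← Category.assoc, ← t.naturality,
      Category.assoc, IsIso.hom_inv_id_assoc, ← G.map_comp, hw, G.map_zero, comp_zero])
  simp only [Cofork.π_ofπ] at hd
  refine ⟨d, ?_, ?_⟩
  · refine Cofork.IsColimit.hom_ext hcG ?_
    simp only [Cofork.π_ofπ]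
    rw [← Category.assoc, t.naturality, Category.assoc, hd, IsIso.hom_inv_id_assoc]
    exact (Category.comp_id _).symm
  · refine Cofork.IsColimit.hom_ext hcH ?_
    simp only [Cofork.π_ofπ]
    rw [← Category.assoc, hd, Category.assoc, t.naturality, IsIso.inv_hom_id_assoc]
    exact (Category.comp_id _).symm

section Tensor

variable {B : Type u} [CommRing B] (K : Type u) [AddCommGroup K] [Module A K] [Module B K] [SMulCommClass A B K]

/-- `K ⊗ f` as a `B`-linear map. -/
noncomputable def lT {M N : ModuleCat.{u} A} (f : M ⟶ N) : (K ⊗[A] M) →ₗ[B] (K ⊗[A] N) where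
  toFun := LinearMap.lTensor K f.hom
  map_add' := map_add _
  map_smul' b x := by
    induction x using TensorProduct.induction_on with
    | zero => simp
    | tmul k m => simp [TensorProduct.smul_tmul']
    | add p q hp hq => simp_all [smul_add]

/-- The functor `K ⊗ -` to `B`-modules. -/
noncomputable def tensorFunctor : ModuleCat.{u} A ⥤ ModuleCat.{u} B where
  obj M := ModuleCat.of B (K ⊗[A] M)
  map f := ModuleCat.ofHom (lT K f)
  map_id M := by
    ext x
    simp [lT]
  map_comp f g := by
    ext x
    exact LinearMap.lTensor_comp_apply K g.hom f.hom x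

instance : (tensorFunctor (A := A) (B := B) K).Additive where
  map_add {M N f g} := by
    ext x
    simp [tensorFunctor, lT]

/-- Underlying abelian groups. -/
noncomputable def tensorForget : tensorFunctor (A := A) (B := B) K ⋙ forget₂ (ModuleCat.{u} B) AddCommGrpCat ≅
    tensorLeft (ModuleCat.of A K) ⋙ forget₂ (ModuleCat.{u} A) AddCommGrpCat :=
  NatIso.ofComponents (fun M => Iso.refl _) fun f => by
    ext x
    rfl

theorem preserves_tensorFunctor (J : Type u) [SmallCategory J] :
    PreservesColimitsOfShape J (tensorFunctor (A := A) (B := B) K) := by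
  haveI : PreservesColimitsOfShape J (tensorFunctor (A := A) (B := B) K ⋙ forget₂ (ModuleCat.{u} B) AddCommGrpCat) :=
    preservesColimitsOfShape_of_natIso (tensorForget K).symm
  haveI : ReflectsColimitsOfShape J (forget₂ (ModuleCat.{u} B) AddCommGrpCat.{u}) :=
    reflectsColimitsOfShape_of_reflectsIsomorphisms
  exact preservesColimitsOfShape_of_reflects_of_preserves _ (forget₂ (ModuleCat.{u} B) AddCommGrpCat)

instance (J : Type u) : PreservesColimitsOfShape (Discrete J) (tensorFunctor (A := A) (B := B) K) :=
  preserves_tensorFunctor K _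

instance : PreservesFiniteColimits (tensorFunctor (A := A) (B := B) K) :=
  haveI : PreservesColimitsOfSize.{u, u} (tensorFunctor (A := A) (B := B) K) := ⟨fun {J} _ => preserves_tensorFunctor K J⟩
  PreservesColimitsOfSize.preservesFiniteColimits _

end Tensor

section Classify

variable {B : Type u} [CommRing B] (F : ModuleCat.{u} A ⥤ ModuleCat.{u} B) [F.Additive]

/-- The action of `A` on `F A`. -/
noncomputable def actHom : A →+* AddMonoid.End (F.obj (ModuleCat.of A A)) where
  toFun a := (F.map (a • 𝟙 (ModuleCat.of A A))).hom.toAddMonoidHom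
  map_one' := by ext x; simp; rfl
  map_mul' a b := by
    ext x
    change F.map ((a * b) • 𝟙 (ModuleCat.of A A)) x = F.map (a • 𝟙 _) (F.map (b • 𝟙 _) x)
    rw [← ModuleCat.comp_apply, ← F.map_comp]
    congr 3
    ext
    simp
  map_zero' := by ext x; simp; rfl
  map_add' a b := by ext x; simp [add_smul]; rfl

/-- The module structure on `F A`. -/
noncomputable abbrev actModule : Module A (F.obj (ModuleCat.of A A)) :=
  Module.compHom _ (actHom F)

lemma smul_comm' :
    letI := actModule F
    SMulCommClass A B (F.obj (ModuleCat.of A A)) :=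
  letI := actModule F
  ⟨fun a b x => (F.map (a • 𝟙 (ModuleCat.of A A))).hom.map_smul b x⟩

/-- The comparison map. -/
noncomputable def etaHom (M : ModuleCat.{u} A) :
    letI := actModule F
    (F.obj (ModuleCat.of A A)) ⊗[A] M →+ F.obj M :=
  letI := actModule F
  TensorProduct.liftAddHom
    { toFun := fun x =>
        { toFun := fun m => F.map (eltHom m) x
          map_zero' := by
            have : eltHom (0 : M) = 0 := by ext; simp [eltHom]
            simp [this]
          map_add' := fun m n => by simp [eltHom_add] }
      map_zero' := by ext m; simp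
      map_add' := fun x y => by ext m; simp }
    fun a x m => by
      change F.map (eltHom m) (F.map (a • 𝟙 (ModuleCat.of A A)) x) = F.map (eltHom (a • m)) x
      rw [← ModuleCat.comp_apply, ← F.map_comp, ← eltHom_smul]

@[simp] lemma etaHom_tmul (M : ModuleCat.{u} A) (x : F.obj (ModuleCat.of A A)) (m : M) :
    letI := actModule F
    etaHom F M (x ⊗ₜ[A] m) = F.map (eltHom m) x := rfl

variable [PreservesFiniteColimits F] [∀ J : Type u, PreservesColimitsOfShape (Discrete J) F]

theorem exists_eta :
    letI := actModule F
    haveI := smul_comm' F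
    ∃ t : tensorFunctor (A := A) (B := B) (F.obj (ModuleCat.of A A)) ⟶ F, (∀ M, IsIso (t.app M)) ∧
      ∀ (M : ModuleCat.{u} A) (x : F.obj (ModuleCat.of A A)) (m : M), t.app M (x ⊗ₜ[A] m) = F.map (eltHom m) x := by
  letI := actModule F
  haveI := smul_comm' F
  let t : tensorFunctor (A := A) (B := B) (F.obj (ModuleCat.of A A)) ⟶ F :=
    { app := fun M => ModuleCat.ofHom
        { toFun := etaHom F M
          map_add' := map_add _
          map_smul' := fun b z => by
            induction z using TensorProduct.induction_on with
            | zero => simp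
            | tmul x m => simp [TensorProduct.smul_tmul']
            | add p q hp hq => simp_all [smul_add] }
      naturality := fun M N f => by
        ext z
        change etaHom F N (LinearMap.lTensor _ f.hom z) = F.map f (etaHom F M z)
        induction z using TensorProduct.induction_on with
        | zero => simp
        | tmul x m => simp [← ModuleCat.comp_apply, ← F.map_comp, eltHom_comp]
        | add p q hp hq => simp only [map_add, hp, hq] }
  haveI : IsIso (t.app (ModuleCat.of A A)) := by
    rw [ConcreteCategory.isIso_iff_bijective]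
    have h : ∀ z, etaHom F (ModuleCat.of A A) z =
        (TensorProduct.rid A (F.obj (ModuleCat.of A A))) z := by
      intro z
      induction z using TensorProduct.induction_on with
      | zero => simp
      | add p q hp hq => simp only [map_add, hp, hq]
      | tmul x a =>
        rw [TensorProduct.rid_tmul, etaHom_tmul, ← smul_id_eq_eltHom]
        rfl
    refine ⟨fun z w hzw => (TensorProduct.rid A _).injective ?_, fun y => ⟨(TensorProduct.rid A _).symm y, ?_⟩⟩
    · exact ((h z).symm.trans hzw).trans (h w)
    · exact (h _).trans ((TensorProduct.rid A _).apply_symm_apply y)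
  exact ⟨t, fun M => isIso_app_of_isIso_app_ring _ _ t M, fun M x m => rfl⟩

end Classify

end Groth.Agent.CohDer1.EWModules
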