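import Groth.Prelude.Def_DeltaF
import Mathlib.CategoryTheory.Abelian.Refinements
import Mathlib.CategoryTheory.Limits.FunctorCategory.EpiMono

/-!
# Morphisms out of an effaceable delta-functor
-/

universe v u v' u'

open CategoryTheory CategoryTheory.Limits

namespace Groth.Agent.CohDer1.Effaceable

variable {A : Type u} [Category.{v} A] [Abelian A] {B : Type u'} [Category.{v'} B] [Abelian B]
  {T T' : DeltaF.CohDeltaFunctor A B ℕ}

/-- A monomorphism, completed to a short exact sequence. -/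
noncomputable abbrev seq {X Y : A} (u : X ⟶ Y) : ShortComplex A :=
  ShortComplex.mk u (cokernel.π u) (cokernel.condition u)

lemma seq_shortExact {X Y : A} (u : X ⟶ Y) [Mono u] : (seq u).ShortExact :=
  { exact := ShortComplex.exact_of_g_is_cokernel _ (cokernelIsCokernel u) }

theorem epi_δ (T : DeltaF.CohDeltaFunctor A B ℕ) {X Y : A} (u : X ⟶ Y) [Mono u] (i : ℕ)
    (hu : (T.F (i + 1)).map u = 0) : Epi (T.δ (seq u) (seq_shortExact u) i (i + 1) rfl) :=
  (T.exact₁ (seq u) (seq_shortExact u) i (i + 1) rfl).epi_f hu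

theorem mono_succ (hT : T.IsEffaceable) (φ : T ⟶ T') (i : ℕ) (he : Epi (φ.app i)) (hm : Mono (φ.app i)) :
    Mono (φ.app (i + 1)) := by
  rw [NatTrans.mono_iff_mono_app]
  intro X
  obtain ⟨Y, u, hu, hTu⟩ := hT i X
  haveI := epi_δ T u i hTu
  refine Preadditive.mono_of_cancel_zero _ fun {W} x hx => ?_
  obtain ⟨W₁, π₁, hπ₁, z, hz⟩ := surjective_up_to_refinements_of_epi
    (T.δ (seq u) (seq_shortExact u) i (i + 1) rfl) x
  have h1 : (z ≫ (φ.app i).app (seq u).X₃) ≫ T'.δ (seq u) (seq_shortExact u) i (i + 1) rfl = 0 := by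
    rw [Category.assoc, ← φ.comm, ← Category.assoc, ← hz, Category.assoc]
    exact (π₁ ≫= hx).trans comp_zero
  obtain ⟨W₂, π₂, hπ₂, y', hy'⟩ :=
    (T'.exact₃ (seq u) (seq_shortExact u) i (i + 1) rfl).exact_up_to_refinements _ h1
  haveI : Epi ((φ.app i).app (seq u).X₂) := inferInstance
  obtain ⟨W₃, π₃, hπ₃, y, hy⟩ := surjective_up_to_refinements_of_epi ((φ.app i).app (seq u).X₂) y'
  have h2 : π₃ ≫ π₂ ≫ z = y ≫ (T.F i).map (seq u).g := by
    rw [← cancel_mono ((φ.app i).app (seq u).X₃)]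
    simp only [Category.assoc]
    rw [hy', reassoc_of% hy, NatTrans.naturality]
  rw [← cancel_epi (π₃ ≫ π₂ ≫ π₁), comp_zero]
  simp only [Category.assoc]
  rw [hz, ← Category.assoc π₂, ← Category.assoc π₃, h2, Category.assoc, T.comp_δ, comp_zero]

theorem epi_succ (φ : T ⟶ T') (i : ℕ) (he : Epi (φ.app i))
    (hT' : ∀ X : A, ∃ (Y : A) (u : X ⟶ Y), Mono u ∧ (T'.F (i + 1)).map u = 0) :
    Epi (φ.app (i + 1)) := by
  rw [NatTrans.epi_iff_epi_app]
  intro X
  obtain ⟨Y, u, hu, hu0⟩ := hT' X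
  haveI := epi_δ T' u i hu0
  have : Epi (T.δ (seq u) (seq_shortExact u) i (i + 1) rfl ≫ (φ.app (i + 1)).app X) := by
    rw [show T.δ (seq u) (seq_shortExact u) i (i + 1) rfl ≫ (φ.app (i + 1)).app X = _ from
      φ.comm (seq u) (seq_shortExact u) i (i + 1) rfl]
    exact epi_comp _ _
  exact epi_of_epi (T.δ (seq u) (seq_shortExact u) i (i + 1) rfl) _

theorem iso_of_mono_epi (hT : T.IsEffaceable) (φ : T ⟶ T') (n : ℕ) (h0 : Mono (φ.app 0))
    (he : ∀ i ≤ n, Epi (φ.app i)) :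
    (∀ i ≤ n, IsIso (φ.app i)) ∧ Mono (φ.app (n + 1)) := by
  have hm : ∀ i ≤ n + 1, Mono (φ.app i) := by
    intro i
    induction i with
    | zero => exact fun _ => h0
    | succ i ih => exact fun hi => mono_succ hT φ i (he i (by omega)) (ih (by omega))
  refine ⟨fun i hi => ?_, hm (n + 1) le_rfl⟩
  haveI := he i hi
  haveI := hm i (by omega)
  haveI : ∀ X, IsIso ((φ.app i).app X) := fun X => isIso_of_mono_of_epi _
  exact NatIso.isIso_of_isIso_app _

theorem main (hT : T.IsEffaceable) (φ : T ⟶ T') (n : ℕ) :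
    ((∀ i : ℕ, i ≤ n → IsIso (φ.app i)) ∧ Mono (φ.app (n + 1)) ↔
      (Mono (φ.app 0) ∧ ∀ i : ℕ, i ≤ n → Epi (φ.app i))) ∧
    ((∀ i : ℕ, i ≤ n → IsIso (φ.app i)) ∧ Mono (φ.app (n + 1)) ↔
      (IsIso (φ.app 0) ∧ ∀ i : ℕ, 0 < i → i ≤ n → ∀ X : A, ∃ (Y : A) (u : X ⟶ Y), Mono u ∧ (T'.F i).map u = 0)) := by
  refine ⟨⟨fun ⟨h, _⟩ => ⟨?_, fun i hi => ?_⟩, fun ⟨h0, he⟩ => iso_of_mono_epi hT φ n h0 he⟩,
    ⟨fun ⟨h, _⟩ => ⟨h 0 (Nat.zero_le n), fun i hi0 hi X => ?_⟩, fun ⟨h0, he⟩ => ?_⟩⟩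
  · haveI := h 0 (Nat.zero_le n); infer_instance
  · haveI := h i hi; infer_instance
  · obtain ⟨j, rfl⟩ : ∃ j, i = j + 1 := ⟨i - 1, by omega⟩
    obtain ⟨Y, u, hu, hu0⟩ := hT j X
    haveI := h (j + 1) hi
    refine ⟨Y, u, hu, ?_⟩
    rw [← cancel_epi ((φ.app (j + 1)).app X), ← NatTrans.naturality, hu0, zero_comp, comp_zero]
  · haveI := h0
    refine iso_of_mono_epi hT φ n inferInstance fun i => ?_
    induction i with
    | zero => exact fun _ => inferInstance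
    | succ i ih => exact fun hi => epi_succ φ i (ih (by omega)) (he (i + 1) (by omega) hi)

end Groth.Agent.CohDer1.Effaceable
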