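import Groth.Prelude.Def_EtRam
import Mathlib.RingTheory.Polynomial.Eisenstein.Basic
import Mathlib.RingTheory.Polynomial.GaussLemma
import Mathlib.RingTheory.DiscreteValuationRing.TFAE
import Mathlib.RingTheory.Ideal.GoingUp
import Mathlib.RingTheory.AdjoinRoot
import Mathlib.FieldTheory.SeparableDegree

/-!
# Totally ramified extensions `X^q + π^n X = π`
-/

set_option autoImplicit false
universe u
open Polynomial

namespace Groth.Agent.CohDer1.EisensteinExt

theorem exists_ext (p : ℕ) (A K : Type u) [CommRing A] [IsDomain A] [IsDiscreteValuationRing A] [Field K] [Algebra A K]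
    [IsFractionRing A K] (π : A) (hπ : Irreducible π) (n q : ℕ) (hn : 1 < n) (hq : 1 ≤ q) (cc : A)
    (hcm : cc ∈ IsLocalRing.maximalIdeal A) (hc1 : q = 1 → cc = 0) (hc2 : 2 ≤ q → cc = π ^ n) :
    ∃ (L : Type u) (_ : Field L) (_ : Algebra K L) (_ : Algebra A L) (_ : IsScalarTower A K L),
      Module.finrank K L = q ∧ Algebra.IsSeparable K L ∧ EtRam.IsTotallyRamified A (algebraMap A L) ∧
      ∃ πB b b' : L, πB ∈ integralClosure A L ∧ b ∈ integralClosure A L ∧ b' ∈ integralClosure A L ∧
        πB ^ q = algebraMap A L π + algebraMap A L π ^ n * b ∧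
        πB ^ q = algebraMap A L π + πB ^ (n * q) * b' := by
  classical
  have hq0 : q ≠ 0 := by omega
  set P : A[X] := X ^ q + C cc * X - C π with hP
  have hlt : (C cc * X - C π).degree < (q : WithBot ℕ) := by
    rcases Nat.lt_or_ge q 2 with h | h
    · rw [hc1 (by omega), map_zero, zero_mul, zero_sub, degree_neg]
      exact lt_of_le_of_lt degree_C_le (by exact_mod_cast hq)
    · refine lt_of_le_of_lt (degree_sub_le _ _) (max_lt ?_ ?_)
      · exact lt_of_le_of_lt (degree_C_mul_X_le _) (by exact_mod_cast h)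
      · exact lt_of_le_of_lt degree_C_le (by exact_mod_cast hq)
  have hmonic : P.Monic := by
    rw [hP, add_sub_assoc]
    exact monic_X_pow_add hlt
  have hmax : IsLocalRing.maximalIdeal A = Ideal.span {π} := hπ.maximalIdeal_eq
  have hdeg : P.natDegree = q := by
    refine natDegree_eq_of_degree_eq_some ?_
    rw [hP, add_sub_assoc, degree_add_eq_left_of_degree_lt (by rwa [degree_X_pow]), degree_X_pow]
  have heis : P.IsEisensteinAt (IsLocalRing.maximalIdeal A) := by
    refine ⟨?_, fun {i} hi => ?_, ?_⟩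
    · rw [hmonic.leadingCoeff]
      exact Ideal.ne_top_iff_one _ |>.mp (Ideal.IsPrime.ne_top inferInstance)
    · rw [hdeg] at hi
      rw [hP, coeff_sub, coeff_add, coeff_X_pow, if_neg (ne_of_lt hi), zero_add, coeff_C_mul_X, coeff_C]
      refine sub_mem ?_ ?_ <;> split_ifs
      · exact hcm
      · exact zero_mem _
      · exact hmax ▸ Ideal.mem_span_singleton_self π
      · exact zero_mem _
    · rw [hP, coeff_sub, coeff_add, coeff_X_pow, if_neg (Ne.symm hq0), zero_add, coeff_C_mul_X, if_neg (by norm_num),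
        coeff_C, if_pos rfl, zero_sub, hmax, Ideal.span_singleton_pow, Ideal.mem_span_singleton, dvd_neg]
      intro h
      rw [sq] at h
      obtain ⟨c, hc⟩ := h
      exact hπ.not_isUnit (IsUnit.of_mul_eq_one c
        (mul_left_cancel₀ hπ.ne_zero (by rw [mul_one, ← mul_assoc, ← hc])))
  have hirr : Irreducible P :=
    heis.irreducible inferInstance hmonic.isPrimitive (by omega)
  haveI hdom : IsDomain (AdjoinRoot P) := AdjoinRoot.isDomain_of_prime hirr.prime
  haveI : Module.Finite A (AdjoinRoot P) := hmonic.finite_adjoinRoot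
  haveI : Module.Free A (AdjoinRoot P) := hmonic.free_adjoinRoot
  haveI : IsNoetherianRing (AdjoinRoot P) := IsNoetherianRing.of_finite A _
  set α : AdjoinRoot P := AdjoinRoot.root P with hα
  have hαn : α ^ q = algebraMap A (AdjoinRoot P) π - algebraMap A (AdjoinRoot P) cc * α := by
    have := AdjoinRoot.eval₂_root P
    rw [hP, eval₂_sub, eval₂_add, eval₂_pow, eval₂_mul, eval₂_X, eval₂_C, eval₂_C] at this
    rw [AdjoinRoot.algebraMap_eq]
    linear_combination this
  have hdvd : α ∣ algebraMap A (AdjoinRoot P) π :=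
    ⟨α ^ (q - 1) + algebraMap A (AdjoinRoot P) cc, by
      rw [mul_add, ← pow_succ', Nat.sub_add_cancel hq, hαn]; ring⟩
  have hrep : ∀ x : AdjoinRoot P, ∃ a : A, x - algebraMap A _ a ∈ Ideal.span {α} := by
    intro x
    obtain ⟨q, rfl⟩ := AdjoinRoot.mk_surjective x
    refine ⟨q.coeff 0, Ideal.mem_span_singleton.mpr ?_⟩
    rw [AdjoinRoot.algebraMap_eq, ← AdjoinRoot.mk_C, ← map_sub, hα, ← AdjoinRoot.mk_X]
    exact map_dvd _ (X_dvd_sub_C)
  have hinj : Function.Injective (algebraMap A (AdjoinRoot P)) := FaithfulSMul.algebraMap_injective _ _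
  have hπ0 : algebraMap A (AdjoinRoot P) π ≠ 0 := (map_ne_zero_iff _ hinj).mpr hπ.ne_zero
  have hα0 : α ≠ 0 := fun h => hπ0 (zero_dvd_iff.mp (h ▸ hdvd))
  have hαu : ¬ IsUnit α := fun h => hπ.not_isUnit (by
    obtain ⟨d, hd⟩ := Ideal.mem_span_singleton.mp (hmax ▸ hcm)
    have e : algebraMap A (AdjoinRoot P) π * (1 - algebraMap A (AdjoinRoot P) d * α) = α ^ q := by
      rw [hαn, hd, map_mul]; ring
    have h2 : IsUnit (algebraMap A (AdjoinRoot P) π) := isUnit_of_mul_isUnit_left (e ▸ h.pow q)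
    exact (Algebra.IsIntegral.isLocalHom A (AdjoinRoot P)).map_nonunit _ h2)
  have hM : (Ideal.span {α}).IsMaximal := by
    refine Ideal.isMaximal_iff.mpr ⟨fun h => hαu ?_, fun J x hle hx hxJ => ?_⟩
    · exact isUnit_iff_dvd_one.mpr (Ideal.mem_span_singleton.mp h)
    obtain ⟨a, ha⟩ := hrep x
    have hau : IsUnit a := by
      by_contra hau
      have : a ∈ Ideal.span {π} := hmax ▸ (IsLocalRing.mem_maximalIdeal a).mpr hau
      obtain ⟨c, rfl⟩ := Ideal.mem_span_singleton'.mp this
      refine hx (sub_add_cancel x (algebraMap A (AdjoinRoot P) (c * π)) ▸ Ideal.add_mem _ ha ?_)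
      rw [map_mul]
      exact Ideal.mul_mem_left _ _ (Ideal.mem_span_singleton.mpr hdvd)
    have hJ : algebraMap A (AdjoinRoot P) a ∈ J := by
      have := J.sub_mem hxJ (hle ha); rwa [sub_sub_cancel] at this
    have := J.mul_mem_left (↑(hau.map (algebraMap A (AdjoinRoot P))).unit⁻¹ : AdjoinRoot P) hJ
    rwa [IsUnit.val_inv_mul] at this
  haveI hloc : IsLocalRing (AdjoinRoot P) := by
    refine IsLocalRing.of_unique_max_ideal ⟨_, hM, fun N hN => (hM.eq_of_le hN.ne_top ?_).symm⟩
    rw [Ideal.span_singleton_le_iff_mem]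
    refine hN.isPrime.mem_of_pow_mem q ?_
    obtain ⟨d, hd⟩ := Ideal.mem_span_singleton.mp (hmax ▸ hcm)
    rw [hαn, hd, map_mul, mul_assoc]
    suffices algebraMap A (AdjoinRoot P) π ∈ N from sub_mem this (N.mul_mem_right _ this)
    rw [← Ideal.mem_comap]
    have : (N.comap (algebraMap A (AdjoinRoot P))).IsMaximal :=
      Ideal.isMaximal_comap_of_isIntegral_of_isMaximal (R := A) N
    rw [IsLocalRing.eq_maximalIdeal this, hmax]
    exact Ideal.mem_span_singleton_self π
  have hmA : IsLocalRing.maximalIdeal (AdjoinRoot P) = Ideal.span {α} :=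
    (IsLocalRing.eq_maximalIdeal hM).symm
  have hnf : ¬ IsField (AdjoinRoot P) := fun h => by
    have := IsLocalRing.isField_iff_maximalIdeal_eq.mp h
    rw [hmA, Ideal.span_singleton_eq_bot] at this
    exact hα0 this
  haveI hdvr : IsDiscreteValuationRing (AdjoinRoot P) :=
    ((IsDiscreteValuationRing.TFAE (AdjoinRoot P) hnf).out 4 0).mp (show (IsLocalRing.maximalIdeal (AdjoinRoot P)).IsPrincipal from ⟨α, hmA⟩)
  set Pk : K[X] := P.map (algebraMap A K) with hPk
  haveI hfact : Fact (Irreducible Pk) := ⟨hmonic.irreducible_iff_irreducible_map_fraction_map.mp hirr⟩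
  letI : Algebra (AdjoinRoot P) (AdjoinRoot Pk) :=
    (AdjoinRoot.map (algebraMap A K) P Pk dvd_rfl).toAlgebra
  have hmap : ∀ f : A[X], algebraMap (AdjoinRoot P) (AdjoinRoot Pk) (AdjoinRoot.mk P f) =
      AdjoinRoot.mk Pk (f.map (algebraMap A K)) := by
    intro f
    show AdjoinRoot.map _ P Pk dvd_rfl _ = _
    rw [AdjoinRoot.map, AdjoinRoot.lift_mk, ← AdjoinRoot.aeval_eq, aeval_def, eval₂_map, AdjoinRoot.algebraMap_eq]
  haveI : IsFractionRing (AdjoinRoot P) (AdjoinRoot Pk) := by
    haveI : FaithfulSMul (AdjoinRoot P) (AdjoinRoot Pk) := by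
      rw [faithfulSMul_iff_algebraMap_injective, injective_iff_map_eq_zero]
      intro x hx
      obtain ⟨f, rfl⟩ := AdjoinRoot.mk_surjective x
      rw [hmap, AdjoinRoot.mk_eq_zero, hPk,
        map_dvd_map _ (IsFractionRing.injective A K) hmonic] at hx
      exact AdjoinRoot.mk_eq_zero.mpr hx
    refine IsFractionRing.of_field (AdjoinRoot P) (AdjoinRoot Pk) fun z => ?_
    obtain ⟨f, rfl⟩ := AdjoinRoot.mk_surjective z
    obtain ⟨b, hb⟩ := IsLocalization.integerNormalization_map_to_map (nonZeroDivisors A) f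
    refine ⟨AdjoinRoot.mk P (IsLocalization.integerNormalization (nonZeroDivisors A) f), AdjoinRoot.mk P (C (b : A)), ?_⟩
    have hb0 : algebraMap A K (b : A) ≠ 0 := (IsLocalization.map_units K b).ne_zero
    rw [hmap, hmap, hb, map_C, eq_div_iff (by
      rw [AdjoinRoot.mk_C]
      exact (map_ne_zero_iff _ (RingHom.injective (AdjoinRoot.of Pk))).mpr hb0), ← map_mul]
    congr 1
    rw [Algebra.smul_def, Polynomial.algebraMap_apply]
    ring
  refine ⟨AdjoinRoot Pk, inferInstance, inferInstance, inferInstance, inferInstance, ?_, ?_, ?_, ?_⟩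
  · rw [PowerBasis.finrank (AdjoinRoot.powerBasis hfact.out.ne_zero), AdjoinRoot.powerBasis_dim, hPk,
      hmonic.natDegree_map, hdeg]
  · have hsep : Pk.Separable := by
      rw [separable_iff_derivative_ne_zero hfact.out]
      intro h0
      have h1 := congrArg (fun f : K[X] => f.coeff 0) h0
      rcases Nat.lt_or_ge q 2 with h | h
      · obtain rfl : q = 1 := by omega
        simp [hPk, hP, hc1 rfl] at h1
      · simp [hPk, hP, hc2 h, derivative_X_pow, coeff_C, show q - 1 ≠ 0 by omega, coeff_X_pow] at h1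
        rw [if_neg (by omega), zero_add, ← map_pow, coeff_C_zero] at h1
        exact pow_ne_zero _ ((map_ne_zero_iff _ (IsFractionRing.injective A K)).mpr hπ.ne_zero) h1
    have hmin : minpoly K (AdjoinRoot.root Pk) = Pk := by
      rw [AdjoinRoot.minpoly_root hfact.out.ne_zero, hPk, (hmonic.map _).leadingCoeff, inv_one, map_one, mul_one]
    haveI : Algebra.IsSeparable K (IntermediateField.adjoin K {AdjoinRoot.root Pk}) :=
      (IntermediateField.isSeparable_adjoin_simple_iff_isSeparable K (AdjoinRoot Pk)).mpr (by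
        rw [IsSeparable, hmin]; exact hsep)
    have htop : IntermediateField.adjoin K ({AdjoinRoot.root Pk} : Set (AdjoinRoot Pk)) = ⊤ :=
      IntermediateField.adjoin_eq_top_of_algebra _ _ (AdjoinRoot.adjoinRoot_eq_top (f := Pk))
    exact Algebra.IsSeparable.of_algHom K _ (IntermediateField.equivOfEq htop |>.trans IntermediateField.topEquiv).symm.toAlgHom
  rotate_left
  · set r : AdjoinRoot Pk := algebraMap (AdjoinRoot P) (AdjoinRoot Pk) α
    have hcomp : ∀ a, algebraMap (AdjoinRoot P) (AdjoinRoot Pk) (algebraMap A _ a) = algebraMap A (AdjoinRoot Pk) a := by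
      intro a
      rw [AdjoinRoot.algebraMap_eq, ← AdjoinRoot.mk_C, hmap, map_C, AdjoinRoot.mk_C, IsScalarTower.algebraMap_apply A K (AdjoinRoot Pk)]
      rfl
    haveI : IsScalarTower A (AdjoinRoot P) (AdjoinRoot Pk) := IsScalarTower.of_algebraMap_eq fun a => (hcomp a).symm
    have hint : ∀ x : AdjoinRoot P, algebraMap (AdjoinRoot P) (AdjoinRoot Pk) x ∈ integralClosure A (AdjoinRoot Pk) :=
      fun x => (Algebra.IsIntegral.isIntegral (R := A) x).algebraMap
    rcases Nat.lt_or_ge q 2 with h | h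
    · obtain rfl : q = 1 := by omega
      refine ⟨r, 0, 0, hint α, Subalgebra.zero_mem _, Subalgebra.zero_mem _, ?_, ?_⟩ <;>
        rw [mul_zero, add_zero, ← map_pow, hαn, hc1 rfl, map_zero, zero_mul, sub_zero, hcomp]
    · rw [hc2 h] at hαn
      have e : algebraMap A (AdjoinRoot P) π * (1 - algebraMap A _ π ^ (n - 1) * α) = α ^ q := by
        rw [hαn, map_pow]
        obtain ⟨j, rfl⟩ : ∃ j, n = j + 1 := ⟨n - 1, by omega⟩
        rw [Nat.add_sub_cancel]
        ring
      have hu : IsUnit (1 - algebraMap A (AdjoinRoot P) π ^ (n - 1) * α) :=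
        (IsLocalRing.isUnit_or_isUnit_one_sub_self _).resolve_left fun h => hαu (isUnit_of_mul_isUnit_right h)
      obtain ⟨v, hv⟩ := hu
      refine ⟨r, -r, algebraMap (AdjoinRoot P) (AdjoinRoot Pk) (-α * ↑v⁻¹ ^ n), hint α, Subalgebra.neg_mem _ (hint α), hint _, ?_, ?_⟩
      · rw [← map_pow, hαn, map_sub, map_mul, hcomp, hcomp, map_pow, mul_neg]
        ring
      · have h2 : α ^ (n * q) * (-α * (↑v⁻¹ : AdjoinRoot P) ^ n) = -(algebraMap A _ π ^ n * α) := by
          rw [mul_comm n q, pow_mul, ← e, ← hv, mul_pow]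
          calc _ = -(algebraMap A (AdjoinRoot P) π ^ n * α) * ((v : AdjoinRoot P) * ↑v⁻¹) ^ n := by ring
            _ = _ := by rw [Units.mul_inv, one_pow, mul_one]
        rw [← map_pow, ← map_pow, ← map_mul, h2, hαn, map_sub, map_mul, hcomp, map_neg, map_mul, ← map_pow, hcomp, map_pow]
        ring
  let K₁ := AdjoinRoot Pk
  have halg : algebraMap A K₁ = (algebraMap (AdjoinRoot P) K₁).comp (algebraMap A (AdjoinRoot P)) := by
    ext a
    show algebraMap A (AdjoinRoot Pk) a = algebraMap (AdjoinRoot P) (AdjoinRoot Pk) (algebraMap A _ a)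
    rw [AdjoinRoot.algebraMap_eq, ← AdjoinRoot.mk_C, hmap, map_C, AdjoinRoot.mk_C, IsScalarTower.algebraMap_apply A K (AdjoinRoot Pk)]
    rfl
  rw [halg]
  set ι := algebraMap (AdjoinRoot P) K₁
  let V₀ : ValuationSubring K₁ :=
    { ι.range with
      mem_or_inv_mem' := fun x => by
        rcases ValuationRing.isInteger_or_isInteger (AdjoinRoot P) x with h | h
        · exact Or.inl h
        · exact Or.inr h }
  have hdom₀ : EtRam.Dominates A (ι.comp (algebraMap A (AdjoinRoot P))) V₀ := by
    refine ⟨fun a => ⟨algebraMap A (AdjoinRoot P) a, rfl⟩, fun a ha => ?_⟩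
    show (ι.comp (algebraMap A (AdjoinRoot P))) a ∈ V₀.nonunits
    rw [ValuationSubring.mem_nonunits_iff_or]
    by_cases h0 : ι (algebraMap A (AdjoinRoot P) a) = 0
    · exact Or.inl h0
    refine Or.inr fun h => ?_
    obtain ⟨y, hy⟩ := h
    have h1 : algebraMap A (AdjoinRoot P) a * y = 1 := by
      refine IsFractionRing.injective (AdjoinRoot P) K₁ ?_
      rw [map_mul, map_one, hy]
      exact mul_inv_cancel₀ h0
    exact (IsLocalRing.mem_maximalIdeal a).mp ha
      ((Algebra.IsIntegral.isLocalHom A (AdjoinRoot P)).map_nonunit _ (IsUnit.of_mul_eq_one _ h1))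
  have key : ∀ V : ValuationSubring K₁, EtRam.Dominates A (ι.comp (algebraMap A (AdjoinRoot P))) V →
      (∀ r : (AdjoinRoot P), ι r ∈ V) ∧ V.valuation (ι α) < 1 ∧ V = V₀ := by
    intro V hV
    have hαlt : V.valuation (ι α) < 1 := by
      have h := hV.2 π (hmax ▸ Ideal.mem_span_singleton_self π)
      obtain ⟨d, hd⟩ := Ideal.mem_span_singleton.mp (hmax ▸ hcm)
      rw [RingHom.comp_apply] at h
      refine lt_of_not_ge fun hge => ?_
      have hge' : 1 ≤ V.valuation (ι (α ^ q)) := by
        rw [map_pow, map_pow]; exact one_le_pow₀ hge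
      rw [hαn, hd, map_mul, map_sub, map_mul, map_mul] at hge'
      have hd' := (V.valuation_le_one_iff _).mpr (hV.1 d)
      rw [RingHom.comp_apply] at hd'
      have hmul : V.valuation (ι (algebraMap A _ π) * ι (algebraMap A _ d) * ι α) < V.valuation (ι α) := by
        rw [map_mul, map_mul]
        refine (mul_lt_iff_lt_one_left (lt_of_lt_of_le zero_lt_one hge)).mpr ?_
        exact lt_of_le_of_lt (mul_le_of_le_one_right' hd') h
      have hle := (Valuation.map_sub V.valuation (ι (algebraMap A _ π)) (ι (algebraMap A _ π) * ι (algebraMap A _ d) * ι α))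
      have hlt : max (V.valuation (ι (algebraMap A _ π))) (V.valuation (ι (algebraMap A _ π) * ι (algebraMap A _ d) * ι α)) < V.valuation (ι α) :=
        max_lt (lt_of_lt_of_le h hge) hmul
      have hpow : V.valuation (ι α) ≤ V.valuation (ι (α ^ q)) := by
        rw [map_pow, map_pow]; exact le_self_pow₀ hge hq0
      rw [hαn, hd, map_mul, map_sub, map_mul, map_mul] at hpow
      exact absurd (lt_of_le_of_lt (hpow.trans hle) hlt) (lt_irrefl _)
    have hαV : ι α ∈ V := (V.valuation_le_one_iff _).mp hαlt.le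
    have hmem : ∀ r : (AdjoinRoot P), ι r ∈ V := by
      intro r
      obtain ⟨q, rfl⟩ := AdjoinRoot.mk_surjective r
      induction q using Polynomial.induction_on' with
      | add p q hp hq => rw [map_add, map_add]; exact V.add_mem _ _ hp hq
      | monomial k a =>
        rw [← C_mul_X_pow_eq_monomial, map_mul, map_pow, AdjoinRoot.mk_C, AdjoinRoot.mk_X, map_mul, map_pow]
        exact V.mul_mem _ _ (hV.1 a) (pow_mem hαV k)
    refine ⟨hmem, hαlt, ?_⟩
    ext x
    refine ⟨fun hx => ?_, fun hx => ?_⟩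
    · rcases ValuationRing.isInteger_or_isInteger (AdjoinRoot P) x with h | ⟨a, ha⟩
      · exact h
      by_cases hau : IsUnit a
      · obtain ⟨u, rfl⟩ := hau
        refine ⟨(↑u⁻¹ : (AdjoinRoot P)), ?_⟩
        change ι _ = x
        refine inv_injective ?_
        rw [← ha, ← map_units_inv, inv_inv]
      · by_cases hx0 : x = 0
        · exact ⟨0, by rw [hx0]; exact map_zero ι⟩
        exfalso
        have : a ∈ Ideal.span {α} := hmA.le ((IsLocalRing.mem_maximalIdeal a).mpr hau)
        obtain ⟨b, rfl⟩ := Ideal.mem_span_singleton'.mp this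
        change ι (b * α) = x⁻¹ at ha
        have h1 : V.valuation x * (V.valuation (ι b) * V.valuation (ι α)) = 1 := by
          rw [← map_mul, ← map_mul, ← map_mul ι, ha, mul_inv_cancel₀ hx0, map_one]
        have h2 : V.valuation (ι b) * V.valuation (ι α) < 1 :=
          lt_of_le_of_lt (mul_le_of_le_one_left' ((V.valuation_le_one_iff _).mpr (hmem b))) hαlt
        exact (lt_of_le_of_lt (mul_le_of_le_one_left' ((V.valuation_le_one_iff _).mpr hx)) h2).ne h1
    · obtain ⟨r, rfl⟩ := hx
      exact hmem r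
  refine ⟨⟨V₀, hdom₀⟩, fun V V' h h' => (key V h).2.2.trans (key V' h').2.2.symm, fun V hV y => ?_⟩
  obtain ⟨v, rfl⟩ := IsLocalRing.residue_surjective y
  obtain ⟨hmem, hαlt, hV₀⟩ := key V hV
  obtain ⟨r, hr⟩ : (v : K₁) ∈ V₀ := hV₀ ▸ v.2
  obtain ⟨a, ha⟩ := hrep r
  refine ⟨a, ?_⟩
  rw [eq_comm, ← sub_eq_zero, ← map_sub, IsLocalRing.residue_eq_zero_iff, V.valuation_lt_one_iff]
  obtain ⟨b, hb⟩ := Ideal.mem_span_singleton'.mp ha
  show V.valuation ((v : K₁) - ι (algebraMap A (AdjoinRoot P) a)) < 1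
  rw [← hr, show ι r - ι (algebraMap A (AdjoinRoot P) a) = ι b * ι α by rw [← map_sub, ← hb, map_mul], map_mul]
  exact lt_of_le_of_lt (mul_le_of_le_one_left' ((V.valuation_le_one_iff _).mpr (hmem b))) hαlt

end Groth.Agent.CohDer1.EisensteinExt
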