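import Mathlib.RingTheory.Ideal.KrullsHeightTheorem
import Mathlib.RingTheory.MvPolynomial.Symmetric.Defs
import Mathlib.RingTheory.Polynomial.Basic
import Mathlib.Algebra.MvPolynomial.Equiv
import Mathlib.Algebra.Polynomial.RingDivision
import Mathlib.RingTheory.Polynomial.UniqueFactorization
import Mathlib.RingTheory.Localization.FractionRing
import Mathlib.Tactic

/-!
# The affine cone `V(σ₂, σ₄) ⊆ 𝔸⁵` is irreducible
-/

set_option autoImplicit false

universe u

open Polynomial

namespace Groth.Agent.CohDer1.EsymmCone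

section Quadratic

variable {A : Type*} [CommRing A] [IsDomain A]

theorem irreducible_quadratic {a b c : A} (ha : a ≠ 0) (hp : ∀ d, d ∣ a → d ∣ b → d ∣ c → IsUnit d)
    (hd : ∀ s, s * s ≠ b * b - 4 * a * c) :
    Irreducible (C a * X ^ 2 + C b * X + C c) := by
  set q := C a * X ^ 2 + C b * X + C c with hq
  have hdeg : q.natDegree = 2 := by rw [hq]; exact natDegree_quadratic ha
  have h0 : q ≠ 0 := by intro h; rw [h] at hdeg; simp at hdeg
  refine ⟨fun h => by have := natDegree_eq_zero_of_isUnit h; omega, fun f g hfg => ?_⟩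
  have hf0 : f ≠ 0 := by rintro rfl; simp at hfg; exact h0 hfg
  have hg0 : g ≠ 0 := by rintro rfl; simp at hfg; exact h0 hfg
  have hsum : f.natDegree + g.natDegree = 2 := by rw [← natDegree_mul hf0 hg0, ← hfg, hdeg]
  have hconst : ∀ f : A[X], f ∣ q → f.natDegree = 0 → IsUnit f := by
    intro f hf hf'
    rw [eq_C_of_natDegree_eq_zero hf'] at hf ⊢
    rw [C_dvd_iff_dvd_coeff] at hf
    refine (hp _ ?_ ?_ ?_).map C
    · simpa [hq, coeff_C, coeff_X] using hf 2
    · simpa [hq, coeff_C, coeff_X] using hf 1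
    · simpa [hq, coeff_C, coeff_X] using hf 0
  by_cases hf : f.natDegree = 0
  · exact Or.inl (hconst f ⟨g, hfg⟩ hf)
  by_cases hg : g.natDegree = 0
  · exact Or.inr (hconst g ⟨f, by rw [hfg, mul_comm]⟩ hg)
  exfalso
  have ef := eq_X_add_C_of_natDegree_le_one (p := f) (by omega)
  have eg := eq_X_add_C_of_natDegree_le_one (p := g) (by omega)
  have e : C a * X ^ 2 + C b * X + C c = C (f.coeff 1 * g.coeff 1) * X ^ 2 +
      C (f.coeff 1 * g.coeff 0 + f.coeff 0 * g.coeff 1) * X + C (f.coeff 0 * g.coeff 0) := by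
    rw [← hq, hfg]
    conv_lhs => rw [ef, eg]
    simp only [map_add, map_mul]
    ring
  have e2 : a = f.coeff 1 * g.coeff 1 := by
    simpa [coeff_C, coeff_X, mul_assoc, coeff_X_pow] using congrArg (fun p => Polynomial.coeff p 2) e
  have e1 : b = f.coeff 1 * g.coeff 0 + f.coeff 0 * g.coeff 1 := by
    simpa [coeff_C, coeff_X, mul_assoc, coeff_X_pow] using congrArg (fun p => Polynomial.coeff p 1) e
  have e0 : c = f.coeff 0 * g.coeff 0 := by
    simpa [coeff_C, coeff_X, mul_assoc, coeff_X_pow] using congrArg (fun p => Polynomial.coeff p 0) e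
  exact hd (f.coeff 1 * g.coeff 0 - f.coeff 0 * g.coeff 1) (by rw [e2, e1, e0]; ring)

end Quadratic

section Prime3

variable (k : Type u) [Field k]

theorem prime_add : Prime (MvPolynomial.X 0 + MvPolynomial.X 1 : MvPolynomial (Fin 2) k) := by
  rw [← MulEquiv.prime_iff (MvPolynomial.finSuccEquiv k 1).toMulEquiv]
  have h : (MvPolynomial.finSuccEquiv k 1) (MvPolynomial.X 0 + MvPolynomial.X 1) =
      X - C (-(MvPolynomial.X 0 : MvPolynomial (Fin 1) k)) := by
    rw [map_add, MvPolynomial.finSuccEquiv_X_zero, show (1 : Fin 2) = Fin.succ 0 from rfl,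
      MvPolynomial.finSuccEquiv_X_succ, map_neg, sub_neg_eq_add]
  show Prime ((MvPolynomial.finSuccEquiv k 1) (MvPolynomial.X 0 + MvPolynomial.X 1))
  rw [h]
  exact prime_X_sub_C _

open MvPolynomial in
theorem prime_sigma2 : Prime (X 0 * X 1 + X 0 * X 2 + X 1 * X 2 : MvPolynomial (Fin 3) k) := by
  rw [← MulEquiv.prime_iff (finSuccEquiv k 2).toMulEquiv]
  have h : (finSuccEquiv k 2) (X 0 * X 1 + X 0 * X 2 + X 1 * X 2) =
      Polynomial.C (X 0 + X 1 : MvPolynomial (Fin 2) k) * Polynomial.X + Polynomial.C (X 0 * X 1) := by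
    simp only [map_add, map_mul, finSuccEquiv_X_zero, show (1 : Fin 3) = Fin.succ 0 from rfl,
      show (2 : Fin 3) = Fin.succ 1 from rfl, finSuccEquiv_X_succ]
    ring
  show Prime ((finSuccEquiv k 2) (X 0 * X 1 + X 0 * X 2 + X 1 * X 2))
  rw [h, ← irreducible_iff_prime]
  refine Polynomial.irreducible_C_mul_X_add_C (prime_add k).ne_zero ?_
  refine ((prime_add k).irreducible.isRelPrime_iff_not_dvd).mpr fun ⟨t, ht⟩ => ?_
  simpa using congrArg (MvPolynomial.eval (![1, -1] : Fin 2 → k)) ht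

end Prime3

section Sym

variable {S : Type*} [CommRing S]

/-- elementary symmetric functions of four elements -/
def E1 (v : Fin 4 → S) : S := v 0 + v 1 + v 2 + v 3
/-- elementary symmetric functions of four elements -/
def E2 (v : Fin 4 → S) : S := v 0 * v 1 + v 0 * v 2 + v 0 * v 3 + v 1 * v 2 + v 1 * v 3 + v 2 * v 3
/-- elementary symmetric functions of four elements -/
def E3 (v : Fin 4 → S) : S := v 0 * v 1 * v 2 + v 0 * v 1 * v 3 + v 0 * v 2 * v 3 + v 1 * v 2 * v 3
/-- elementary symmetric functions of four elements -/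
def E4 (v : Fin 4 → S) : S := v 0 * v 1 * v 2 * v 3

theorem vieta (v : Fin 4 → S) (i : Fin 4) :
    v i ^ 4 = E1 v * v i ^ 3 - E2 v * v i ^ 2 + E3 v * v i - E4 v := by
  fin_cases i <;> simp [E1, E2, E3, E4] <;> ring

end Sym

variable (k : Type u) [Field k] [CharZero k]

local notation "R4" => MvPolynomial (Fin 4) k

noncomputable abbrev y : Fin 4 → R4 := MvPolynomial.X

/-- The eliminant. -/
noncomputable def gel : R4 := E1 (y k) * E4 (y k) - E2 (y k) * E3 (y k)

open MvPolynomial in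
theorem prime_gel : Prime (gel k) := by
  rw [← MulEquiv.prime_iff (finSuccEquiv k 3).toMulEquiv]
  let f1 : MvPolynomial (Fin 3) k := X 0 + X 1 + X 2
  let f2 : MvPolynomial (Fin 3) k := X 0 * X 1 + X 0 * X 2 + X 1 * X 2
  let f3 : MvPolynomial (Fin 3) k := X 0 * X 1 * X 2
  have h : (finSuccEquiv k 3) (gel k) = Polynomial.C (f3 - f1 * f2) * Polynomial.X ^ 2 +
      Polynomial.C (-(f2 * f2)) * Polynomial.X + Polynomial.C (-(f2 * f3)) := by
    simp only [gel, E1, E2, E3, E4, y, f1, f2, f3, map_add, map_sub, map_neg, map_mul, finSuccEquiv_X_zero,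
      show (1 : Fin 4) = Fin.succ 0 from rfl, show (2 : Fin 4) = Fin.succ 1 from rfl,
      show (3 : Fin 4) = Fin.succ 2 from rfl, finSuccEquiv_X_succ]
    ring
  show Prime ((finSuccEquiv k 3) (gel k))
  rw [h, ← irreducible_iff_prime]
  have hev : MvPolynomial.eval (![2, 2, -1] : Fin 3 → k) f2 = 0 := by simp [f2]; norm_num
  have hndvd : ∀ r : MvPolynomial (Fin 3) k, MvPolynomial.eval (![2, 2, -1] : Fin 3 → k) r ≠ 0 → ¬ f2 ∣ r :=
    fun r hr ⟨t, ht⟩ => hr (by rw [ht, map_mul, hev, zero_mul])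
  have ha : ¬ f2 ∣ f3 - f1 * f2 := hndvd _ (by simp [f1, f2, f3]; norm_num)
  have hf2 : Prime f2 := prime_sigma2 k
  refine irreducible_quadratic (fun h0 => ha (by rw [h0]; exact dvd_zero _)) (fun d hd1 hd2 _ => ?_)
    fun s hs => ?_
  · obtain ⟨i, hi, hassoc⟩ := (dvd_prime_pow (q := d) hf2 2).mp (by rwa [dvd_neg, ← sq] at hd2)
    rcases i with _ | i
    · exact (associated_one_iff_isUnit.mp (by simpa using hassoc))
    · exact absurd ((dvd_pow_self f2 (Nat.succ_ne_zero i)).trans (hassoc.symm.dvd.trans hd1)) ha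
  · have h1 : f2 ∣ s * s := ⟨f2 * f2 * f2 + 4 * (f3 - f1 * f2) * f3, by rw [hs]; ring⟩
    obtain ⟨t, ht⟩ := (hf2.dvd_or_dvd h1).elim id id
    have h2 : f2 * (f2 * t * t) = f2 * (f2 * f2 * f2 + 4 * (f3 - f1 * f2) * f3) := by
      rw [ht] at hs
      linear_combination hs
    have h3 := congrArg (MvPolynomial.eval (![2, 2, -1] : Fin 3 → k)) (mul_left_cancel₀ hf2.ne_zero h2)
    simp [f1, f2, f3] at h3
    norm_num at h3

open MvPolynomial in
theorem E1_not_mem : E1 (y k) ∉ Ideal.span {gel k} := by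
  rw [Ideal.mem_span_singleton]
  rintro ⟨t, ht⟩
  have := congrArg (MvPolynomial.eval (![0, 0, 0, 1] : Fin 4 → k)) ht
  simp [gel, E1, E2, E3, E4, y] at this

section Height

variable {R : Type*} [CommRing R] [IsNoetherianRing R]

theorem three_le_height {a b c d : Ideal R} [a.IsPrime] [b.IsPrime] [c.IsPrime] [d.IsPrime]
    (h1 : a < b) (h2 : b < c) (h3 : c < d) : (3 : ℕ∞) ≤ d.height := by
  have s1 := Order.add_one_le_of_lt (Ideal.height_strict_mono_of_isPrime_of_isPrime h1)
  have s2 := Order.add_one_le_of_lt (Ideal.height_strict_mono_of_isPrime_of_isPrime h2)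
  have s3 := Order.add_one_le_of_lt (Ideal.height_strict_mono_of_isPrime_of_isPrime h3)
  calc (3 : ℕ∞) = 0 + 1 + 1 + 1 := by norm_num
    _ ≤ a.height + 1 + 1 + 1 := by gcongr; exact bot_le
    _ ≤ b.height + 1 + 1 := by gcongr
    _ ≤ c.height + 1 := by gcongr
    _ ≤ d.height := s3

end Height

open MvPolynomial in
theorem ker_aeval_le {P : Ideal R4} (w : Fin 4 → R4) (hw : ∀ i, w i - X i ∈ P) :
    RingHom.ker (aeval w : R4 →ₐ[k] R4) ≤ P := by
  intro f hf
  have : (Ideal.Quotient.mkₐ k P).comp (aeval w) = Ideal.Quotient.mkₐ k P := by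
    apply MvPolynomial.algHom_ext
    intro i
    simpa using Ideal.Quotient.eq.mpr (hw i)
  have h := DFunLike.congr_fun this f
  rw [AlgHom.comp_apply, RingHom.mem_ker.mp hf, map_zero] at h
  exact Ideal.Quotient.eq_zero_iff_mem.mp h.symm

/-- `C e₂ + C e₁ X` -/
noncomputable def s2 : Polynomial R4 := C (E2 (y k)) + C (E1 (y k)) * X

/-- `C e₄ + C e₃ X` -/
noncomputable def s4 : Polynomial R4 := C (E4 (y k)) + C (E3 (y k)) * X

theorem mapC_lt {P Q : Ideal R4} (h : P < Q) : P.map (C : R4 →+* Polynomial R4) < Q.map C := by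
  obtain ⟨hle, x, hx, hxP⟩ := SetLike.lt_iff_le_and_exists.mp h
  refine SetLike.lt_iff_le_and_exists.mpr ⟨Ideal.map_mono hle, C x, Ideal.mem_map_of_mem _ hx, fun hm => hxP ?_⟩
  simpa using Ideal.mem_map_C_iff.mp hm 0

open MvPolynomial in
theorem three_le_height_of_mem (P : Ideal (Polynomial R4)) [P.IsPrime] (h1 : Polynomial.C (E1 (y k)) ∈ P)
    (h2 : s2 k ∈ P) (h4 : s4 k ∈ P) : (3 : ℕ∞) ≤ P.height := by
  let P4 := P.comap (Polynomial.C : R4 →+* Polynomial R4)
  haveI : P4.IsPrime := Ideal.IsPrime.comap _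
  have hmap : P4.map (Polynomial.C : R4 →+* Polynomial R4) ≤ P := Ideal.map_comap_le
  haveI := Ideal.isPrime_map_C_of_isPrime (P := P4)
  have e1 : E1 (y k) ∈ P4 := h1
  have e2 : E2 (y k) ∈ P4 := by
    show Polynomial.C _ ∈ P
    have := P.sub_mem h2 (P.mul_mem_right Polynomial.X h1)
    simpa [s2] using this
  by_cases e3 : E3 (y k) ∈ P4
  · have e4 : E4 (y k) ∈ P4 := by
      show Polynomial.C _ ∈ P
      have := P.sub_mem h4 (P.mul_mem_right Polynomial.X (show Polynomial.C (E3 (y k)) ∈ P from e3))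
      simpa [s4] using this
    have hall : ∀ i, y k i ∈ P4 := fun i => by
      refine ‹P4.IsPrime›.mem_of_pow_mem 4 ?_
      rw [vieta (y k) i]
      exact sub_mem (add_mem (sub_mem (P4.mul_mem_right _ e1) (P4.mul_mem_right _ e2)) (P4.mul_mem_right _ e3)) e4
    let w1 : Fin 4 → R4 := ![0, X 1, X 2, X 3]
    let w2 : Fin 4 → R4 := ![0, 0, X 2, X 3]
    let Q1 := RingHom.ker (aeval w1 : R4 →ₐ[k] R4)
    let Q2 := RingHom.ker (aeval w2 : R4 →ₐ[k] R4)
    haveI : Q1.IsPrime := RingHom.ker_isPrime _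
    haveI : Q2.IsPrime := RingHom.ker_isPrime _
    have l0 : (⊥ : Ideal R4) < Q1 := by
      refine bot_lt_iff_ne_bot.mpr fun h => ?_
      have : X 0 ∈ Q1 := by simp [Q1, RingHom.mem_ker, w1]
      rw [h] at this
      exact X_ne_zero 0 this
    have l1 : Q1 < Q2 := by
      refine SetLike.lt_iff_le_and_exists.mpr ⟨ker_aeval_le k w1 fun i => ?_, X 1, ?_, ?_⟩
      · fin_cases i <;> simp [w1, Q2, w2, RingHom.mem_ker]
      · simp [Q2, w2, RingHom.mem_ker]
      · simp [Q1, w1, RingHom.mem_ker]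
    have l2 : Q2 < P4 := by
      refine SetLike.lt_iff_le_and_exists.mpr ⟨ker_aeval_le k w2 fun i => ?_, X 2, hall 2, ?_⟩
      · fin_cases i <;> simp [w2] <;> first | exact P4.zero_mem | exact hall _
      · simp [Q2, w2, RingHom.mem_ker]
    haveI := Ideal.isPrime_map_C_of_isPrime (P := Q1)
    haveI := Ideal.isPrime_map_C_of_isPrime (P := Q2)
    haveI : (⊥ : Ideal R4).IsPrime := Ideal.bot_prime
    haveI := Ideal.isPrime_map_C_of_isPrime (P := (⊥ : Ideal R4))
    exact (three_le_height (mapC_lt k l0) (mapC_lt k l1) (mapC_lt k l2)).trans (Ideal.height_mono hmap)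
  · let w : Fin 4 → R4 := ![-(X 1 + X 2 + X 3), X 1, X 2, X 3]
    let Q1 := RingHom.ker (aeval w : R4 →ₐ[k] R4)
    haveI : Q1.IsPrime := RingHom.ker_isPrime _
    have he1 : E1 (y k) ∈ Q1 := by simp [Q1, w, RingHom.mem_ker, E1, y]; ring
    have l0 : (⊥ : Ideal R4) < Q1 := by
      refine bot_lt_iff_ne_bot.mpr fun h => ?_
      rw [h, Ideal.mem_bot] at he1
      simpa [E1, y] using congrArg (MvPolynomial.eval (![1, 0, 0, 0] : Fin 4 → k)) he1
    have l1 : Q1 < P4 := by
      refine SetLike.lt_iff_le_and_exists.mpr ⟨ker_aeval_le k w fun i => ?_, _, e2, fun hm => ?_⟩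
      · fin_cases i
        · have := P4.neg_mem e1
          simp only [E1, y] at this
          simp [w]
          convert this using 1
          ring
        all_goals simp [w]
      · simpa [w, E2, y] using congrArg (MvPolynomial.eval (![0, 1, 0, 0] : Fin 4 → k)) (RingHom.mem_ker.mp hm)
    have l2 : P4.map (Polynomial.C : R4 →+* Polynomial R4) < P :=
      SetLike.lt_iff_le_and_exists.mpr ⟨hmap, s4 k, h4, fun hm => e3 (by
        simpa [s4, Polynomial.coeff_C, Polynomial.coeff_X] using Ideal.mem_map_C_iff.mp hm 1)⟩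
    haveI : (⊥ : Ideal R4).IsPrime := Ideal.bot_prime
    haveI := Ideal.isPrime_map_C_of_isPrime (P := (⊥ : Ideal R4))
    haveI := Ideal.isPrime_map_C_of_isPrime (P := Q1)
    exact three_le_height (mapC_lt k l0) (mapC_lt k l1) l2

theorem isPrime_radical_span : (Ideal.span {s2 k, s4 k} : Ideal (Polynomial R4)).radical.IsPrime := by
  classical
  haveI hgp : (Ideal.span {gel k} : Ideal R4).IsPrime :=
    (Ideal.span_singleton_prime (prime_gel k).ne_zero).mpr (prime_gel k)
  let K := FractionRing (R4 ⧸ Ideal.span {gel k})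
  let m : R4 →+* K := (algebraMap (R4 ⧸ Ideal.span {gel k}) K).comp (Ideal.Quotient.mk _)
  have hm : ∀ h, m h = 0 ↔ h ∈ Ideal.span {gel k} := fun h => by
    rw [show m h = algebraMap (R4 ⧸ Ideal.span {gel k}) K (Ideal.Quotient.mk _ h) from rfl,
      IsFractionRing.to_map_eq_zero_iff, Ideal.Quotient.eq_zero_iff_mem]
  have he : m (E1 (y k)) ≠ 0 := fun h => E1_not_mem k ((hm _).mp h)
  let r : K := -(m (E2 (y k))) / m (E1 (y k))
  let φ : Polynomial R4 →+* K := Polynomial.eval₂RingHom m r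
  let P0 := RingHom.ker φ
  haveI : P0.IsPrime := RingHom.ker_isPrime _
  set I : Ideal (Polynomial R4) := Ideal.span {s2 k, s4 k} with hI
  have hs2 : φ (s2 k) = 0 := by
    have hr : m (E1 (y k)) * r = -(m (E2 (y k))) := mul_div_cancel₀ _ he
    simp [φ, s2]
    linear_combination hr
  have hg : m (E1 (y k)) * m (E4 (y k)) - m (E2 (y k)) * m (E3 (y k)) = 0 := by
    rw [← map_mul, ← map_mul, ← map_sub]
    exact (hm _).mpr (Ideal.mem_span_singleton_self _)
  have hs4 : φ (s4 k) = 0 := by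
    have hr : m (E1 (y k)) * r = -(m (E2 (y k))) := mul_div_cancel₀ _ he
    simp [φ, s4]
    refine mul_left_cancel₀ he ?_
    linear_combination hg + m (E3 (y k)) * hr
  have hle : I ≤ P0 := by
    rw [hI, Ideal.span_le]
    intro x hx
    rcases hx with rfl | rfl
    · exact RingHom.mem_ker.mpr hs2
    · exact RingHom.mem_ker.mpr hs4
  have hred : ∀ f : Polynomial R4, ∃ (N : ℕ) (h : R4), C (E1 (y k)) ^ N * f - C h ∈ I := by
    intro f
    induction f using Polynomial.induction_on with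
    | C a => exact ⟨0, a, by simp⟩
    | add f g hf hg =>
      obtain ⟨N, a, ha⟩ := hf
      obtain ⟨M, b, hb⟩ := hg
      refine ⟨N + M, E1 (y k) ^ M * a + E1 (y k) ^ N * b, ?_⟩
      convert I.add_mem (I.mul_mem_left (C (E1 (y k)) ^ M) ha) (I.mul_mem_left (C (E1 (y k)) ^ N) hb) using 1
      simp only [map_add, map_mul, map_pow]
      ring
    | monomial n a ih =>
      obtain ⟨N, h, hh⟩ := ih
      refine ⟨N + 1, -(h * E2 (y k)), ?_⟩
      convert I.add_mem (I.mul_mem_left (C (E1 (y k)) * X) hh)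
        (I.mul_mem_left (C h) (show s2 k ∈ I from Ideal.subset_span (Or.inl rfl))) using 1
      simp only [s2, map_neg, map_mul]
      ring
  have hgI : C (gel k) ∈ I := by
    convert I.sub_mem (I.mul_mem_left (C (E1 (y k))) (show s4 k ∈ I from Ideal.subset_span (Or.inr rfl)))
      (I.mul_mem_left (C (E3 (y k))) (show s2 k ∈ I from Ideal.subset_span (Or.inl rfl))) using 1
    simp only [s2, s4, gel, map_sub, map_mul]
    ring
  have key : ∀ P ∈ I.minimalPrimes, P = P0 := by
    intro P hP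
    haveI : P.IsPrime := hP.1.1
    have hne : C (E1 (y k)) ∉ P := fun h => by
      have h3 := three_le_height_of_mem k P h (hP.1.2 (Ideal.subset_span (Or.inl rfl)))
        (hP.1.2 (Ideal.subset_span (Or.inr rfl)))
      have h2 : P.height ≤ (({s2 k, s4 k} : Finset (Polynomial R4)).card : ℕ∞) := by
        apply Ideal.height_le_card_of_mem_minimalPrimes_span_finset
        simpa [hI] using hP
      have h22 : ((3 : ℕ) : ℕ∞) ≤ ((2 : ℕ) : ℕ∞) := h3.trans (h2.trans (Nat.cast_le.mpr Finset.card_le_two))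
      exact absurd (Nat.cast_le.mp h22) (by norm_num)
    have hle' : P0 ≤ P := by
      intro f hf
      obtain ⟨N, h, hh⟩ := hred f
      have h0 := RingHom.mem_ker.mp (hle hh)
      rw [map_sub, map_mul, RingHom.mem_ker.mp hf, mul_zero, zero_sub, neg_eq_zero] at h0
      have hh' : h ∈ Ideal.span {gel k} := (hm h).mp (by simpa [φ] using h0)
      obtain ⟨t, rfl⟩ := Ideal.mem_span_singleton.mp hh'
      have : C (E1 (y k)) ^ N * f ∈ P := by
        have := P.add_mem (hP.1.2 hh) (P.mul_mem_right (C t) (hP.1.2 hgI))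
        simpa [map_mul] using this
      rcases ‹P.IsPrime›.mem_or_mem this with h | h
      · exact absurd (‹P.IsPrime›.mem_of_pow_mem N h) hne
      · exact h
    exact le_antisymm (hP.2 ⟨inferInstance, hle⟩ hle') hle'
  rw [← I.sInf_minimalPrimes]
  obtain ⟨P, hP, -⟩ := Ideal.exists_minimalPrimes_le hle
  have : I.minimalPrimes = {P0} := Set.eq_singleton_iff_unique_mem.mpr ⟨key P hP ▸ hP, key⟩
  rw [this, sInf_singleton]
  infer_instance

open MvPolynomial in
theorem map_esymm : (finSuccEquiv k 4) (esymm (Fin 5) k 2) = s2 k ∧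
    (finSuccEquiv k 4) (esymm (Fin 5) k 4) = s4 k := by
  have p2 : (Finset.univ : Finset (Fin 5)).powersetCard 2 =
      {{0,1},{0,2},{0,3},{0,4},{1,2},{1,3},{1,4},{2,3},{2,4},{3,4}} := by decide
  have p4 : (Finset.univ : Finset (Fin 5)).powersetCard 4 =
      {{0,1,2,3},{0,1,2,4},{0,1,3,4},{0,2,3,4},{1,2,3,4}} := by decide
  constructor
  · rw [esymm, p2]
    repeat rw [Finset.sum_insert (by decide)]
    simp only [Finset.sum_singleton, Finset.prod_insert, Finset.prod_singleton, Finset.mem_insert, Finset.mem_singleton, Fin.reduceEq, or_self, not_false_eq_true]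
    simp only [s2, E1, E2, y, map_add, map_mul, show (1 : Fin 5) = Fin.succ 0 from rfl, show (2 : Fin 5) = Fin.succ 1 from rfl,
      show (3 : Fin 5) = Fin.succ 2 from rfl, show (4 : Fin 5) = Fin.succ 3 from rfl, finSuccEquiv_X_zero, finSuccEquiv_X_succ]
    ring
  · rw [esymm, p4]
    repeat rw [Finset.sum_insert (by decide)]
    simp only [Finset.sum_singleton, Finset.prod_insert, Finset.prod_singleton, Finset.mem_insert, Finset.mem_singleton, Fin.reduceEq, or_self, not_false_eq_true]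
    simp only [s4, E4, E3, y, map_add, map_mul, show (1 : Fin 5) = Fin.succ 0 from rfl, show (2 : Fin 5) = Fin.succ 1 from rfl,
      show (3 : Fin 5) = Fin.succ 2 from rfl, show (4 : Fin 5) = Fin.succ 3 from rfl, finSuccEquiv_X_zero, finSuccEquiv_X_succ]
    ring

open MvPolynomial in
theorem main : (Ideal.span ({esymm (Fin 5) k 2, esymm (Fin 5) k 4} : Set (MvPolynomial (Fin 5) k))).radical.IsPrime := by
  haveI := isPrime_radical_span k
  have e : (Ideal.span ({esymm (Fin 5) k 2, esymm (Fin 5) k 4} : Set (MvPolynomial (Fin 5) k))).radical =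
      (Ideal.span {s2 k, s4 k} : Ideal (Polynomial R4)).radical.comap (finSuccEquiv k 4).toRingEquiv := by
    rw [Ideal.comap_radical]
    congr 1
    rw [← Ideal.map_symm, Ideal.map_span]
    congr 1
    simp [Set.image_insert_eq, ← (map_esymm k).1, ← (map_esymm k).2]
  rw [e]
  exact Ideal.IsPrime.comap _

end Groth.Agent.CohDer1.EsymmCone
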