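import Groth.Agent.Et18.EtaleNormal
import Mathlib.RingTheory.Flat.TorsionFree
import Mathlib.RingTheory.Unramified.LocalStructure
import Mathlib.RingTheory.Localization.Away.Basic
import Mathlib.RingTheory.LocalProperties.Basic
import Mathlib.RingTheory.LocalRing.Subring
import Mathlib.RingTheory.IntegralClosure.IntegrallyClosed
import Mathlib.RingTheory.Algebraic.Integral

/-!
# Images of étale algebras over normal domains in a field
-/

set_option autoImplicit false

universe u

open TensorProduct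

namespace Groth.Agent.CohDer1.EtaleCompositum

section Factor

variable {R B : Type u} [CommRing R] [IsDomain R] [IsIntegrallyClosed R] [CommRing B] [Algebra R B] [Algebra.Etale R B]

theorem under_eq_bot_of_minimal {Q : Ideal B} (hQ : Q ∈ minimalPrimes B) : Q.under R = ⊥ := by
  rw [eq_bot_iff]
  intro a ha
  by_contra ha0
  rw [Ideal.mem_bot] at ha0
  have hnz : algebraMap R B a ∈ nonZeroDivisors B := by
    refine mem_nonZeroDivisors_iff_right.mpr fun x hx => ?_
    have hB : IsSMulRegular B a := Module.Flat.isSMulRegular_of_nonZeroDivisors (mem_nonZeroDivisors_of_ne_zero ha0)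
    exact hB (by simp [Algebra.smul_def, mul_comm (algebraMap R B a), hx])
  exact Set.disjoint_left.mp (Ideal.disjoint_nonZeroDivisors_of_mem_minimalPrimes hQ) ha hnz

variable (R) in
include R in
theorem eq_of_le_maximal {Q Q' : Ideal B} (hQ : Q ∈ minimalPrimes B) (hQ' : Q' ∈ minimalPrimes B)
    {m : Ideal B} [m.IsPrime] (h : Q ≤ m) (h' : Q' ≤ m) : Q = Q' := by
  haveI := (Et18.normal_localization_of_etale R B m).1
  let N := RingHom.ker (algebraMap B (Localization.AtPrime m))
  haveI : N.IsPrime := RingHom.ker_isPrime _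
  have key : ∀ P : Ideal B, P ∈ minimalPrimes B → P ≤ m → P = N := fun P hP hle => by
    have hN : N ≤ P := fun x hx => by
      obtain ⟨s, hs⟩ := (IsLocalization.map_eq_zero_iff m.primeCompl _ x).mp hx
      exact (hP.1.1.mem_or_mem (show (s : B) * x ∈ P by rw [hs]; exact P.zero_mem)).resolve_left fun h => s.2 (hle h)
    exact le_antisymm (hP.2 ⟨inferInstance, bot_le⟩ hN) hN
  rw [key Q hQ h, key Q' hQ' h']

theorem exists_idempotent (P : Ideal B) [P.IsPrime] (hP : P.under R = ⊥) :
    ∃ e : B, IsIdempotentElem e ∧ P = Ideal.span {e} := by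
  classical
  have hbot : ∀ Q ∈ minimalPrimes B, Q.under R = ⊥ := fun Q hQ => under_eq_bot_of_minimal hQ
  have hPmin : P ∈ minimalPrimes B := by
    obtain ⟨Q, hQ, hQP⟩ := Ideal.exists_minimalPrimes_le (I := (⊥ : Ideal B)) (J := P) bot_le
    haveI := hQ.1.1
    rw [← Algebra.QuasiFinite.eq_of_le_of_under_eq (R := R) Q P hQP ((hbot Q hQ).trans hP.symm)]
    exact hQ
  have hfin : (minimalPrimes B).Finite :=
    (Algebra.QuasiFinite.finite_primesOver (R := R) (S := B) (⊥ : Ideal R)).subset fun Q hQ =>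
      ⟨hQ.1.1, ⟨(hbot Q hQ).symm⟩⟩
  let S := hfin.toFinset.erase P
  let J : Ideal B := ⨅ Q ∈ S, Q
  have htop : P ⊔ J = ⊤ := by
    by_contra hne
    obtain ⟨m, hm, hle⟩ := Ideal.exists_le_maximal _ hne
    haveI := hm.isPrime
    obtain ⟨Q, hQS, hQ⟩ := (Ideal.IsPrime.inf_le' hm.isPrime).mp
      (show S.inf id ≤ m from (by rw [Finset.inf_eq_iInf]; exact le_sup_right.trans hle))
    exact (Finset.mem_erase.mp hQS).1
      (eq_of_le_maximal R (hfin.mem_toFinset.mp (Finset.mem_erase.mp hQS).2) hPmin hQ (le_sup_left.trans hle))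
  obtain ⟨u, hu, v, hv, huv⟩ := Submodule.mem_sup.mp ((Ideal.eq_top_iff_one _).mp htop)
  have hzero : ∀ x ∈ P, x * v = 0 := by
    intro x hx
    have hnil : x * v ∈ nilradical B := by
      rw [nilradical_eq_sInf, Submodule.mem_sInf]
      intro q hq
      haveI : Ideal.IsPrime q := hq
      obtain ⟨Q, hQ, hQq⟩ := Ideal.exists_minimalPrimes_le (I := (⊥ : Ideal B)) (J := q) bot_le
      refine hQq ?_
      by_cases hQP : Q = P
      · subst hQP; exact Q.mul_mem_right _ hx
      · refine Q.mul_mem_left _ ?_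
        simp only [J, Submodule.mem_iInf] at hv
        exact hv Q (Finset.mem_erase.mpr ⟨hQP, hfin.mem_toFinset.mpr hQ⟩)
    by_contra hne
    have hann : Submodule.colon (⊥ : Submodule B B) {x * v} ≠ ⊤ := fun h => hne (by
      simpa using Submodule.mem_colon_singleton.mp ((Ideal.eq_top_iff_one _).mp h))
    obtain ⟨m, hm, hle⟩ := Ideal.exists_le_maximal _ hann
    haveI := hm.isPrime
    haveI := (Et18.normal_localization_of_etale R B m).1
    have h0 : algebraMap B (Localization.AtPrime m) (x * v) = 0 := (((mem_nilradical.mp hnil)).map _).eq_zero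
    obtain ⟨s, hs⟩ := (IsLocalization.map_eq_zero_iff m.primeCompl _ _).mp h0
    exact s.2 (hle (Submodule.mem_colon_singleton.mpr (by simpa [smul_eq_mul] using hs)))
  refine ⟨u, ?_, le_antisymm (fun x hx => Ideal.mem_span_singleton.mpr ⟨x, ?_⟩) ((Ideal.span_singleton_le_iff_mem _).mpr hu)⟩
  · have h := hzero u hu
    rw [← eq_sub_iff_add_eq'] at huv
    rw [huv, mul_sub, mul_one, sub_eq_zero] at h
    exact h.symm
  · have h := hzero x hx
    linear_combination h + x * huv.symm

theorem factor_props (P : Ideal B) [P.IsPrime] (hP : P.under R = ⊥) :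
    Algebra.Etale R (B ⧸ P) ∧ IsIntegrallyClosed (B ⧸ P) := by
  obtain ⟨e, he, hPe⟩ := exists_idempotent P hP
  haveI : IsLocalization.Away (1 - e) (B ⧸ P) :=
    IsLocalization.away_of_isIdempotentElem he.one_sub
      (by rw [Ideal.Quotient.algebraMap_eq, Ideal.mk_ker, sub_sub_cancel]; exact hPe) Ideal.Quotient.mk_surjective
  haveI : Algebra.Etale B (B ⧸ P) := Algebra.Etale.of_isLocalizationAway (1 - e)
  haveI het : Algebra.Etale R (B ⧸ P) := Algebra.Etale.comp R B (B ⧸ P)
  exact ⟨het, IsIntegrallyClosed.of_localization_maximal fun m _ _ => (Et18.normal_localization_of_etale R (B ⧸ P) m).2⟩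

end Factor

theorem main (A A' L L₁ : Type u) [CommRing A] [IsDomain A]
    [CommRing A'] [IsDomain A'] [IsIntegrallyClosed A'] [Algebra A A']
    [Field L] [Algebra A L] [Algebra.IsAlgebraic A L] (hinj : Function.Injective (algebraMap A L))
    [Algebra.Etale A ↥(integralClosure A L)]
    [Field L₁] [Algebra A' L₁] [Algebra L L₁] [Algebra A L₁] [IsScalarTower A A' L₁] [IsScalarTower A L L₁]
    (hinj' : Function.Injective (algebraMap A' L₁))
    (hgen : Subfield.closure (Set.range (algebraMap A' L₁) ∪ Set.range (algebraMap L L₁)) = ⊤) :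
    Algebra.Etale A' ↥(integralClosure A' L₁) ∧
      integralClosure A' L₁ = Algebra.adjoin A' ((algebraMap L L₁) '' {x : L | IsIntegral A x}) := by
  let C := integralClosure A L
  let ι : ↥C →ₐ[A] L₁ := (IsScalarTower.toAlgHom A L L₁).comp C.val
  let φ : A' ⊗[A] ↥C →ₐ[A'] L₁ := Algebra.TensorProduct.lift (Algebra.ofId A' L₁) ι fun _ _ => Commute.all _ _
  let P := RingHom.ker φ
  haveI : P.IsPrime := RingHom.ker_isPrime _
  have hP : P.under A' = ⊥ := by
    rw [eq_bot_iff]
    intro a ha
    have h : φ (algebraMap A' _ a) = 0 := ha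
    rw [AlgHom.commutes] at h
    exact (map_eq_zero_iff _ hinj').mp h
  obtain ⟨het, hic⟩ := factor_props (R := A') P hP
  set D := Algebra.adjoin A' ((algebraMap L L₁) '' {x : L | IsIntegral A x}) with hD
  have hrange : φ.range = D := by
    apply le_antisymm
    · rintro _ ⟨z, rfl⟩
      induction z using TensorProduct.induction_on with
      | zero => rw [map_zero]; exact D.zero_mem
      | tmul a c =>
        show φ (a ⊗ₜ c) ∈ D
        rw [Algebra.TensorProduct.lift_tmul]
        exact D.mul_mem (D.algebraMap_mem a) (Algebra.subset_adjoin ⟨(c : L), c.2, rfl⟩)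
      | add x y hx hy => rw [map_add]; exact D.add_mem hx hy
    · refine Algebra.adjoin_le ?_
      rintro _ ⟨x, hx, rfl⟩
      exact ⟨1 ⊗ₜ ⟨x, hx⟩, by show φ (1 ⊗ₜ _) = _; rw [Algebra.TensorProduct.lift_tmul, map_one, one_mul]; rfl⟩
  let e : (A' ⊗[A] ↥C ⧸ P) ≃ₐ[A'] ↥D :=
    ((Ideal.quotientEquivAlgOfEq A' (by ext z; simp [P, RingHom.mem_ker, Subtype.ext_iff] : P = RingHom.ker φ.rangeRestrict)).trans
      (Ideal.quotientKerAlgEquivOfSurjective φ.rangeRestrict_surjective)).trans (Subalgebra.equivOfEq _ _ hrange)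
  haveI hetD : Algebra.Etale A' ↥D := Algebra.Etale.of_equiv (A := A' ⊗[A] ↥C ⧸ P) e
  haveI hicD : IsIntegrallyClosed ↥D := IsIntegrallyClosed.of_equiv (R := A' ⊗[A] ↥C ⧸ P) e.toRingEquiv
  haveI : IsFractionRing ↥D L₁ := by
    let T : Subfield L₁ :=
      { carrier := {z | ∃ a b : ↥D, (b : L₁) ≠ 0 ∧ z = a / b}
        zero_mem' := ⟨0, 1, one_ne_zero, by simp⟩
        one_mem' := ⟨1, 1, one_ne_zero, by simp⟩
        add_mem' := by
          rintro x y ⟨a, b, hb, rfl⟩ ⟨c, d, hd, rfl⟩
          exact ⟨a * d + b * c, b * d, mul_ne_zero hb hd, by push_cast; exact div_add_div _ _ hb hd⟩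
        mul_mem' := by
          rintro x y ⟨a, b, hb, rfl⟩ ⟨c, d, hd, rfl⟩
          exact ⟨a * c, b * d, mul_ne_zero hb hd, by push_cast; exact div_mul_div_comm _ _ _ _⟩
        neg_mem' := by
          rintro x ⟨a, b, hb, rfl⟩
          exact ⟨-a, b, hb, by push_cast; exact (neg_div _ _).symm⟩
        inv_mem' := by
          rintro x ⟨a, b, hb, rfl⟩
          by_cases ha : (a : L₁) = 0
          · exact ⟨0, 1, one_ne_zero, by simp [ha]⟩
          · exact ⟨b, a, ha, inv_div _ _⟩ }
    have hT : T = ⊤ := by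
      rw [← top_le_iff, ← hgen, Subfield.closure_le]
      rintro _ (⟨a, rfl⟩ | ⟨x, rfl⟩)
      · exact ⟨algebraMap A' ↥D a, 1, one_ne_zero, by simp⟩
      · obtain ⟨y, hy0, hy⟩ := (Algebra.IsAlgebraic.isAlgebraic (R := A) x).exists_integral_multiple
        have hy' : algebraMap A' L₁ (algebraMap A A' y) ≠ 0 := by
          rw [← IsScalarTower.algebraMap_apply, IsScalarTower.algebraMap_apply A L L₁]
          exact (map_ne_zero_iff _ (algebraMap L L₁).injective).mpr ((map_ne_zero_iff _ hinj).mpr hy0)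
        refine ⟨⟨algebraMap L L₁ (y • x), Algebra.subset_adjoin ⟨_, hy, rfl⟩⟩, algebraMap A' ↥D (algebraMap A A' y), hy', ?_⟩
        show algebraMap L L₁ x = algebraMap L L₁ (y • x) / algebraMap A' L₁ (algebraMap A A' y)
        rw [eq_div_iff hy', Algebra.smul_def, map_mul, ← IsScalarTower.algebraMap_apply, ← IsScalarTower.algebraMap_apply, mul_comm]
    refine IsFractionRing.of_field ↥D L₁ fun z => ?_
    have hz : z ∈ T := by rw [hT]; trivial
    obtain ⟨a, b, -, h⟩ := hz
    exact ⟨a, b, h⟩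
  have hEq : integralClosure A' L₁ = D := by
    apply le_antisymm
    · intro z hz
      obtain ⟨d, hd⟩ := (isIntegrallyClosed_iff L₁).mp hicD (show IsIntegral ↥D z from hz.tower_top)
      exact hd ▸ d.2
    · refine Algebra.adjoin_le ?_
      rintro _ ⟨x, hx, rfl⟩
      exact ((hx : IsIntegral A x).map (IsScalarTower.toAlgHom A L L₁)).tower_top
  exact ⟨hEq ▸ hetD, hEq⟩

end Groth.Agent.CohDer1.EtaleCompositum
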