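import Groth.Prelude.Def_W4c1famcyclesFFR
import Mathlib.RingTheory.LocalRing.Module
import Mathlib.RingTheory.Ideal.AssociatedPrime.Basic
import Mathlib.RingTheory.Localization.Finiteness
import Mathlib.RingTheory.LocalProperties.Projective
import Mathlib.RingTheory.Localization.Module
import Mathlib.Algebra.Module.LocalizedModule.Exact
import Mathlib.LinearAlgebra.Charpoly.ToMatrix
import Mathlib.LinearAlgebra.Charpoly.BaseChange
import Mathlib.RingTheory.Localization.AtPrime.Basic

/-!
# Characteristic polynomials of endomorphisms of modules with finite free resolutions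
-/

set_option autoImplicit false

universe u

open Polynomial TensorProduct

namespace Groth.Agent.CohDer1.FFRDet

section Local

variable {L : Type u} [CommRing L] {K F N : Type u} [AddCommGroup K] [Module L K] [AddCommGroup F] [Module L F]
  [AddCommGroup N] [Module L N]

lemma charpoly_of_exact [Module.Free L K] [Module.Finite L K] [Module.Free L F] [Module.Finite L F] [Module.Free L N]
    [Module.Finite L N] (i : K →ₗ[L] F) (g : F →ₗ[L] N) (hi : Function.Injective i) (hg : Function.Surjective g)
    (hex : Function.Exact i g) (a : K →ₗ[L] K) (e : F →ₗ[L] F) (c : N →ₗ[L] N)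
    (ha : e ∘ₗ i = i ∘ₗ a) (hc : g ∘ₗ e = c ∘ₗ g) : e.charpoly = a.charpoly * c.charpoly := by
  classical
  obtain ⟨l, hl⟩ := g.exists_rightInverse_of_surjective (LinearMap.range_eq_top.2 hg)
  obtain ⟨E, hE1, hE2⟩ := hex.splitSurjectiveEquiv hi ⟨l, hl⟩
  let bK := Module.Free.chooseBasis L K
  let bN := Module.Free.chooseBasis L N
  let b := (bK.prod bN).map E.symm
  suffices h : ∃ B, LinearMap.toMatrix b b e =
      Matrix.fromBlocks (LinearMap.toMatrix bK bK a) B 0 (LinearMap.toMatrix bN bN c) by
    obtain ⟨B, hB⟩ := h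
    rw [← e.charpoly_toMatrix b, hB, Matrix.charpoly_fromBlocks_zero₂₁, a.charpoly_toMatrix, c.charpoly_toMatrix]
  refine ⟨Matrix.of fun u v => LinearMap.toMatrix b b e (Sum.inl u) (Sum.inr v), ?_⟩
  have hg' : ∀ x, (E x).2 = g x := fun x => by rw [hE2]; rfl
  have hi' : ∀ x, E.symm (x, 0) = i x := fun x => by rw [hE1]; rfl
  have hgs : ∀ x, g (E.symm (0, x)) = x := fun x => by rw [← hg', E.apply_symm_apply]
  ext u v
  rcases u with u | u <;> rcases v with v | v
  · simp only [LinearMap.toMatrix_apply, Matrix.fromBlocks_apply₁₁, b, Module.Basis.map_apply,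
      Module.Basis.map_repr, LinearEquiv.trans_apply, LinearEquiv.symm_symm, Module.Basis.prod_repr_inl]
    have h1 : E.symm ((bK.prod bN) (Sum.inl v)) = i (bK v) := by
      rw [← hi']
      congr 1
      ext <;> simp
    rw [h1, show e (i (bK v)) = i (a (bK v)) from LinearMap.congr_fun ha _, ← hi', E.apply_symm_apply]
  · rfl
  · simp only [LinearMap.toMatrix_apply, Matrix.fromBlocks_apply₂₁, b, Module.Basis.map_apply,
      Module.Basis.map_repr, LinearEquiv.trans_apply, LinearEquiv.symm_symm, Module.Basis.prod_repr_inr, hg',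
      Matrix.zero_apply]
    have h1 : E.symm ((bK.prod bN) (Sum.inl v)) = i (bK v) := by
      rw [← hi']
      congr 1
      ext <;> simp
    rw [h1, show e (i (bK v)) = i (a (bK v)) from LinearMap.congr_fun ha _, hex.apply_apply_eq_zero, map_zero]
    rfl
  · simp only [LinearMap.toMatrix_apply, Matrix.fromBlocks_apply₂₂, b, Module.Basis.map_apply,
      Module.Basis.map_repr, LinearEquiv.trans_apply, LinearEquiv.symm_symm, Module.Basis.prod_repr_inr, hg']
    have h1 : E.symm ((bK.prod bN) (Sum.inr v)) = E.symm (0, bN v) := by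
      congr 1
      ext <;> simp
    rw [h1, show g (e (E.symm (0, bN v))) = c (g (E.symm (0, bN v))) from LinearMap.congr_fun hc _, hgs]

lemma free_ker_of_surjective [IsLocalRing L] [Module.Free L F] [Module.Finite L F] [Module.Free L N]
    (i : K →ₗ[L] F) (g : F →ₗ[L] N) (hi : Function.Injective i) (hg : Function.Surjective g) (hex : Function.Exact i g) :
    Module.Free L K ∧ Module.Finite L K := by
  obtain ⟨l, hl⟩ := g.exists_rightInverse_of_surjective (LinearMap.range_eq_top.2 hg)
  obtain ⟨E, hE1, -⟩ := hex.splitSurjectiveEquiv hi ⟨l, hl⟩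
  have hs : (LinearMap.fst L K N ∘ₗ E.toLinearMap) ∘ₗ i = LinearMap.id := by
    ext x
    rw [hE1]
    simp
  have : Module.Projective L K := Module.Projective.of_split i _ hs
  have : Module.Finite L K := Module.Finite.of_surjective (LinearMap.fst L K N ∘ₗ E.toLinearMap)
    fun x => ⟨i x, LinearMap.congr_fun hs x⟩
  exact ⟨Module.free_of_flat_of_isLocalRing, this⟩

lemma free_coker_of_depth_zero [IsLocalRing L] [Module.Free L K] [Module.Finite L K] [Module.Free L F] [Module.Finite L F]
    (i : K →ₗ[L] F) (g : F →ₗ[L] N) (hi : Function.Injective i) (hg : Function.Surjective g) (hex : Function.Exact i g)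
    (s : L) (hs0 : s ≠ 0) (hs : ∀ x ∈ IsLocalRing.maximalIdeal L, s * x = 0) : Module.Free L N := by
  refine Module.free_of_lTensor_residueField_injective i g hg hex ?_
  rw [← LinearMap.ker_eq_bot, eq_bot_iff]
  intro t ht
  rw [LinearMap.mem_ker] at ht
  obtain ⟨x, rfl⟩ := TensorProduct.mk_surjective L K _ IsLocalRing.residue_surjective t
  let bK := Module.Free.chooseBasis L K
  let bF := Module.Free.chooseBasis L F
  have h1 : ∀ j, bF.repr (i x) j ∈ IsLocalRing.maximalIdeal L := fun j => by
    have h2 := congrArg (TensorProduct.rid L (IsLocalRing.ResidueField L) ∘ (bF.coord j).lTensor _) ht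
    simp only [Function.comp_apply, TensorProduct.mk_apply, LinearMap.lTensor_tmul, TensorProduct.rid_tmul,
      map_zero, Module.Basis.coord_apply, Algebra.smul_def, mul_one] at h2
    exact (IsLocalRing.residue_eq_zero_iff _).1 h2
  have h3 : s • x = 0 := hi (by
    rw [map_smul, map_zero]
    apply bF.repr.injective
    ext j
    simp [hs _ (h1 j)])
  have h4 : ∀ j, bK.repr x j ∈ IsLocalRing.maximalIdeal L := fun j => by
    rw [IsLocalRing.mem_maximalIdeal, mem_nonunits_iff]
    intro hu
    have h5 : s * bK.repr x j = 0 := by simpa using DFunLike.congr_fun (congrArg bK.repr h3) j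
    exact hs0 ((hu.mul_left_eq_zero).1 h5)
  rw [Submodule.mem_bot, TensorProduct.mk_apply, ← bK.sum_repr x, TensorProduct.tmul_sum]
  refine Finset.sum_eq_zero fun j _ => ?_
  rw [← TensorProduct.smul_tmul, Algebra.smul_def, mul_one, IsLocalRing.ResidueField.algebraMap_eq,
    (IsLocalRing.residue_eq_zero_iff _).2 (h4 j), TensorProduct.zero_tmul]

end Local

variable {A : Type u} [CommRing A]

lemma charpoly_localized {M : Type u} [AddCommGroup M] [Module A M] [Module.Free A M] [Module.Finite A M]
    (φ : M →ₗ[A] M) (S : Submonoid A) [Module.Free (Localization S) (LocalizedModule S M)] :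
    (LocalizedModule.map S φ).charpoly = φ.charpoly.map (algebraMap A (Localization S)) := by
  classical
  let b := Module.Free.chooseBasis A M
  let b' := b.ofIsLocalizedModule (Localization S) S (LocalizedModule.mkLinearMap S M)
  rw [← φ.charpoly_toMatrix b, ← (LocalizedModule.map S φ).charpoly_toMatrix b', ← Matrix.charpoly_map]
  congr 1
  ext i j
  rw [LinearMap.toMatrix_apply, Matrix.map_apply, LinearMap.toMatrix_apply, Module.Basis.ofIsLocalizedModule_apply,
    ← Module.Basis.ofIsLocalizedModule_repr_apply (Localization S) S (LocalizedModule.mkLinearMap S M) b]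
  simp [LocalizedModule.mkLinearMap_apply, LocalizedModule.map_mk]
  rfl

lemma map_exact' (S : Submonoid A) {M₀ M₁ M₂ : Type u} [AddCommGroup M₀] [Module A M₀] [AddCommGroup M₁]
    [Module A M₁] [AddCommGroup M₂] [Module A M₂] (g : M₀ →ₗ[A] M₁) (h : M₁ →ₗ[A] M₂) (ex : Function.Exact g h) :
    Function.Exact (LocalizedModule.map S g) (LocalizedModule.map S h) :=
  fun y => LocalizedModule.map_exact S g h ex y

lemma finite {n : ℕ} {M : Type u} [AddCommGroup M] [Module A M] (hM : FamCyc.HasFiniteFreeResolutionLE A n M) :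
    Module.Finite A M := by
  cases n with
  | zero => exact hM.2
  | succ n =>
    obtain ⟨k, f, hf, -⟩ := hM
    exact Module.Finite.of_surjective f hf

lemma eq_zero_of_forall_assoc [IsNoetherianRing A] (a : A)
    (h : ∀ (p : Ideal A) [p.IsPrime], IsAssociatedPrime p A → algebraMap A (Localization.AtPrime p) a = 0) : a = 0 := by
  by_contra ha
  obtain ⟨P, hP, hle⟩ := exists_le_isAssociatedPrime_of_isNoetherianRing A a ha
  have := hP.isPrime
  obtain ⟨⟨c, hc⟩, hca⟩ := (IsLocalization.map_eq_zero_iff P.primeCompl _ _).1 (h P hP)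
  exact hc (hle (by simpa [Submodule.mem_colon_singleton] using hca))

lemma exists_socle [IsNoetherianRing A] (p : Ideal A) [p.IsPrime] (hp : IsAssociatedPrime p A) :
    ∃ s : Localization.AtPrime p, s ≠ 0 ∧ ∀ x ∈ IsLocalRing.maximalIdeal (Localization.AtPrime p), s * x = 0 := by
  obtain ⟨-, x, hx⟩ := isAssociatedPrime_iff.1 hp
  have hmem : ∀ a, a ∈ p ↔ a * x = 0 := fun a => by rw [hx, Submodule.mem_colon_singleton]; simp
  refine ⟨algebraMap A _ x, fun h => ?_, fun y hy => ?_⟩
  · obtain ⟨⟨c, hc⟩, hcx⟩ := (IsLocalization.map_eq_zero_iff p.primeCompl _ _).1 h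
    exact hc ((hmem c).2 hcx)
  · rw [← Localization.AtPrime.map_eq_maximalIdeal] at hy
    induction hy using Submodule.span_induction with
    | mem z hz =>
      obtain ⟨a, ha, rfl⟩ := hz
      rw [← map_mul, mul_comm, (hmem a).1 ha, map_zero]
    | zero => simp
    | add u v _ _ hu hv => rw [mul_add, hu, hv, add_zero]
    | smul r u _ hu => rw [smul_eq_mul, mul_left_comm, hu, mul_zero]

theorem main [IsNoetherianRing A] : ∀ (n : ℕ) (M : Type u) [AddCommGroup M] [Module A M]
    (_ : FamCyc.HasFiniteFreeResolutionLE A n M) [Module.Finite A M],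
    (∀ (p : Ideal A) [p.IsPrime], IsAssociatedPrime p A →
      Module.Free (Localization.AtPrime p) (LocalizedModule p.primeCompl M)) ∧
    ∀ φ : M →ₗ[A] M, ∃ h : A[X], h.Monic ∧ ∀ (p : Ideal A) [p.IsPrime]
      [Module.Free (Localization.AtPrime p) (LocalizedModule p.primeCompl M)],
      (LocalizedModule.map p.primeCompl φ).charpoly = h.map (algebraMap A (Localization.AtPrime p))
  | 0, M, _, _, hM, _ => by
    have := hM.1
    refine ⟨fun p _ _ => Module.free_of_isLocalizedModule p.primeCompl (LocalizedModule.mkLinearMap p.primeCompl M), ?_⟩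
    exact fun φ => ⟨φ.charpoly, φ.charpoly_monic, fun p _ _ => charpoly_localized φ _⟩
  | n + 1, M, _, _, hM, _ => by
    obtain ⟨k, f, hf, hK⟩ := hM
    have := finite hK
    obtain ⟨ihfree, ihpoly⟩ := main n (LinearMap.ker f) hK
    have hex : Function.Exact (LinearMap.ker f).subtype f := LinearMap.exact_subtype_ker_map f
    have free' : ∀ (p : Ideal A) [p.IsPrime], IsAssociatedPrime p A →
        Module.Free (Localization.AtPrime p) (LocalizedModule p.primeCompl M) := fun p _ hp => by
      have := ihfree p hp
      have := Module.free_of_isLocalizedModule (Rₛ := Localization.AtPrime p) p.primeCompl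
        (LocalizedModule.mkLinearMap p.primeCompl (Fin k → A))
      obtain ⟨s, hs0, hs⟩ := exists_socle p hp
      exact free_coker_of_depth_zero _ _ (LocalizedModule.map_injective _ _ (Submodule.injective_subtype _))
        (LocalizedModule.map_surjective _ f hf) (map_exact' _ _ _ hex) s hs0 hs
    refine ⟨free', fun φ => ?_⟩
    obtain ⟨Φ, hΦ⟩ := Module.projective_lifting_property f (φ ∘ₗ f) hf
    have hres : ∀ x ∈ LinearMap.ker f, Φ x ∈ LinearMap.ker f := fun x hx => by
      have := LinearMap.congr_fun hΦ x
      simp only [LinearMap.comp_apply, LinearMap.mem_ker.1 hx, map_zero] at this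
      exact this
    obtain ⟨q, hq, hqp⟩ := ihpoly (Φ.restrict hres)
    have hsub : Φ ∘ₗ (LinearMap.ker f).subtype = (LinearMap.ker f).subtype ∘ₗ Φ.restrict hres := rfl
    have key : ∀ (p : Ideal A) [p.IsPrime] [Module.Free (Localization.AtPrime p) (LocalizedModule p.primeCompl M)],
        Φ.charpoly.map (algebraMap A (Localization.AtPrime p)) =
          q.map (algebraMap A (Localization.AtPrime p)) * (LocalizedModule.map p.primeCompl φ).charpoly := fun p _ _ => by
      have := Module.free_of_isLocalizedModule (Rₛ := Localization.AtPrime p) p.primeCompl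
        (LocalizedModule.mkLinearMap p.primeCompl (Fin k → A))
      obtain ⟨_, _⟩ := free_ker_of_surjective (L := Localization.AtPrime p) _ _
        (LocalizedModule.map_injective p.primeCompl _ (Submodule.injective_subtype (LinearMap.ker f)))
        (LocalizedModule.map_surjective _ f hf) (map_exact' _ _ _ hex)
      rw [← charpoly_localized, ← hqp p]
      refine charpoly_of_exact _ _ (LocalizedModule.map_injective _ _ (Submodule.injective_subtype _))
        (LocalizedModule.map_surjective _ f hf) (map_exact' _ _ _ hex) _ _ _ ?_ ?_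
      · refine LinearMap.ext fun x => ?_
        induction x using LocalizedModule.induction_on with
        | h m s => simp [LocalizedModule.map_mk]
      · refine LinearMap.ext fun x => ?_
        induction x using LocalizedModule.induction_on with
        | h m s => simpa [LocalizedModule.map_mk] using congrArg (LocalizedModule.mk · s) (LinearMap.congr_fun hΦ m)
    have hr : Φ.charpoly %ₘ q = 0 := by
      refine Polynomial.ext fun i => eq_zero_of_forall_assoc _ fun p _ hp => ?_
      have := free' p hp
      rw [← coeff_map, map_modByMonic _ hq, key p,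
        (modByMonic_eq_zero_iff_dvd (hq.map _)).2 (dvd_mul_right _ _), coeff_zero]
    have hg : Φ.charpoly = q * (Φ.charpoly /ₘ q) := by
      conv_lhs => rw [← modByMonic_add_div Φ.charpoly q, hr, zero_add]
    refine ⟨Φ.charpoly /ₘ q, hq.of_mul_monic_left (hg ▸ Φ.charpoly_monic), fun p _ _ => ?_⟩
    refine (hq.map (algebraMap A (Localization.AtPrime p))).isRegular.left ?_
    dsimp only
    rw [← key p, ← Polynomial.map_mul, ← hg]

theorem existsUnique_det [IsNoetherianRing A] (M : Type u) [AddCommGroup M] [Module A M] (n : ℕ)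
    (hM : FamCyc.HasFiniteFreeResolutionLE A n M) (φ : M →ₗ[A] M) :
    ∃! a : A, ∀ (p : Ideal A) [p.IsPrime],
      Module.Free (Localization.AtPrime p) (LocalizedModule p.primeCompl M) →
        algebraMap A (Localization.AtPrime p) a = LinearMap.det (LocalizedModule.map p.primeCompl φ) := by
  have := finite hM
  obtain ⟨hfree, hpoly⟩ := main n M hM
  obtain ⟨h, hh, hhp⟩ := hpoly φ
  refine ⟨(-1) ^ h.natDegree * h.coeff 0, fun p _ hp => ?_, fun a ha => sub_eq_zero.1 (eq_zero_of_forall_assoc _ fun p _ hp => ?_)⟩
  · rw [LinearMap.det_eq_sign_charpoly_coeff, ← LinearMap.charpoly_natDegree, hhp p, hh.natDegree_map, coeff_map,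
      map_mul, map_pow, map_neg, map_one]
  · have := hfree p hp
    rw [map_sub, ha p this, LinearMap.det_eq_sign_charpoly_coeff, ← LinearMap.charpoly_natDegree, hhp p,
      hh.natDegree_map, coeff_map, map_mul, map_pow, map_neg, map_one, sub_self]

end Groth.Agent.CohDer1.FFRDet
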