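import Groth.Agent.CohDer1.ProjAffine
import Groth.Agent.CohExch.AffineBC0
import Groth.Agent.Coherent.RpushComp
import Groth.Agent.Coherent.RpushVanish
import Groth.Agent.Coherent.ModExt
import Groth.Agent.Coherent.RelExact14.ProjPush
import Groth.Agent.VarietyLib.PushEuler

/-!
# Vanishing of higher direct images along `pr₁₃`
-/

set_option autoImplicit false
set_option backward.isDefEq.respectTransparency false
set_option linter.style.haveILetI false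

universe u

open CategoryTheory CategoryTheory.Limits AlgebraicGeometry TopologicalSpace
open Groth.Agent.Coherent

namespace Groth.Agent.CohDer1.FK13

variable {Q W P TY T X Y S : Scheme.{u}} {a : X ⟶ S} {b : Y ⟶ S} {t : T ⟶ S}
  {w₁ : W ⟶ T} {w₂ : W ⟶ X} {p : P ⟶ X} {q : P ⟶ Y} {c₁ : TY ⟶ T} {c₂ : TY ⟶ Y}
  {pr₁₂ : Q ⟶ W} {pr₂₃ : Q ⟶ P} {pr₁₃ : Q ⟶ TY}

theorem isPullback_pr₁₃ (hW : IsPullback w₁ w₂ t a) (hP : IsPullback p q a b) (hTY : IsPullback c₁ c₂ t b)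
    (hQ : IsPullback pr₁₂ pr₂₃ w₂ p) (h₁ : pr₁₃ ≫ c₁ = pr₁₂ ≫ w₁) (h₂ : pr₁₃ ≫ c₂ = pr₂₃ ≫ q) :
    IsPullback pr₂₃ pr₁₃ q c₂ := by
  refine IsPullback.of_bot ?_ h₂.symm hTY.flip
  rw [h₁, ← hP.w]
  exact hQ.flip.paste_vert hW.flip

theorem isZero_rpush_pr₁₃ [IsAffine S] (hW : IsPullback w₁ w₂ t a) (hP : IsPullback p q a b)
    (hTY : IsPullback c₁ c₂ t b)
    (hQ : IsPullback pr₁₂ pr₂₃ w₂ p) (h₁ : pr₁₃ ≫ c₁ = pr₁₂ ≫ w₁) (h₂ : pr₁₃ ≫ c₂ = pr₂₃ ≫ q)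
    [QuasiCompact q] [QuasiSeparated q] [HasInjectiveResolutions P.Modules] [HasInjectiveResolutions Q.Modules]
    (K : P.Modules) (hK : Coh.IsQCoh K)
    (hKac : ∀ (F : X.Modules), Coh.IsQCoh F → ∀ i : ℕ, 0 < i →
      IsZero ((Coh.Rpush q i).obj (CohB1.tensorMod ((Scheme.Modules.pullback p).obj F) K)))
    (F : W.Modules) (hF : Coh.IsQCoh F) (n : ℕ) (hn : 0 < n) :
    IsZero ((Coh.Rpush pr₁₃ n).obj
      (CohB1.tensorMod ((Scheme.Modules.pullback pr₁₂).obj F) ((Scheme.Modules.pullback pr₂₃).obj K))) := by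
  haveI := hK
  haveI := hF
  have sq₁₃ := isPullback_pr₁₃ hW hP hTY hQ h₁ h₂
  haveI : QuasiCompact pr₁₃ := MorphismProperty.of_isPullback (P := @QuasiCompact) sq₁₃ inferInstance
  haveI : QuasiSeparated pr₁₃ := MorphismProperty.of_isPullback (P := @QuasiSeparated) sq₁₃ inferInstance
  let A := (Scheme.Modules.pullback pr₁₂).obj F
  let B := (Scheme.Modules.pullback pr₂₃).obj K
  haveI : Coh.IsQCoh A := EGA43.InjFibre.isQCoh_pullback pr₁₂ F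
  haveI : Coh.IsQCoh B := EGA43.InjFibre.isQCoh_pullback pr₂₃ K
  let G := CohB1.tensorMod A B
  haveI : Coh.IsQCoh G := isQCoh_tensorMod A B
  suffices IsZero ((Coh.RpushAb pr₁₃ n).obj (Coh.toAb G)) by
    have h' : IsZero ((toAbFunctor TY).obj ((Coh.Rpush pr₁₃ n).obj G)) :=
      this.of_iso (toAbRpushIso pr₁₃ G n)
    rw [IsZero.iff_id_eq_zero] at h' ⊢
    exact (toAbFunctor TY).map_injective
      (((toAbFunctor TY).map_id _).trans (h'.trans ((toAbFunctor TY).map_zero _ _).symm))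
  let Bs : Set TY.Opens := {O | ∃ (Tα : T.affineOpens) (V : Y.affineOpens)
    (r : Γ(TY, c₁ ⁻¹ᵁ Tα.1 ⊓ c₂ ⁻¹ᵁ V.1)), O = TY.basicOpen r}
  have haff : ∀ (Tα : T.affineOpens) (V : Y.affineOpens), IsAffineOpen (c₁ ⁻¹ᵁ Tα.1 ⊓ c₂ ⁻¹ᵁ V.1) := by
    intro Tα V
    haveI : IsAffine (Tα.1 : Scheme.{u}) := Tα.2
    haveI : IsAffineHom (Tα.1.ι ≫ t) := isAffineHom_of_isAffine _
    haveI : IsAffineHom ((c₁ ⁻¹ᵁ Tα.1).ι ≫ c₂) := MorphismProperty.of_isPullback (P := @IsAffineHom)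
      (((isPullback_morphismRestrict c₁ Tα.1).flip.paste_horiz hTY.flip).flip.flip.flip) inferInstance
    have h := (V.2.preimage ((c₁ ⁻¹ᵁ Tα.1).ι ≫ c₂)).image_of_isOpenImmersion (c₁ ⁻¹ᵁ Tα.1).ι
    rwa [Scheme.Hom.comp_preimage, Scheme.Hom.image_preimage_eq_opensRange_inf, Scheme.Opens.opensRange_ι] at h
  have hBs : Opens.IsBasis Bs := by
    rw [Opens.isBasis_iff_nbhd]
    intro O x hx
    obtain ⟨Tα, hTα, hxT, -⟩ := exists_isAffineOpen_mem_and_subset (x := c₁ x) (U := (⊤ : T.Opens)) trivial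
    obtain ⟨V, hV, hxV, -⟩ := exists_isAffineOpen_mem_and_subset (x := c₂ x) (U := (⊤ : Y.Opens)) trivial
    obtain ⟨r, hr, hxr⟩ := (haff ⟨Tα, hTα⟩ ⟨V, hV⟩).exists_basicOpen_le (V := O) ⟨x, hx⟩ ⟨hxT, hxV⟩
    exact ⟨_, ⟨⟨Tα, hTα⟩, ⟨V, hV⟩, r, rfl⟩, hxr, hr⟩
  refine isZero_rpushAb_of_basis pr₁₃ Bs hBs _ n ?_
  rintro O ⟨Tα, V, r, rfl⟩
  refine RelExact14.subsingleton_H'_preimage_basicOpen pr₁₃ (haff Tα V) G n ?_ r
  -- the chart over `Tα`
  haveI : IsAffine (Tα.1 : Scheme.{u}) := Tα.2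
  haveI : IsAffineHom (Tα.1.ι ≫ t) := isAffineHom_of_isAffine _
  let W' : W.Opens := w₁ ⁻¹ᵁ Tα.1
  let U : Q.Opens := pr₁₂ ⁻¹ᵁ W'
  let π : (W' : Scheme.{u}) ⟶ X := W'.ι ≫ w₂
  haveI : IsAffineHom π := MorphismProperty.of_isPullback (P := @IsAffineHom)
    (((isPullback_morphismRestrict w₁ Tα.1).flip.paste_horiz hW.flip).flip.flip.flip) inferInstance
  let g : (U : Scheme.{u}) ⟶ P := U.ι ≫ pr₂₃
  let p' : (U : Scheme.{u}) ⟶ (W' : Scheme.{u}) := pr₁₂ ∣_ W'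
  have sq : IsPullback p' g π p := (isPullback_morphismRestrict pr₁₂ W').paste_vert hQ
  haveI : IsAffineHom g := MorphismProperty.of_isPullback (P := @IsAffineHom) sq inferInstance
  let F' := (Scheme.Modules.pullback W'.ι).obj F
  haveI : Coh.IsQCoh F' := EGA43.InjFibre.isQCoh_pullback W'.ι F
  haveI : Coh.IsQCoh ((Scheme.Modules.pullback p').obj F') := EGA43.InjFibre.isQCoh_pullback p' F'
  haveI : Coh.IsQCoh ((Scheme.Modules.pullback g).obj K) := EGA43.InjFibre.isQCoh_pullback g K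
  let M := CohB1.tensorMod ((Scheme.Modules.pullback p').obj F') ((Scheme.Modules.pullback g).obj K)
  haveI : Coh.IsQCoh M := isQCoh_tensorMod _ _
  haveI : Coh.IsQCoh ((Coh.push π).obj F') := isQCoh_push π F'
  haveI := CohExch.isIso_bc0_of_affine sq F'
  haveI := ProjAffine.isIso_projA g ((Scheme.Modules.pullback p').obj F') K
  let e : CohB1.tensorMod ((Scheme.Modules.pullback p).obj ((Coh.push π).obj F')) K ≅ (Coh.push g).obj M :=
    tensorIso (asIso (CohBC.bc0 π p g p' sq.w F')) (Iso.refl K) ≪≫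
      asIso (ProjAffine.projA g ((Scheme.Modules.pullback p').obj F') K)
  haveI : QuasiCompact (g ≫ q) := inferInstance
  haveI : QuasiSeparated (g ≫ q) := inferInstance
  have hz : IsZero ((Coh.RpushAb (g ≫ q) n).obj (Coh.toAb M)) := by
    obtain ⟨e'⟩ := nonempty_rpushAb_comp_affine g q M n
    have h0 := ((hKac _ ‹Coh.IsQCoh ((Coh.push π).obj F')› n hn).of_iso ((Coh.Rpush q n).mapIso e).symm)
    exact ((((toAbFunctor Y).map_isZero h0).of_iso (toAbRpushIso q _ n).symm)).of_iso e'.symm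
  have hs := VarietyLib.subsingleton_H'_preimage_of_isZero (g ≫ q) M n hz V.2
  have hU : U.ι ≫ pr₁₂ = p' ≫ W'.ι := (morphismRestrict_ι pr₁₂ W').symm
  let eM : G.restrict U.ι ≅ M :=
    (Scheme.Modules.restrictFunctorIsoPullback U.ι).app G ≪≫
      DCat.PullTensor.pullTensorIso U.ι A B ≪≫
      tensorIso ((Scheme.Modules.pullbackComp U.ι pr₁₂).app F ≪≫ (Scheme.Modules.pullbackCongr hU).app F ≪≫
          ((Scheme.Modules.pullbackComp p' W'.ι).app F).symm)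
        ((Scheme.Modules.pullbackComp U.ι pr₂₃).app K)
  have hs' : Subsingleton (Sheaf.H' (Coh.toAb (G.restrict U.ι)) n ((g ≫ q) ⁻¹ᵁ V.1)) :=
    (((Sheaf.cohomologyPresheafFunctor.{u} (Opens.grothendieckTopology (U : Scheme.{u})) n).mapIso
      ((toAbFunctor (U : Scheme.{u})).mapIso eM)).app (Opposite.op ((g ≫ q) ⁻¹ᵁ V.1))).addCommGroupIsoToAddEquiv.toEquiv.subsingleton_congr.2 hs
  have himg : U.ι ''ᵁ ((g ≫ q) ⁻¹ᵁ V.1) = pr₁₃ ⁻¹ᵁ (c₁ ⁻¹ᵁ Tα.1 ⊓ c₂ ⁻¹ᵁ V.1) := by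
    have e1 : g ≫ q = U.ι ≫ (pr₁₃ ≫ c₂) := by rw [h₂]; exact Category.assoc _ _ _
    rw [e1, Scheme.Hom.comp_preimage, Scheme.Hom.image_preimage_eq_opensRange_inf, Scheme.Opens.opensRange_ι,
      Scheme.Hom.preimage_inf, ← Scheme.Hom.comp_preimage, ← Scheme.Hom.comp_preimage, h₁]
    rfl
  exact ((H'ModRestrictEquiv U.ι G ((g ≫ q) ⁻¹ᵁ V.1) n).trans (H'Congr (Coh.toAb G) n himg)).toEquiv.subsingleton_congr.1 hs'

end Groth.Agent.CohDer1.FK13
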