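import Groth.Agent.CohExch.AffineBC0
import Groth.Agent.DQCoh.BCPush17
import Groth.Agent.DCat.PullTensor
import Groth.Agent.EGA43.InjFibre.Scheme
import Groth.Agent.Coherent.TensorQcoh
import Groth.Prelude.Def_KoszTw

/-!
# Flat base change of kernel functors
-/

set_option autoImplicit false
set_option backward.isDefEq.respectTransparency false
set_option linter.style.haveILetI false

universe u

open CategoryTheory CategoryTheory.Limits AlgebraicGeometry
open Groth.Agent.Coherent

namespace Groth.Agent.CohDer1.FKBaseChange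

variable {P P' X Y Y' : Scheme.{u}} (p : P ⟶ X) (q : P ⟶ Y) [IsAffineHom q] (K : P.Modules) (g : Y' ⟶ Y)
  (h : P' ⟶ P) (q' : P' ⟶ Y') (p' : P' ⟶ X)

/-- Pullback commutes with twisting by a fixed module. -/
noncomputable def pullTwistIso (K : P.Modules) :
    DCoh.tensorRightMod K ⋙ Scheme.Modules.pullback h ≅
      Scheme.Modules.pullback h ⋙ DCoh.tensorRightMod ((Scheme.Modules.pullback h).obj K) :=
  NatIso.ofComponents (fun M => DCat.PullTensor.pullTensorIso h M K)
    fun {M M'} φ => DCat.PullTensor.pullTensorHom_nat₁ h φ K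

theorem nonempty_baseChange (hK : Coh.IsQCoh K) (sq : IsPullback h q' q g) (hp : h ≫ p = p') :
    Nonempty ((ObjectProperty.ι (QCohCat.isQCoh X) ⋙ Scheme.Modules.pullback p ⋙ DCoh.tensorRightMod K ⋙ Coh.push q) ⋙
        Scheme.Modules.pullback g ≅
      ObjectProperty.ι (QCohCat.isQCoh X) ⋙ (Scheme.Modules.pullback p' ⋙
        DCoh.tensorRightMod ((Scheme.Modules.pullback h).obj K) ⋙ Coh.push q')) := by
  let A := ObjectProperty.ι (QCohCat.isQCoh X) ⋙ Scheme.Modules.pullback p ⋙ DCoh.tensorRightMod K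
  let η : A ⋙ (Scheme.Modules.pushforward q ⋙ Scheme.Modules.pullback g) ⟶
      A ⋙ (Scheme.Modules.pullback h ⋙ Scheme.Modules.pushforward q') :=
    Functor.whiskerLeft A (DQCoh.BCPush17.bcNat q g q' h sq.w)
  haveI : IsIso η := by
    haveI : ∀ M, IsIso (η.app M) := fun M => by
      haveI := hK
      haveI : Coh.IsQCoh M.obj := M.property
      haveI : Coh.IsQCoh ((Scheme.Modules.pullback p).obj M.obj) := EGA43.InjFibre.isQCoh_pullback p _
      haveI : Coh.IsQCoh (A.obj M) := isQCoh_tensorMod ((Scheme.Modules.pullback p).obj M.obj) K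
      exact CohExch.isIso_bc0_of_affine sq (A.obj M)
    exact NatIso.isIso_of_isIso_app η
  let e₁ : Scheme.Modules.pullback p ⋙ DCoh.tensorRightMod K ⋙ Scheme.Modules.pullback h ≅
      Scheme.Modules.pullback p' ⋙ DCoh.tensorRightMod ((Scheme.Modules.pullback h).obj K) :=
    Functor.isoWhiskerLeft _ (pullTwistIso h K) ≪≫ (Functor.associator _ _ _).symm ≪≫
      Functor.isoWhiskerRight (Scheme.Modules.pullbackComp h p ≪≫ Scheme.Modules.pullbackCongr hp) _
  exact ⟨(asIso η : _) ≪≫ Functor.isoWhiskerLeft (ObjectProperty.ι (QCohCat.isQCoh X))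
    (Functor.isoWhiskerRight e₁ (Coh.push q'))⟩

end Groth.Agent.CohDer1.FKBaseChange
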