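import Groth.Agent.CohDer1.ProjAffine
import Groth.Agent.H8Lim.ModSections
import Groth.Agent.AmpleLib.Relative

/-!
# Projection maps
-/

set_option autoImplicit false
set_option linter.style.haveILetI false
set_option backward.isDefEq.respectTransparency false
set_option maxHeartbeats 1000000

universe u

open CategoryTheory CategoryTheory.Limits AlgebraicGeometry Opposite TopologicalSpace
open Groth.Agent.Coherent Groth.Agent.PicLib Groth.Agent.AmpleLib

noncomputable section

namespace Groth.Agent.CohDer1.ProjMaps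

variable {P P' U : Scheme.{u}} (g : P' ⟶ P)

theorem isIso_projA_push (j : U ⟶ P') [IsAffineHom j] [IsAffineHom (j ≫ g)] (T : U.Modules) [Coh.IsQCoh T]
    (K : P.Modules) [Coh.IsQCoh K] :
    IsIso (ProjAffine.projA g ((Scheme.Modules.pushforward j).obj T) K) := by
  haveI : Coh.IsQCoh ((Scheme.Modules.pullback g).obj K) := EGA43.InjFibre.isQCoh_pullback g K
  haveI := ProjAffine.isIso_projA j T ((Scheme.Modules.pullback g).obj K)
  haveI := ProjAffine.isIso_projA (j ≫ g) T K
  let a := (Scheme.Modules.pushforward g).map (ProjAffine.projA j T ((Scheme.Modules.pullback g).obj K)) ≫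
    (Scheme.Modules.pushforwardComp j g).hom.app _ ≫
    (Scheme.Modules.pushforward (j ≫ g)).map
      (Coherent.tensorIso (Iso.refl T) ((Scheme.Modules.pullbackComp j g).app K)).hom
  have key : ProjAffine.projA g ((Scheme.Modules.pushforward j).obj T) K ≫ a =
      (Coherent.tensorIso ((Scheme.Modules.pushforwardComp j g).app T) (Iso.refl K)).hom ≫ ProjAffine.projA (j ≫ g) T K := by
    refine AmpleLib.hom_ext fun V t n => ?_
    show (Coherent.tensorIso (Iso.refl T) ((Scheme.Modules.pullbackComp j g).app K)).hom.app (j ⁻¹ᵁ (g ⁻¹ᵁ V))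
        ((ProjAffine.projA j T ((Scheme.Modules.pullback g).obj K)).app (g ⁻¹ᵁ V)
          ((ProjAffine.projA g ((Scheme.Modules.pushforward j).obj T) K).app V (tmul t n))) =
      (ProjAffine.projA (j ≫ g) T K).app V
        ((Coherent.tensorIso ((Scheme.Modules.pushforwardComp j g).app T) (Iso.refl K)).hom.app V (tmul t n))
    rw [Coherent.tensorIso_tmul]
    refine Eq.trans ?_ (ProjAffine.projA_tmul (j ≫ g) T K V (show Γ(T, j ⁻¹ᵁ (g ⁻¹ᵁ V)) from t) n).symm
    refine (congrArg _ (congrArg _ (ProjAffine.projA_tmul g ((Scheme.Modules.pushforward j).obj T) K V t n))).trans ?_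
    refine (congrArg _ (ProjAffine.projA_tmul j T ((Scheme.Modules.pullback g).obj K) (g ⁻¹ᵁ V) t
      (pullSec g n))).trans ?_
    refine (Coherent.tensorIso_tmul _ _ _ _ _).trans ?_
    exact congrArg _ (H8Lim.pullbackComp_hom_app_pullSec j g K n)
  haveI : IsIso (ProjAffine.projA g ((Scheme.Modules.pushforward j).obj T) K ≫ a) := by
    rw [key]
    infer_instance
  exact IsIso.of_isIso_comp_right _ a

/-- `(a, e) ↦ g^*a ⊗ e`. -/
def projBilinL (M : P.Modules) (E : P'.Modules) :
    Bilin M ((Scheme.Modules.pushforward g).obj E)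
      ((Scheme.Modules.pushforward g).obj (CohB1.tensorMod ((Scheme.Modules.pullback g).obj M) E)) where
  app V a e := (show Γ(CohB1.tensorMod ((Scheme.Modules.pullback g).obj M) E, g ⁻¹ᵁ V) from
    tmul (pullSec g a) (show Γ(E, g ⁻¹ᵁ V) from e))
  add_left V a a' e := by
    show tmul (pullSec g (a + a')) (show Γ(E, g ⁻¹ᵁ V) from e) = _
    rw [show pullSec g (a + a') = pullSec g a + pullSec g a' from map_add _ _ _, tmul_add_left]
  add_right V a e e' := tmul_add_right (pullSec g a) (show Γ(E, g ⁻¹ᵁ V) from e) (show Γ(E, g ⁻¹ᵁ V) from e')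
  smul_left V r a e := by
    show tmul (pullSec g (r • a)) (show Γ(E, g ⁻¹ᵁ V) from e) =
      g.app V r • tmul (pullSec g a) (show Γ(E, g ⁻¹ᵁ V) from e)
    rw [pullSec_smul, tmul_smul_left]
  smul_right V r a e := by
    show tmul (pullSec g a) (g.app V r • (show Γ(E, g ⁻¹ᵁ V) from e)) =
      g.app V r • tmul (pullSec g a) (show Γ(E, g ⁻¹ᵁ V) from e)
    rw [tmul_smul_right]
  res V W h a e := by
    show resM _ (g.preimage_mono h) (tmul (pullSec g a) (show Γ(E, g ⁻¹ᵁ V) from e)) = _
    rw [resM_tmul, resM_pullSec g h]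
    rfl

/-- `M ⊗ g_*E ⟶ g_*(g^*M ⊗ E)`. -/
def projL (M : P.Modules) (E : P'.Modules) :
    CohB1.tensorMod M ((Scheme.Modules.pushforward g).obj E) ⟶
      (Scheme.Modules.pushforward g).obj (CohB1.tensorMod ((Scheme.Modules.pullback g).obj M) E) :=
  (projBilinL g M E).desc

theorem projL_tmul (M : P.Modules) (E : P'.Modules) (V : P.Opens) (a : Γ(M, V)) (e : Γ(E, g ⁻¹ᵁ V)) :
    (projL g M E).app V (tmul a (show Γ((Scheme.Modules.pushforward g).obj E, V) from e)) =
      (show Γ((Scheme.Modules.pushforward g).obj (CohB1.tensorMod ((Scheme.Modules.pullback g).obj M) E), V) from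
        tmul (pullSec g a) e) :=
  Bilin.desc_tmul _ V a _

theorem pullback_map_pullSec {M M' : P.Modules} (φ : M ⟶ M') (V : P.Opens) (a : Γ(M, V)) :
    ((Scheme.Modules.pullback g).map φ).app (g ⁻¹ᵁ V) (pullSec g a) = pullSec g (φ.app V a) :=
  congr($(((Scheme.Modules.pullbackPushforwardAdjunction g).unit.naturality φ).symm).app V a)

/-- The projection map as a natural transformation. -/
def projNatL (E : P'.Modules) :
    DCoh.tensorRightMod ((Scheme.Modules.pushforward g).obj E) ⟶
      Scheme.Modules.pullback g ⋙ DCoh.tensorRightMod E ⋙ Scheme.Modules.pushforward g where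
  app M := projL g M E
  naturality {M M'} φ := by
    refine AmpleLib.hom_ext fun V a e => ?_
    show (projL g M' E).app V (((DCoh.tensorRightMod ((Scheme.Modules.pushforward g).obj E)).map φ).app V (tmul a e)) =
      ((DCoh.tensorRightMod E).map ((Scheme.Modules.pullback g).map φ)).app (g ⁻¹ᵁ V)
        ((projL g M E).app V (tmul a e))
    rw [RelExact14.tensorRightMod_map, RelExact14.tensorRightMod_map]
    refine (congrArg ((projL g M' E).app V) (tensorMap_tmul φ (𝟙 _) a e)).trans ?_
    refine (projL_tmul g M' E V _ (show Γ(E, g ⁻¹ᵁ V) from e)).trans ?_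
    refine Eq.trans ?_ (congrArg ((AmpleLib.tensorMap ((Scheme.Modules.pullback g).map φ) (𝟙 E)).app (g ⁻¹ᵁ V))
      (projL_tmul g M E V a (show Γ(E, g ⁻¹ᵁ V) from e)).symm)
    refine Eq.trans ?_ (tensorMap_tmul _ (𝟙 E) (pullSec g a) (show Γ(E, g ⁻¹ᵁ V) from e)).symm
    rw [pullback_map_pullSec]
    rfl

theorem isIso_projL_unit (E : P'.Modules) : IsIso (projL g (Coh.structureModule P) E) := by
  have hgen : IsGen ((Scheme.Modules.pullback g).obj (Coh.structureModule P)) (g ⁻¹ᵁ ⊤)
      (pullSec g (oneSec (⊤ : P.Opens))) := isGen_pullSec g (isGen_oneSec ⊤) isInvertible_structureModule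
  obtain ⟨o, ho⟩ := exists_iso_of_gens (fun _ : PUnit.{u + 1} => g ⁻¹ᵁ (⊤ : P.Opens)) ciSup_const
    (fun _ => oneSec (g ⁻¹ᵁ ⊤)) (fun _ => isGen_oneSec _)
    (fun _ => pullSec g (oneSec (⊤ : P.Opens))) (fun _ => hgen) (by
      intro i j V hi hj c hc
      have := (isGen_oneSec (g ⁻¹ᵁ ⊤) V hi).1 (a₁ := 1) (a₂ := c) (by simpa only [one_smul] using hc)
      rw [← this, one_smul])
  have hres : ∀ V : P.Opens, o.hom.app (g ⁻¹ᵁ V) (oneSec (g ⁻¹ᵁ V)) = pullSec g (oneSec V) := fun V => by
    rw [← resM_oneSec (g.preimage_mono (le_top : V ≤ ⊤)), ← resM_oneSec (le_top : V ≤ ⊤), ← resM_pullSec g le_top]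
    exact (app_resM o.hom _ _).trans (congrArg _ (ho PUnit.unit))
  have key : (unitTensorIso ((Scheme.Modules.pushforward g).obj E)).inv ≫ projL g (Coh.structureModule P) E =
      (Scheme.Modules.pushforward g).map ((unitTensorIso E).inv ≫ (Coherent.tensorIso o (Iso.refl E)).hom) := by
    refine Scheme.Modules.hom_ext _ _ fun V => ?_
    ext e
    show (projL g (Coh.structureModule P) E).app V (tmul (oneSec V) e) =
      (Coherent.tensorIso o (Iso.refl E)).hom.app (g ⁻¹ᵁ V) (tmul (oneSec (g ⁻¹ᵁ V)) (show Γ(E, g ⁻¹ᵁ V) from e))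
    rw [Coherent.tensorIso_tmul, hres]
    exact projL_tmul g _ E V (oneSec V) (show Γ(E, g ⁻¹ᵁ V) from e)
  haveI : IsIso ((unitTensorIso ((Scheme.Modules.pushforward g).obj E)).inv ≫ projL g (Coh.structureModule P) E) := by
    rw [key]
    infer_instance
  exact IsIso.of_isIso_comp_left (unitTensorIso ((Scheme.Modules.pushforward g).obj E)).inv _

end Groth.Agent.CohDer1.ProjMaps
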