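import Groth.Agent.CohDer1.ProjFlat
import Groth.Agent.CohDer1.CoverIso
import Groth.Agent.CohDer1.ProjMaps
import Groth.Agent.CohDer1.FKBaseChange
import Groth.Agent.CohDer1.FK13
import Groth.Agent.DCat.TensorAssoc
import Groth.Agent.Desc19b.FlatOverBC

/-!
# Composition of kernel functors
-/

set_option autoImplicit false
set_option backward.isDefEq.respectTransparency false
set_option linter.style.haveILetI false

universe u

open CategoryTheory CategoryTheory.Limits AlgebraicGeometry TopologicalSpace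
open Groth.Agent.Coherent

attribute [local instance] HasDerivedCategory.standard

namespace Groth.Agent.CohDer1.FKCompose

variable {P P' Q Y : Scheme.{u}} (q : P ⟶ Y) (p' : P' ⟶ Y) (pr₁₂ : Q ⟶ P) (pr₂₃ : Q ⟶ P')

/-- Base change followed by the projection map. -/
noncomputable def psi (sq : IsPullback pr₁₂ pr₂₃ q p') (L : P'.Modules) :
    Coh.push q ⋙ Scheme.Modules.pullback p' ⋙ DCoh.tensorRightMod L ⟶
      Scheme.Modules.pullback pr₁₂ ⋙ DCoh.tensorRightMod ((Scheme.Modules.pullback pr₂₃).obj L) ⋙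
        Coh.push pr₂₃ :=
  Functor.whiskerRight (DQCoh.BCPush17.bcNat q p' pr₂₃ pr₁₂ sq.w) (DCoh.tensorRightMod L) ≫
    Functor.whiskerLeft (Scheme.Modules.pullback pr₁₂) (ProjAffine.projNatA pr₂₃ L)

theorem nonempty_psi [QuasiCompact q] [QuasiSeparated q] (sq : IsPullback pr₁₂ pr₂₃ q p')
    {n : ℕ} (U : Fin n → P.Opens) (hcov : ∀ x : P, ∃ i, x ∈ U i) [∀ i, IsAffineHom (U i).ι]
    (haff : ∀ i, IsAffineHom ((U i).ι ≫ q)) (L : P'.Modules) (hL : Coh.IsQCoh L) (hLf : FlatMod.IsFlatOver p' L) :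
    Nonempty (ObjectProperty.ι (QCohCat.isQCoh P) ⋙
        (Coh.push q ⋙ Scheme.Modules.pullback p' ⋙ DCoh.tensorRightMod L) ≅
      ObjectProperty.ι (QCohCat.isQCoh P) ⋙
        (Scheme.Modules.pullback pr₁₂ ⋙ DCoh.tensorRightMod ((Scheme.Modules.pullback pr₂₃).obj L) ⋙
          Coh.push pr₂₃)) := by
  haveI := hL
  haveI : Coh.IsQCoh ((Scheme.Modules.pullback pr₂₃).obj L) := EGA43.InjFibre.isQCoh_pullback pr₂₃ L
  let B := (Scheme.Modules.pullback pr₂₃).obj L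
  have hBf : FlatMod.IsFlatOver pr₁₂ B := fun z =>
    Desc19b.isFlatOverAt_baseChange p' pr₁₂ pr₂₃ q sq.flip L z (hLf _)
  haveI : PreservesFiniteLimits (Scheme.Modules.pullback p' ⋙ DCoh.tensorRightMod L) :=
    (FlatTwist.exact_twist p' L hLf).1
  haveI : PreservesFiniteLimits (Scheme.Modules.pullback pr₁₂ ⋙ DCoh.tensorRightMod B) :=
    (FlatTwist.exact_twist pr₁₂ B hBf).1
  haveI : PreservesLimitsOfSize.{u, u} (Coh.push q) :=
    (Scheme.Modules.pullbackPushforwardAdjunction q).rightAdjoint_preservesLimits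
  haveI : PreservesLimitsOfSize.{u, u} (Coh.push pr₂₃) :=
    (Scheme.Modules.pullbackPushforwardAdjunction pr₂₃).rightAdjoint_preservesLimits
  haveI : PreservesFiniteLimits (Coh.push q) := PreservesLimitsOfSize.preservesFiniteLimits _
  haveI : PreservesFiniteLimits (Coh.push pr₂₃) := PreservesLimitsOfSize.preservesFiniteLimits _
  let ι' := ObjectProperty.ι (QCohCat.isQCoh P)
  haveI := FKFlat.preservesFiniteLimits_ι' P
  haveI : PreservesFiniteLimits (ι' ⋙ (Coh.push q ⋙ Scheme.Modules.pullback p' ⋙ DCoh.tensorRightMod L)) :=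
    inferInstanceAs (PreservesFiniteLimits (ι' ⋙ Coh.push q ⋙ (Scheme.Modules.pullback p' ⋙ DCoh.tensorRightMod L)))
  haveI : PreservesFiniteLimits (ι' ⋙ (Scheme.Modules.pullback pr₁₂ ⋙ DCoh.tensorRightMod B ⋙ Coh.push pr₂₃)) :=
    inferInstanceAs (PreservesFiniteLimits
      (ι' ⋙ (Scheme.Modules.pullback pr₁₂ ⋙ DCoh.tensorRightMod B) ⋙ Coh.push pr₂₃))
  let τ := Functor.whiskerLeft ι' (psi q p' pr₁₂ pr₂₃ sq L)
  suffices ∀ M, IsIso (τ.app M) by
    haveI := NatIso.isIso_of_isIso_app τ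
    exact ⟨asIso τ⟩
  refine CoverIso.isIso_app_of_cover τ U hcov fun i N hN _ => ?_
  haveI := hN
  haveI := haff i
  let j := (U i).ι
  let j' := pullback.snd j pr₁₂
  let g'' := pullback.fst j pr₁₂
  have sq₀ : IsPullback g'' j' j pr₁₂ := IsPullback.of_hasPullback j pr₁₂
  have sq₁ : IsPullback g'' (j' ≫ pr₂₃) (j ≫ q) p' := sq₀.paste_vert sq
  haveI : IsAffineHom j' := MorphismProperty.of_isPullback (P := @IsAffineHom) sq₀ inferInstance
  haveI : IsAffineHom (j' ≫ pr₂₃) := MorphismProperty.of_isPullback (P := @IsAffineHom) sq₁ inferInstance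
  haveI h₁ : IsIso (CohBC.bc0 j pr₁₂ j' g'' sq₀.w N) := CohExch.isIso_bc0_of_affine sq₀ N
  haveI : IsIso (CohBC.bc0 q p' pr₂₃ pr₁₂ sq.w ((Scheme.Modules.pushforward j).obj N)) :=
    DQCoh.BCPush17.isIso_bc0_push q p' pr₂₃ pr₁₂ sq.w sq₀.w N h₁ (CohExch.isIso_bc0_of_affine sq₁ N)
  haveI : Coh.IsQCoh ((Scheme.Modules.pullback g'').obj N) := EGA43.InjFibre.isQCoh_pullback g'' N
  haveI h₂ : IsIso ((ProjAffine.projNatA pr₂₃ L).app
      ((Scheme.Modules.pushforward j').obj ((Scheme.Modules.pullback g'').obj N))) :=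
    ProjMaps.isIso_projA_push pr₂₃ j' ((Scheme.Modules.pullback g'').obj N) L
  haveI : IsIso ((ProjAffine.projNatA pr₂₃ L).app
      ((Scheme.Modules.pullback pr₁₂).obj ((Scheme.Modules.pushforward j).obj N))) :=
    (NatTrans.isIso_app_iff_of_iso (ProjAffine.projNatA pr₂₃ L) (asIso (CohBC.bc0 j pr₁₂ j' g'' sq₀.w N))).2 h₂
  show IsIso ((DCoh.tensorRightMod L).map
      (CohBC.bc0 q p' pr₂₃ pr₁₂ sq.w ((Scheme.Modules.pushforward j).obj N)) ≫
    (ProjAffine.projNatA pr₂₃ L).app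
      ((Scheme.Modules.pullback pr₁₂).obj ((Scheme.Modules.pushforward j).obj N)))
  infer_instance

/-- Twisting twice is twisting by the tensor product. -/
noncomputable def twistCompIso (A B : Q.Modules) :
    DCoh.tensorRightMod A ⋙ DCoh.tensorRightMod B ≅ DCoh.tensorRightMod (CohB1.tensorMod A B) :=
  NatIso.ofComponents (fun M => DCat.TensorAssoc.assocIso M A B)
    fun f => DCat.TensorAssoc.assocIso_nat₁ f

variable {X Z S P'' : Scheme.{u}}

theorem nonempty_compose [IsAffine S] {a : X ⟶ S} {b : Y ⟶ S} {c : Z ⟶ S} [QuasiCompact a] [QuasiCompact b]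
    [IsAffineHom (pullback.diagonal a)] [IsAffineHom (pullback.diagonal b)]
    {p : P ⟶ X} (hP : IsPullback p q a b) {q' : P' ⟶ Z} (hP' : IsPullback p' q' b c)
    {p'' : P'' ⟶ X} {q'' : P'' ⟶ Z} (hP'' : IsPullback p'' q'' a c) (sq : IsPullback pr₁₂ pr₂₃ q p')
    (pr₁₃ : Q ⟶ P'') (h₁ : pr₁₃ ≫ p'' = pr₁₂ ≫ p) (h₂ : pr₁₃ ≫ q'' = pr₂₃ ≫ q')
    [HasInjectiveResolutions P'.Modules]
    (K : P.Modules) (hK : Coh.IsQCoh K) (hKf : FlatMod.IsFlatOver p K)
    (L : P'.Modules) (hL : Coh.IsQCoh L) (hLf : FlatMod.IsFlatOver p' L)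
    (hLa : ∀ (F : Y.Modules), Coh.IsQCoh F → ∀ i : ℕ, 0 < i →
      IsZero ((Coh.Rpush q' i).obj (CohB1.tensorMod ((Scheme.Modules.pullback p').obj F) L))) :
    Nonempty (ObjectProperty.ι (QCohCat.isQCoh X) ⋙ (Scheme.Modules.pullback p ⋙ DCoh.tensorRightMod K ⋙ Coh.push q) ⋙
        (Scheme.Modules.pullback p' ⋙ DCoh.tensorRightMod L ⋙ Coh.push q') ≅
      ObjectProperty.ι (QCohCat.isQCoh X) ⋙ (Scheme.Modules.pullback p'' ⋙
        DCoh.tensorRightMod ((Coh.push pr₁₃).obj (CohB1.tensorMod ((Scheme.Modules.pullback pr₁₂).obj K)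
          ((Scheme.Modules.pullback pr₂₃).obj L))) ⋙ Coh.push q'')) := by
  haveI := hK
  haveI := hL
  haveI : QuasiSeparated a := ⟨inferInstance⟩
  haveI : QuasiSeparated b := ⟨inferInstance⟩
  haveI : CompactSpace X := QuasiCompact.compactSpace_of_compactSpace a
  haveI : QuasiCompact q := MorphismProperty.of_isPullback (P := @QuasiCompact) hP inferInstance
  haveI : QuasiSeparated q := MorphismProperty.of_isPullback (P := @QuasiSeparated) hP inferInstance
  haveI : QuasiCompact q' := MorphismProperty.of_isPullback (P := @QuasiCompact) hP' inferInstance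
  haveI : QuasiSeparated q' := MorphismProperty.of_isPullback (P := @QuasiSeparated) hP' inferInstance
  have sq₁₃ : IsPullback pr₂₃ pr₁₃ q' q'' := FK13.isPullback_pr₁₃ hP hP' hP'' sq h₁ h₂
  haveI : QuasiCompact pr₁₃ := MorphismProperty.of_isPullback (P := @QuasiCompact) sq₁₃ inferInstance
  haveI : QuasiSeparated pr₁₃ := MorphismProperty.of_isPullback (P := @QuasiSeparated) sq₁₃ inferInstance
  haveI := hasInjectiveResolutions_modules Q
  let ι' := ObjectProperty.ι (QCohCat.isQCoh X)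
  let A := (Scheme.Modules.pullback pr₁₂).obj K
  let B := (Scheme.Modules.pullback pr₂₃).obj L
  haveI : Coh.IsQCoh A := EGA43.InjFibre.isQCoh_pullback pr₁₂ K
  haveI : Coh.IsQCoh B := EGA43.InjFibre.isQCoh_pullback pr₂₃ L
  let E₀ := CohB1.tensorMod A B
  haveI hE₀ : Coh.IsQCoh E₀ := isQCoh_tensorMod A B
  -- affine opens of `X`
  have hι : ∀ V : X.Opens, IsAffineOpen V → IsAffineHom V.ι ∧ IsAffineHom (V.ι ≫ a) := fun V hV => by
    haveI : IsAffine (V : Scheme.{u}) := hV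
    haveI h₂ : IsAffineHom (V.ι ≫ a) := isAffineHom_of_isAffine _
    haveI : MorphismProperty.HasOfPostcompProperty @IsAffineHom (MorphismProperty.diagonal @IsAffineHom) :=
      MorphismProperty.hasOfPostcompProperty_iff_le_diagonal.2 le_rfl
    have hd : MorphismProperty.diagonal @IsAffineHom a := (inferInstance : IsAffineHom (pullback.diagonal a))
    exact ⟨MorphismProperty.of_postcomp (W := @IsAffineHom) (W' := MorphismProperty.diagonal @IsAffineHom)
      V.ι a hd h₂, h₂⟩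
  obtain ⟨ψ⟩ : Nonempty (ObjectProperty.ι (QCohCat.isQCoh P) ⋙
      (Coh.push q ⋙ Scheme.Modules.pullback p' ⋙ DCoh.tensorRightMod L) ≅
    ObjectProperty.ι (QCohCat.isQCoh P) ⋙
      (Scheme.Modules.pullback pr₁₂ ⋙ DCoh.tensorRightMod B ⋙ Coh.push pr₂₃)) := by
    choose V hV hxV _ using fun x : X => exists_isAffineOpen_mem_and_subset (x := x) (U := (⊤ : X.Opens)) trivial
    obtain ⟨s, hs⟩ := isCompact_univ.elim_finite_subcover (fun x : X => (V x : Set X)) (fun x => (V x).2)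
      fun x _ => Set.mem_iUnion.2 ⟨x, hxV x⟩
    let U : Fin s.card → P.Opens := fun i => p ⁻¹ᵁ V (s.equivFin.symm i).1
    have hU : ∀ i, IsAffineHom (U i).ι ∧ IsAffineHom ((U i).ι ≫ q) := fun i => by
      obtain ⟨hι₁, hι₂⟩ := hι _ (hV (s.equivFin.symm i).1)
      have sqU := isPullback_morphismRestrict p (V (s.equivFin.symm i).1)
      exact ⟨MorphismProperty.of_isPullback (P := @IsAffineHom) sqU hι₁,
        MorphismProperty.of_isPullback (P := @IsAffineHom) (sqU.flip.paste_horiz hP.flip).flip hι₂⟩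
    haveI : ∀ i, IsAffineHom (U i).ι := fun i => (hU i).1
    refine nonempty_psi q p' pr₁₂ pr₂₃ sq U (fun x => ?_) (fun i => (hU i).2) L hL hLf
    obtain ⟨y, hy, hxy⟩ := Set.mem_iUnion₂.1 (hs (Set.mem_univ (p.base x)))
    refine ⟨s.equivFin ⟨y, hy⟩, ?_⟩
    show p.base x ∈ V (s.equivFin.symm (s.equivFin ⟨y, hy⟩)).1
    rw [Equiv.symm_apply_apply]
    exact hxy
  -- the twisting functors
  let T₁ := Scheme.Modules.pullback p ⋙ DCoh.tensorRightMod K
  have hT₁ : ∀ M : QCohCat.QCoh X, QCohCat.isQCoh P ((ι' ⋙ T₁).obj M) := fun M => by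
    haveI : Coh.IsQCoh M.obj := M.property
    haveI : Coh.IsQCoh ((Scheme.Modules.pullback p).obj M.obj) := EGA43.InjFibre.isQCoh_pullback p _
    exact isQCoh_tensorMod ((Scheme.Modules.pullback p).obj M.obj) K
  let T₁' : QCohCat.QCoh X ⥤ QCohCat.QCoh P := (QCohCat.isQCoh P).lift (ι' ⋙ T₁) hT₁
  let T₂ := Scheme.Modules.pullback pr₁₂ ⋙ DCoh.tensorRightMod B
  let Φ := Scheme.Modules.pullback p'' ⋙ Scheme.Modules.pullback pr₁₃ ⋙ DCoh.tensorRightMod E₀
  let eΦ : T₁ ⋙ T₂ ≅ Φ :=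
    Functor.isoWhiskerLeft (Scheme.Modules.pullback p)
        (Functor.isoWhiskerRight (FKBaseChange.pullTwistIso pr₁₂ K) (DCoh.tensorRightMod B)) ≪≫
      Functor.isoWhiskerLeft (Scheme.Modules.pullback p ⋙ Scheme.Modules.pullback pr₁₂) (twistCompIso A B) ≪≫
      Functor.isoWhiskerRight (Scheme.Modules.pullbackComp pr₁₂ p ≪≫ Scheme.Modules.pullbackCongr h₁.symm ≪≫
        (Scheme.Modules.pullbackComp pr₁₃ p'').symm) (DCoh.tensorRightMod E₀)
  have hBf : FlatMod.IsFlatOver pr₁₂ B := fun z =>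
    Desc19b.isFlatOverAt_baseChange p' pr₁₂ pr₂₃ q sq.flip L z (hLf _)
  haveI : PreservesFiniteLimits T₁ := (FlatTwist.exact_twist p K hKf).1
  haveI : PreservesFiniteLimits T₂ := (FlatTwist.exact_twist pr₁₂ B hBf).1
  haveI : PreservesFiniteLimits Φ := ⟨fun J _ _ => preservesLimitsOfShape_of_natIso eΦ⟩
  have hacy : ∀ M : QCohCat.QCoh X, IsZero ((Coh.Rpush pr₁₃ 1).obj (Φ.obj M.obj)) := fun M =>
    (FK13.isZero_rpush_pr₁₃ hP hP' hP'' sq h₁ h₂ L hL hLa (T₁.obj M.obj) (hT₁ M) 1 one_pos).of_iso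
      ((Coh.Rpush pr₁₃ 1).mapIso (eΦ.app M.obj)).symm
  obtain ⟨φ⟩ := ProjFlat.nonempty_projection p'' pr₁₃
    (fun x => by
      obtain ⟨V, hV, hxV, -⟩ := exists_isAffineOpen_mem_and_subset (x := x) (U := (⊤ : X.Opens)) trivial
      haveI := (hι V hV).1
      refine ⟨V, hV, hxV, ?_⟩
      rw [← hV.isoSpec_inv_ι]
      infer_instance)
    E₀ hE₀ hacy
  -- assemble
  let e₁ : (ι' ⋙ (Scheme.Modules.pullback p ⋙ DCoh.tensorRightMod K ⋙ Coh.push q)) ⋙
      (Scheme.Modules.pullback p' ⋙ DCoh.tensorRightMod L ⋙ Coh.push q') ≅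
    ι' ⋙ (T₁ ⋙ T₂) ⋙ Coh.push pr₂₃ ⋙ Coh.push q' :=
    Functor.isoWhiskerLeft T₁' (Functor.isoWhiskerRight ψ (Coh.push q'))
  let e₂ : Coh.push pr₂₃ ⋙ Coh.push q' ≅ Coh.push pr₁₃ ⋙ Coh.push q'' :=
    Scheme.Modules.pushforwardComp pr₂₃ q' ≪≫ Scheme.Modules.pushforwardCongr h₂.symm ≪≫
      (Scheme.Modules.pushforwardComp pr₁₃ q'').symm
  exact ⟨e₁ ≪≫ Functor.isoWhiskerLeft ι' (Functor.isoWhiskerRight eΦ _) ≪≫
    Functor.isoWhiskerLeft (ι' ⋙ Φ) e₂ ≪≫ Functor.isoWhiskerRight φ.symm (Coh.push q'')⟩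

end Groth.Agent.CohDer1.FKCompose
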