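import Groth.Agent.CohDer1.FK13
import Groth.Agent.CohDer1.FlatTwist
import Groth.Agent.CohExch.FlatBC0
import Groth.Agent.Desc19b.FlatOverBC
import Groth.Agent.AmpleLib.Relative
import Groth.Agent.AmpleLib.AffCriterion2
import Groth.Agent.FlatMor12.Cube.Sheaves

/-!
# A kernel is covered by the box product of the structure sheaf and its image
-/

set_option autoImplicit false
set_option backward.isDefEq.respectTransparency false
set_option linter.style.haveILetI false

universe u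

open CategoryTheory CategoryTheory.Limits AlgebraicGeometry TopologicalSpace
open Groth.Agent.Coherent

namespace Groth.Agent.CohDer1.FKEpi

theorem exists_epi_box {P X Y S : Scheme.{u}} [IsAffine S] {a : X ⟶ S} {b : Y ⟶ S} [Flat a] [IsSeparated a]
    [QuasiCompact a] {p : P ⟶ X} {q : P ⟶ Y} (hP : IsPullback p q a b) [HasInjectiveResolutions P.Modules]
    (K : P.Modules) (hK : Coh.IsQCoh K) (hKf : FlatMod.IsFlatOver p K)
    (hKac : ∀ (F : X.Modules), Coh.IsQCoh F → ∀ i : ℕ, 0 < i →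
      IsZero ((Coh.Rpush q i).obj (CohB1.tensorMod ((Scheme.Modules.pullback p).obj F) K))) :
    ∃ π : CohB1.tensorMod ((Scheme.Modules.pullback p).obj (Coh.structureModule X))
        ((Scheme.Modules.pullback q).obj ((Coh.push q).obj K)) ⟶ K, Epi π := by
  haveI := hK
  haveI : QuasiCompact q := MorphismProperty.of_isPullback (P := @QuasiCompact) hP inferInstance
  haveI : QuasiSeparated q := MorphismProperty.of_isPullback (P := @QuasiSeparated) hP inferInstance
  haveI : Flat q := MorphismProperty.of_isPullback (P := @Flat) hP inferInstance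
  let w₂ := pullback.snd a a
  let pr₁₂ := pullback.fst w₂ p
  let pr₂₃ := pullback.snd w₂ p
  have hQ : IsPullback pr₁₂ pr₂₃ w₂ p := IsPullback.of_hasPullback w₂ p
  have hW : IsPullback (pullback.fst a a) w₂ a a := IsPullback.of_hasPullback a a
  let pr₁₃ := hP.lift (pr₁₂ ≫ pullback.fst a a) (pr₂₃ ≫ q)
    (by rw [Category.assoc, Category.assoc, ← hP.w, hW.w, reassoc_of% hQ.w])
  have h₁ : pr₁₃ ≫ p = pr₁₂ ≫ pullback.fst a a := hP.lift_fst _ _ _
  have h₂ : pr₁₃ ≫ q = pr₂₃ ≫ q := hP.lift_snd _ _ _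
  have sq₁₃ : IsPullback pr₂₃ pr₁₃ q q := FK13.isPullback_pr₁₃ hW hP hP hQ h₁ h₂
  haveI : QuasiCompact pr₁₃ := MorphismProperty.of_isPullback (P := @QuasiCompact) sq₁₃ inferInstance
  haveI : QuasiSeparated pr₁₃ := MorphismProperty.of_isPullback (P := @QuasiSeparated) sq₁₃ inferInstance
  haveI := hasInjectiveResolutions_modules (pullback w₂ p)
  -- flat base change
  haveI := CohExch.isIso_bc0_of_flat_morphism sq₁₃ K
  let eBC : (Scheme.Modules.pullback q).obj ((Coh.push q).obj K) ≅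
      (Coh.push pr₁₃).obj ((Scheme.Modules.pullback pr₂₃).obj K) := asIso (CohBC.bc0 q q pr₁₃ pr₂₃ sq₁₃.w K)
  -- the diagonal and its graph
  let Δ := pullback.diagonal a
  have hΔ : Δ ≫ w₂ = 𝟙 X := pullback.diagonal_snd a
  haveI : IsClosedImmersion Δ := IsSeparated.isClosedImmersion_diagonal
  let j : P ⟶ pullback w₂ p := hQ.lift (p ≫ Δ) (𝟙 P) (by rw [Category.assoc, hΔ, Category.comp_id, Category.id_comp])
  have hj₁ : j ≫ pr₁₂ = p ≫ Δ := hQ.lift_fst _ _ _
  have hj₂ : j ≫ pr₂₃ = 𝟙 P := hQ.lift_snd _ _ _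
  have sqj : IsPullback p j Δ pr₁₂ := by
    refine (IsPullback.of_bot ?_ hj₁.symm hQ).flip.flip
    rw [hΔ, hj₂]
    exact IsPullback.of_vert_isIso ⟨by simp⟩
  haveI : IsClosedImmersion j := MorphismProperty.of_isPullback (P := @IsClosedImmersion) sqj inferInstance
  have hjq : j ≫ pr₁₃ = 𝟙 P := by
    refine hP.hom_ext ?_ ?_
    · rw [Category.assoc, h₁, reassoc_of% hj₁, pullback.diagonal_fst, Category.comp_id, Category.id_comp]
    · rw [Category.assoc, h₂, reassoc_of% hj₂, Category.id_comp]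
  let W := pullback a a
  let B := (Scheme.Modules.pullback pr₂₃).obj K
  haveI : Coh.IsQCoh B := EGA43.InjFibre.isQCoh_pullback pr₂₃ K
  have hBf : FlatMod.IsFlatOver pr₁₂ B := fun z =>
    Desc19b.isFlatOverAt_baseChange p pr₁₂ pr₂₃ w₂ hQ.flip K z (hKf _)
  obtain ⟨hlim, hcol⟩ := FlatTwist.exact_twist pr₁₂ B hBf
  haveI : PreservesFiniteColimits (Scheme.Modules.pullback pr₁₂ ⋙ DCoh.tensorRightMod B) :=
    PreservesColimitsOfSize.preservesFiniteColimits _
  haveI : Epi (ClSub.unitToPush Δ) := FlatMor12.Cube.epi_unitToPush Δ w₂ hΔ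
  haveI : Coh.IsQCoh (Coh.structureModule W) := QCohLoc.isQCoh_structureModule W
  haveI : Coh.IsQCoh (Coh.structureModule X) := QCohLoc.isQCoh_structureModule X
  haveI : Coh.IsQCoh ((Scheme.Modules.pushforward Δ).obj (Coh.structureModule X)) := isQCoh_push Δ _
  let S₀ : ShortComplex W.Modules := ShortComplex.mk (kernel.ι (ClSub.unitToPush Δ)) (ClSub.unitToPush Δ)
    (kernel.condition _)
  have hS₀ : S₀.ShortExact := { exact := S₀.exact_of_f_is_kernel (kernelIsKernel _) }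
  haveI : Coh.IsQCoh S₀.X₁ := isQCoh_kernel (ClSub.unitToPush Δ)
  have hT := hS₀.map_of_exact (Scheme.Modules.pullback pr₁₂ ⋙ DCoh.tensorRightMod B)
  have hz := FK13.isZero_rpush_pr₁₃ hW hP hP hQ h₁ h₂ K hK hKac S₀.X₁ inferInstance 1 one_pos
  haveI hepi := AmpleLib.epi_push_of_isZero_rpushAb pr₁₃ hT
    (IsZero.of_iso (Functor.map_isZero (SheafOfModules.toSheaf.{u} P.ringCatSheaf) hz)
      (toAbRpushIso pr₁₃ _ 1).symm)
  -- the source
  obtain ⟨o₁⟩ := AmpleLib.exists_pullStructureIso pr₁₂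
  let eS : (Coh.push pr₁₃).obj B ≅ (Coh.push pr₁₃).obj
      ((Scheme.Modules.pullback pr₁₂ ⋙ DCoh.tensorRightMod B).obj S₀.X₂) :=
    (Coh.push pr₁₃).mapIso ((AmpleLib.unitTensorIso B).symm ≪≫ tensorIso o₁.symm (Iso.refl B))
  -- the target
  haveI := CohExch.isIso_bc0_of_affine sqj (Coh.structureModule X)
  haveI : Coh.IsQCoh ((Scheme.Modules.pullback p).obj (Coh.structureModule X)) := EGA43.InjFibre.isQCoh_pullback p _
  haveI := ProjAffine.isIso_projA j ((Scheme.Modules.pullback p).obj (Coh.structureModule X)) B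
  obtain ⟨o₂⟩ := AmpleLib.exists_pullStructureIso p
  let eT : (Scheme.Modules.pullback pr₁₂ ⋙ DCoh.tensorRightMod B).obj S₀.X₃ ≅ (Coh.push j).obj K :=
    tensorIso (asIso (CohBC.bc0 Δ pr₁₂ j p sqj.w (Coh.structureModule X))) (Iso.refl B) ≪≫
      asIso (ProjAffine.projA j ((Scheme.Modules.pullback p).obj (Coh.structureModule X)) B) ≪≫
      (Coh.push j).mapIso (tensorIso o₂
        ((Scheme.Modules.pullbackComp j pr₂₃).app K ≪≫ (Scheme.Modules.pullbackCongr hj₂).app K ≪≫
          (Scheme.Modules.pullbackId P).app K) ≪≫ AmpleLib.unitTensorIso K)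
  let eK : (Coh.push pr₁₃).obj ((Coh.push j).obj K) ≅ K :=
    (Scheme.Modules.pushforwardComp j pr₁₃).app K ≪≫ (Scheme.Modules.pushforwardCongr hjq).app K ≪≫
      (Scheme.Modules.pushforwardId P).app K
  refine ⟨(tensorIso o₂ (Iso.refl _) ≪≫ AmpleLib.unitTensorIso _ ≪≫ eBC ≪≫ eS).hom ≫
    (Coh.push pr₁₃).map ((Scheme.Modules.pullback pr₁₂ ⋙ DCoh.tensorRightMod B).map S₀.g) ≫
    ((Coh.push pr₁₃).mapIso eT ≪≫ eK).hom, ?_⟩
  haveI : Epi ((Coh.push pr₁₃).map ((Scheme.Modules.pullback pr₁₂ ⋙ DCoh.tensorRightMod B).map S₀.g)) := hepi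
  infer_instance

end Groth.Agent.CohDer1.FKEpi
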