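import Groth.Agent.DirImgLib.Colim
import Groth.Agent.Coherent.QcohOps

/-!
# Quasi-compact quasi-separated direct images commute with sums of quasi-coherent modules
-/

set_option autoImplicit false
set_option backward.isDefEq.respectTransparency false
set_option linter.style.haveILetI false

universe u

open CategoryTheory CategoryTheory.Limits AlgebraicGeometry Opposite TopologicalSpace
open Groth.Agent.DirImgLib

namespace Groth.Agent.CohDer1.PushSums

variable {X : Scheme.{u}}

instance additive_sec (W : X.Opens) : (sec W).Additive where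

variable {ι : Type u} (F : ι → X.Modules)

open Classical in
/-- The projection of a sum to a summand. -/
noncomputable def proj (i : ι) : ∐ F ⟶ F i :=
  Sigma.desc fun j => if h : j = i then eqToHom (congrArg F h) else 0

lemma ι_proj (i : ι) : Sigma.ι F i ≫ proj F i = 𝟙 _ := by
  simp [proj]

lemma ι_proj_of_ne {i j : ι} (h : i ≠ j) : Sigma.ι F i ≫ proj F j = 0 := by
  simp [proj, h]

/-- The idempotent of a summand. -/
noncomputable abbrev idem (i : ι) : ∐ F ⟶ ∐ F := proj F i ≫ Sigma.ι F i

/-- A section is a finite sum of its components. -/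
def IsFinSum (W : X.Opens) (s : (sec W).obj (∐ F)) : Prop :=
  ∃ T : Finset ι, ∀ G : Finset ι, T ⊆ G → s = ∑ i ∈ G, (sec W).map (idem F i) s

theorem isFinSum_affine (hF : ∀ i, Coh.IsQCoh (F i)) {W : X.Opens} (hW : IsAffineOpen W)
    (s : (sec W).obj (∐ F)) : IsFinSum F W s := by
  classical
  haveI := preservesColimit_sec (Discrete.functor F) (fun j => hF j.as) hW
  let c := (sec W).mapCocone (colimit.cocone (Discrete.functor F))
  have hc : IsColimit c := isColimitOfPreserves _ (colimit.isColimit _)
  let S : AddSubgroup ((sec W).obj (∐ F)) :=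
    { carrier := {s | IsFinSum F W s}
      add_mem' := fun {a b} ⟨T, ha⟩ ⟨T', hb⟩ => ⟨T ∪ T', fun G hG => by
        conv_lhs => rw [ha G (Finset.union_subset_left hG), hb G (Finset.union_subset_right hG)]
        rw [← Finset.sum_add_distrib]
        exact Finset.sum_congr rfl fun i _ => (map_add _ _ _).symm⟩
      zero_mem' := ⟨∅, fun G _ => (Finset.sum_eq_zero fun i _ => map_zero _).symm⟩
      neg_mem' := fun {a} ⟨T, ha⟩ => ⟨T, fun G hG => by
        conv_lhs => rw [ha G hG]
        rw [← Finset.sum_neg_distrib]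
        exact Finset.sum_congr rfl fun i _ => (map_neg _ _).symm⟩ }
  have hgen : ∀ i (t : (sec W).obj (F i)), (sec W).map (Sigma.ι F i) t ∈ S := fun i t => by
    refine ⟨{i}, fun G hG => ?_⟩
    rw [Finset.sum_eq_single i ?_ (fun h => absurd (Finset.singleton_subset_iff.1 hG) h)]
    · rw [← ConcreteCategory.comp_apply, ← Functor.map_comp, ← Category.assoc, ι_proj, Category.id_comp]
    · intro j _ hj
      rw [← ConcreteCategory.comp_apply, ← Functor.map_comp, ← Category.assoc, ι_proj_of_ne F (Ne.symm hj),
        zero_comp, Functor.map_zero]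
      rfl
  have h0 : AddCommGrpCat.ofHom (QuotientAddGroup.mk' S) = 0 := hc.hom_ext fun j => by
    refine (AddCommGrpCat.hom_ext (AddMonoidHom.ext fun t => ?_)).trans (comp_zero).symm
    exact (QuotientAddGroup.eq_zero_iff _).2 (hgen j.as t)
  exact (QuotientAddGroup.eq_zero_iff (N := S) s).1 (ConcreteCategory.congr_hom h0 s)

theorem isFinSum_compact (hF : ∀ i, Coh.IsQCoh (F i)) {W : X.Opens} (hW : IsCompact (W : Set X))
    (s : (sec W).obj (∐ F)) : IsFinSum F W s := by
  classical
  choose V hV hxV hVW using fun x : W => exists_isAffineOpen_mem_and_subset (x := x.1) (U := W) x.2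
  choose T hT using fun x : W => isFinSum_affine F hF (hV x)
    (((∐ F : X.Modules).presheaf.map (homOfLE (hVW x)).op) s)
  obtain ⟨t, ht⟩ := hW.elim_finite_subcover (fun x : W => (V x : Set X)) (fun x => (V x).2)
    (fun y hy => Set.mem_iUnion.2 ⟨⟨y, hy⟩, hxV ⟨y, hy⟩⟩)
  refine ⟨t.biUnion T, fun G hG => ?_⟩
  refine TopCat.Presheaf.section_ext ⟨(∐ F : X.Modules).presheaf, (∐ F : X.Modules).isSheaf⟩ W _ _ fun y hy => ?_
  obtain ⟨x, hx, hyx⟩ := Set.mem_iUnion₂.1 (ht hy)
  have e := hT x G ((Finset.subset_biUnion_of_mem T hx).trans hG)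
  have key : (∐ F : X.Modules).presheaf.map (homOfLE (hVW x)).op s =
      (∐ F : X.Modules).presheaf.map (homOfLE (hVW x)).op (∑ i ∈ G, (sec W).map (idem F i) s) := by
    refine e.trans (Eq.trans ?_ (map_sum _ _ _).symm)
    exact Finset.sum_congr rfl fun i _ =>
      ConcreteCategory.congr_hom (((Scheme.Modules.toPresheaf X).map (idem F i)).naturality (homOfLE (hVW x)).op) s
  have h1 := congrArg ((∐ F : X.Modules).presheaf.germ (V x) y hyx) key
  exact ((TopCat.Presheaf.germ_res_apply (∐ F : X.Modules).presheaf (homOfLE (hVW x)) y hyx s).symm.trans h1).trans (TopCat.Presheaf.germ_res_apply (∐ F : X.Modules).presheaf (homOfLE (hVW x)) y hyx _)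

/-- Direct image by a quasi-compact quasi-separated morphism commutes with sums of quasi-coherent modules. -/
theorem preservesColimit_push {Y : Scheme.{u}} (f : X ⟶ Y) [QuasiCompact f] [QuasiSeparated f]
    (hF : ∀ i, Coh.IsQCoh (F i)) : PreservesColimit (Discrete.functor F) (Coh.push f) := by
  classical
  let G := fun i => (Coh.push f).obj (F i)
  have hG : ∀ i, Coh.IsQCoh (G i) := fun i => by
    haveI := hF i
    exact Groth.Agent.Coherent.isQCoh_push f (F i)
  let φ : ∐ G ⟶ (Coh.push f).obj (∐ F) := sigmaComparison (Coh.push f) F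
  suffices IsIso φ from PreservesCoproduct.of_iso_comparison _ _
  have hφ : ∀ i, idem G i ≫ φ = φ ≫ (Coh.push f).map (idem F i) := fun i => by
    refine Sigma.hom_ext _ _ fun j => ?_
    show Sigma.ι G j ≫ (proj G i ≫ Sigma.ι G i) ≫ φ = Sigma.ι G j ≫ φ ≫ (Coh.push f).map (idem F i)
    rw [Category.assoc, ι_comp_sigmaComparison, ι_comp_sigmaComparison_assoc, ← Functor.map_comp, idem,
      ← Category.assoc]
    by_cases h : j = i
    · subst h
      rw [ι_proj, Category.id_comp, ← Category.assoc, ι_proj, Category.id_comp]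
    · rw [ι_proj_of_ne G h, zero_comp, ← Category.assoc, ι_proj_of_ne F h, zero_comp, Functor.map_zero]
  have key : ∀ U : Y.affineOpens, IsIso ((sec U.1).map φ) := fun U => by
    have hc : IsCompact ((f ⁻¹ᵁ U.1 : X.Opens) : Set X) :=
      QuasiCompact.isCompact_preimage (f := f) (U.1 : Set Y) U.1.2 U.2.isCompact
    rw [ConcreteCategory.isIso_iff_bijective]
    constructor
    · refine (injective_iff_map_eq_zero _).2 fun a ha => ?_
      obtain ⟨T, hT⟩ := isFinSum_affine G hG U.2 a
      rw [hT T subset_rfl]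
      refine Finset.sum_eq_zero fun i _ => ?_
      have hπ : proj G i = φ ≫ (Coh.push f).map (proj F i) := by
        refine Sigma.hom_ext _ _ fun j => ?_
        rw [ι_comp_sigmaComparison_assoc, ← Functor.map_comp]
        by_cases h : j = i
        · subst h
          rw [ι_proj, ι_proj, CategoryTheory.Functor.map_id]
        · rw [ι_proj_of_ne G h, ι_proj_of_ne F h, Functor.map_zero]
      rw [idem, hπ, Functor.map_comp, Functor.map_comp, ConcreteCategory.comp_apply, ConcreteCategory.comp_apply,
        ha, map_zero, map_zero]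
    · intro b
      obtain ⟨T, hT⟩ := isFinSum_compact F hF hc b
      refine ⟨∑ i ∈ T, (sec U.1).map (Sigma.ι G i) ((sec (f ⁻¹ᵁ U.1)).map (proj F i) b), ?_⟩
      rw [map_sum]
      refine Eq.trans (Finset.sum_congr rfl fun i _ => ?_) (hT T subset_rfl).symm
      rw [← ConcreteCategory.comp_apply, ← Functor.map_comp, ι_comp_sigmaComparison]
      exact (ConcreteCategory.congr_hom ((sec (f ⁻¹ᵁ U.1)).map_comp (proj F i) (Sigma.ι F i)) b).symm
  let ψ := (SheafOfModules.toSheaf.{u} Y.ringCatSheaf).map φ
  haveI : IsIso ψ := TopCat.Sheaf.isIso_iff_isIso_basis (B := fun U : Y.affineOpens => (U : Y.Opens))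
    (by simpa [Subtype.range_val] using Y.isBasis_affineOpens) fun U => key U
  haveI := reflects_toSheaf (O := Y.sheaf)
  exact @isIso_of_reflects_iso _ _ _ _ _ _ φ (SheafOfModules.toSheaf.{u} Y.ringCatSheaf) ‹_› (reflects_toSheaf (O := Y.sheaf))

end Groth.Agent.CohDer1.PushSums
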