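import Groth.Agent.CohDer1.FlatTwist
import Groth.Agent.CohDer1.PushSums
import Groth.Agent.AmpleLib.AffCriterion2
import Groth.Agent.Coherent.ModExt
import Groth.Agent.Coherent.TensorQcoh
import Groth.Agent.Dual22Lib.HpQCoh
import Groth.Agent.EGA43.InjFibre.Scheme

/-!
# Exactness of kernel functors with flat acyclic kernel
-/

set_option autoImplicit false
set_option backward.isDefEq.respectTransparency false
set_option linter.style.haveILetI false

universe u

open CategoryTheory CategoryTheory.Limits AlgebraicGeometry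
open Groth.Agent.Coherent

attribute [local instance] HasDerivedCategory.standard

namespace Groth.Agent.CohDer1.FKFlat

instance closedUnderBinaryProducts_qcoh' {X : Scheme.{u}} : (QCohCat.isQCoh X).IsClosedUnderBinaryProducts where
  limitsOfShape_le := by
    rintro M ⟨h⟩
    haveI : Coh.IsQCoh (h.diag.obj ⟨WalkingPair.left⟩) := h.prop_diag_obj _
    haveI : Coh.IsQCoh (h.diag.obj ⟨WalkingPair.right⟩) := h.prop_diag_obj _
    exact isQCoh_of_iso ((biprod.isoProd _ _) ≪≫ (HasLimit.isoOfNatIso (diagramIsoPair h.diag).symm) ≪≫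
      (limit.isLimit h.diag).conePointUniqueUpToIso h.isLimit) (h := isQCoh_biprod _ _)

instance closedUnderFiniteProducts_qcoh' {X : Scheme.{u}} : (QCohCat.isQCoh X).IsClosedUnderFiniteProducts := by
  haveI : (QCohCat.isQCoh X).IsClosedUnderIsomorphisms := ⟨fun e h => isQCoh_of_iso e (h := h)⟩
  exact .mk'

theorem preservesFiniteLimits_ι' (X : Scheme.{u}) : PreservesFiniteLimits (QCohCat.isQCoh X).ι := by
  haveI := fun {M N : QCohCat.QCoh X} (f : M ⟶ N) => (QCohCat.isQCoh X).preservesKernels_ι f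
  exact (QCohCat.isQCoh X).ι.preservesFiniteLimits_of_preservesKernels

variable {P X Y : Scheme.{u}} (p : P ⟶ X) (q : P ⟶ Y) [QuasiCompact q] [QuasiSeparated q]
  [HasInjectiveResolutions P.Modules] (K : P.Modules)

theorem exact_FK (hK : Coh.IsQCoh K) (hKf : FlatMod.IsFlatOver p K)
    (hKa : ∀ (M : X.Modules), Coh.IsQCoh M → ∀ i : ℕ, 0 < i →
      IsZero ((Coh.Rpush q i).obj ((DCoh.tensorRightMod K).obj ((Scheme.Modules.pullback p).obj M)))) :
    let F := ObjectProperty.ι (QCohCat.isQCoh X) ⋙ Scheme.Modules.pullback p ⋙ DCoh.tensorRightMod K ⋙ Coh.push q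
    PreservesFiniteLimits F ∧ PreservesFiniteColimits F ∧ ∀ J : Type u, PreservesColimitsOfShape (Discrete J) F := by
  intro F
  obtain ⟨hlim, hcol⟩ := FlatTwist.exact_twist p K hKf
  let Φ := Scheme.Modules.pullback p ⋙ DCoh.tensorRightMod K
  haveI : PreservesFiniteColimits Φ := PreservesColimitsOfSize.preservesFiniteColimits _
  haveI : (Coh.push q).IsRightAdjoint := (Scheme.Modules.pullbackPushforwardAdjunction q).isRightAdjoint
  haveI : PreservesLimitsOfSize.{u, u} (Coh.push q) :=
    (Scheme.Modules.pullbackPushforwardAdjunction q).rightAdjoint_preservesLimits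
  haveI : PreservesFiniteLimits (Coh.push q) := PreservesLimitsOfSize.preservesFiniteLimits _
  letI : Abelian (QCohCat.QCoh X) := inferInstance
  haveI := preservesFiniteLimits_ι' X
  haveI : PreservesFiniteColimits (ObjectProperty.ι (QCohCat.isQCoh X)) :=
    PreservesColimitsOfSize.preservesFiniteColimits _
  haveI : F.Additive := inferInstanceAs ((ObjectProperty.ι (QCohCat.isQCoh X) ⋙ Scheme.Modules.pullback p ⋙
    DCoh.tensorRightMod K ⋙ Coh.push q)).Additive
  haveI hFl : PreservesFiniteLimits F :=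
    inferInstanceAs (PreservesFiniteLimits (ObjectProperty.ι (QCohCat.isQCoh X) ⋙ Φ ⋙ Coh.push q))
  have hqc : ∀ M : QCohCat.QCoh X, Coh.IsQCoh (Φ.obj M.obj) := fun M => by
    haveI := hK
    haveI : Coh.IsQCoh M.obj := M.property
    haveI : Coh.IsQCoh ((Scheme.Modules.pullback p).obj M.obj) := EGA43.InjFibre.isQCoh_pullback p _
    exact isQCoh_tensorMod ((Scheme.Modules.pullback p).obj M.obj) K
  refine ⟨hFl, ?_, fun J => ⟨fun {D} => ?_⟩⟩
  · haveI : PreservesFiniteLimits (ObjectProperty.ι (QCohCat.isQCoh X) ⋙ Φ) := inferInstance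
    haveI : PreservesFiniteColimits (ObjectProperty.ι (QCohCat.isQCoh X) ⋙ Φ) := inferInstance
    refine ((Functor.preservesFiniteColimits_tfae F).out 3 0).2 ?_
    intro S hS
    refine ⟨?_, ?_⟩
    · have hex := ((Functor.preservesFiniteLimits_tfae F).out 3 0).1 hFl
      exact (hex S hS).1
    · have hT := hS.map_of_exact (ObjectProperty.ι (QCohCat.isQCoh X) ⋙ Φ)
      exact AmpleLib.epi_push_of_isZero_rpushAb q hT
        (IsZero.of_iso (Functor.map_isZero (SheafOfModules.toSheaf.{u} Y.ringCatSheaf)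
            (hKa S.X₁.obj S.X₁.property 1 one_pos))
          (toAbRpushIso q (Φ.obj S.X₁.obj) 1).symm)
  · haveI := PushSums.preservesColimit_push (fun j => Φ.obj (D.obj ⟨j⟩).obj) q fun j => hqc _
    haveI : PreservesColimit ((D ⋙ ObjectProperty.ι (QCohCat.isQCoh X)) ⋙ Φ) (Coh.push q) :=
      preservesColimit_of_iso_diagram (K₁ := Discrete.functor fun j => Φ.obj (D.obj ⟨j⟩).obj) (Coh.push q)
        (Discrete.natIso fun _ => Iso.refl _)
    haveI : PreservesColimit (D ⋙ ObjectProperty.ι (QCohCat.isQCoh X)) (Φ ⋙ Coh.push q) :=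
      @comp_preservesColimit _ _ _ _ _ _ _ _ _ _ _ inferInstance ‹_›
    exact comp_preservesColimit (ObjectProperty.ι (QCohCat.isQCoh X)) (Φ ⋙ Coh.push q)

end Groth.Agent.CohDer1.FKFlat
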