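import Groth.Agent.CohDer1.ProjAffine
import Groth.Agent.CohExch.AffineBC0
import Groth.Agent.DQCoh.BCPush17
import Groth.Agent.EGA43.InjFibre.Scheme

/-!
# Kernel functors composed with affine direct images
-/

set_option autoImplicit false
set_option backward.isDefEq.respectTransparency false
set_option linter.style.haveILetI false

universe u

open CategoryTheory CategoryTheory.Limits AlgebraicGeometry
open Groth.Agent.Coherent

namespace Groth.Agent.CohDer1.FKPush

variable {P P' X X' Y : Scheme.{u}} (p : P ⟶ X) (q : P ⟶ Y) (K : P.Modules) (f : X' ⟶ X) [IsAffineHom f]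
  (g : P' ⟶ P) (p' : P' ⟶ X') (q' : P' ⟶ Y)

theorem nonempty_comp_push (hK : Coh.IsQCoh K) (sq : IsPullback p' g f p) (hq : g ≫ q = q') :
    Nonempty (ObjectProperty.ι (QCohCat.isQCoh X') ⋙ Coh.push f ⋙
        (Scheme.Modules.pullback p ⋙ DCoh.tensorRightMod K ⋙ Coh.push q) ≅
      ObjectProperty.ι (QCohCat.isQCoh X') ⋙
        (Scheme.Modules.pullback p' ⋙ DCoh.tensorRightMod ((Scheme.Modules.pullback g).obj K) ⋙ Coh.push q')) := by
  haveI : IsAffineHom g := MorphismProperty.of_isPullback (P := @IsAffineHom) sq inferInstance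
  let ι' := ObjectProperty.ι (QCohCat.isQCoh X')
  let α := Functor.whiskerLeft ι' (DQCoh.BCPush17.bcNat f p g p' sq.w)
  haveI : IsIso α := by
    haveI : ∀ M, IsIso (α.app M) := fun M => by
      haveI : Coh.IsQCoh M.obj := M.property
      exact CohExch.isIso_bc0_of_affine sq M.obj
    exact NatIso.isIso_of_isIso_app α
  let β := Functor.whiskerLeft (ι' ⋙ Scheme.Modules.pullback p') (ProjAffine.projNatA g K)
  haveI : IsIso β := by
    haveI : ∀ M, IsIso (β.app M) := fun M => by
      haveI := hK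
      haveI : Coh.IsQCoh M.obj := M.property
      haveI : Coh.IsQCoh ((Scheme.Modules.pullback p').obj M.obj) := EGA43.InjFibre.isQCoh_pullback p' _
      exact ProjAffine.isIso_projA g ((Scheme.Modules.pullback p').obj M.obj) K
    exact NatIso.isIso_of_isIso_app β
  let e₁ : ι' ⋙ Coh.push f ⋙ (Scheme.Modules.pullback p ⋙ DCoh.tensorRightMod K) ≅
      (ι' ⋙ Scheme.Modules.pullback p') ⋙ (Scheme.Modules.pushforward g ⋙ DCoh.tensorRightMod K) :=
    Functor.isoWhiskerRight (asIso α) (DCoh.tensorRightMod K)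
  let e₂ : Scheme.Modules.pushforward g ⋙ Coh.push q ≅ Coh.push q' :=
    Scheme.Modules.pushforwardComp g q ≪≫ Scheme.Modules.pushforwardCongr hq
  exact ⟨Functor.isoWhiskerRight (e₁ ≪≫ asIso β) (Coh.push q) ≪≫
    Functor.isoWhiskerLeft (ι' ⋙ Scheme.Modules.pullback p' ⋙
      DCoh.tensorRightMod ((Scheme.Modules.pullback g).obj K)) e₂⟩

end Groth.Agent.CohDer1.FKPush
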