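import Groth.Agent.CohDer1.FPInd.Apps
import Groth.Agent.CAlgML.MLProps

/-!
# Left exactness of the extension from finitely presented modules over a coherent ring
-/

set_option autoImplicit false
set_option backward.isDefEq.respectTransparency false
set_option linter.style.haveILetI false

universe u v' u'

open CategoryTheory CategoryTheory.Limits Function
open Groth.Agent.CohDer1.FPInd

namespace Groth.Agent.CohDer1.FPLex

variable {A : Type u} [CommRing A]

lemma fp_ker (hcoh : ∀ I : Ideal A, I.FG → Module.FinitePresentation A I) {M N : Type u} [AddCommGroup M]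
    [Module A M] [AddCommGroup N] [Module A N] [Module.FinitePresentation A M] [Module.FinitePresentation A N]
    (g : M →ₗ[A] N) : Module.FinitePresentation A (LinearMap.ker g) := by
  have hsub : ∀ {P : Type u} [AddCommGroup P] [Module A P] [Module.FinitePresentation A P] (S : Submodule A P),
      S.FG → Module.FinitePresentation A S := fun S hS =>
    CAlgML.finitePresentation_submodule_of_flat_pi (fun T => CAlgML.flat_pi_of_coherent hcoh T) S hS
  haveI : Module.FinitePresentation A (LinearMap.range g) :=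
    hsub _ (LinearMap.range_eq_map g ▸ Module.Finite.fg_top.map g)
  refine hsub _ ?_
  have := Module.FinitePresentation.fg_ker g.rangeRestrict g.surjective_rangeRestrict
  rwa [LinearMap.ker_rangeRestrict] at this

section Add

variable {B : Type u'} [Category.{v'} B] [Preadditive B] (F : (FP A).FullSubcategory ⥤ B)

/-- Left exactness gives additivity. -/
lemma additive_of_preservesFiniteLimits [PreservesFiniteLimits F] : F.Additive := by
  let Z : (FP A).FullSubcategory := @ob A _ (ModuleCat.of A PUnit) (inferInstanceAs (Module.FinitePresentation A PUnit.{u + 1}))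
  have hZ : IsTerminal Z := IsTerminal.ofUniqueHom
    (fun Q => ObjectProperty.homMk (ModuleCat.ofHom (0 : Q.obj →ₗ[A] PUnit.{u + 1})))
    (fun Q m => ObjectProperty.hom_ext _ (ModuleCat.hom_ext (LinearMap.ext fun x => Subsingleton.elim _ _)))
  have hFZ : IsZero (F.obj Z) := by
    have hi := IsTerminal.isTerminalObj F Z hZ
    exact (IsZero.iff_id_eq_zero _).2 (hi.hom_ext _ _)
  have hzero : ∀ (P Q : (FP A).FullSubcategory), F.map (0 : P ⟶ Q) = 0 := fun P Q => by
    have : (0 : P ⟶ Q) = (0 : P ⟶ Z) ≫ (0 : Z ⟶ Q) := zero_comp.symm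
    rw [this, F.map_comp]
    exact (hFZ.eq_of_tgt (F.map _) 0).symm ▸ zero_comp
  refine ⟨fun {P Q} {f g} => ?_⟩
  haveI := Q.property
  let W : (FP A).FullSubcategory := @ob A _ (ModuleCat.of A (Q.obj × Q.obj)) (fp_prod Q.obj Q.obj)
  let i₁ : Q ⟶ W := ObjectProperty.homMk (ModuleCat.ofHom (LinearMap.inl A Q.obj Q.obj))
  let i₂ : Q ⟶ W := ObjectProperty.homMk (ModuleCat.ofHom (LinearMap.inr A Q.obj Q.obj))
  let p₁ : W ⟶ Q := ObjectProperty.homMk (ModuleCat.ofHom (LinearMap.fst A Q.obj Q.obj))
  let p₂ : W ⟶ Q := ObjectProperty.homMk (ModuleCat.ofHom (LinearMap.snd A Q.obj Q.obj))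
  let hl : IsLimit (BinaryFan.mk p₁ p₂) := BinaryFan.isLimitMk
    (fun s => ObjectProperty.homMk (ModuleCat.ofHom (s.fst.hom.hom.prod s.snd.hom.hom)))
    (fun s => ObjectProperty.hom_ext _ (ModuleCat.hom_ext (LinearMap.fst_prod _ _)))
    (fun s => ObjectProperty.hom_ext _ (ModuleCat.hom_ext (LinearMap.snd_prod _ _)))
    (fun s m h₁ h₂ => ObjectProperty.hom_ext _ (ModuleCat.hom_ext (LinearMap.ext fun x => Prod.ext
      (LinearMap.congr_fun (congrArg (fun φ => φ.hom.hom) h₁) x)
      (LinearMap.congr_fun (congrArg (fun φ => φ.hom.hom) h₂) x))))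
  let hF := mapIsLimitOfPreservesOfIsLimit F p₁ p₂ hl
  have e11 : i₁ ≫ p₁ = 𝟙 Q := ObjectProperty.hom_ext _ (ModuleCat.hom_ext (LinearMap.ext fun _ => rfl))
  have e22 : i₂ ≫ p₂ = 𝟙 Q := ObjectProperty.hom_ext _ (ModuleCat.hom_ext (LinearMap.ext fun _ => rfl))
  have e12 : i₁ ≫ p₂ = 0 := ObjectProperty.hom_ext _ (ModuleCat.hom_ext (LinearMap.ext fun _ => rfl))
  have e21 : i₂ ≫ p₁ = 0 := ObjectProperty.hom_ext _ (ModuleCat.hom_ext (LinearMap.ext fun _ => rfl))
  have tot : F.map p₁ ≫ F.map i₁ + F.map p₂ ≫ F.map i₂ = 𝟙 _ := by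
    refine BinaryFan.IsLimit.hom_ext hF ?_ ?_
    · show _ ≫ F.map p₁ = 𝟙 _ ≫ F.map p₁
      rw [Preadditive.add_comp, Category.assoc, Category.assoc, ← F.map_comp i₁, ← F.map_comp i₂, e11, e21,
        hzero]
      simp
    · show _ ≫ F.map p₂ = 𝟙 _ ≫ F.map p₂
      rw [Preadditive.add_comp, Category.assoc, Category.assoc, ← F.map_comp i₁, ← F.map_comp i₂, e12, e22,
        hzero]
      simp
  let δ : P ⟶ W := ObjectProperty.homMk (ModuleCat.ofHom (f.hom.hom.prod g.hom.hom))
  let s : W ⟶ Q := ObjectProperty.homMk (ModuleCat.ofHom (LinearMap.coprod LinearMap.id LinearMap.id))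
  have e1 : i₁ ≫ s = 𝟙 Q := ObjectProperty.hom_ext _ (ModuleCat.hom_ext (LinearMap.coprod_inl _ _))
  have e2 : i₂ ≫ s = 𝟙 Q := ObjectProperty.hom_ext _ (ModuleCat.hom_ext (LinearMap.coprod_inr _ _))
  have ef : δ ≫ p₁ = f := ObjectProperty.hom_ext _ (ModuleCat.hom_ext (LinearMap.ext fun _ => rfl))
  have eg : δ ≫ p₂ = g := ObjectProperty.hom_ext _ (ModuleCat.hom_ext (LinearMap.ext fun _ => rfl))
  have es : δ ≫ s = f + g := ObjectProperty.hom_ext _ (ModuleCat.hom_ext (LinearMap.ext fun _ => rfl))
  rw [← es, F.map_comp]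
  conv_lhs => rw [← Category.comp_id (F.map δ), ← tot]
  simp only [Preadditive.add_comp, Preadditive.comp_add, Category.assoc, ← F.map_comp, e1, e2,
    Category.comp_id, ef, eg]

end Add

/-! The index category of a morphism. -/

variable {M N : ModuleCat.{u} A} (f : M ⟶ N)

/-- Squares from morphisms of finitely presented modules into `f`. -/
abbrev Sq := CostructuredArrow (Functor.mapArrow (inc A)) (Arrow.mk f)

variable {f}

/-- Make a square. -/
abbrev sq {P Q : ModuleCat.{u} A} [Module.FinitePresentation A P] [Module.FinitePresentation A Q] (h : P ⟶ Q)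
    (α : P ⟶ M) (β : Q ⟶ N) (w : α ≫ f = h ≫ β) : Sq f :=
  CostructuredArrow.mk (S := Functor.mapArrow (inc A))
    (Y := Arrow.mk (X := ob P) (Y := ob Q) (ObjectProperty.homMk h)) (Arrow.homMk α β w)

/-- The source projection. -/
def π₁ : Sq f ⥤ Idx A M where
  obj S := CostructuredArrow.mk (S := inc A) (Y := S.left.left) S.hom.left
  map φ := CostructuredArrow.homMk φ.left.left (congrArg CommaMorphism.left (CostructuredArrow.w φ))

/-- The target projection. -/
def π₂ : Sq f ⥤ Idx A N where
  obj S := CostructuredArrow.mk (S := inc A) (Y := S.left.right) S.hom.right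
  map φ := CostructuredArrow.homMk φ.left.right (congrArg CommaMorphism.right (CostructuredArrow.w φ))

/-- Coequalizing two parallel morphisms of finitely presented modules over `M`. -/
lemma exists_quot {P Q L : ModuleCat.{u} A} [Module.FinitePresentation A P] [Module.FinitePresentation A Q]
    (a b : P ⟶ Q) (g : Q ⟶ L) (w : a ≫ g = b ≫ g) :
    ∃ (R : ModuleCat.{u} A) (_ : Module.FinitePresentation A R) (q : Q ⟶ R) (g' : R ⟶ L),
      Surjective q.hom ∧ a ≫ q = b ≫ q ∧ q ≫ g' = g ∧
        ∀ {T : ModuleCat.{u} A} (t : Q ⟶ T), a ≫ t = b ≫ t → ∃ t' : R ⟶ T, q ≫ t' = t := by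
  let S := LinearMap.range (a.hom - b.hom)
  haveI : Module.FinitePresentation A (Q ⧸ S) := fp_quot (by show (LinearMap.range (a.hom - b.hom)).FG; rw [LinearMap.range_eq_map]; exact Module.Finite.fg_top.map _)
  have hle : ∀ {T : ModuleCat.{u} A} (t : Q ⟶ T), a ≫ t = b ≫ t → S ≤ LinearMap.ker t.hom := by
    rintro T t ht _ ⟨x, rfl⟩
    show t.hom (a.hom x - b.hom x) = 0
    rw [map_sub, sub_eq_zero]
    exact ConcreteCategory.congr_hom ht x
  refine ⟨ModuleCat.of A (Q ⧸ S), inferInstance, ModuleCat.ofHom S.mkQ,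
    ModuleCat.ofHom (S.liftQ g.hom (hle g w)), S.mkQ_surjective, ModuleCat.hom_ext (LinearMap.ext fun x => ?_),
    ModuleCat.hom_ext (S.liftQ_mkQ _ _), fun t ht => ⟨ModuleCat.ofHom (S.liftQ t.hom (hle t ht)),
      ModuleCat.hom_ext (S.liftQ_mkQ _ _)⟩⟩
  exact (Submodule.Quotient.eq _).2 ⟨x, rfl⟩

instance isFiltered_sq : IsFiltered (Sq f) where
  nonempty := ⟨sq (P := ModuleCat.of A PUnit.{u + 1}) (Q := ModuleCat.of A PUnit.{u + 1}) (𝟙 _) 0 0 (by simp)⟩
  cocone_objs X Y := by
    haveI := X.left.left.property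
    haveI := X.left.right.property
    haveI := Y.left.left.property
    haveI := Y.left.right.property
    haveI : Module.FinitePresentation A (X.left.left.obj × Y.left.left.obj) := fp_prod _ _
    haveI : Module.FinitePresentation A (X.left.right.obj × Y.left.right.obj) := fp_prod _ _
    let P := ModuleCat.of A (X.left.left.obj × Y.left.left.obj)
    let Q := ModuleCat.of A (X.left.right.obj × Y.left.right.obj)
    let h : P ⟶ Q := ModuleCat.ofHom (X.left.hom.hom.hom.prodMap Y.left.hom.hom.hom)
    let α : P ⟶ M := ModuleCat.ofHom (X.hom.left.hom.coprod Y.hom.left.hom)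
    let β : Q ⟶ N := ModuleCat.ofHom (X.hom.right.hom.coprod Y.hom.right.hom)
    have w : α ≫ f = h ≫ β := by
      refine ModuleCat.hom_ext (LinearMap.prod_ext (LinearMap.ext fun x => ?_) (LinearMap.ext fun x => ?_))
      · show f.hom (X.hom.left.hom x + Y.hom.left.hom 0) =
          X.hom.right.hom (X.left.hom.hom.hom x) + Y.hom.right.hom (Y.left.hom.hom.hom 0)
        rw [map_zero, map_zero, map_zero, add_zero, add_zero]
        exact ConcreteCategory.congr_hom (Arrow.w X.hom) x
      · show f.hom (X.hom.left.hom 0 + Y.hom.left.hom x) =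
          X.hom.right.hom (X.left.hom.hom.hom 0) + Y.hom.right.hom (Y.left.hom.hom.hom x)
        rw [map_zero, map_zero, map_zero, zero_add, zero_add]
        exact ConcreteCategory.congr_hom (Arrow.w Y.hom) x
    refine ⟨sq h α β w,
      CostructuredArrow.homMk (Arrow.homMk (ObjectProperty.homMk (ModuleCat.ofHom (LinearMap.inl A _ _)))
        (ObjectProperty.homMk (ModuleCat.ofHom (LinearMap.inl A _ _))) ?_) ?_,
      CostructuredArrow.homMk (Arrow.homMk (ObjectProperty.homMk (ModuleCat.ofHom (LinearMap.inr A _ _)))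
        (ObjectProperty.homMk (ModuleCat.ofHom (LinearMap.inr A _ _))) ?_) ?_, trivial⟩
    · exact ObjectProperty.hom_ext _ (ModuleCat.hom_ext (LinearMap.ext fun x => Prod.ext rfl (map_zero Y.left.hom.hom.hom)))
    · exact Arrow.hom_ext _ _ (ModuleCat.hom_ext (LinearMap.coprod_inl _ _)) (ModuleCat.hom_ext (LinearMap.coprod_inl _ _))
    · exact ObjectProperty.hom_ext _ (ModuleCat.hom_ext (LinearMap.ext fun x => Prod.ext (map_zero X.left.hom.hom.hom) rfl))
    · exact Arrow.hom_ext _ _ (ModuleCat.hom_ext (LinearMap.coprod_inr _ _)) (ModuleCat.hom_ext (LinearMap.coprod_inr _ _))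
  cocone_maps X Y a b := by
    haveI := X.left.left.property
    haveI := X.left.right.property
    haveI := Y.left.left.property
    haveI := Y.left.right.property
    obtain ⟨P, hP, p, α, hps, hp, hα, up⟩ := exists_quot a.left.left.hom b.left.left.hom Y.hom.left
      ((congrArg CommaMorphism.left (CostructuredArrow.w a)).trans (congrArg CommaMorphism.left (CostructuredArrow.w b)).symm)
    obtain ⟨Q, hQ, q, β, -, hq, hβ, -⟩ := exists_quot a.left.right.hom b.left.right.hom Y.hom.right
      ((congrArg CommaMorphism.right (CostructuredArrow.w a)).trans (congrArg CommaMorphism.right (CostructuredArrow.w b)).symm)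
    obtain ⟨h, hh⟩ := up (Y.left.hom.hom ≫ q) (by
      have ea : a.left.left.hom ≫ Y.left.hom.hom = X.left.hom.hom ≫ a.left.right.hom :=
        congrArg (fun z => z.hom) (Arrow.w a.left)
      have eb : b.left.left.hom ≫ Y.left.hom.hom = X.left.hom.hom ≫ b.left.right.hom :=
        congrArg (fun z => z.hom) (Arrow.w b.left)
      rw [reassoc_of% ea, reassoc_of% eb, hq])
    have hepi : ∀ {T : ModuleCat.{u} A} {s t : P ⟶ T}, p ≫ s = p ≫ t → s = t := fun {T s t} e => by
      exact ModuleCat.hom_ext (LinearMap.ext fun y => by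
        obtain ⟨x, rfl⟩ := hps y
        exact ConcreteCategory.congr_hom e x)
    refine ⟨sq h α β (hepi (by rw [reassoc_of% hα, reassoc_of% hh, hβ]; exact Arrow.w Y.hom)),
      CostructuredArrow.homMk (Arrow.homMk (ObjectProperty.homMk p) (ObjectProperty.homMk q)
        (ObjectProperty.hom_ext _ hh)) (Arrow.hom_ext _ _ hα hβ), ?_⟩
    exact CostructuredArrow.hom_ext _ _ (Arrow.hom_ext _ _ (ObjectProperty.hom_ext _ hp) (ObjectProperty.hom_ext _ hq))

instance final_π₁ : (π₁ (f := f)).Final := by
  refine Functor.final_of_exists_of_isFiltered _ (fun X => ?_) fun {X Y} a b => ?_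
  · haveI := X.left.property
    exact ⟨sq (𝟙 X.left.obj) X.hom (X.hom ≫ f) (Category.id_comp _).symm,
      ⟨CostructuredArrow.homMk (𝟙 X.left) (Category.id_comp X.hom)⟩⟩
  · haveI := X.left.property
    haveI := Y.left.left.property
    haveI := Y.left.right.property
    let a' : X.left.obj ⟶ Y.left.left.obj := a.left.hom
    let b' : X.left.obj ⟶ Y.left.left.obj := b.left.hom
    have wab : a' ≫ Y.hom.left = b' ≫ Y.hom.left := (CostructuredArrow.w a).trans (CostructuredArrow.w b).symm
    obtain ⟨P, hP, p, α, hps, hp, hα, up⟩ := exists_quot a' b' Y.hom.left wab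
    obtain ⟨Q, hQ, q, β, -, hq, hβ, -⟩ := exists_quot (a' ≫ Y.left.hom.hom) (b' ≫ Y.left.hom.hom)
      Y.hom.right (by
        have e : Y.left.hom.hom ≫ Y.hom.right = Y.hom.left ≫ f := (Arrow.w Y.hom).symm
        rw [Category.assoc, Category.assoc, e, ← Category.assoc, ← Category.assoc]
        exact congrArg (· ≫ f) wab)
    obtain ⟨h, hh⟩ := up (Y.left.hom.hom ≫ q) (by simpa only [Category.assoc] using hq)
    have w : α ≫ f = h ≫ β := ModuleCat.hom_ext (LinearMap.ext fun y => by
      obtain ⟨x, rfl⟩ := hps y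
      have e : p ≫ α ≫ f = p ≫ h ≫ β := by
        rw [reassoc_of% hα, reassoc_of% hh, hβ]; exact Arrow.w Y.hom
      exact ConcreteCategory.congr_hom e x)
    exact ⟨sq h α β w, CostructuredArrow.homMk (Arrow.homMk (ObjectProperty.homMk p) (ObjectProperty.homMk q)
        (ObjectProperty.hom_ext _ hh)) (Arrow.hom_ext _ _ hα hβ),
      CostructuredArrow.hom_ext _ _ (ObjectProperty.hom_ext _ hp)⟩

instance final_π₂ : (π₂ (f := f)).Final := by
  refine Functor.final_of_exists_of_isFiltered _ (fun X => ?_) fun {X Y} a b => ?_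
  · haveI := X.left.property
    exact ⟨sq (P := ModuleCat.of A PUnit.{u + 1}) (0 : _ ⟶ X.left.obj) 0 X.hom (by simp),
      ⟨CostructuredArrow.homMk (𝟙 X.left) (Category.id_comp X.hom)⟩⟩
  · haveI := X.left.property
    haveI := Y.left.left.property
    haveI := Y.left.right.property
    let a' : X.left.obj ⟶ Y.left.right.obj := a.left.hom
    let b' : X.left.obj ⟶ Y.left.right.obj := b.left.hom
    obtain ⟨Q, hQ, q, β, -, hq, hβ, -⟩ := exists_quot a' b' Y.hom.right
      ((CostructuredArrow.w a).trans (CostructuredArrow.w b).symm)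
    exact ⟨sq (Y.left.hom.hom ≫ q) Y.hom.left β (by rw [Category.assoc, hβ]; exact Arrow.w Y.hom),
      CostructuredArrow.homMk (Arrow.homMk (𝟙 Y.left.left) (ObjectProperty.homMk q)
        (ObjectProperty.hom_ext _ (Category.id_comp _))) (Arrow.hom_ext _ _ (Category.id_comp _) hβ),
      CostructuredArrow.hom_ext _ _ (ObjectProperty.hom_ext _ hq)⟩

instance essentiallySmall_arrow : EssentiallySmall.{u} (Arrow (FP A).FullSubcategory) :=
  essentiallySmall_congr (Functor.mapArrowEquivalence (equivSmallModel.{u} (FP A).FullSubcategory)) |>.2 inferInstance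

section Main

variable {B : Type u'} [Category.{v'} B] [Preadditive B] (G : ModuleCat.{u} A ⥤ B)
  [PreservesFilteredColimitsOfSize.{u, u} G] [PreservesFiniteLimits (inc A ⋙ G)]

omit [Preadditive B] [PreservesFilteredColimitsOfSize.{u, u} G] in
/-- `G` preserves kernels between finitely presented modules. -/
theorem preservesKernel_fp (hcoh : ∀ I : Ideal A, I.FG → Module.FinitePresentation A I)
    {P Q : (FP A).FullSubcategory} (h : P ⟶ Q) : PreservesLimit (parallelPair h.hom 0) G := by
  haveI := P.property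
  haveI := Q.property
  haveI : Module.FinitePresentation A (LinearMap.ker h.hom.hom) := fp_ker hcoh h.hom.hom
  let K : (FP A).FullSubcategory := ob (ModuleCat.of A (LinearMap.ker h.hom.hom))
  let ι : K ⟶ P := ObjectProperty.homMk (ModuleCat.ofHom (LinearMap.ker h.hom.hom).subtype)
  have hι : ι ≫ h = ι ≫ 0 := by
    rw [comp_zero]
    exact ObjectProperty.hom_ext _ (ModuleCat.hom_ext (LinearMap.ext fun x => x.2))
  refine preservesLimit_of_preserves_limit_cone (ModuleCat.kernelIsLimit h.hom) ?_
  have hl : IsLimit (Fork.ofι ι hι) :=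
    isLimitOfIsLimitForkMap (inc A) hι (Fork.IsLimit.mk _
      (fun s => (ModuleCat.kernelIsLimit h.hom).lift (KernelFork.ofι s.ι (s.condition.trans comp_zero)))
      (fun s => (ModuleCat.kernelIsLimit h.hom).fac (KernelFork.ofι s.ι (s.condition.trans comp_zero))
        WalkingParallelPair.zero)
      fun s m hm => Fork.IsLimit.hom_ext (ModuleCat.kernelIsLimit h.hom)
        (hm.trans ((ModuleCat.kernelIsLimit h.hom).fac (KernelFork.ofι s.ι (s.condition.trans comp_zero))
          WalkingParallelPair.zero).symm))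
  have w : ι.hom ≫ h.hom = ι.hom ≫ 0 := congrArg (fun z => z.hom) hι
  exact (isLimitMapConeForkEquiv G w).symm (isLimitForkMapOfIsLimit (inc A ⋙ G) hι hl)

variable [HasFilteredColimitsOfSize.{u, u} B]

set_option maxHeartbeats 800000 in
/-- The extension preserves kernels. -/
theorem preservesKernel (hcoh : ∀ I : Ideal A, I.FG → Module.FinitePresentation A I)
    (hcomm : ∀ (J : Type u) [SmallCategory J] [IsFiltered J],
      PreservesLimitsOfShape WalkingParallelPair (colim : (J ⥤ B) ⥤ B))
    {M N : ModuleCat.{u} A} (f : M ⟶ N) : PreservesLimit (parallelPair f 0) G := by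
  let J := SmallModel.{u} (Sq f)
  let e : Sq f ≌ J := equivSmallModel.{u} (Sq f)
  haveI : IsFiltered J := IsFiltered.of_equivalence e
  haveI := hcomm J
  let F : J ⥤ Arrow (FP A).FullSubcategory := e.inverse ⋙ CostructuredArrow.proj _ _
  let D₁ : J ⥤ ModuleCat.{u} A := F ⋙ Arrow.leftFunc ⋙ inc A
  let D₂ : J ⥤ ModuleCat.{u} A := F ⋙ Arrow.rightFunc ⋙ inc A
  let d : D₁ ⟶ D₂ :=
    { app := fun j => (F.obj j).hom.hom
      naturality := fun i j φ => congrArg (fun z => z.hom) (Arrow.w (F.map φ)) }
  haveI : (e.inverse ⋙ π₁ (f := f)).Final := inferInstance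
  haveI : (e.inverse ⋙ π₂ (f := f)).Final := inferInstance
  let c₁ : Cocone D₁ := (canCocone A M).whisker (e.inverse ⋙ π₁ (f := f))
  let c₂ : Cocone D₂ := (canCocone A N).whisker (e.inverse ⋙ π₂ (f := f))
  let hc₁ : IsColimit c₁ := (Functor.Final.isColimitWhiskerEquiv (e.inverse ⋙ π₁ (f := f)) _).symm (isColimit_can M)
  let hc₂ : IsColimit c₂ := (Functor.Final.isColimitWhiskerEquiv (e.inverse ⋙ π₂ (f := f)) _).symm (isColimit_can N)
  -- kernels in the functor category
  haveI hW : PreservesLimit (parallelPair d 0) ((Functor.whiskeringRight J _ _).obj G) := by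
    refine preservesLimit_of_evaluation _ _ fun j => ?_
    haveI : PreservesLimit (parallelPair d 0 ⋙ (evaluation J (ModuleCat.{u} A)).obj j) G := by
      haveI := preservesKernel_fp G hcoh (F.obj j).hom
      let i : parallelPair (F.obj j).hom.hom 0 ≅ parallelPair d 0 ⋙ (evaluation J (ModuleCat.{u} A)).obj j :=
        parallelPair.ext (Iso.refl _) (Iso.refl _) ((Category.comp_id _).trans (Category.id_comp _).symm)
            ((Category.comp_id _).trans (Category.id_comp _).symm) ≪≫
          (diagramIsoParallelPair (parallelPair d 0 ⋙ (evaluation J (ModuleCat.{u} A)).obj j)).symm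
      exact preservesLimit_of_iso_diagram G i
    exact comp_preservesLimit (K := parallelPair d 0) ((evaluation J (ModuleCat.{u} A)).obj j) G
  haveI : PreservesLimit (parallelPair d 0) (colim ⋙ G) := by
    haveI : PreservesLimit (parallelPair d 0 ⋙ (Functor.whiskeringRight J _ _).obj G) (colim : (J ⥤ B) ⥤ B) :=
      preservesLimit_of_iso_diagram _ (diagramIsoParallelPair _).symm
    exact preservesLimit_of_natIso _ (preservesColimitNatIso G).symm
  haveI : PreservesLimit (parallelPair d 0) (colim : (J ⥤ ModuleCat.{u} A) ⥤ ModuleCat.{u} A) := inferInstance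
  have hlim : IsLimit ((colim ⋙ G).mapCone (limit.cone (parallelPair d 0))) := isLimitOfPreserves _ (limit.isLimit _)
  haveI : PreservesLimit (parallelPair d 0 ⋙ colim) G :=
    preservesLimit_of_preserves_limit_cone (isLimitOfPreserves colim (limit.isLimit (parallelPair d 0))) hlim
  let iM : colimit D₁ ≅ M := (colimit.isColimit D₁).coconePointUniqueUpToIso hc₁
  let iN : colimit D₂ ≅ N := (colimit.isColimit D₂).coconePointUniqueUpToIso hc₂
  refine preservesLimit_of_iso_diagram G (diagramIsoParallelPair (parallelPair d 0 ⋙ colim) ≪≫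
    parallelPair.ext iM iN ?_ ?_)
  · refine colimit.hom_ext fun j => ?_
    dsimp [iM, iN]
    rw [colimit.comp_coconePointUniqueUpToIso_hom_assoc, ι_colimMap_assoc,
      colimit.comp_coconePointUniqueUpToIso_hom]
    exact (Arrow.w (e.inverse.obj j).hom).symm
  · refine colimit.hom_ext fun j => ?_
    dsimp [iM, iN]
    simp

end Main

end Groth.Agent.CohDer1.FPLex
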