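import Groth.Agent.ARLib.NoethArt
import Mathlib

/-!
# Abelian categories with a faithful exact functor having a finitary right adjoint
-/

set_option autoImplicit false
set_option linter.unusedSectionVars false
set_option backward.isDefEq.respectTransparency.types false
set_option maxHeartbeats 200000
set_option linter.style.haveILetI false
set_option linter.unusedVariables false

universe w u₁ u₂

open CategoryTheory CategoryTheory.Limits

attribute [local instance] IsFiltered.isConnected CategoryTheory.Abelian.hasFiniteBiproducts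

namespace Groth.Agent.CohDer1.FaithfulExact

variable {B : Type u₂} [Category.{w} B] [Abelian B] [HasColimitsOfSize.{w, w} B] [AB5OfSize.{w, w} B]
  {ι : Type w} (s : ι → B)
  (hsep : ∀ ⦃X Y : B⦄ (f g : X ⟶ Y), (∀ (i : ι) (h : s i ⟶ X), h ≫ f = h ≫ g) → f = g)

variable (X : B)

/-- Index type for the finitely generated subobjects. -/
abbrev Idx := Σ i : ι, (s i ⟶ X)

/-- The subobject generated by finitely many morphisms. -/
noncomputable abbrev gen (t : Finset (Idx s X)) : Subobject X :=
  imageSubobject (Sigma.desc fun x : t => x.1.2)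

variable {X}

theorem gen_mono {t t' : Finset (Idx s X)} (h : t ⊆ t') : gen s X t ≤ gen s X t' := by
  refine imageSubobject_le _ (Sigma.desc (fun x : t => Sigma.ι (fun y : t' => s y.1.1) ⟨x.1, h x.2⟩) ≫
    factorThruImageSubobject _) ?_
  rw [Category.assoc, imageSubobject_arrow_comp]
  exact Sigma.hom_ext _ _ fun x => by simp

variable (X) in
/-- The filtered system of finitely generated subobjects. -/
noncomputable def sys : Finset (Idx s X) ⥤ B where
  obj t := (gen s X t : B)
  map f := Subobject.ofLE _ _ (gen_mono s (leOfHom f))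
  map_id _ := Subobject.ofLE_refl _
  map_comp _ _ := (Subobject.ofLE_comp_ofLE _ _ _ _ _).symm

variable (X) in
/-- The cocone of finitely generated subobjects. -/
noncomputable def cocone : Cocone (sys s X) where
  pt := X
  ι := { app := fun t => (gen s X t).arrow
         naturality := fun t t' f => by simp [sys] }

theorem factors_gen' (t : Finset (Idx s X)) (x : t) : ∃ l, l ≫ (gen s X t).arrow = x.1.2 := by
  refine ⟨Sigma.ι (fun y : t => s y.1.1) x ≫ factorThruImageSubobject (Sigma.desc fun y : t => y.1.2), ?_⟩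
  rw [Category.assoc, imageSubobject_arrow_comp, Sigma.ι_desc]

include hsep in
variable (X) in
theorem nonempty_isColimit : Nonempty (IsColimit (cocone s X)) := by
  let d : colimit (sys s X) ⟶ X := colimit.desc (sys s X) (cocone s X)
  have hd : ∀ t, colimit.ι (sys s X) t ≫ d = (gen s X t).arrow := fun t => colimit.ι_desc _ _
  let α : sys s X ⟶ (Functor.const _).obj X := (cocone s X).ι
  haveI : ∀ t, Mono (α.app t) := fun t => inferInstanceAs (Mono (gen s X t).arrow)
  haveI := NatTrans.mono_of_mono_app α
  haveI : Mono d := colim.map_mono' α (colimit.isColimit _) (isColimitConstCocone _ X) d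
    (fun t => (hd t).trans (Category.comp_id _).symm)
  haveI : Epi d := Preadditive.epi_of_cancel_zero _ fun {R} g hg => by
    refine hsep g 0 fun i h => ?_
    obtain ⟨t, ht⟩ : ∃ t : Finset (Idx s X), (⟨i, h⟩ : Idx s X) ∈ t := ⟨_, Finset.mem_singleton_self _⟩
    obtain ⟨l, hl⟩ := factors_gen' (X := X) s t ⟨_, ht⟩
    have hl' : l ≫ (gen s X t).arrow = h := hl
    have h1 : (gen s X t).arrow ≫ g = 0 := by
      rw [← hd]
      exact (Category.assoc _ _ _).trans ((congrArg (_ ≫ ·) hg).trans comp_zero)
    rw [← hl', Category.assoc, h1, comp_zero, comp_zero]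
  have hiso : IsIso d := isIso_of_mono_of_epi d
  exact ⟨IsColimit.ofIsoColimit (colimit.isColimit _) (Cocone.ext (@asIso B _ _ _ d hiso) fun t => hd t)⟩

variable (X) in
theorem exists_epi (t : Finset (Idx s X)) :
    ∃ (n : ℕ) (e : Fin n → ι) (q : (⨁ fun k => s (e k)) ⟶ (gen s X t : B)), Epi q := by
  let eqv := t.equivFin.symm
  let p : (⨁ fun k => s (eqv k).1.1) ⟶ ∐ fun x : t => s x.1.1 :=
    biproduct.desc fun k => Sigma.ι (fun x : t => s x.1.1) (eqv k)
  haveI : Epi p := Preadditive.epi_of_cancel_zero _ fun g hg => Sigma.hom_ext _ _ fun x => by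
    obtain ⟨k, rfl⟩ := eqv.surjective x
    have := biproduct.ι (fun k => s (eqv k).1.1) k ≫= hg
    rw [biproduct.ι_desc_assoc, comp_zero] at this
    rw [comp_zero, this]
  exact ⟨_, fun k => (eqv k).1.1, p ≫ factorThruImageSubobject _, epi_comp _ _⟩

variable (X) in
theorem isNoetherianObject_gen (hsN : ∀ i, IsNoetherianObject (s i)) (t : Finset (Idx s X)) :
    IsNoetherianObject (gen s X t : B) := by
  obtain ⟨n, e, q, hq⟩ := exists_epi s X t
  haveI := Groth.Agent.ARLib.isNoetherianObject_biproduct (fun k => s (e k)) fun k => hsN _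
  exact Groth.Agent.ARLib.isNoetherianObject_of_epi q

include hsep in
theorem wellPowered : WellPowered.{w} B :=
  wellPowered_of_isDetecting (𝒢 := ObjectProperty.ofObj s)
    (ObjectProperty.IsSeparating.isDetecting (fun X Y f g h => hsep f g fun i l => h (s i) (ObjectProperty.ofObj_apply s i) l))

variable {A : Type u₁} [Category.{w} A] [Abelian A] [HasColimitsOfSize.{w, w} A]
  (F : A ⥤ B) (G : B ⥤ A) (adj : F ⊣ G) [F.Additive] [F.Faithful]
  [PreservesFiniteLimits F] [PreservesFiniteColimits F] [PreservesFilteredColimitsOfSize.{w, w} G]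

include adj in
theorem ab5 : AB5OfSize.{w, w} A := by
  haveI : ReflectsFiniteLimits F := ⟨fun _ _ _ => reflectsLimitsOfShape_of_reflectsIsomorphisms⟩
  haveI := adj.leftAdjoint_preservesColimits
  exact ⟨fun J _ _ => HasExactColimitsOfShape.domain_of_functor J F⟩

include adj in
theorem mono_unit (a : A) : Mono (adj.unit.app a) := by
  haveI : Mono (F.map (adj.unit.app a)) :=
    mono_of_mono_fac (show F.map (adj.unit.app a) ≫ adj.counit.app (F.obj a) = 𝟙 _ from adj.left_triangle_components a)
  exact F.mono_of_mono_map this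

theorem le_of_image_le {a : A} (S T : Subobject a)
    (he : Subobject.mk (F.map S.arrow) ≤ Subobject.mk (F.map T.arrow)) : S ≤ T := by
  rw [Groth.Agent.ARLib.le_iff_arrow_comp_cokernel]
  refine F.map_injective ?_
  rw [F.map_zero, F.map_comp, ← Subobject.ofMkLEMk_comp he, Category.assoc, ← F.map_comp, cokernel.condition,
    F.map_zero, comp_zero]

theorem strictMono_image (a : A) : StrictMono fun S : Subobject a => Subobject.mk (F.map S.arrow) := by
  intro S T h
  exact lt_of_le_of_ne (Subobject.mk_le_mk_of_comm (F.map (Subobject.ofLE S T h.le))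
    (by rw [← F.map_comp, Subobject.ofLE_arrow])) fun he => h.not_ge (le_of_image_le F T S he.ge)

include F in
theorem isNoetherianObject_of_map (a : A) [IsNoetherianObject (F.obj a)] : IsNoetherianObject a := by
  haveI : WellFoundedGT (Subobject (F.obj a)) := (isNoetherianObject.is_iff _).mp ‹_›
  exact (isNoetherianObject.is_iff a).mpr (strictMono_image F a).wellFoundedGT

include F hsep in
theorem wellPoweredA : WellPowered.{w} A where
  subobject_small a := by
    haveI := wellPowered s hsep
    exact small_of_injective (f := fun S : Subobject a => Subobject.mk (F.map S.arrow))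
      fun S T h => le_antisymm (le_of_image_le F S T h.le) (le_of_image_le F T S h.ge)

include adj hsep in
/-- Every object is covered by subobjects `p t` with `F (p t)` inside a finitely generated subobject. -/
theorem exists_covering (a : A) :
    ∃ (P : Finset (Idx s (F.obj a)) ⥤ A) (p : P ⟶ (Functor.const _).obj a),
      (∀ t, Mono (p.app t)) ∧ (∀ ⦃a' : A⦄ (f : a ⟶ a'), (∀ t, p.app t ≫ f = 0) → f = 0) ∧
      (∀ t, ∃ q : P.obj t ⟶ G.obj (gen s (F.obj a) t : B), Mono q) ∧
      (∀ t, ∃ q : F.obj (P.obj t) ⟶ (gen s (F.obj a) t : B), Mono q) := by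
  haveI := ab5 F G adj
  haveI := mono_unit F G adj a
  haveI : G.IsRightAdjoint := adj.isRightAdjoint
  obtain ⟨hc⟩ := nonempty_isColimit s hsep (F.obj a)
  let N := sys s (F.obj a)
  let γ : N ⋙ G ⟶ (Functor.const _).obj (G.obj (F.obj a)) := (G.mapCocone (cocone s (F.obj a))).ι
  let η' : (Functor.const (Finset (Idx s (F.obj a)))).obj a ⟶ (Functor.const _).obj (G.obj (F.obj a)) :=
    (Functor.const _).map (adj.unit.app a)
  haveI hγt : ∀ t, Mono (γ.app t) := fun t => inferInstanceAs (Mono (G.map (gen s (F.obj a) t).arrow))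
  haveI := NatTrans.mono_of_mono_app γ
  haveI : ∀ t, Mono (η'.app t) := fun t => inferInstanceAs (Mono (adj.unit.app a))
  haveI := NatTrans.mono_of_mono_app η'
  refine ⟨pullback η' γ, pullback.fst η' γ, fun t => inferInstance, fun a' f hf => ?_,
    fun t => ⟨(pullback.snd η' γ).app t, by
      haveI : Mono (pullback.snd η' γ) := pullback.snd_of_mono
      exact (NatTrans.mono_iff_mono_app _).1 this t⟩, fun t => ?_⟩
  · have hpb := (IsPullback.of_hasPullback η' γ).map (colim (C := A))
    haveI : IsIso (colim.map γ) := by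
      let hG := isColimitOfPreserves G hc
      let e := IsColimit.coconePointUniqueUpToIso (isColimitConstCocone (Finset (Idx s (F.obj a))) (G.obj (F.obj a)))
        (colimit.isColimit ((Functor.const (Finset (Idx s (F.obj a)))).obj (G.obj (F.obj a))))
      have he : colim.map γ = (IsColimit.coconePointUniqueUpToIso (colimit.isColimit (N ⋙ G)) hG).hom ≫ e.hom := by
        refine colimit.hom_ext fun t => ?_
        have het : e.hom = colimit.ι ((Functor.const (Finset (Idx s (F.obj a)))).obj (G.obj (F.obj a))) t :=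
          (Category.id_comp _).symm.trans (IsColimit.comp_coconePointUniqueUpToIso_hom (isColimitConstCocone _ _) _ t)
        simp only [colim_map, ι_colimMap, colimit.comp_coconePointUniqueUpToIso_hom_assoc, colimit.cocone_ι]
        rw [het]
        rfl
      rw [he]; infer_instance
    haveI := hpb.isIso_fst_of_isIso
    let g : colimit ((Functor.const (Finset (Idx s (F.obj a)))).obj a) ⟶ a' :=
      colimit.desc _ { pt := a', ι := (Functor.const _).map f }
    have hg : colim.map (pullback.fst η' γ) ≫ g = 0 := colimit.hom_ext fun t => by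
      simp only [colim_map, ι_colimMap_assoc, g, colimit.ι_desc, comp_zero]
      exact hf t
    have hg0 : g = 0 := by rwa [← cancel_epi (colim.map (pullback.fst η' γ)), comp_zero]
    have := colimit.ι_desc (F := (Functor.const (Finset (Idx s (F.obj a)))).obj a)
      { pt := a', ι := (Functor.const _).map f } ∅
    rw [show colimit.desc _ _ = g from rfl, hg0, comp_zero] at this
    exact this.symm
  · let q := F.map ((pullback.snd η' γ).app t) ≫ adj.counit.app _
    refine ⟨q, ?_⟩
    have hw : (pullback.snd η' γ).app t ≫ G.map (gen s (F.obj a) t).arrow = (pullback.fst η' γ).app t ≫ adj.unit.app a := by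
      have := congrArg (fun z => NatTrans.app z t) (pullback.condition (f := η') (g := γ))
      simp only [NatTrans.comp_app] at this
      exact this.symm
    have : q ≫ (gen s (F.obj a) t).arrow = F.map ((pullback.fst η' γ).app t) := by
      simp only [q, Category.assoc]
      erw [← adj.counit.naturality]
      simp only [Functor.comp_map, ← Category.assoc, ← F.map_comp]
      erw [hw]
      rw [F.map_comp, Category.assoc]
      erw [adj.left_triangle_components]
      exact Category.comp_id _
    exact mono_of_mono_fac this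

theorem exists_small_quotients [WellPowered.{w} B] :
    ∃ (κ : Type w) (N : κ → B), ∀ (n : ℕ) (e : Fin n → ι) (M : B) (π : (⨁ fun k => s (e k)) ⟶ M),
      Epi π → ∃ k, Nonempty (N k ≅ M) := by
  refine ⟨Σ (n : ℕ) (e : Fin n → ι), Shrink.{w} (Subobject (⨁ fun k => s (e k))),
    fun k => cokernel ((equivShrink.{w} (Subobject (⨁ fun j => s (k.2.1 j)))).symm k.2.2).arrow,
    fun n e M π hπ => ⟨⟨n, e, equivShrink.{w} _ (kernelSubobject π)⟩, ?_⟩⟩
  have key : ∀ Q : Subobject (⨁ fun j => s (e j)), Q = kernelSubobject π → Nonempty (cokernel Q.arrow ≅ M) := by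
    rintro _ rfl
    let d := cokernel.desc (kernelSubobject π).arrow π (kernelSubobject_arrow_comp π)
    haveI : Epi d := epi_of_epi_fac (cokernel.π_desc (kernelSubobject π).arrow π (kernelSubobject_arrow_comp π))
    haveI : Mono d := Preadditive.mono_of_cancel_zero _ fun {P} g hg => by
      obtain ⟨A', p, hp, x, hx⟩ := surjective_up_to_refinements_of_epi (cokernel.π (kernelSubobject π).arrow) g
      have h1 : x ≫ π = 0 := by
        rw [← cokernel.π_desc (kernelSubobject π).arrow π (kernelSubobject_arrow_comp π), ← Category.assoc, ← hx,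
          Category.assoc, hg, comp_zero]
      have h2 : x = factorThruKernelSubobject π x h1 ≫ (kernelSubobject π).arrow :=
        (factorThruKernelSubobject_comp_arrow _ _ _).symm
      rw [← cancel_epi p, hx, h2, Category.assoc, cokernel.condition, comp_zero, comp_zero]
    haveI := isIso_of_mono_of_epi d
    exact ⟨asIso d⟩
  exact key _ (Equiv.symm_apply_apply _ _)

theorem exists_small_subobjects [WellPowered.{w} A] {κ : Type w} (M : κ → A) :
    ∃ (κ' : Type w) (t : κ' → A), ∀ (k : κ) (P : A) (q : P ⟶ M k), Mono q → ∃ k', Nonempty (t k' ≅ P) := by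
  refine ⟨Σ k, Shrink.{w} (Subobject (M k)), fun x => (((equivShrink.{w} (Subobject (M x.1))).symm x.2 : Subobject (M x.1)) : A),
    fun k P q hq => ⟨⟨k, equivShrink.{w} _ (Subobject.mk q)⟩, ?_⟩⟩
  have key : ∀ Q : Subobject (M k), Q = Subobject.mk q → Nonempty ((Q : A) ≅ P) := by
    rintro _ rfl
    exact ⟨Subobject.underlyingIso q⟩
  exact key _ (Equiv.symm_apply_apply _ _)

include adj hsep in
theorem exists_separating_family :
    ∃ (κ : Type w) (t : κ → A),
      (∀ ⦃X Y : A⦄ (f g : X ⟶ Y), (∀ (k : κ) (h : t k ⟶ X), h ≫ f = h ≫ g) → f = g) ∧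
      ((∀ i, IsNoetherianObject (s i)) → ∀ k, IsNoetherianObject (t k)) := by
  haveI := wellPowered s hsep
  haveI := wellPoweredA s hsep F
  obtain ⟨κN, N, hN⟩ := exists_small_quotients s
  obtain ⟨κ₀, t₀, ht₀⟩ := exists_small_subobjects (A := A) fun k => G.obj (N k)
  refine ⟨{k : κ₀ // (∀ i, IsNoetherianObject (s i)) → IsNoetherianObject (t₀ k)}, fun k => t₀ k.1,
    fun X Y f g hfg => ?_, fun h k => k.2 h⟩
  obtain ⟨P, p, hpm, hjoint, hPG, hPN⟩ := exists_covering s hsep F G adj X
  refine sub_eq_zero.1 (hjoint _ fun t => ?_)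
  rw [Preadditive.comp_sub, sub_eq_zero]
  obtain ⟨q, hq⟩ := hPG t
  obtain ⟨n, e, π, hπ⟩ := exists_epi s (F.obj X) t
  obtain ⟨kN, ⟨eN⟩⟩ := hN n e _ π hπ
  obtain ⟨k, ⟨ek⟩⟩ := ht₀ kN _ (q ≫ G.map eN.inv) (mono_comp _ _)
  have hk : (∀ i, IsNoetherianObject (s i)) → IsNoetherianObject (t₀ k) := fun h => by
    obtain ⟨q', hq'⟩ := hPN t
    haveI := isNoetherianObject_gen s (F.obj X) h t
    haveI := isNoetherianObject_of_mono q'
    haveI := isNoetherianObject_of_map F (P.obj t)
    exact isNoetherianObject_of_mono ek.hom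
  have h1 := hfg ⟨k, hk⟩ (ek.hom ≫ p.app t)
  rw [Category.assoc, Category.assoc] at h1
  exact (cancel_epi ek.hom).1 h1

include adj hsep in
theorem isNoetherianObject_map (hsN : ∀ i, IsNoetherianObject (s i)) (a : A) [IsNoetherianObject a] :
    IsNoetherianObject (F.obj a) := by
  classical
  haveI : WellFoundedGT (Subobject a) := (isNoetherianObject.is_iff a).mp ‹_›
  obtain ⟨P, p, hpm, hjoint, -, hPN⟩ := exists_covering s hsep F G adj a
  let m : Finset (Idx s (F.obj a)) → Subobject a := fun t => @Subobject.mk _ _ _ _ (p.app t) (hpm t)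
  obtain ⟨S, ⟨t0, rfl⟩, hmax⟩ := (wellFounded_gt (α := Subobject a)).has_min (Set.range m) ⟨_, ∅, rfl⟩
  have hle : ∀ {t t'}, t ⊆ t' → m t ≤ m t' := fun {t t'} h => by
    haveI := hpm t; haveI := hpm t'
    exact Subobject.mk_le_mk_of_comm (P.map (homOfLE h)) (by simpa using p.naturality (homOfLE h))
  haveI := hpm t0
  haveI : Epi (p.app t0) := Preadditive.epi_of_cancel_zero _ fun g hg => hjoint g fun t => by
    have h1 : m t0 = m (t0 ∪ t) := (hle Finset.subset_union_left).eq_of_not_lt (hmax _ ⟨_, rfl⟩)
    have h2 : m t ≤ m t0 := (hle Finset.subset_union_right).trans h1.ge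
    haveI := hpm t
    rw [← Subobject.ofMkLEMk_comp h2, Category.assoc, hg, comp_zero]
  haveI := isIso_of_mono_of_epi (p.app t0)
  obtain ⟨q, hq⟩ := hPN t0
  haveI := isNoetherianObject_gen s (F.obj a) hsN t0
  haveI := isNoetherianObject_of_mono q
  exact isNoetherianObject_of_mono (F.map (inv (p.app t0)))

include adj in
theorem isGrothendieck [IsGrothendieckAbelian.{w} B] : IsGrothendieckAbelian.{w} A := by
  haveI := ab5 F G adj
  let G₀ : B := separator B
  obtain ⟨κ, t, ht, -⟩ := exists_separating_family (fun _ : PUnit.{w + 1} => G₀)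
    (fun X Y f g h => (isSeparator_separator B).def f g fun l => h ⟨⟩ l) F G adj
  haveI : HasSeparator A := ⟨⟨∐ t, (isSeparator_def _).2 fun X Y f g h => ht f g fun k l => by
    classical
    have := h (Sigma.desc fun j => if hj : j = k then eqToHom (congrArg t hj) ≫ l else 0)
    simpa using Sigma.ι t k ≫= this⟩⟩
  exact { }

end Groth.Agent.CohDer1.FaithfulExact
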