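import Groth.Agent.HopfLib.FiniteGen
import Groth.Agent.HopfLib.ModuleInvariants
import Mathlib.RingTheory.HopfAlgebra.Convolution

/-!
# Noetherian algebras are of finite type over the invariants of a linearly reductive group
-/

set_option autoImplicit false
set_option linter.unusedSectionVars false

open TensorProduct HopfRep MvPolynomial WithConv

universe u v w

namespace Groth.Agent.CohDer1.FinInv

open Groth.Agent.HopfLib

variable {k : Type u} [Field k] {H : Type v} [CommRing H] [HopfAlgebra k H]

section Gen

variable {V : Type*} [AddCommGroup V] [Module k V] (c : Comod k H V) {T : Type*} [CommRing T] [Algebra k T]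
  (Φ : T →ₐ[k] T ⊗[k] H) (ι : V →ₗ[k] T)

/-- Coassociativity on the image of a comodule. -/
theorem coassoc_of_lin (h : ∀ v, Φ (ι v) = ι.rTensor H (c.coact v)) (v : V) :
    ((Algebra.TensorProduct.assoc k k k T H H).toAlgHom.comp
      ((Algebra.TensorProduct.map Φ (AlgHom.id k H)).comp Φ)) (ι v) =
    ((Algebra.TensorProduct.map (AlgHom.id k T) (Bialgebra.comulAlgHom k H)).comp Φ) (ι v) := by
  have hw := LinearMap.congr_fun c.coassoc v
  simp only [LinearMap.comp_apply, LinearEquiv.coe_coe] at hw
  have hw' := congrArg (ι.rTensor (H ⊗[k] H)) hw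
  simp only [AlgHom.comp_apply, h]
  revert hw'
  generalize c.coact v = t
  intro hw'
  refine Eq.trans ?_ (hw'.trans ?_)
  · clear hw' hw
    induction t using TensorProduct.induction_on with
    | zero => simp
    | add p q hp hq => simp only [map_add, hp, hq]
    | tmul w a =>
      simp only [LinearMap.rTensor_tmul, Algebra.TensorProduct.map_tmul, h, AlgHom.id_apply]
      generalize c.coact w = s
      induction s using TensorProduct.induction_on with
      | zero => simp
      | add p q hp hq => simp only [TensorProduct.add_tmul, map_add, hp, hq]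
      | tmul p q => simp
  · clear hw' hw
    induction t using TensorProduct.induction_on with
    | zero => simp
    | add p q hp hq => simp only [map_add, hp, hq]
    | tmul w a => simp

/-- Counitality on the image of a comodule. -/
theorem counit_of_lin (h : ∀ v, Φ (ι v) = ι.rTensor H (c.coact v)) (v : V) :
    ((Algebra.TensorProduct.map (AlgHom.id k T) (Bialgebra.counitAlgHom k H)).comp Φ) (ι v) =
      (ι v) ⊗ₜ[k] (1 : k) := by
  have hw := congrArg (ι.rTensor k) (LinearMap.congr_fun c.counit_comp v)
  simp only [AlgHom.comp_apply, h]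
  refine Eq.trans ?_ (hw.trans (by simp))
  simp only [LinearMap.comp_apply]
  generalize c.coact v = t
  induction t using TensorProduct.induction_on with
  | zero => simp
  | add p q hp hq => simp only [map_add, hp, hq]
  | tmul w a => simp

end Gen

variable {A : Type w} [CommRing A] [Algebra k A] [Comod k H A] [GLin.IsCoactAlg k H A]
  {W : Type*} [AddCommGroup W] [Module k W] {σ : Type*} (e : Module.Basis σ k W) (cW : Comod k H W)

/-- Linear forms. -/
noncomputable def lin : W →ₗ[k] MvPolynomial σ A := e.constr k fun i => X i

theorem lin_basis (i : σ) : lin (A := A) e (e i) = X i := Module.Basis.constr_basis ..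

/-- Constants. -/
noncomputable abbrev cst (k : Type u) [Field k] (σ : Type*) (A : Type w) [CommRing A] [Algebra k A] :
    A →ₐ[k] MvPolynomial σ A := IsScalarTower.toAlgHom k A (MvPolynomial σ A)

/-- The diagonal coaction on polynomials over `A`. -/
noncomputable def polyCoact : MvPolynomial σ A →ₐ[k] MvPolynomial σ A ⊗[k] H :=
  MvPolynomial.aevalTower ((Algebra.TensorProduct.map (cst k _ A) (AlgHom.id k H)).comp (GLin.coactAlgHom k H A))
    fun i => (lin e).rTensor H (cW.coact (e i))

theorem polyCoact_cst (a : A) : polyCoact e cW ((cst k _ A) a) =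
    ((cst k _ A).toLinearMap : A →ₗ[k] MvPolynomial σ A).rTensor H (Comod.coact a) := by
  rw [show ((cst k _ A) a : MvPolynomial σ A) = C a from rfl, polyCoact, aevalTower_C]
  simp only [AlgHom.comp_apply, GLin.coactAlgHom_apply]
  generalize Comod.coact (k := k) (A := H) a = t
  induction t using TensorProduct.induction_on with
  | zero => simp
  | add p q hp hq => simp only [map_add, hp, hq]
  | tmul p q => simp

theorem polyCoact_lin (w : W) : polyCoact (A := A) e cW (lin e w) = (lin e).rTensor H (cW.coact w) := by
  have h : (polyCoact (A := A) e cW).toLinearMap ∘ₗ lin e = (lin e).rTensor H ∘ₗ cW.coact :=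
    e.ext fun i => by
      simp only [LinearMap.comp_apply, AlgHom.toLinearMap_apply, lin_basis]
      rw [polyCoact, aevalTower_X]
  exact LinearMap.congr_fun h w

theorem polyCoact_X (i : σ) : polyCoact (A := A) e cW (X i) = (lin e).rTensor H (cW.coact (e i)) := by
  rw [← lin_basis (A := A) e i, polyCoact_lin]

theorem poly_ext {D : Type*} [CommRing D] [Algebra k D] {f g : MvPolynomial σ A →ₐ[k] D}
    (h1 : ∀ a : A, f ((cst k _ A) a) = g ((cst k _ A) a)) (h2 : ∀ i, f (X i) = g (X i)) : f = g :=
  AlgHom.coe_ringHom_injective (MvPolynomial.ringHom_ext h1 h2)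

/-- The comodule of polynomials over `A`. -/
@[reducible] noncomputable def polyComod : Comod k H (MvPolynomial σ A) where
  coact := (polyCoact (A := A) e cW).toLinearMap
  coassoc := by
    let P := MvPolynomial σ A
    have h : (Algebra.TensorProduct.assoc k k k P H H).toAlgHom.comp
        ((Algebra.TensorProduct.map (polyCoact (A := A) e cW) (AlgHom.id k H)).comp (polyCoact (A := A) e cW)) =
        (Algebra.TensorProduct.map (AlgHom.id k P) (Bialgebra.comulAlgHom k H)).comp (polyCoact (A := A) e cW) :=
      poly_ext (fun a => coassoc_of_lin (inferInstance : Comod k H A) _ (cst k _ A).toLinearMap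
        (polyCoact_cst e cW) a) fun i => by
        simpa only [lin_basis] using coassoc_of_lin cW (polyCoact (A := A) e cW) (lin e) (polyCoact_lin e cW) (e i)
    refine LinearMap.ext fun p => ?_
    have hp := AlgHom.congr_fun h p
    simp only [AlgHom.comp_apply] at hp
    simp only [LinearMap.comp_apply, LinearEquiv.coe_coe, AlgHom.toLinearMap_apply]
    refine Eq.trans ?_ (hp.trans ?_)
    · generalize polyCoact (A := A) e cW p = t
      induction t using TensorProduct.induction_on with
      | zero => simp
      | add p q hp hq => simp only [map_add, hp, hq]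
      | tmul q a =>
        simp only [LinearMap.rTensor_tmul, Algebra.TensorProduct.map_tmul, AlgHom.toLinearMap_apply, AlgHom.id_apply]
        rfl
    · generalize polyCoact (A := A) e cW p = t
      induction t using TensorProduct.induction_on with
      | zero => simp
      | add p q hp hq => simp only [map_add, hp, hq]
      | tmul q a => simp
  counit_comp := by
    let P := MvPolynomial σ A
    have h : (Algebra.TensorProduct.map (AlgHom.id k P) (Bialgebra.counitAlgHom k H)).comp (polyCoact (A := A) e cW) =
        Algebra.TensorProduct.includeLeft :=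
      poly_ext (fun a => counit_of_lin (inferInstance : Comod k H A) _ (cst k _ A).toLinearMap
        (polyCoact_cst e cW) a) fun i => by
        simpa only [lin_basis, Algebra.TensorProduct.includeLeft_apply] using counit_of_lin cW (polyCoact (A := A) e cW) (lin e) (polyCoact_lin e cW) (e i)
    refine LinearMap.ext fun p => ?_
    have hp := AlgHom.congr_fun h p
    simp only [AlgHom.comp_apply] at hp
    refine Eq.trans ?_ (hp.trans rfl)
    simp only [LinearMap.comp_apply, AlgHom.toLinearMap_apply]
    generalize polyCoact (A := A) e cW p = t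
    induction t using TensorProduct.induction_on with
    | zero => simp
    | add p q hp hq => simp only [map_add, hp, hq]
    | tmul q a => simp

theorem isCoactAlg_polyComod : @GLin.IsCoactAlg k _ H _ _ (MvPolynomial σ A) _ _ (polyComod e cW) :=
  @GLin.IsCoactAlg.mk k _ H _ _ (MvPolynomial σ A) _ _ (polyComod e cW) (map_one (polyCoact (A := A) e cW))
    (map_mul (polyCoact (A := A) e cW))

/-- Polynomials tensor `H` of degree `d`. -/
noncomputable def degPart (σ : Type*) (A : Type w) [CommRing A] [Algebra k A] (d : ℕ) :
    Submodule k (MvPolynomial σ A ⊗[k] H) :=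
  LinearMap.range (((homogeneousSubmodule σ A d).restrictScalars k).subtype.rTensor H)

theorem degPart_mul {d d' : ℕ} {x y : MvPolynomial σ A ⊗[k] H} (hx : x ∈ degPart σ A d) (hy : y ∈ degPart σ A d') :
    x * y ∈ degPart σ A (d + d') := by
  obtain ⟨x, rfl⟩ := hx
  obtain ⟨y, rfl⟩ := hy
  induction x using TensorProduct.induction_on with
  | zero => simp
  | add p q hp hq => rw [map_add, add_mul]; exact add_mem hp hq
  | tmul p a =>
    induction y using TensorProduct.induction_on with
    | zero => simp
    | add p q hp hq => rw [map_add, mul_add]; exact add_mem hp hq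
    | tmul q b =>
      refine ⟨⟨p.1 * q.1, IsHomogeneous.mul p.2 q.2⟩ ⊗ₜ (a * b), ?_⟩
      simp

theorem rTensor_mem_degPart {U : Type*} [AddCommGroup U] [Module k U] (f : U →ₗ[k] MvPolynomial σ A) {d : ℕ}
    (hf : ∀ u, (f u).IsHomogeneous d) (t : U ⊗[k] H) : f.rTensor H t ∈ degPart σ A d := by
  induction t using TensorProduct.induction_on with
  | zero => simp
  | add p q hp hq => rw [map_add]; exact add_mem hp hq
  | tmul p a =>
    refine ⟨⟨f p, hf p⟩ ⊗ₜ a, ?_⟩
    simp

theorem isHomogeneous_lin (w : W) : (lin (A := A) e w).IsHomogeneous 1 := by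
  have h : Submodule.span k (Set.range e) ≤
      ((homogeneousSubmodule σ A 1).restrictScalars k).comap (lin (A := A) e) := by
    rw [Submodule.span_le]
    rintro _ ⟨i, rfl⟩
    show (lin (A := A) e (e i)).IsHomogeneous 1
    rw [lin_basis]
    exact isHomogeneous_X A i
  rw [e.span_eq] at h
  exact h (Submodule.mem_top (x := w))

theorem polyCoact_mem_degPart {d : ℕ} {F : MvPolynomial σ A} (hF : F.IsHomogeneous d) :
    polyCoact (A := A) e cW F ∈ degPart σ A d := by
  classical
  have key : ∀ (n : σ →₀ ℕ) (a : A), polyCoact (A := A) e cW (monomial n a) ∈ degPart σ A n.degree := by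
    intro n
    induction n using Finsupp.induction with
    | zero =>
      intro a
      rw [show (monomial 0 a : MvPolynomial σ A) = (cst k _ A) a from rfl, polyCoact_cst, map_zero]
      exact rTensor_mem_degPart (A := A) _ (fun a => isHomogeneous_C σ a) _
    | single_add i b n _ _ ih =>
      intro a
      rw [add_comm, monomial_add_single, map_mul, map_pow, polyCoact_X, map_add, Finsupp.degree_single]
      refine degPart_mul (ih a) ?_
      clear ih
      clear * - e cW
      induction b with
      | zero =>
        rw [pow_zero]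
        refine ⟨⟨1, isHomogeneous_one σ A⟩ ⊗ₜ 1, ?_⟩
        simp [Algebra.TensorProduct.one_def]
      | succ b ihb =>
        rw [pow_succ]
        exact degPart_mul (ihb) (rTensor_mem_degPart _ (isHomogeneous_lin e) _)
  rw [F.as_sum, map_sum]
  refine Submodule.sum_mem _ fun n hn => ?_
  have hd : n.degree = d := by
    have := hF (mem_support_iff.1 hn)
    rwa [Finsupp.degree_eq_weight_one]
  exact hd ▸ key n _

theorem exists_adjoin [IsNoetherianRing A] [Finite σ] (hG : IsLinearlyReductive k H) :
    ∃ s : Set (MvPolynomial σ A), s.Finite ∧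
      ∀ f : MvPolynomial σ A, polyCoact (A := A) e cW f = f ⊗ₜ (1 : H) →
        f ∈ Algebra.adjoin k ((cst k _ A) '' (GLin.invariants k H A : Set A) ∪ s) := by
  classical
  letI := polyComod (A := A) e cW
  haveI := isCoactAlg_polyComod (A := A) e cW
  obtain ⟨α, hα, h1⟩ := exists_integral hG
  let P := MvPolynomial σ A
  have hdeg : ∀ (d : ℕ) (g : H →ₗ[k] k) (F : P), F.IsHomogeneous d → (hit g F).IsHomogeneous d :=
    fun d g F hF => sliceR_mem_of_mem_range (polyCoact_mem_degPart e cW hF) g
  have hcomm : ∀ (g : H →ₗ[k] k) (d : ℕ) (F : P),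
      homogeneousComponent d (hit g F) = hit g (homogeneousComponent d F) := by
    intro g d F
    conv_lhs => rw [← sum_homogeneousComponent F]
    conv_rhs => rw [← sum_homogeneousComponent F]
    simp only [map_sum]
    refine Finset.sum_congr rfl fun e' _ => ?_
    have hh := homogeneousComponent_isHomogeneous (R := A) e' F
    generalize homogeneousComponent e' F = G at hh ⊢
    rw [homogeneousComponent_of_mem (hdeg e' g G hh),
      homogeneousComponent_of_mem (show G ∈ homogeneousSubmodule σ A e' from hh)]
    by_cases hde : d = e'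
    · rw [if_pos hde, if_pos hde]
    · rw [if_neg hde, if_neg hde, map_zero]
  have hinv : ∀ {f : P}, polyCoact (A := A) e cW f = f ⊗ₜ (1 : H) → hit α f = f := fun {f} hf =>
    hit_eq_self_of_mem_fixedPts h1 hf
  have hρ : ∀ f : P, polyCoact (A := A) e cW (hit α f) = hit α f ⊗ₜ (1 : H) := fun f => reynolds_mem_fixedPts hα h1 f
  let T : Set P := {F | polyCoact (A := A) e cW F = F ⊗ₜ (1 : H) ∧ ∃ d, 0 < d ∧ F.IsHomogeneous d}
  obtain ⟨s, hs, hspan⟩ := (Submodule.fg_span_iff_fg_span_finset_subset T).1
    (IsNoetherian.noetherian (Ideal.span T))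
  refine ⟨s, s.finite_toSet, ?_⟩
  set S := Algebra.adjoin k ((cst k _ A) '' (GLin.invariants k H A : Set A) ∪ (s : Set P))
  have key : ∀ d : ℕ, ∀ F : P, polyCoact (A := A) e cW F = F ⊗ₜ (1 : H) → F.IsHomogeneous d → F ∈ S := by
    intro d
    induction d using Nat.strong_induction_on with
    | _ d ih =>
      intro F hF hhd
      rcases Nat.eq_zero_or_pos d with rfl | hd
      · have hh := homogeneousComponent_zero F
        rw [homogeneousComponent_of_mem (show F ∈ homogeneousSubmodule σ A 0 from hhd), if_pos rfl] at hh
        refine Algebra.subset_adjoin (Or.inl ⟨coeff 0 F, ?_, hh.symm⟩)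
        let co : P →ₗ[k] A := (lcoeff A (0 : σ →₀ ℕ)).restrictScalars k
        have hco : ∀ a, co ((cst k _ A) a) = a := fun a => coeff_zero_C a
        have h3 : Comod.coact (k := k) (A := H) (co F) = (co.rTensor H) (polyCoact (A := A) e cW F) := by
          conv_rhs => rw [hh, show (C (coeff 0 F) : P) = (cst k _ A) (coeff 0 F) from rfl, polyCoact_cst,
            ← LinearMap.rTensor_comp_apply]
          have : co ∘ₗ (cst k _ A).toLinearMap = LinearMap.id := LinearMap.ext hco
          rw [this, LinearMap.rTensor_id, LinearMap.id_apply]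
          rfl
        show Comod.coact (k := k) (A := H) (coeff 0 F) = coeff 0 F ⊗ₜ (1 : H)
        rw [hF, LinearMap.rTensor_tmul] at h3
        exact h3
      · obtain ⟨c, -, hc⟩ := Submodule.mem_span_finset.1
          (hspan ▸ Submodule.subset_span (show F ∈ T from ⟨hF, d, hd, hhd⟩) : F ∈ Submodule.span P (↑s : Set P))
        have hF' : F = homogeneousComponent d F := by
          rw [homogeneousComponent_of_mem (show F ∈ homogeneousSubmodule σ A d from hhd), if_pos rfl]
        rw [← hinv hF, hF', ← hc, map_sum, map_sum]
        refine Subalgebra.sum_mem _ fun y hy => ?_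
        obtain ⟨hyinv, e', he, hye⟩ := hs hy
        rw [smul_eq_mul, mul_comm (c y) y]
        rcases Nat.lt_or_ge d e' with hde | hde
        · have : homogeneousComponent d (y * c y) = 0 := by
            rw [← sum_homogeneousComponent (c y), Finset.mul_sum, map_sum]
            refine Finset.sum_eq_zero fun j _ => ?_
            rw [homogeneousComponent_of_mem (show y * homogeneousComponent j (c y) ∈
              homogeneousSubmodule σ A (e' + j) from hye.mul (homogeneousComponent_isHomogeneous j _)),
              if_neg (by omega)]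
          rw [this, map_zero]
          exact Subalgebra.zero_mem _
        · have : homogeneousComponent d (y * c y) = y * homogeneousComponent (d - e') (c y) := by
            conv_lhs => rw [← sum_homogeneousComponent (c y), Finset.mul_sum, map_sum]
            simp only [homogeneousComponent_of_mem (show y * homogeneousComponent _ (c y) ∈
              homogeneousSubmodule σ A (e' + _) from hye.mul (homogeneousComponent_isHomogeneous _ _))]
            by_cases hin : d - e' ∈ Finset.range ((c y).totalDegree + 1)
            · rw [Finset.sum_eq_single_of_mem (d - e') hin fun j _ hj => if_neg (by omega), if_pos (by omega)]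
            · rw [Finset.sum_eq_zero fun j hj => if_neg fun hje => hin (by
                rw [show d - e' = j by omega]; exact hj)]
              rw [homogeneousComponent_eq_zero _ _ (by simp at hin; omega), mul_zero]
          rw [this, hit_mul_of_mem_invariants α (c := y) hyinv]
          exact S.mul_mem (Algebra.subset_adjoin (Or.inr hy))
            (ih (d - e') (by omega) _ (hρ _) (hdeg _ α _ (homogeneousComponent_isHomogeneous _ _)))
  intro f hf
  rw [← sum_homogeneousComponent f]
  refine Subalgebra.sum_mem _ fun d _ => key d _ ?_ (homogeneousComponent_isHomogeneous d f)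
  rw [← hinv hf, hcomm]
  exact hρ _

omit σ e cW in
theorem finiteType [IsNoetherianRing A] [Algebra.FiniteType k H] (hG : IsLinearlyReductive k H) :
    Algebra.FiniteType ↥(GLin.invariants k H A) A := by
  classical
  obtain ⟨α, hα, h1⟩ := exists_integral hG
  obtain ⟨g, hg⟩ := Algebra.FiniteType.out (R := k) (A := H)
  obtain ⟨W, hW, hgW, hWs⟩ := exists_finite_subcomod (k := k) (A := H) (V := H) (g : Set H) g.finite_toSet
  have : Module.Finite k W := hW
  let e := Module.finBasis k W
  let cW := ComodSub.Comod.restr (inferInstance : Comod k H H) W hWs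
  letI := polyComod (A := A) e cW
  haveI := isCoactAlg_polyComod (A := A) e cW
  obtain ⟨s, hsf, hgen⟩ := exists_adjoin (A := A) e cW hG
  let T := MvPolynomial (Fin (Module.finrank k W)) A
  -- the map to `A ⊗ H`
  let π : T →ₐ[k] A ⊗[k] H :=
    MvPolynomial.aevalTower Algebra.TensorProduct.includeLeft fun i => (1 : A) ⊗ₜ (e i : H)
  let iR : H →ₐ[k] A ⊗[k] H := Algebra.TensorProduct.includeRight
  let iL : A →ₐ[k] A ⊗[k] H := Algebra.TensorProduct.includeLeft
  have hπlin : ∀ w : W, π (lin e w) = iR (w : H) := fun w => LinearMap.congr_fun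
    (show π.toLinearMap ∘ₗ lin e = iR.toLinearMap ∘ₗ W.subtype from e.ext fun i => by
      simp only [LinearMap.comp_apply, AlgHom.toLinearMap_apply]
      rw [lin_basis]
      exact MvPolynomial.eval₂_X _ _ _) w
  have hπcst : ∀ a : A, π ((cst k _ A) a) = iL a := fun a => aevalTower_C _ _ _
  have hsurj : Function.Surjective π := by
    have hr : ∀ h : H, iR h ∈ π.range := by
      have : Algebra.adjoin k (g : Set H) ≤ π.range.comap iR :=
        Algebra.adjoin_le fun x hx => ⟨lin e ⟨x, hgW hx⟩, hπlin _⟩
      rw [hg] at this
      exact fun h => this Algebra.mem_top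
    intro z
    induction z using TensorProduct.induction_on with
    | zero => exact ⟨0, map_zero _⟩
    | add p q hp hq =>
      obtain ⟨p, rfl⟩ := hp
      obtain ⟨q, rfl⟩ := hq
      exact ⟨p + q, map_add _ _ _⟩
    | tmul a h =>
      obtain ⟨p, hp⟩ := hr h
      exact ⟨(cst k _ A) a * p, by rw [map_mul, hπcst, show π p = iR h from hp]; simp [iL, iR]⟩
  -- the coaction on `A ⊗ H`
  let jA : A ⊗[k] H →ₐ[k] (A ⊗[k] H) ⊗[k] H := Algebra.TensorProduct.map iL (AlgHom.id k H)
  let jH : H ⊗[k] H →ₐ[k] (A ⊗[k] H) ⊗[k] H := Algebra.TensorProduct.map iR (AlgHom.id k H)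
  let Δ := Bialgebra.comulAlgHom k H
  let S := HopfAlgebra.antipodeAlgHom k H
  let δ := GLin.coactAlgHom k H A
  let ψ : A ⊗[k] H →ₐ[k] (A ⊗[k] H) ⊗[k] H := Algebra.TensorProduct.productMap (jA.comp δ) (jH.comp Δ)
  have hcommπ : ψ.comp π = (Algebra.TensorProduct.map π (AlgHom.id k H)).comp (polyCoact (A := A) e cW) := by
    refine poly_ext (fun a => ?_) fun i => ?_
    · rw [AlgHom.comp_apply, AlgHom.comp_apply, polyCoact_cst, hπcst]
      rw [show ψ (iL a) = jA (δ a) by simp [ψ, iL]]
      have hh : ∀ t : A ⊗[k] H, jA t =
          Algebra.TensorProduct.map π (AlgHom.id k H) ((cst k _ A).toLinearMap.rTensor H t) := fun t => by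
        induction t using TensorProduct.induction_on with
        | zero => simp
        | add p q hp hq => simp only [map_add, hp, hq]
        | tmul p q =>
          rw [show jA (p ⊗ₜ q) = iL p ⊗ₜ q from rfl, LinearMap.rTensor_tmul, AlgHom.toLinearMap_apply,
            show Algebra.TensorProduct.map π (AlgHom.id k H) ((cst k _ A) p ⊗ₜ[k] q) = π ((cst k _ A) p) ⊗ₜ q from rfl,
            hπcst]
      exact hh _
    · rw [AlgHom.comp_apply, AlgHom.comp_apply, polyCoact_X (A := A) e cW i,
        show π (X i) = iR (e i : H) from MvPolynomial.eval₂_X _ _ _]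
      rw [show ψ (iR (e i : H)) = jH (Δ (e i : H)) by simp [ψ, iR]]
      have hc : Δ (e i : H) = W.subtype.rTensor H (cW.coact (e i)) :=
        (ComodSub.restr_coact_coe (inferInstance : Comod k H H) W hWs (e i)).symm
      rw [hc]
      generalize cW.coact (e i) = t
      induction t using TensorProduct.induction_on with
      | zero => simp
      | add p q hp hq => simp only [map_add, hp, hq]
      | tmul p q => simp [jH, hπlin, iR]
  -- `a₀ ⊗ S a₁` is invariant
  let θ : A →ₐ[k] A ⊗[k] H := (Algebra.TensorProduct.map (AlgHom.id k A) S).comp δ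
  let cL : H →ₐ[k] H ⊗[k] H := Algebra.TensorProduct.includeLeft
  let cR : H →ₐ[k] H ⊗[k] H := Algebra.TensorProduct.includeRight
  let G : H ⊗[k] H →ₐ[k] H ⊗[k] H := Algebra.TensorProduct.productMap cR (Δ.comp S)
  have hL : G.comp Δ = cL.comp S := by
    have hΔ : toConv Δ = toConv cL * toConv cR := by
      rw [AlgHom.convMul_def]
      refine congrArg toConv ?_
      rw [← AlgHom.comp_assoc]
      have : (Algebra.TensorProduct.lmul' k).comp (Algebra.TensorProduct.map cL cR) = AlgHom.id k (H ⊗[k] H) := by
        ext <;> simp [cL, cR]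
      rw [show (toConv cL).ofConv = cL from rfl, show (toConv cR).ofConv = cR from rfl, this, AlgHom.id_comp]
    have h2 : toConv (G.comp Δ) = toConv cR * (toConv Δ)⁻¹ := by
      rw [AlgHom.convMul_def]
      refine congrArg toConv ?_
      rw [← AlgHom.comp_assoc]
      congr 1
      apply Algebra.TensorProduct.ext <;>
        · refine AlgHom.ext fun z => ?_
          simp [G, cR, show (toConv Δ)⁻¹.ofConv = Δ.comp S from rfl]
    have hgrp : ∀ x y : WithConv (H →ₐ[k] H ⊗[k] H), y * (x * y)⁻¹ = x⁻¹ := fun x y =>
      (eq_mul_inv_of_mul_eq (inv_mul_cancel_left x y)).symm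
    rw [hΔ, hgrp] at h2
    exact congrArg WithConv.ofConv h2
  have hθ : ∀ a, ψ (θ a) = θ a ⊗ₜ (1 : H) := by
    intro a
    let F : (A ⊗[k] H) ⊗[k] H →ₐ[k] (A ⊗[k] H) ⊗[k] H :=
      Algebra.TensorProduct.productMap jA (jH.comp (Δ.comp S))
    have e1 : ψ (θ a) = F ((Comod.coact (k := k) (A := H)).rTensor H (δ a)) := by
      simp only [θ, AlgHom.comp_apply]
      generalize δ a = t
      induction t using TensorProduct.induction_on with
      | zero => simp
      | add p q hp hq => simp only [map_add, hp, hq]
      | tmul p q => simp [ψ, F, δ]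
    have e2 : (Comod.coact (k := k) (A := H)).rTensor H (δ a) =
        (TensorProduct.assoc k A H H).symm ((CoalgebraStruct.comul (R := k) (A := H)).lTensor A (δ a)) :=
      (LinearEquiv.eq_symm_apply _).2 (LinearMap.congr_fun (Comod.coassoc (k := k) (A := H) (V := A)) a)
    rw [e1, e2]
    simp only [θ, AlgHom.comp_apply]
    generalize δ a = t
    induction t using TensorProduct.induction_on with
    | zero => simp
    | add p q hp hq => simp only [map_add, hp, hq, TensorProduct.add_tmul]
    | tmul p q =>
      have hG' : ∀ z : H ⊗[k] H, F ((TensorProduct.assoc k A H H).symm (p ⊗ₜ z)) =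
          ((p ⊗ₜ (1 : H)) ⊗ₜ[k] (1 : H)) * jH (G z) := by
        intro z
        induction z using TensorProduct.induction_on with
        | zero => simp
        | add x y hx hy => simp only [TensorProduct.tmul_add, map_add, hx, hy, mul_add]
        | tmul x y =>
          simp only [TensorProduct.assoc_symm_tmul, F, G, Algebra.TensorProduct.productMap_apply_tmul, map_mul,
            AlgHom.comp_apply, ← mul_assoc]
          congr 1
          simp [jA, jH, iL, iR, cR]
      rw [LinearMap.lTensor_tmul, hG', show G (CoalgebraStruct.comul (R := k) q) = (G.comp Δ) q from rfl, hL]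
      simp [cL, jH, iR]
  -- conclusion
  let ev : A ⊗[k] H →ₐ[k] A :=
    Algebra.TensorProduct.productMap (AlgHom.id k A) ((Algebra.ofId k A).comp (Bialgebra.counitAlgHom k H))
  have hev : ∀ a, ev (θ a) = a := by
    intro a
    have h := congrArg (TensorProduct.rid k A) (LinearMap.congr_fun (Comod.counit_comp (k := k) (A := H) (V := A)) a)
    simp only [LinearMap.comp_apply, LinearMap.flip_apply, TensorProduct.mk_apply, TensorProduct.rid_tmul, one_smul] at h
    refine Eq.trans ?_ h
    simp only [θ, AlgHom.comp_apply, δ, GLin.coactAlgHom_apply]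
    generalize Comod.coact (k := k) (A := H) a = t
    induction t using TensorProduct.induction_on with
    | zero => simp
    | add p q hp hq => simp only [map_add, hp, hq]
    | tmul p q => simp [ev, S, Algebra.smul_def, mul_comm]
  let B := GLin.invariants k H A
  refine ⟨(hsf.image fun x => ev (π x)).toFinset, eq_top_iff.2 fun a _ => ?_⟩
  obtain ⟨p, hp⟩ := hsurj (θ a)
  have hpa : ev (π (hit α p)) = a := by
    have h := AlgHom.congr_fun hcommπ p
    simp only [AlgHom.comp_apply, hp, hθ] at h
    have h' := congrArg (sliceR α) h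
    rw [sliceR_tmul, h1, one_smul] at h'
    rw [show π (hit α p) = θ a from ?_, hev]
    refine Eq.trans ?_ h'.symm
    show π (sliceR α (polyCoact (A := A) e cW p)) = _
    generalize polyCoact (A := A) e cW p = t
    induction t using TensorProduct.induction_on with
    | zero => simp
    | add p q hp hq => simp only [map_add, hp, hq]
    | tmul p q => simp
  rw [← hpa]
  have hmem := hgen (hit α p) (reynolds_mem_fixedPts hα h1 p)
  let Ψ : T →ₐ[k] A := ev.comp π
  refine (Algebra.adjoin_le (S := ((Algebra.adjoin B ((hsf.image fun x => ev (π x)).toFinset : Set A)).restrictScalars k).comap Ψ)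
    ?_ hmem : _)
  rintro x (⟨b, hb, rfl⟩ | hx)
  · show ev (π ((cst k _ A) b)) ∈ Algebra.adjoin B _
    rw [hπcst]
    have : ev (iL b) = algebraMap B A ⟨b, hb⟩ := by simp [ev, iL]
    rw [this]
    exact Subalgebra.algebraMap_mem _ _
  · exact Algebra.subset_adjoin (by rw [Set.Finite.coe_toFinset]; exact ⟨x, hx, rfl⟩)

end Groth.Agent.CohDer1.FinInv
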