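import Groth.Prelude.Def_FlatCA
import Groth.Agent.FittLib.Basic
import Groth.Agent.FittLib.Local
import Mathlib.RingTheory.Unramified.Basic
import Mathlib.RingTheory.Etale.Basic
import Mathlib.RingTheory.TensorProduct.Quotient
import Mathlib.Algebra.Module.FinitePresentation

/-!
# A Fitting ideal is a multiple of the ideal, where the algebra is étale
-/

universe u

open TensorProduct

namespace Groth.Agent.CohDer1.FittFactor

theorem fittingZero_eq (R : Type u) [CommRing R] (M : Type u) [AddCommGroup M] [Module R M] :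
    FlatCA.fittingZero R M = Fitt.ideal R M 0 := by
  unfold FlatCA.fittingZero Fitt.ideal
  simp

variable {A C : Type u} [CommRing A] [CommRing C] [Algebra A C] [Module.Finite A C]
  (L : Type u) [CommRing L] [Algebra A L] [Algebra C L] [IsScalarTower A C L]

/-- Multiplication. -/
noncomputable abbrev mu : L ⊗[A] C →ₐ[L] L :=
  Algebra.TensorProduct.lift (AlgHom.id L L) (IsScalarTower.toAlgHom A C L) fun _ _ => Commute.all _ _

omit [Module.Finite A C] in
lemma mu_surjective : Function.Surjective (mu L : L ⊗[A] C →ₐ[L] L) := fun l => ⟨l ⊗ₜ 1, by simp⟩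

/-- The diagonal ideal. -/
noncomputable abbrev K : Ideal (L ⊗[A] C) := RingHom.ker (mu (A := A) (C := C) L)

omit [Module.Finite A C] in
lemma K_le_sq [Algebra.FormallyUnramified A L] (h : C) [IsLocalization.Away h L] :
    K (A := A) (C := C) L ≤ K L ^ 2 := by
  let Q := (L ⊗[A] C) ⧸ (K (A := A) (C := C) L ^ 2)
  let π : (L ⊗[A] C) →ₐ[A] Q := Ideal.Quotient.mkₐ A _
  let N : Ideal Q := (K L).map π
  have hN : N ^ 2 = ⊥ := by
    rw [← Ideal.map_pow]
    exact Ideal.map_quotient_self _
  let g₁ : L →ₐ[A] Q := π.comp Algebra.TensorProduct.includeLeft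
  let g₂' : C →ₐ[A] Q := π.comp Algebra.TensorProduct.includeRight
  have hdiff (c : C) : g₂' c - g₁ (algebraMap C L c) ∈ N := by
    change π ((1 : L) ⊗ₜ c) - π (algebraMap C L c ⊗ₜ 1) ∈ N
    rw [← map_sub]
    exact Ideal.mem_map_of_mem _ (RingHom.mem_ker.2 (by simp))
  have hu : IsUnit (g₂' h) := by
    have hnil : IsNilpotent (g₂' h - g₁ (algebraMap C L h)) := ⟨2, by
      have := Ideal.pow_mem_pow (hdiff h) 2
      rwa [hN, Ideal.mem_bot] at this⟩
    have := hnil.isUnit_add_left_of_commute ((IsLocalization.Away.algebraMap_isUnit h).map g₁) (Commute.all _ _)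
    rwa [add_sub_cancel] at this
  let g₂r : L →+* Q := IsLocalization.Away.lift h (g := g₂'.toRingHom) hu
  have hg₂r (c : C) : g₂r (algebraMap C L c) = g₂' c := IsLocalization.Away.lift_eq h hu c
  let g₂ : L →ₐ[A] Q := { g₂r with
    commutes' := fun a => by
      rw [IsScalarTower.algebraMap_apply A C L]
      exact (hg₂r _).trans (g₂'.commutes a) }
  have heq : g₁ = g₂ := by
    refine Algebra.FormallyUnramified.ext N ⟨2, hN⟩ fun x => ?_
    have hhom : (Ideal.Quotient.mk N).comp g₁.toRingHom = (Ideal.Quotient.mk N).comp g₂.toRingHom := by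
      refine IsLocalization.ringHom_ext (Submonoid.powers h) (RingHom.ext fun c => ?_)
      refine (Ideal.Quotient.eq.2 ?_).symm
      change g₂r (algebraMap C L c) - g₁ (algebraMap C L c) ∈ N
      rw [hg₂r]
      exact hdiff c
    exact DFunLike.congr_fun hhom x
  have hgen (c : C) : (1 : L) ⊗ₜ[A] c - algebraMap C L c ⊗ₜ 1 ∈ K (A := A) (C := C) L ^ 2 := by
    rw [← Ideal.Quotient.eq_zero_iff_mem, map_sub, sub_eq_zero]
    have := DFunLike.congr_fun heq (algebraMap C L c)
    exact ((hg₂r c).symm.trans this.symm)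
  intro x hx
  have key : ∀ y : L ⊗[A] C, y - mu L y ⊗ₜ 1 ∈ K (A := A) (C := C) L ^ 2 := by
    intro y
    induction y with
    | zero => simp
    | tmul l c =>
      have : l ⊗ₜ[A] c - mu L (l ⊗ₜ[A] c) ⊗ₜ 1 = (l ⊗ₜ[A] 1) * ((1 : L) ⊗ₜ[A] c - algebraMap C L c ⊗ₜ 1) := by
        simp [mul_sub]
      rw [this]
      exact Ideal.mul_mem_left _ _ (hgen c)
    | add a b ha hb =>
      rw [map_add, TensorProduct.add_tmul, add_sub_add_comm]
      exact add_mem ha hb
  have := key x
  rwa [RingHom.mem_ker.1 hx, TensorProduct.zero_tmul, sub_zero] at this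

lemma K_fg : (K (A := A) (C := C) L).FG := by
  let P : L ⊗[A] C →ₗ[L] L ⊗[A] C :=
    LinearMap.id - (Algebra.linearMap L (L ⊗[A] C)).comp (mu L).toLinearMap
  have hr : LinearMap.range P = (K (A := A) (C := C) L).restrictScalars L := by
    refine le_antisymm ?_ fun x hx => ⟨x, ?_⟩
    · rintro _ ⟨x, rfl⟩
      refine RingHom.mem_ker.2 ?_
      simp [P]
    · have : mu L x = 0 := RingHom.mem_ker.1 hx
      simp [P, this]
  exact Submodule.FG.of_restrictScalars L (hr ▸ Module.Finite.iff_fg.1 inferInstance)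

theorem exists_factor [Module.Projective A C] [Algebra.FormallyUnramified A L] (h : C)
    [IsLocalization.Away h L] (J : Ideal C) :
    ∃ J' : Ideal L, (FlatCA.fittingZero A (C ⧸ J)).map (algebraMap A L) = J.map (algebraMap C L) * J' ∧
      (J.FG → (FlatCA.fittingZero A (C ⧸ J)).FG ∧ J'.FG) := by
  let S := L ⊗[A] C
  obtain ⟨e, he, hsp⟩ := (Ideal.isIdempotentElem_iff_of_fg _ (K_fg (A := A) (C := C) L)).1
    (le_antisymm Ideal.mul_le_left ((K_le_sq L h).trans (pow_two (K (A := A) (C := C) L)).le))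
  let Jm : Ideal S := J.map (Algebra.TensorProduct.includeRight (A := L) (R := A))
  let I₁ : Ideal S := Jm ⊔ K (A := A) (C := C) L
  let I₂ : Ideal S := Jm ⊔ Ideal.span {1 - e}
  have hcop : IsCoprime I₁ I₂ := by
    rw [Ideal.isCoprime_iff_sup_eq, Ideal.eq_top_iff_one]
    exact Submodule.mem_sup.2 ⟨e, Submodule.mem_sup_right (hsp ▸ Submodule.mem_span_singleton_self e), 1 - e,
      Submodule.mem_sup_right (Submodule.mem_span_singleton_self _), by ring⟩
  have hinf : I₁ ⊓ I₂ = Jm := by
    refine le_antisymm ?_ (le_inf le_sup_left le_sup_left)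
    rw [← Ideal.mul_eq_inf_of_coprime hcop.sup_eq]
    simp only [I₁, I₂, Ideal.sup_mul, Ideal.mul_sup]
    refine sup_le (sup_le Ideal.mul_le_left Ideal.mul_le_right) (sup_le Ideal.mul_le_left ?_)
    rw [show K (A := A) (C := C) L = Ideal.span {e} from hsp, Ideal.span_singleton_mul_span_singleton,
      show e * (1 - e) = 0 by rw [mul_sub, mul_one, he.eq, sub_self], Ideal.span_singleton_eq_bot.2 rfl]
    exact bot_le
  let crt : (S ⧸ Jm) ≃ₐ[L] (S ⧸ I₁) × (S ⧸ I₂) :=
    (Ideal.quotientEquivAlgOfEq L hinf.symm).trans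
      (AlgEquiv.ofRingEquiv (f := Ideal.quotientInfEquivQuotientProd I₁ I₂ hcop) (fun x => rfl))
  let JL : Ideal L := J.map (algebraMap C L)
  let φ : S →ₐ[L] L ⧸ JL := (Ideal.Quotient.mkₐ L JL).comp (mu L)
  have hφker : RingHom.ker φ = I₁ := by
    have hmap : Jm.map (mu (A := A) (C := C) L) = JL := by
      refine (Ideal.map_map _ _).trans (congrArg (fun f => Ideal.map f J) (RingHom.ext fun c => ?_))
      change mu L ((1 : L) ⊗ₜ[A] c) = algebraMap C L c
      rw [Algebra.TensorProduct.lift_tmul]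
      simp
    rw [show RingHom.ker φ = JL.comap (mu L) from Ideal.ext fun x => by
        rw [RingHom.mem_ker, Ideal.mem_comap]; exact Ideal.Quotient.eq_zero_iff_mem,
      ← hmap, Ideal.comap_map_of_surjective _ (mu_surjective L)]
    rfl
  let e₁ : (S ⧸ I₁) ≃ₐ[L] L ⧸ JL := (Ideal.quotientEquivAlgOfEq L hφker.symm).trans
    (Ideal.quotientKerAlgEquivOfSurjective (f := φ)
      ((Ideal.Quotient.mkₐ_surjective L JL).comp (mu_surjective L)))
  let total : (L ⊗[A] (C ⧸ J)) ≃ₗ[L] (L ⧸ JL) × (S ⧸ I₂) :=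
    ((Algebra.TensorProduct.tensorQuotientEquiv (R := A) L C L J).toLinearEquiv.trans crt.toLinearEquiv).trans
      (e₁.toLinearEquiv.prodCongr (LinearEquiv.refl L _))
  haveI : Module.Finite L (S ⧸ I₂) := Module.Finite.of_surjective (Ideal.Quotient.mkₐ L I₂).toLinearMap
    (Ideal.Quotient.mkₐ_surjective L I₂)
  refine ⟨Fitt.ideal L (S ⧸ I₂) 0, ?_, fun hJ => ⟨?_, ?_⟩⟩
  · rw [fittingZero_eq, ← FittLib.ideal_baseChange, FittLib.ideal_congr total, FittLib.ideal_prod]
    simp [FittLib.ideal_quotient, JL]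
  · rw [fittingZero_eq]
    haveI : Module.FinitePresentation A C := Module.finitePresentation_of_projective A C
    haveI : Module.FinitePresentation A (C ⧸ J) :=
      Module.finitePresentation_of_surjective (Ideal.Quotient.mkₐ A J).toLinearMap (Ideal.Quotient.mkₐ_surjective A J) (by
        rw [show LinearMap.ker (Ideal.Quotient.mkₐ A J).toLinearMap = J.restrictScalars A from
          Submodule.ext fun x => Ideal.Quotient.eq_zero_iff_mem]
        exact Submodule.FG.restrictScalars_iff.2 hJ)
    exact FittLib.ideal_fg 0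
  · haveI : Module.FinitePresentation L S := Module.finitePresentation_of_projective L S
    haveI : Module.FinitePresentation L (S ⧸ I₂) :=
      Module.finitePresentation_of_surjective (Ideal.Quotient.mkₐ L I₂).toLinearMap (Ideal.Quotient.mkₐ_surjective L I₂) (by
        rw [show LinearMap.ker (Ideal.Quotient.mkₐ L I₂).toLinearMap = I₂.restrictScalars L from
          Submodule.ext fun x => Ideal.Quotient.eq_zero_iff_mem]
        exact Submodule.FG.restrictScalars_iff.2 (Submodule.FG.sup (hJ.map _) (Submodule.fg_span_singleton _)))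
    exact FittLib.ideal_fg 0

end Groth.Agent.CohDer1.FittFactor
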