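import Groth.Agent.CohDer1.FittFactor
import Mathlib.RingTheory.Unramified.LocalStructure
import Mathlib.RingTheory.Etale.Basic

/-!
# Invertible-up-to-a-factor ideals descend along étale maps
-/

universe u

namespace Groth.Agent.CohDer1.FittFactor

open Polynomial

theorem exists_ideal_mul_eq {A B : Type u} [CommRing A] [CommRing B] [Algebra A B] [Algebra.Etale A B]
    (a : A) (J : Ideal B) (hJ : J.FG) (hJa : algebraMap A B a ∈ J.radical) (q : Ideal B) [q.IsPrime] :
    ∃ (I : Ideal A) (g : B) (J' : Ideal (Localization.Away g)), I.FG ∧ a ∈ I.radical ∧ g ∉ q ∧ J'.FG ∧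
      I.map (algebraMap A (Localization.Away g)) = J.map (algebraMap B (Localization.Away g)) * J' := by
  classical
  obtain ⟨g, hg, hstd⟩ := Algebra.IsEtaleAt.exists_isStandardEtale (R := A) (Q := q)
  let L := Localization.Away g
  obtain ⟨pres⟩ := (inferInstance : Nonempty (StandardEtalePresentation A L))
  let P := pres.P
  let C := AdjoinRoot P.f
  let e : Localization.Away (AdjoinRoot.mk P.f P.g) ≃ₐ[A] L := P.equivAwayAdjoinRoot.symm.trans pres.equivRing.symm
  letI : Algebra C L := (e.toAlgHom.comp (IsScalarTower.toAlgHom A C _)).toRingHom.toAlgebra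
  haveI : IsScalarTower A C L := IsScalarTower.of_algebraMap_eq fun x =>
    ((e.toAlgHom.comp (IsScalarTower.toAlgHom A C _)).commutes x).symm
  let eC : Localization.Away (AdjoinRoot.mk P.f P.g) ≃ₐ[C] L :=
    AlgEquiv.ofRingEquiv (f := e.toRingEquiv) fun _ => rfl
  haveI : IsLocalization.Away (AdjoinRoot.mk P.f P.g) L :=
    IsLocalization.isLocalization_of_algEquiv _ eC
  haveI : Module.Finite A C := P.monic_f.finite_adjoinRoot
  haveI : Module.Free A C := P.monic_f.free_adjoinRoot
  obtain ⟨N, hN⟩ := hJa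
  let JL : Ideal L := J.map (algebraMap B L)
  obtain ⟨s, hs⟩ := hJ.map (algebraMap B L)
  let lift : L → C := fun x => (IsLocalization.surj (M := Submonoid.powers (AdjoinRoot.mk P.f P.g)) x).choose.1
  have hlift : ∀ x : L, ∃ w : L, IsUnit w ∧ algebraMap C L (lift x) = x * w := fun x =>
    ⟨_, IsLocalization.map_units L (IsLocalization.surj (M := Submonoid.powers (AdjoinRoot.mk P.f P.g)) x).choose.2,
      (IsLocalization.surj (M := Submonoid.powers (AdjoinRoot.mk P.f P.g)) x).choose_spec.symm⟩
  let JC : Ideal C := Ideal.span (↑(insert (algebraMap A C a ^ N) (s.image lift)) : Set C)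
  have hmap : JC.map (algebraMap C L) = JL := by
    refine le_antisymm (Ideal.map_le_iff_le_comap.2 (Ideal.span_le.2 ?_)) ?_
    · intro y hy
      rw [Finset.coe_insert, Finset.coe_image, Set.mem_insert_iff, Set.mem_image] at hy
      rcases hy with rfl | ⟨x, hx, rfl⟩
      · change algebraMap C L (algebraMap A C a ^ N) ∈ JL
        rw [map_pow, ← IsScalarTower.algebraMap_apply, IsScalarTower.algebraMap_apply A B L, ← map_pow]
        exact Ideal.mem_map_of_mem _ hN
      · obtain ⟨w, hw, hxw⟩ := hlift x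
        change algebraMap C L (lift x) ∈ JL
        rw [hxw]
        refine JL.mul_mem_right _ ?_
        change x ∈ J.map (algebraMap B L)
        rw [← hs]
        exact Ideal.subset_span hx
    · change J.map (algebraMap B L) ≤ _
      rw [← hs, Ideal.span_le]
      intro x hx
      obtain ⟨w, hw, hxw⟩ := hlift x
      refine (Ideal.mul_unit_mem_iff_mem _ hw).1 ?_
      rw [← hxw]
      exact Ideal.mem_map_of_mem _ (Ideal.subset_span (by
        rw [Finset.coe_insert, Finset.coe_image]; exact Set.mem_insert_of_mem _ ⟨x, hx, rfl⟩))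
  haveI : Algebra.Etale A L := inferInstance
  obtain ⟨J', hJ', hfg⟩ := exists_factor (A := A) (C := C) L (AdjoinRoot.mk P.f P.g) JC
  obtain ⟨hI, hJ'fg⟩ := hfg ⟨_, rfl⟩
  refine ⟨_, g, J', hI, ?_, hg, hJ'fg, ?_⟩
  · obtain ⟨n, x, hx⟩ := FittLib.exists_generators A (C ⧸ JC)
    refine ⟨N * n, ?_⟩
    rw [fittingZero_eq, pow_mul]
    refine FittLib.pow_mem_ideal_zero x hx fun m => ?_
    obtain ⟨c, rfl⟩ := Ideal.Quotient.mk_surjective m
    rw [Algebra.smul_def, IsScalarTower.algebraMap_apply A C (C ⧸ JC)]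
    change Ideal.Quotient.mk JC _ * Ideal.Quotient.mk JC c = 0
    rw [← map_mul, Ideal.Quotient.eq_zero_iff_mem]
    refine JC.mul_mem_right _ ?_
    rw [map_pow]
    exact Ideal.subset_span (by rw [Finset.coe_insert]; exact Set.mem_insert _ _)
  · rw [hJ', hmap]

end Groth.Agent.CohDer1.FittFactor
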