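import Groth.Agent.CAlgH3.FlatDepth
import Groth.Agent.NeronLib.FlatDense
import Groth.Agent.ParaF29.Basic
import Groth.Agent.Rat20Lib.Hartogs

/-!
# Restriction of sections of invertible modules to preimages of dense and big opens
-/

set_option autoImplicit false
set_option backward.isDefEq.respectTransparency.types false

universe u

open CategoryTheory AlgebraicGeometry TopologicalSpace Opposite
open Groth.Agent.Coherent Groth.Agent.PicLib

namespace Groth.Agent.CohDer1.FlatRestrict

variable {X : Scheme.{u}}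

theorem injective_resM {U : X.Opens} (h : CInt.IsSchematicallyDense U) {L : X.Modules}
    (hL : PicF.IsInvertible L) (V : X.Opens) :
    Function.Injective (resM L (inf_le_left : V ⊓ U ≤ V)) := by
  obtain ⟨N, s, hN, hs⟩ := exists_cover hL
  intro a b hab
  refine TopCat.Sheaf.eq_of_locally_eq' (⟨L.presheaf, L.isSheaf⟩ : TopCat.Sheaf Ab X)
    (fun y => V ⊓ N y) V (fun y => homOfLE inf_le_left)
    (fun z hz => Opens.mem_iSup.mpr ⟨z, hz, hN z⟩) a b fun y => ?_
  show resM L (inf_le_left : V ⊓ N y ≤ V) a = resM L inf_le_left b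
  have hab' : resM L (inf_le_left : (V ⊓ N y) ⊓ U ≤ V ⊓ N y) (resM L (inf_le_left : V ⊓ N y ≤ V) a) =
      resM L inf_le_left (resM L inf_le_left b) := by
    rw [resM_resM, resM_resM, ← resM_resM L inf_le_left (inf_le_inf_right U inf_le_left) a, hab, resM_resM]
  rw [← (hs y).coef_spec inf_le_right (resM L (inf_le_left : V ⊓ N y ≤ V) a),
    ← (hs y).coef_spec inf_le_right (resM L (inf_le_left : V ⊓ N y ≤ V) b)]
  congr 1
  refine h (V ⊓ N y) ?_
  show res (inf_le_left : (V ⊓ N y) ⊓ U ≤ V ⊓ N y) _ = res inf_le_left _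
  rw [← (hs y).coef_res inf_le_right inf_le_left, ← (hs y).coef_res inf_le_right inf_le_left, hab']

theorem two_le_depth_of_flat {S A : Scheme.{u}} [IsLocallyNoetherian S] [IsLocallyNoetherian A] (f : A ⟶ S)
    [Flat f] (a : A) (h : 2 ≤ LocCoh.depth (S.presheaf.stalk (f a)) (S.presheaf.stalk (f a))) :
    2 ≤ LocCoh.depth (A.presheaf.stalk a) (A.presheaf.stalk a) := by
  have hfl := Flat.stalkMap f a
  algebraize [(f.stalkMap a).hom]
  haveI : Module.Flat (S.presheaf.stalk (f a)) (A.presheaf.stalk a) := hfl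
  haveI : IsLocalHom (algebraMap (S.presheaf.stalk (f a)) (A.presheaf.stalk a)) :=
    inferInstanceAs (IsLocalHom (f.stalkMap a).hom)
  exact h.trans (le_self_add.trans CAlgH3.depth_add_depth_fibre_le_self)

end Groth.Agent.CohDer1.FlatRestrict
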