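import Mathlib.Algebra.Category.ModuleCat.Basic
import Mathlib.Algebra.Module.FinitePresentation
import Mathlib.CategoryTheory.Limits.Preserves.Finite
import Mathlib.CategoryTheory.Limits.Shapes.BinaryBiproducts
import Mathlib.CategoryTheory.Limits.Shapes.Biproducts
import Mathlib.CategoryTheory.Limits.Shapes.Kernels
import Mathlib.CategoryTheory.Preadditive.Biproducts
import Mathlib.LinearAlgebra.StdBasis

/-!
# Right exact functors on finitely presented modules with prescribed value
-/

set_option autoImplicit false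

open CategoryTheory CategoryTheory.Limits

universe u u' v' w

namespace Groth.Agent.CohDer1.FpRightExact

variable {A : Type u} [CommRing A]

/-- The category of finitely presented modules. -/
abbrev Fp (A : Type u) [CommRing A] :=
  ObjectProperty.FullSubcategory (fun M : ModuleCat.{u} A => Module.FinitePresentation A M)

lemma hom_ext' {M N : Fp A} {f g : M ⟶ N} (h : ∀ x, f.hom.hom x = g.hom.hom x) : f = g :=
  ObjectProperty.hom_ext _ (ModuleCat.hom_ext (LinearMap.ext h))

lemma lsum_single {ι : Type} [Fintype ι] [DecidableEq ι] {φ : ι → Type u} [∀ i, AddCommGroup (φ i)]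
    [∀ i, Module A (φ i)] {W : Type w} [AddCommGroup W] [Module A W] (f : ∀ i, φ i →ₗ[A] W) (i : ι) (x : φ i) :
    LinearMap.lsum A φ A f (Pi.single i x) = f i x :=
  LinearMap.lsum_piSingle A φ A f i x

/-- A colimit cocone of finitely presented modules is universal for all modules. -/
lemma existsUnique_desc {J : Type} [SmallCategory J] [FinCategory J] {D : J ⥤ Fp A} {c : Cocone D}
    (hc : IsColimit c) {W : Type w} [AddCommGroup W] [Module A W] (g : ∀ j, (D.obj j).obj →ₗ[A] W)
    (hg : ∀ {i j} (f : i ⟶ j) (x : (D.obj i).obj), g j ((D.map f).hom.hom x) = g i x) :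
    ∃! h : c.pt.obj →ₗ[A] W, ∀ j, h.comp (c.ι.app j).hom.hom = g j := by
  classical
  haveI : ∀ j, Module.FinitePresentation A (D.obj j).obj := fun j => (D.obj j).property
  let N := ∀ j, (D.obj j).obj
  let rel : (Σ p : J × J, p.1 ⟶ p.2) → Submodule A N := fun q => LinearMap.range
    ((LinearMap.single A (fun j => ((D.obj j).obj : Type u)) q.1.2).comp (D.map q.2).hom.hom -
      LinearMap.single A (fun j => ((D.obj j).obj : Type u)) q.1.1)
  let R : Submodule A N := ⨆ q, rel q
  have hR : R.FG := Submodule.fg_iSup _ fun q => Module.Finite.iff_fg.1 (Module.Finite.range _)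
  haveI : Module.FinitePresentation A (N ⧸ R) :=
    Module.finitePresentation_of_surjective R.mkQ R.mkQ_surjective (by rwa [Submodule.ker_mkQ])
  let Q : Fp A := ⟨ModuleCat.of A (N ⧸ R), inferInstanceAs (Module.FinitePresentation A (N ⧸ R))⟩
  let q : ∀ j, D.obj j ⟶ Q := fun j =>
    ObjectProperty.homMk (ModuleCat.ofHom (R.mkQ.comp (LinearMap.single A (fun j => ((D.obj j).obj : Type u)) j)))
  let s : Cocone D :=
    { pt := Q
      ι := { app := q
             naturality := fun i j f => hom_ext' fun x => (Submodule.Quotient.eq R).2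
              (le_iSup rel ⟨(i, j), f⟩ ⟨x, rfl⟩) } }
  have hs : ∀ j x, (hc.desc s).hom.hom ((c.ι.app j).hom.hom x) = R.mkQ (LinearMap.single A _ j x) :=
    fun j x => congrArg (fun φ : D.obj j ⟶ Q => φ.hom.hom x) (hc.fac s j)
  let ι' : ∀ j, (D.obj j).obj →ₗ[A] c.pt.obj := fun j => (c.ι.app j).hom.hom
  let v : (N ⧸ R) →ₗ[A] c.pt.obj := R.liftQ (LinearMap.lsum A (fun j => ((D.obj j).obj : Type u)) A ι') (iSup_le fun p => by
      rintro _ ⟨x, rfl⟩
      simp only [LinearMap.mem_ker, LinearMap.sub_apply, map_sub, LinearMap.comp_apply, LinearMap.coe_single,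
        sub_eq_zero]
      exact (lsum_single (φ := fun j => ((D.obj j).obj : Type u)) ι' _ _).trans
        ((congrArg (fun φ : D.obj p.1.1 ⟶ c.pt => φ.hom.hom x) (c.w p.2)).trans
          (lsum_single (φ := fun j => ((D.obj j).obj : Type u)) ι' _ _).symm))
  have hv : hc.desc s ≫ ObjectProperty.homMk (ModuleCat.ofHom v) = 𝟙 c.pt := hc.hom_ext fun j => hom_ext' fun x => by
    change v ((hc.desc s).hom.hom ((c.ι.app j).hom.hom x)) = (c.ι.app j).hom.hom x
    rw [hs]
    exact lsum_single (φ := fun j => ((D.obj j).obj : Type u)) ι' j x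
  let G : (N ⧸ R) →ₗ[A] W := R.liftQ (LinearMap.lsum A (fun j => ((D.obj j).obj : Type u)) A g) (iSup_le fun p => by
      rintro _ ⟨x, rfl⟩
      simp only [LinearMap.mem_ker, LinearMap.sub_apply, map_sub, LinearMap.comp_apply, LinearMap.coe_single,
        sub_eq_zero]
      exact (lsum_single (φ := fun j => ((D.obj j).obj : Type u)) g _ _).trans ((hg p.2 x).trans (lsum_single (φ := fun j => ((D.obj j).obj : Type u)) g _ _).symm))
  refine ⟨G.comp (hc.desc s).hom.hom, fun j => LinearMap.ext fun x => ?_, fun h hh => LinearMap.ext fun z => ?_⟩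
  · change G ((hc.desc s).hom.hom ((c.ι.app j).hom.hom x)) = g j x
    rw [hs]
    exact lsum_single (φ := fun j => ((D.obj j).obj : Type u)) g j x
  · have hG : h.comp v = G := Submodule.linearMap_qext _ (LinearMap.pi_ext' fun j => LinearMap.ext fun x => by
      change h (LinearMap.lsum A (fun j => ((D.obj j).obj : Type u)) A ι'
        (Pi.single j x)) = LinearMap.lsum A (fun j => ((D.obj j).obj : Type u)) A g (Pi.single j x)
      refine (congrArg h (lsum_single (φ := fun j => ((D.obj j).obj : Type u)) ι' j x)).trans ?_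
      refine Eq.trans ?_ (lsum_single (φ := fun j => ((D.obj j).obj : Type u)) g j x).symm
      rw [← hh j]
      rfl)
    change h z = G ((hc.desc s).hom.hom z)
    rw [← hG]
    exact congrArg h (congrArg (fun φ : c.pt ⟶ c.pt => φ.hom.hom z) hv).symm

variable {B : Type u'} [Category.{v'} B] [Preadditive B] (K : B) (κ : A →+* End K)

/-- `Hom(K, X)`, an `A`-module through `κ`. -/
def HomK (_κ : A →+* End K) (X : B) : Type v' := K ⟶ X

instance (X : B) : AddCommGroup (HomK K κ X) := inferInstanceAs (AddCommGroup (K ⟶ X))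

instance (X : B) : Module A (HomK K κ X) where
  smul a f := (κ a : K ⟶ K) ≫ f
  one_smul f := by
    change (κ 1 : K ⟶ K) ≫ f = f
    rw [map_one]
    exact Category.id_comp f
  mul_smul a b f := by
    change (κ (a * b) : K ⟶ K) ≫ f = κ a ≫ κ b ≫ f
    rw [mul_comm, map_mul, End.mul_def, Category.assoc]
  smul_zero a := Limits.comp_zero
  zero_smul f := by
    change (κ 0 : K ⟶ K) ≫ f = (0 : K ⟶ _)
    rw [map_zero]
    exact Limits.zero_comp
  smul_add a f g := Preadditive.comp_add _ _ _ _ f g
  add_smul a b f := by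
    change (κ (a + b) : K ⟶ K) ≫ f = κ a ≫ f + κ b ≫ f
    rw [map_add]
    exact Preadditive.add_comp _ _ _ (κ a) (κ b) f

variable {K κ}

lemma smul_def (a : A) {X : B} (f : HomK K κ X) : a • f = (κ a : K ⟶ K) ≫ f := rfl

/-- Postcomposition. -/
def post {X Y : B} (u : X ⟶ Y) : HomK K κ X →ₗ[A] HomK K κ Y where
  toFun f := (f : K ⟶ X) ≫ u
  map_add' f g := Preadditive.add_comp _ _ _ f g u
  map_smul' a f := Category.assoc _ _ _

variable (K κ)

/-- A universal object receiving a linear map from `M`. -/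
def IsUniv {M : Type u} [AddCommGroup M] [Module A M] {E : B} (η : M →ₗ[A] HomK K κ E) : Prop :=
  ∀ (X : B) (g : M →ₗ[A] HomK K κ X), ∃! v : E ⟶ X, (post v).comp η = g

lemma exists_isUniv [HasFiniteBiproducts B] [HasCokernels B] (M : Type u) [AddCommGroup M] [Module A M]
    [Module.FinitePresentation A M] : ∃ (E : B) (η : M →ₗ[A] HomK K κ E), IsUniv K κ η := by
  classical
  obtain ⟨n, R, e, hR⟩ := Module.FinitePresentation.exists_fin A M
  obtain ⟨m, r, hr⟩ := Submodule.fg_iff_exists_fin_generating_family.1 hR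
  let φ : (⨁ fun _ : Fin m => K) ⟶ ⨁ fun _ : Fin n => K := biproduct.matrix fun i j => (κ (r i j) : K ⟶ K)
  let π := cokernel.π φ
  let f : (Fin n → A) →ₗ[A] HomK K κ (cokernel φ) :=
    Fintype.linearCombination A fun j => show HomK K κ (cokernel φ) from biproduct.ι (fun _ : Fin n => K) j ≫ π
  have hmat : ∀ (X : B) (i : Fin m) (v : ∀ _ : Fin n, K ⟶ X),
      biproduct.ι (fun _ : Fin m => K) i ≫ φ ≫ biproduct.desc v =
        Fintype.linearCombination A (fun j => show HomK K κ X from v j) (r i) := by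
    intro X i v
    rw [Fintype.linearCombination_apply, biproduct.ι_matrix_assoc, biproduct.lift_desc]
    rfl
  have hf : ∀ x ∈ R, f x = 0 := by
    rw [← hr]
    refine fun x hx => LinearMap.mem_ker.1 ((Submodule.span_le (p := LinearMap.ker f)).2 ?_ hx)
    rintro _ ⟨i, rfl⟩
    rw [SetLike.mem_coe, LinearMap.mem_ker]
    refine (hmat _ i fun j => biproduct.ι (fun _ : Fin n => K) j ≫ π).symm.trans ?_
    rw [show biproduct.desc (fun j => biproduct.ι (fun _ : Fin n => K) j ≫ π) = π from
      biproduct.hom_ext' _ _ fun j => biproduct.ι_desc _ _, cokernel.condition, Limits.comp_zero]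
    rfl
  refine ⟨cokernel φ, (R.liftQ f fun x hx => LinearMap.mem_ker.2 (hf x hx)).comp e.toLinearMap, fun X g => ?_⟩
  let g₀ : (Fin n → A) →ₗ[A] HomK K κ X := (g.comp e.symm.toLinearMap).comp R.mkQ
  let v : ∀ _ : Fin n, K ⟶ X := fun j => g₀ (Pi.single j 1)
  have hg₀ : g₀ = Fintype.linearCombination A (fun j => show HomK K κ X from v j) := LinearMap.pi_ext fun j a => by
    rw [Fintype.linearCombination_apply_single, ← map_smul, ← Pi.single_smul, smul_eq_mul, mul_one]
  have hcond : φ ≫ biproduct.desc v = 0 := biproduct.hom_ext' _ _ fun i => by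
    rw [hmat, Limits.comp_zero, ← hg₀]
    have : R.mkQ (r i) = 0 := (Submodule.Quotient.mk_eq_zero R).2 (by rw [← hr]; exact Submodule.subset_span ⟨i, rfl⟩)
    change g (e.symm (R.mkQ (r i))) = _
    rw [this, map_zero, map_zero]
    rfl
  have key : ∀ (w : cokernel φ ⟶ X), (∀ j, biproduct.ι (fun _ : Fin n => K) j ≫ π ≫ w = v j) ↔
      (post w).comp ((R.liftQ f fun x hx => LinearMap.mem_ker.2 (hf x hx)).comp e.toLinearMap) = g := by
    intro w
    constructor
    · intro h
      have h2 : (post w).comp f = g₀ := LinearMap.pi_ext fun j a => by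
        rw [hg₀, LinearMap.comp_apply, Fintype.linearCombination_apply_single,
          Fintype.linearCombination_apply_single, map_smul]
        congr 1
        exact (Category.assoc _ _ _).trans (h j)
      refine LinearMap.ext fun x => ?_
      obtain ⟨y, hy⟩ := R.mkQ_surjective (e x)
      change post w (R.liftQ f (fun x hx => LinearMap.mem_ker.2 (hf x hx)) (e x)) = g x
      rw [← hy, ← e.symm_apply_apply x, ← hy]
      exact LinearMap.congr_fun h2 y
    · intro h j
      have h2 := LinearMap.congr_fun h (e.symm (R.mkQ (Pi.single j 1)))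
      change post w (R.liftQ f (fun x hx => LinearMap.mem_ker.2 (hf x hx)) (e (e.symm _))) = _ at h2
      rw [e.apply_symm_apply, Submodule.mkQ_apply, Submodule.liftQ_apply, Fintype.linearCombination_apply_single,
        one_smul] at h2
      exact (Category.assoc _ _ _).symm.trans h2
  refine ⟨cokernel.desc φ (biproduct.desc v) hcond, (key _).1 fun j => by rw [cokernel.π_desc, biproduct.ι_desc],
    fun w hw => coequalizer.hom_ext (biproduct.hom_ext' _ _ fun j => ?_)⟩
  rw [(key w).2 hw j, cokernel.π_desc, biproduct.ι_desc]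

theorem exists_functor [HasFiniteBiproducts B] [HasCokernels B] :
    ∃ (F : Fp A ⥤ B) (_ : PreservesFiniteColimits F)
      (e : F.obj (⟨ModuleCat.of A A, inferInstanceAs (Module.FinitePresentation A A)⟩ : Fp A) ≅ K),
      ∀ a : A, F.map (ObjectProperty.homMk (ModuleCat.ofHom (LinearMap.lsmul A A a))) ≫ e.hom = e.hom ≫ κ a := by
  have h : ∀ M : Fp A, ∃ (E : B) (η : M.obj →ₗ[A] HomK K κ E), IsUniv K κ η := fun M =>
    haveI := M.property
    exists_isUniv K κ M.obj
  choose E η hη using h
  have hext : ∀ {M : Fp A} {X : B} {v w : E M ⟶ X}, (post v).comp (η M) = (post w).comp (η M) → v = w :=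
    fun {M X v w} h => ((hη M) X _).unique h rfl
  choose mp hmp _hu using fun (M : Fp A) (X : B) (g : M.obj →ₗ[A] HomK K κ X) => hη M X g
  let F : Fp A ⥤ B :=
    { obj := E
      map := fun {M N} f => mp M (E N) ((η N).comp f.hom.hom)
      map_id := fun M => hext ((hmp _ _ _).trans (LinearMap.ext fun x => (Category.comp_id _).symm))
      map_comp := fun {M N P} f g => hext ((hmp _ _ _).trans (LinearMap.ext fun x => by
        refine Eq.trans ?_ (Category.assoc (η M x : K ⟶ _) _ _)
        refine Eq.trans ?_ (congrArg (fun φ => (φ : K ⟶ E N) ≫ mp N (E P) ((η P).comp g.hom.hom))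
          (LinearMap.congr_fun (hmp M (E N) ((η N).comp f.hom.hom)) x).symm)
        exact (LinearMap.congr_fun (hmp N (E P) ((η P).comp g.hom.hom)) (f.hom.hom x)).symm)) }
  have hF : ∀ {M N : Fp A} (f : M ⟶ N) (x : M.obj), (η M x : K ⟶ E M) ≫ F.map f = η N (f.hom.hom x) :=
    fun {M N} f x => LinearMap.congr_fun (hmp M (E N) ((η N).comp f.hom.hom)) x
  have hpres : PreservesFiniteColimits F := by
    refine ⟨fun J _ _ => ⟨fun {D} => ⟨fun {c} hc => ⟨?_⟩⟩⟩⟩
    have hd : ∀ s : Cocone (D ⋙ F), ∃! v : E c.pt ⟶ s.pt, ∀ j, F.map (c.ι.app j) ≫ v = s.ι.app j := by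
      intro s
      obtain ⟨h, hh, hh'⟩ := existsUnique_desc hc (W := HomK K κ s.pt)
        (fun j => (post (Y := s.pt) (s.ι.app j)).comp (η (D.obj j))) fun {i j} f x => by
          change (η (D.obj j) _ : K ⟶ _) ≫ s.ι.app j = (η (D.obj i) x : K ⟶ _) ≫ s.ι.app i
          rw [← hF, Category.assoc]
          exact congrArg _ (s.w f)
      refine ⟨mp _ _ h, fun j => hext (LinearMap.ext fun x => ?_), fun v hv => hext ?_⟩
      · change (η (D.obj j) x : K ⟶ _) ≫ F.map (c.ι.app j) ≫ mp _ _ h = _
        rw [← Category.assoc, hF]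
        exact (LinearMap.congr_fun (hmp _ _ h) _).trans (LinearMap.congr_fun (hh j) x)
      · rw [hmp]
        refine hh' _ fun j => LinearMap.ext fun x => ?_
        change (η c.pt _ : K ⟶ _) ≫ v = _
        rw [← hF, Category.assoc]
        exact congrArg _ (hv j)
    exact
      { desc := fun s => (hd s).choose
        fac := fun s => (hd s).choose_spec.1
        uniq := fun s v hv => (hd s).choose_spec.2 v hv }
  let A₁ : Fp A := ⟨ModuleCat.of A A, inferInstanceAs (Module.FinitePresentation A A)⟩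
  let ρ : A₁.obj →ₗ[A] HomK K κ K := LinearMap.toSpanSingleton A (HomK K κ K) (𝟙 K : K ⟶ K)
  let e : F.obj A₁ ≅ K :=
    { hom := mp A₁ K ρ
      inv := η A₁ (1 : A)
      hom_inv_id := hext (M := A₁) (LinearMap.ext_ring (by
        change (η A₁ (1 : A) : K ⟶ _) ≫ mp A₁ K ρ ≫ (η A₁ (1 : A) : K ⟶ _) = (η A₁ (1 : A) : K ⟶ _) ≫ 𝟙 _
        rw [← Category.assoc, show (η A₁ (1 : A) : K ⟶ _) ≫ mp A₁ K ρ = ρ (1 : A) from
          LinearMap.congr_fun (hmp A₁ K ρ) (1 : A),
          show (ρ (1 : A) : K ⟶ K) = 𝟙 K from one_smul A _, Category.id_comp, Category.comp_id]))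
      inv_hom_id := (LinearMap.congr_fun (hmp A₁ K ρ) (1 : A)).trans (one_smul A _) }
  refine ⟨F, hpres, e, fun a => ?_⟩
  rw [← Iso.eq_comp_inv, Category.assoc, ← Iso.inv_comp_eq]
  refine (hF (M := A₁) (N := A₁) _ (1 : A)).trans ?_
  exact (η A₁).map_smul a (1 : A)

end Groth.Agent.CohDer1.FpRightExact
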