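import Groth.Agent.DimLib.Components
import Groth.Prelude.Def_CurvBase
import Mathlib.AlgebraicGeometry.AlgClosed.Basic
import Mathlib.AlgebraicGeometry.Morphisms.Proper
import Mathlib.CategoryTheory.Monoidal.Cartesian.Grp
import Mathlib.RingTheory.Ideal.Cotangent

/-!
# Group schemes with vanishing tangent space
-/

set_option autoImplicit false
set_option backward.isDefEq.respectTransparency.types false
set_option linter.style.haveILetI false

universe u

open CategoryTheory Limits AlgebraicGeometry MonoidalCategory CartesianMonoidalCategory MonObj GrpObj TopologicalSpace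

namespace Groth.Agent.CohDer1.GroupEtale

variable {k : Type u} [Field k]

/-- A closed point with field local ring on a Noetherian scheme is isolated. -/
theorem isOpen_singleton_of_isField {X : Scheme.{u}} [IsNoetherian X] (x : X) (hx : IsClosed ({x} : Set X))
    (hf : IsField (X.presheaf.stalk x)) : IsOpen ({x} : Set X) := by
  haveI : NoetherianSpace X := inferInstance
  have hgen : ∀ y : X, y ⤳ x → y = x := fun y hy => by
    have hy' : y ∈ Set.range (X.fromSpecStalk x) := by
      rw [Scheme.range_fromSpecStalk]; exact hy
    letI := hf.toField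
    obtain ⟨p, rfl⟩ := hy'
    have : p = IsLocalRing.closedPoint (X.presheaf.stalk x) :=
      Subsingleton.elim (α := PrimeSpectrum (X.presheaf.stalk x)) _ _
    rw [this, Scheme.fromSpecStalk_closedPoint]
  have hfin := NoetherianSpace.finite_irreducibleComponents (α := X)
  have heq : ({x} : Set X) = (⋃ C ∈ {C ∈ irreducibleComponents X | x ∉ C}, C)ᶜ := by
    refine Set.eq_of_subset_of_subset (fun y hy => ?_) fun y hy => ?_
    · rw [Set.mem_singleton_iff] at hy
      subst hy
      simp
    · obtain ⟨C, hC, hyC⟩ : ∃ C ∈ irreducibleComponents X, y ∈ C :=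
        ⟨irreducibleComponent y, irreducibleComponent_mem_irreducibleComponents y, mem_irreducibleComponent⟩
      have hxC : x ∈ C := by
        by_contra h
        exact hy (Set.mem_biUnion ⟨hC, h⟩ hyC)
      obtain ⟨z, hz⟩ := QuasiSober.sober hC.1 (isClosed_of_mem_irreducibleComponents C hC)
      obtain rfl := hgen z (hz.specializes hxC)
      rw [← hx.closure_eq]
      exact hz.specializes hyC |>.mem_closure
  rw [heq]
  exact (Set.Finite.isClosed_biUnion (hfin.subset (Set.sep_subset _ _))
    fun C hC => isClosed_of_mem_irreducibleComponents C hC.1).isOpen_compl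

theorem bijective_resMap [IsAlgClosed k] (X : Scheme.{u}) [X.Over (Spec (CommRingCat.of k))]
    [LocallyOfFiniteType (X ↘ Spec (CommRingCat.of k))] (x : X) (hx : IsClosed ({x} : Set X)) :
    Function.Bijective (Curv2.resMap k X x) := by
  let f := X ↘ Spec (CommRingCat.of k)
  have h : CommRingCat.ofHom (Curv2.resMap k X x) = (residueFieldIsoBase f x hx).inv := by
    apply Spec.map_injective
    rw [SpecMap_residueFieldIsoBase_inv]
    have e : X.fromSpecStalk x ≫ f = Spec.map (CommRingCat.ofHom (Curv2.stalkMap k X x)) := by
      have h1 : X.fromSpecStalk x ≫ f ≫ (Spec (CommRingCat.of k)).toSpecΓ =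
          Spec.map (f.appTop ≫ X.presheaf.germ ⊤ x trivial) := by
        rw [Scheme.toSpecΓ_naturality, Scheme.fromSpecStalk_toSpecΓ_assoc, ← Spec.map_comp]
      have h2 : CommRingCat.ofHom (Curv2.stalkMap k X x) =
          (Scheme.ΓSpecIso (CommRingCat.of k)).inv ≫ (f.appTop ≫ X.presheaf.germ ⊤ x trivial) := rfl
      rw [h2, Spec.map_comp, ← h1, Category.assoc, Category.assoc, toSpecΓ_SpecMap_ΓSpecIso_inv, Category.comp_id]
    rw [Scheme.fromSpecResidueField, Category.assoc, e, ← Spec.map_comp]
    rfl
  have := ConcreteCategory.bijective_of_isIso (residueFieldIsoBase f x hx).inv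
  rw [← h] at this
  exact this

/-- A point with field local ring and trivial residue extension has local ring `k`. -/
theorem bijective_stalkMap [IsAlgClosed k] (X : Scheme.{u}) [X.Over (Spec (CommRingCat.of k))]
    [LocallyOfFiniteType (X ↘ Spec (CommRingCat.of k))] (x : X) (hx : IsClosed ({x} : Set X))
    (hf : IsField (X.presheaf.stalk x)) : Function.Bijective (Curv2.stalkMap k X x) := by
  refine (Function.Bijective.of_comp_iff' (f := (X.residue x).hom) ?_ _).1 (bijective_resMap X x hx)
  letI := hf.toField
  exact ⟨(X.residue x).hom.injective, IsLocalRing.residue_surjective⟩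

/-- Over an algebraically closed field, a group scheme of finite type whose unit has a field as local ring is discrete. -/
theorem discrete_of_isField [IsAlgClosed k] (G : Over (Spec (CommRingCat.of k))) [GrpObj G]
    [LocallyOfFiniteType G.hom] [QuasiCompact G.hom] (e : G.left) (he : e ∈ Set.range (η[G]).left.base)
    (hf : IsField (G.left.presheaf.stalk e)) :
    Finite G.left ∧ DiscreteTopology G.left ∧
      ∀ x : G.left, IsClosed ({x} : Set G.left) ∧ IsField (G.left.presheaf.stalk x) := by
  haveI : IsLocallyNoetherian G.left := LocallyOfFiniteType.isLocallyNoetherian G.hom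
  haveI : CompactSpace G.left := QuasiCompact.compactSpace_of_compactSpace G.hom
  haveI : IsNoetherian G.left := {}
  obtain ⟨a, rfl⟩ := he
  haveI : LocallyOfFiniteType ((η[G]).left ≫ G.hom) := by
    rw [show (η[G]).left ≫ G.hom = 𝟙 _ from Over.w η[G]]
    infer_instance
  have hec : IsClosed ({(η[G]).left.base a} : Set G.left) :=
    by
    haveI : Subsingleton ↥(𝟙_ (Over (Spec (CommRingCat.of k)))).left :=
      inferInstanceAs (Subsingleton ↥(Spec (CommRingCat.of k)))
    exact DimLib.isClosed_singleton_image G.hom (η[G]).left (isClosed_discrete _)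
  have hclosed : ∀ x : G.left, IsClosed ({x} : Set G.left) →
      IsOpen ({x} : Set G.left) ∧ IsField (G.left.presheaf.stalk x) := by
    intro x hx
    let y : 𝟙_ (Over (Spec (CommRingCat.of k))) ⟶ G :=
      Over.homMk (pointOfClosedPoint G.hom x hx) (pointOfClosedPoint_comp G.hom x hx)
    let α : G ≅ G := GrpObj.mulRight y
    have h2 : η[G] ≫ α.hom = y := by
      simp [α, comp_lift_assoc]
      rw [← Category.id_comp (η[G] : 𝟙_ _ ⟶ G), lift_comp_one_left]
    have hpt : α.hom.left ((η[G]).left.base a) = x := by
      have h := congrArg (fun q : 𝟙_ (Over (Spec (CommRingCat.of k))) ⟶ G => q.left.base a) h2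
      exact h.trans (pointOfClosedPoint_apply G.hom x hx a)
    haveI : IsIso α.hom.left := inferInstanceAs (IsIso ((Over.forget _).map α.hom))
    constructor
    · rw [← hpt, show ({α.hom.left ((η[G]).left.base a)} : Set G.left) = α.hom.left '' {(η[G]).left.base a} from
        (Set.image_singleton).symm]
      exact α.hom.left.isOpenEmbedding.isOpenMap _ (isOpen_singleton_of_isField _ hec hf)
    · rw [← hpt]
      exact MulEquiv.isField hf (asIso (α.hom.left.stalkMap ((η[G]).left.base a))).commRingCatIsoToRingEquiv.toMulEquiv
  have hall : ∀ y : G.left, IsClosed ({y} : Set G.left) := fun y => by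
    obtain ⟨x, hxy, hx⟩ := DimLib.exists_isClosed_singleton_mem G.hom (S := closure {y})
      ⟨y, subset_closure rfl⟩ isClosed_closure.isLocallyClosed
    obtain rfl : y = x := (specializes_iff_mem_closure.2 hxy).mem_open (hclosed x hx).1 rfl
    exact hx
  haveI : DiscreteTopology G.left := discreteTopology_iff_isOpen_singleton.2 fun x => (hclosed x (hall x)).1
  exact ⟨finite_of_compact_of_discrete, inferInstance, fun x => ⟨hall x, (hclosed x (hall x)).2⟩⟩

end Groth.Agent.CohDer1.GroupEtale
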