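import Groth.Agent.CohDer1.ConormalRetract
import Groth.Agent.HopfLib.SchemeCartier
import Groth.Agent.Synt15.FieldScheme
import Groth.Agent.LCI15.Conormal
import Groth.Agent.CAlgH3.GrMinimal
import Groth.Agent.CAlgH.AvramovCI

/-!
# Group schemes over a field are local complete intersections

The shear isomorphism of local rings of `G × G` makes the conormal module of an affine chart a
projective module; by Vasconcelos' theorem the ideal is locally generated by a regular sequence.
-/

set_option autoImplicit false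

universe u

open CategoryTheory CategoryTheory.Limits AlgebraicGeometry MonoidalCategory CartesianMonoidalCategory MonObj
open TensorProduct

namespace Groth.Agent.CohDer1.GroupLCI

open HopfLib (specK specKMap specKMap_comp specKMap_injective)

noncomputable section

section Local

variable {K : Type u} [Field K] {R D : Type u} [CommRing R] [Algebra K R] [CommRing D] [Algebra K D]
  [IsLocalRing D]

/-- The prime of `R` under the closed point of `D`. -/
abbrev primeAt (δ : R →ₐ[K] D) : Ideal R := (IsLocalRing.maximalIdeal D).comap δ.toRingHom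

instance (δ : R →ₐ[K] D) : (primeAt δ).IsPrime := Ideal.comap_isPrime _ _

/-- The local map out of the localisation at that prime. -/
def locLift (δ : R →ₐ[K] D) : Localization.AtPrime (primeAt δ) →ₐ[K] D :=
  IsLocalization.liftAlgHom (M := (primeAt δ).primeCompl) (f := δ) fun y => by
    by_contra h
    exact y.2 ((IsLocalRing.mem_maximalIdeal _).2 h)

theorem locLift_algebraMap (δ : R →ₐ[K] D) (x : R) :
    locLift δ (algebraMap R _ x) = δ x :=
  IsLocalization.lift_eq _ x

theorem isUnit_of_locLift (δ : R →ₐ[K] D) (z : Localization.AtPrime (primeAt δ))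
    (h : IsUnit (locLift δ z)) : IsUnit z := by
  obtain ⟨a, s, rfl⟩ := IsLocalization.exists_mk'_eq (primeAt δ).primeCompl z
  rw [IsLocalization.AtPrime.isUnit_mk'_iff (Localization.AtPrime (primeAt δ)) (primeAt δ)]
  intro ha
  have h1 := h.mul (show IsUnit (δ s) from not_not.1 fun hu => s.2 ((IsLocalRing.mem_maximalIdeal _).2 hu))
  rw [← locLift_algebraMap δ (s : R), ← map_mul (locLift δ), IsLocalization.mk'_spec, locLift_algebraMap] at h1
  exact (IsLocalRing.mem_maximalIdeal _).1 ha h1

end Local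

variable {K : Type u} [Field K] {G : Over (Spec (CommRingCat.of K))}

theorem exists_chart (y : G.left) :
    ∃ (B : CommRingCat.{u}) (_ : Algebra K B) (j : specK (K := K) (B : Type u) ⟶ G),
      IsOpenImmersion j.left ∧ y ∈ Set.range j.left := by
  let R := G.left.affineCover.X (G.left.affineCover.idx y)
  obtain ⟨C, f, hf, hy⟩ : ∃ (C : CommRingCat.{u}) (f : Spec C ⟶ G.left),
      IsOpenImmersion f ∧ y ∈ Set.range f := by
    obtain ⟨C, f, hf, hy, -⟩ := Scheme.exists_affine_mem_range_and_range_subset (X := G.left) (x := y) (U := ⊤) trivial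
    exact ⟨C, f, hf, hy⟩
  obtain ⟨φ, hφ⟩ := Spec.map_surjective (f ≫ G.hom)
  letI : Algebra K C := RingHom.toAlgebra (show K →+* C from φ.hom)
  exact ⟨C, inferInstance, Over.homMk f (hφ.symm.trans rfl), hf, hy⟩

theorem exists_lift {B L : Type u} [CommRing B] [Algebra K B] [CommRing L] [Algebra K L]
    (j : specK (K := K) B ⟶ G) [IsOpenImmersion j.left] (mu : specK (K := K) L ⟶ G)
    (h : Set.range mu.left ⊆ Set.range j.left) :
    ∃ φ : B →ₐ[K] L, specKMap φ ≫ j = mu := by
  let l := IsOpenImmersion.lift j.left mu.left h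
  have hl : l ≫ j.left = mu.left := IsOpenImmersion.lift_fac _ _ _
  let φ0 : B →+* L := (Spec.preimage l).hom
  have hφ0 : Spec.map (CommRingCat.ofHom φ0) = l := Spec.map_preimage l
  refine ⟨{ φ0 with commutes' := fun r => ?_ }, Over.OverMorphism.ext (by
    show Spec.map (CommRingCat.ofHom φ0) ≫ j.left = _
    rw [hφ0, hl])⟩
  have h : l ≫ Spec.map (CommRingCat.ofHom (algebraMap K B)) = Spec.map (CommRingCat.ofHom (algebraMap K L)) := by
    have hj : j.left ≫ G.hom = Spec.map (CommRingCat.ofHom (algebraMap K B)) := Over.w j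
    rw [← hj, ← Category.assoc, hl]
    exact Over.w mu
  rw [← hφ0, ← Spec.map_comp, ← CommRingCat.ofHom_comp] at h
  exact RingHom.congr_fun (congrArg CommRingCat.Hom.hom (Spec.map_injective h)) r

/-- A point of a local ring lands in a chart if its restriction along a local map does. -/
theorem exists_lift_of_local {B L D : Type u} [CommRing B] [Algebra K B] [CommRing L] [Algebra K L]
    [IsLocalRing L] [CommRing D] [Algebra K D] [IsLocalRing D]
    (j : specK (K := K) B ⟶ G) [IsOpenImmersion j.left] (mu : specK (K := K) L ⟶ G)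
    (ρ : L →ₐ[K] D) (hρ : ∀ z, IsUnit (ρ z) → IsUnit z) (g : B →ₐ[K] D)
    (h : specKMap ρ ≫ mu = specKMap g ≫ j) :
    ∃ φ : B →ₐ[K] L, specKMap φ ≫ j = mu ∧ ρ.comp φ = g := by
  have hcl : mu.left (IsLocalRing.closedPoint L) ∈ Set.range j.left := by
    have hc : (specKMap ρ).left (IsLocalRing.closedPoint D) = IsLocalRing.closedPoint L := by
      refine PrimeSpectrum.ext (Ideal.ext fun z => ?_)
      show ρ z ∈ IsLocalRing.maximalIdeal D ↔ z ∈ IsLocalRing.maximalIdeal L
      rw [IsLocalRing.mem_maximalIdeal, IsLocalRing.mem_maximalIdeal]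
      exact ⟨fun hz hu => hz (hu.map ρ), fun hz hu => hz (hρ z hu)⟩
    refine ⟨(specKMap g).left (IsLocalRing.closedPoint D), ?_⟩
    rw [← Scheme.Hom.comp_apply, ← hc]
    exact (congrArg (fun f : specK (K := K) D ⟶ G => f.left (IsLocalRing.closedPoint D)) h).symm
  have hrange : Set.range mu.left ⊆ Set.range j.left := by
    rintro _ ⟨y, rfl⟩
    exact j.left.isOpenEmbedding.isOpen_range.stableUnderGeneralization
      ((IsLocalRing.specializes_closedPoint y).map mu.left.continuous) hcl
  obtain ⟨φ, hφ⟩ := exists_lift j mu hrange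
  refine ⟨φ, hφ, specKMap_injective ?_⟩
  have : Mono j := Over.mono_of_mono_left j
  rw [← cancel_mono j, specKMap_comp, Category.assoc, hφ, h]

variable [GrpObj G]

theorem exists_identity_chart :
    ∃ (B : CommRingCat.{u}) (_ : Algebra K B) (j : specK (K := K) (B : Type u) ⟶ G)
      (_ : IsOpenImmersion j.left) (ε : (B : Type u) →ₐ[K] K),
      specKMap ε ≫ j = 1 := by
  let e : specK (K := K) K ⟶ G := 1
  obtain ⟨B, i, j, hj, hy⟩ := exists_chart (G := G) (e.left (IsLocalRing.closedPoint K))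
  refine ⟨B, i, j, hj, ?_⟩
  refine exists_lift j e ?_
  rintro _ ⟨y, rfl⟩
  obtain rfl : y = IsLocalRing.closedPoint K := @Subsingleton.elim (PrimeSpectrum K) _ y (IsLocalRing.closedPoint K)
  exact hy

/-- The conormal module of a chart is projective at every prime. -/
theorem projective_cotangent_atPrime {B : Type u} [CommRing B] [Algebra K B]
    (j : specK (K := K) B ⟶ G) [IsOpenImmersion j.left] (P : Algebra.Extension.{u} K B)
    [Algebra.FormallySmooth K P.Ring] (p : Ideal B) [p.IsPrime] :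
    Module.Projective (Localization.AtPrime p) (Localization.AtPrime p ⊗[B] P.Cotangent) := by
  obtain ⟨B', _, j', _, ε, hε⟩ := exists_identity_chart (G := G)
  have : Mono j := Over.mono_of_mono_left j
  have : Mono j' := Over.mono_of_mono_left j'
  let D := Localization.AtPrime p
  let ιD : B →ₐ[K] D := IsScalarTower.toAlgHom K B D
  let εD : (B' : Type u) →ₐ[K] D := (Algebra.ofId K D).comp ε
  have hεD : specKMap εD ≫ j' = 1 := by
    rw [specKMap_comp, Category.assoc, hε, MonObj.comp_one]
  let δ₁ : B ⊗[K] (B' : Type u) →ₐ[K] D := Algebra.TensorProduct.lift ιD εD fun _ _ => Commute.all _ _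
  let δ₂ : B ⊗[K] B →ₐ[K] D := Algebra.TensorProduct.lift ιD ιD fun _ _ => Commute.all _ _
  let L₁ := Localization.AtPrime (primeAt δ₁)
  let L₂ := Localization.AtPrime (primeAt δ₂)
  let a₁ : B →ₐ[K] L₁ := (IsScalarTower.toAlgHom K (B ⊗[K] (B' : Type u)) L₁).comp Algebra.TensorProduct.includeLeft
  let b₁ : (B' : Type u) →ₐ[K] L₁ := (IsScalarTower.toAlgHom K (B ⊗[K] (B' : Type u)) L₁).comp Algebra.TensorProduct.includeRight
  let a₂ : B →ₐ[K] L₂ := (IsScalarTower.toAlgHom K (B ⊗[K] B) L₂).comp Algebra.TensorProduct.includeLeft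
  let c₂ : B →ₐ[K] L₂ := (IsScalarTower.toAlgHom K (B ⊗[K] B) L₂).comp Algebra.TensorProduct.includeRight
  have ha₁ : (locLift δ₁).comp a₁ = ιD := AlgHom.ext fun x => (locLift_algebraMap δ₁ _).trans (by simp [δ₁])
  have hb₁ : (locLift δ₁).comp b₁ = εD := AlgHom.ext fun x => (locLift_algebraMap δ₁ _).trans (by simp [δ₁])
  have ha₂ : (locLift δ₂).comp a₂ = ιD := AlgHom.ext fun x => (locLift_algebraMap δ₂ _).trans (by simp [δ₂])
  have hc₂ : (locLift δ₂).comp c₂ = ιD := AlgHom.ext fun x => (locLift_algebraMap δ₂ _).trans (by simp [δ₂])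
  -- the product and the quotient of the tautological points
  let mu₁ : specK (K := K) L₁ ⟶ G := (specKMap a₁ ≫ j) * (specKMap b₁ ≫ j')
  let mu₂ : specK (K := K) L₂ ⟶ G := (specKMap a₂ ≫ j)⁻¹ * (specKMap c₂ ≫ j)
  obtain ⟨φ, hφ, hρφ⟩ := exists_lift_of_local j mu₁ (locLift δ₁) (isUnit_of_locLift δ₁) ιD (by
    simp only [mu₁, MonObj.comp_mul, ← Category.assoc, ← specKMap_comp, ha₁, hb₁, hεD, _root_.mul_one])
  obtain ⟨ψ, hψ, hρψ⟩ := exists_lift_of_local j' mu₂ (locLift δ₂) (isUnit_of_locLift δ₂) εD (by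
    simp only [mu₂, MonObj.comp_mul, GrpObj.comp_inv, ← Category.assoc, ← specKMap_comp, ha₂, hc₂,
      inv_mul_cancel, hεD])
  let θ₂ : B ⊗[K] B →ₐ[K] L₁ := Algebra.TensorProduct.lift a₁ φ fun _ _ => Commute.all _ _
  let θ₁ : B ⊗[K] (B' : Type u) →ₐ[K] L₂ := Algebra.TensorProduct.lift a₂ ψ fun _ _ => Commute.all _ _
  have hθ₂ : (locLift δ₁).comp θ₂ = δ₂ := Algebra.TensorProduct.ext
    (AlgHom.ext fun x => by simpa [θ₂, δ₂] using AlgHom.congr_fun ha₁ x)
    (AlgHom.ext fun x => by simpa [θ₂, δ₂] using AlgHom.congr_fun hρφ x)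
  have hθ₁ : (locLift δ₂).comp θ₁ = δ₁ := Algebra.TensorProduct.ext
    (AlgHom.ext fun x => by simpa [θ₁, δ₁] using AlgHom.congr_fun ha₂ x)
    (AlgHom.ext fun x => by simpa [θ₁, δ₁] using AlgHom.congr_fun hρψ x)
  let Θ : L₂ →ₐ[K] L₁ := IsLocalization.liftAlgHom (M := (primeAt δ₂).primeCompl) (f := θ₂) fun y =>
    isUnit_of_locLift δ₁ _ (by
      rw [← AlgHom.comp_apply, hθ₂]
      exact not_not.1 fun hu => y.2 ((IsLocalRing.mem_maximalIdeal _).2 hu))
  let Θ' : L₁ →ₐ[K] L₂ := IsLocalization.liftAlgHom (M := (primeAt δ₁).primeCompl) (f := θ₁) fun y =>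
    isUnit_of_locLift δ₂ _ (by
      rw [← AlgHom.comp_apply, hθ₁]
      exact not_not.1 fun hu => y.2 ((IsLocalRing.mem_maximalIdeal _).2 hu))
  have hΘ : ∀ x, Θ (algebraMap (B ⊗[K] B) L₂ x) = θ₂ x := fun x => IsLocalization.lift_eq _ x
  have hΘ' : ∀ x, Θ' (algebraMap (B ⊗[K] (B' : Type u)) L₁ x) = θ₁ x := fun x => IsLocalization.lift_eq _ x
  have hΘa : Θ.comp a₂ = a₁ := AlgHom.ext fun x => (hΘ _).trans (by simp [θ₂])
  have hΘc : Θ.comp c₂ = φ := AlgHom.ext fun x => (hΘ _).trans (by simp [θ₂])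
  have hΘ'a : Θ'.comp a₁ = a₂ := AlgHom.ext fun x => (hΘ' _).trans (by simp [θ₁])
  have hΘ'b : Θ'.comp b₁ = ψ := AlgHom.ext fun x => (hΘ' _).trans (by simp [θ₁])
  have hΘ'φ : Θ'.comp φ = c₂ := specKMap_injective (by
    rw [← cancel_mono j, specKMap_comp, Category.assoc, hφ]
    simp only [mu₁, MonObj.comp_mul, ← Category.assoc, ← specKMap_comp, hΘ'a, hΘ'b, hψ, mu₂,
      mul_inv_cancel_left])
  have hΘψ : Θ.comp ψ = b₁ := specKMap_injective (by
    rw [← cancel_mono j', specKMap_comp, Category.assoc, hψ]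
    simp only [mu₂, MonObj.comp_mul, GrpObj.comp_inv, ← Category.assoc, ← specKMap_comp, hΘa, hΘc, hφ, mu₁,
      inv_mul_cancel_left])
  have hinv₁ : Θ.comp Θ' = AlgHom.id K L₁ := by
    refine IsLocalization.algHom_ext (primeAt δ₁).primeCompl (Algebra.TensorProduct.ext ?_ ?_)
    · refine AlgHom.ext fun x => ?_
      show Θ ((Θ'.comp a₁) x) = a₁ x
      rw [hΘ'a]; exact AlgHom.congr_fun hΘa x
    · refine AlgHom.ext fun x => ?_
      show Θ ((Θ'.comp b₁) x) = b₁ x
      rw [hΘ'b]; exact AlgHom.congr_fun hΘψ x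
  have hinv₂ : Θ'.comp Θ = AlgHom.id K L₂ := by
    refine IsLocalization.algHom_ext (primeAt δ₂).primeCompl (Algebra.TensorProduct.ext ?_ ?_)
    · refine AlgHom.ext fun x => ?_
      show Θ' ((Θ.comp a₂) x) = a₂ x
      rw [hΘa]; exact AlgHom.congr_fun hΘ'a x
    · refine AlgHom.ext fun x => ?_
      show Θ' ((Θ.comp c₂) x) = c₂ x
      rw [hΘc]; exact AlgHom.congr_fun hΘ'φ x
  let e : L₂ ≃ₐ[K] L₁ := AlgEquiv.ofAlgHom Θ Θ' hinv₁ hinv₂
  let χ₂ : B ⊗[K] B →+* L₁ := θ₂.toRingHom
  have hloc₂ : @IsLocalization (B ⊗[K] B) _ (primeAt δ₂).primeCompl L₁ _ χ₂.toAlgebra :=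
    letI := χ₂.toAlgebra
    IsLocalization.isLocalization_of_algEquiv (S := L₂) (primeAt δ₂).primeCompl
      { e.toRingEquiv with commutes' := fun x => hΘ x }
  letI : Algebra (B' : Type u) D := εD.toRingHom.toAlgebra
  haveI : Algebra.FormallySmooth K (Algebra.Generators.self K (B' : Type u)).toExtension.Ring :=
    inferInstanceAs (Algebra.FormallySmooth K (MvPolynomial (B' : Type u) K))
  refine ConormalRetract.projective_transfer (algebraMap (B ⊗[K] (B' : Type u)) L₁) (primeAt δ₁).primeCompl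
    (by
      convert! (Localization.isLocalization : IsLocalization (primeAt δ₁).primeCompl L₁) using 1
      exact Algebra.algebra_ext _ _ fun _ => rfl) χ₂ (primeAt δ₂).primeCompl hloc₂
    (fun a => ?_) (locLift δ₁).toRingHom (fun b => ?_) (fun b => ?_)
    (Algebra.Generators.self K (B' : Type u)).toExtension P ?_
  · show a₁ a = θ₂ (a ⊗ₜ 1)
    simp [θ₂]
  · exact (AlgHom.congr_fun hb₁ b).symm
  · show ιD b = locLift δ₁ (θ₂ ((1 : B) ⊗ₜ b))
    rw [← hρφ]
    simp [θ₂]
  · letI : Algebra (B' : Type u) K := ε.toRingHom.toAlgebra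
    haveI : IsScalarTower (B' : Type u) K D := IsScalarTower.of_algebraMap_eq' rfl
    exact Module.Projective.of_equiv (TensorProduct.AlgebraTensorModule.cancelBaseChange (B' : Type u) K D D
      (Algebra.Generators.self K (B' : Type u)).toExtension.Cotangent)

section Presentation

/-- Equal ideals have equal conormal modules. -/
def cotEq {R : Type u} [CommRing R] {J I : Ideal R} (h : J = I) : J.Cotangent ≃ₗ[R] I.Cotangent := by
  subst h
  exact LinearEquiv.refl R _

variable {n : ℕ} (I : Ideal (MvPolynomial (Fin n) K))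

theorem projective_cotangent (j : specK (K := K) (MvPolynomial (Fin n) K ⧸ I) ⟶ G) [IsOpenImmersion j.left] :
    Module.Projective (MvPolynomial (Fin n) K ⧸ I) I.Cotangent := by
  let P : Algebra.Extension.{u} K (MvPolynomial (Fin n) K ⧸ I) :=
    Algebra.Extension.ofSurjective (Ideal.Quotient.mkₐ K I) (Ideal.Quotient.mkₐ_surjective K I)
  haveI : Algebra.FormallySmooth K P.Ring := inferInstanceAs (Algebra.FormallySmooth K (MvPolynomial (Fin n) K))
  have hk : P.ker = I := (show RingHom.ker (Ideal.Quotient.mk I) = I from Ideal.mk_ker)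
  haveI : Module.Finite (MvPolynomial (Fin n) K ⧸ I) P.Cotangent :=
    Algebra.Extension.Cotangent.finite (by rw [hk]; exact IsNoetherian.noetherian I)
  haveI : Module.FinitePresentation (MvPolynomial (Fin n) K ⧸ I) P.Cotangent :=
    Module.finitePresentation_of_finite _ _
  haveI : Module.Flat (MvPolynomial (Fin n) K ⧸ I) P.Cotangent := by
    refine Module.flat_of_isLocalized_maximal (MvPolynomial (Fin n) K ⧸ I) P.Cotangent
      (fun q _ => Localization.AtPrime q ⊗[MvPolynomial (Fin n) K ⧸ I] P.Cotangent)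
      (fun q _ => TensorProduct.mk _ _ _ 1) fun q _ => ?_
    haveI := projective_cotangent_atPrime j P q
    exact Module.Flat.trans (MvPolynomial (Fin n) K ⧸ I) (Localization.AtPrime q) _
  haveI : Module.Projective (MvPolynomial (Fin n) K ⧸ I) P.Cotangent :=
    Module.Flat.projective_of_finitePresentation
  let e : P.Cotangent ≃+ I.Cotangent := P.cotangentEquivCotangentKer.toAddEquiv.trans (cotEq hk).toAddEquiv
  refine Module.Projective.of_equiv (e.toLinearEquiv fun r c => ?_)
  obtain ⟨x, rfl⟩ := Ideal.Quotient.mk_surjective r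
  have h1 : Ideal.Quotient.mk I x • c = (show P.Ring from x) • c :=
    algebraMap_smul (MvPolynomial (Fin n) K ⧸ I) (show P.Ring from x) c
  rw [h1]
  show cotEq hk (P.cotangentEquivCotangentKer ((show P.Ring from x) • c)) = x • e c
  rw [map_smul]
  exact (cotEq hk).map_smul x _

open RingTheory.Sequence in
theorem isCompleteIntersection_atPrime (j : specK (K := K) (MvPolynomial (Fin n) K ⧸ I) ⟶ G)
    [IsOpenImmersion j.left] (q : Ideal (MvPolynomial (Fin n) K ⧸ I)) [q.IsPrime] :
    Synt.IsCIOver K (Localization.AtPrime q) := by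
  haveI := projective_cotangent I j
  let p := q.comap (Ideal.Quotient.mkₐ K I).toRingHom
  have hIp : I ≤ p := fun x hx => by
    show Ideal.Quotient.mk I x ∈ q
    rw [Ideal.Quotient.eq_zero_iff_mem.2 hx]
    exact q.zero_mem
  let A := Localization.AtPrime p
  obtain ⟨g, hg, rs, hrs, hgen⟩ := LCI15.exists_away_regular I (CAlgH3.GrMinimal.pd_poly (M := I) ..) p hIp
  obtain ⟨f, hf, hker⟩ := Synt15.exists_localMap (k := K) (Ideal.Quotient.mkₐ K I)
    (Ideal.Quotient.mkₐ_surjective K I) q
  rw [show RingHom.ker (Ideal.Quotient.mkₐ K I).toRingHom = I from Ideal.mk_ker] at hker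
  haveI := Synt15.isRegularLocalRing_atPrime (k := K) p
  refine Synt15.isCIOver_of_surjective f hf ?_
  rw [hker]
  let S := Localization.Away g
  letI : Algebra S A := (IsLocalization.Away.lift g (g := algebraMap (MvPolynomial (Fin n) K) A)
    (IsLocalization.map_units A (⟨g, hg⟩ : p.primeCompl))).toAlgebra
  haveI : IsScalarTower (MvPolynomial (Fin n) K) S A := IsScalarTower.of_algebraMap_eq fun x =>
    (IsLocalization.Away.lift_eq g _ x).symm
  haveI := IsLocalization.isLocalization_of_submonoid_le S A (Submonoid.powers g) p.primeCompl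
    (Submonoid.powers_le.2 hg)
  haveI : Module.Flat S A := IsLocalization.flat A (p.primeCompl.map (algebraMap (MvPolynomial (Fin n) K) S))
  have hmap : Ideal.ofList (rs.map (algebraMap S A)) = I.map (algebraMap (MvPolynomial (Fin n) K) A) := by
    rw [← Ideal.map_ofList, hgen, Ideal.map_map, ← IsScalarTower.algebraMap_eq]
  refine ⟨rs.map (algebraMap S A), ⟨?_, fun h => ?_⟩, hmap⟩
  · exact hrs.toIsWeaklyRegular.of_flat
  · rw [smul_eq_mul, Ideal.mul_top, hmap] at h
    exact (IsLocalRing.maximalIdeal.isMaximal A).ne_top (top_le_iff.1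
      (h ▸ (Localization.AtPrime.map_eq_maximalIdeal (I := p)) ▸ Ideal.map_mono hIp))

end Presentation

theorem isCompleteIntersection_stalk [LocallyOfFiniteType G.hom] (y : G.left) :
    Pi1.IsCompleteIntersection (G.left.presheaf.stalk y) := by
  obtain ⟨B, i, j, hj, z, rfl⟩ := exists_chart (G := G) y
  haveI : Algebra.FiniteType K (B : Type u) := by
    have h : LocallyOfFiniteType (Spec.map (CommRingCat.ofHom (algebraMap K (B : Type u)))) := by
      rw [show Spec.map (CommRingCat.ofHom (algebraMap K (B : Type u))) = j.left ≫ G.hom from (Over.w j).symm]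
      infer_instance
    rw [HasRingHomProperty.Spec_iff (P := @LocallyOfFiniteType)] at h
    exact RingHom.finiteType_algebraMap.1 h
  obtain ⟨n, π, hπ⟩ := Algebra.FiniteType.iff_quotient_mvPolynomial''.1 (inferInstance : Algebra.FiniteType K B)
  let I := RingHom.ker π
  let e := Ideal.quotientKerAlgEquivOfSurjective hπ
  let j₀ : specK (K := K) (MvPolynomial (Fin n) K ⧸ I) ⟶ G := specKMap e.symm.toAlgHom ≫ j
  haveI : IsIso (Spec.map (CommRingCat.ofHom e.symm.toAlgHom.toRingHom)) := by
    have : IsIso (CommRingCat.ofHom e.symm.toAlgHom.toRingHom) :=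
      (ConcreteCategory.isIso_iff_bijective _).2 e.symm.bijective
    infer_instance
  haveI : IsOpenImmersion j₀.left :=
    inferInstanceAs (IsOpenImmersion (Spec.map (CommRingCat.ofHom e.symm.toAlgHom.toRingHom) ≫ j.left))
  obtain ⟨w, hw⟩ : ∃ w, j₀.left w = j.left z :=
    ⟨inv (Spec.map (CommRingCat.ofHom e.symm.toAlgHom.toRingHom)) z, by
      show (inv (Spec.map (CommRingCat.ofHom e.symm.toAlgHom.toRingHom)) ≫
        Spec.map (CommRingCat.ofHom e.symm.toAlgHom.toRingHom) ≫ j.left) z = _
      rw [IsIso.inv_hom_id_assoc]⟩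
  rw [← hw]
  let q : Ideal (MvPolynomial (Fin n) K ⧸ I) := w.asIdeal
  haveI : q.IsPrime := w.isPrime
  haveI : Algebra.EssFiniteType K (Localization.AtPrime q) := Synt15.essFiniteType_atPrime q
  have h := (Synt15.isCIOver_iff _).1 (isCompleteIntersection_atPrime I j₀ q)
  haveI : IsNoetherianRing (Localization.AtPrime q) :=
    IsLocalization.isNoetherianRing q.primeCompl _ inferInstance
  let E : G.left.presheaf.stalk (j₀.left w) ≃+* Localization.AtPrime q :=
    (asIso (j₀.left.stalkMap w)).commRingCatIsoToRingEquiv.trans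
      (StructureSheaf.stalkIso (MvPolynomial (Fin n) K ⧸ I) w).toRingEquiv.symm
  haveI : IsNoetherianRing (G.left.presheaf.stalk (j₀.left w)) := isNoetherianRing_of_ringEquiv _ E.symm
  exact (CAlgH.AvramovCI.isCompleteIntersection_iff_of_equiv E).2 h

theorem isSyntomicMor [LocallyOfFiniteType G.hom] : Synt.IsSyntomicMor G.hom :=
  (Synt15.isSyntomicMor_field_iff G.hom).2 fun y => isCompleteIntersection_stalk y

end

end Groth.Agent.CohDer1.GroupLCI
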