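import Groth.Agent.Omega15.Geometry
import Groth.Agent.Omega15.Compat
import Groth.Agent.Omega15.RetractSeq
import Groth.Agent.Omega15.UnivConormal
import Groth.Agent.OmegaLib.DOmega
import Groth.Agent.AmpleLib.Relative

/-!
# Differentials of a group scheme are pulled back from the unit section
-/

set_option autoImplicit false
set_option backward.isDefEq.respectTransparency false

universe u

open CategoryTheory CategoryTheory.Limits AlgebraicGeometry MonoidalCategory CartesianMonoidalCategory MonObj

namespace Groth.Agent.CohDer1.GroupOmega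

open OmegaLib

noncomputable section

variable {X S : Scheme.{u}}

/-- `s ↦ ds` on the ideal of an immersion. -/
theorem exists_conormalDiff {Z : Scheme.{u}} (i : Z ⟶ X) [QuasiCompact i] {f : X ⟶ S} {Ω : X.Modules}
    (d : OmegaSh.Der f Ω) :
    ∃ φ : Omega.conormal i ⟶ (Scheme.Modules.pullback i).obj Ω, OmegaSh.IsConormalDiff i d φ := by
  let adj := Scheme.Modules.pullbackPushforwardAdjunction i
  let α : ClSub.idealMod i.ker ⟶ (Scheme.Modules.pushforward i).obj ((Scheme.Modules.pullback i).obj Ω) :=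
    ⟨PresheafOfModules.homMk
      { app := fun U => AddCommGrpCat.ofHom
          (((OmegaSh.pullSect i Ω U.unop).hom.comp (d.app U.unop)).comp (OmegaSh.idealSect i.ker U.unop))
        naturality := fun U U' h => ConcreteCategory.hom_ext _ _ fun s => by
          show OmegaSh.pullSect i Ω U'.unop (d.app U'.unop (OmegaSh.idealSect i.ker U'.unop
              ((ClSub.idealMod i.ker).presheaf.map h s))) =
            ((Scheme.Modules.pullback i).obj Ω).presheaf.map _
              (OmegaSh.pullSect i Ω U.unop (d.app U.unop (OmegaSh.idealSect i.ker U.unop s)))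
          rw [show h = (homOfLE (leOfHom h.unop)).op from Subsingleton.elim _ _, idealSect_map, app_map]
          exact congr($(((adj.unit.app Ω).mapPresheaf.naturality (homOfLE (leOfHom h.unop)).op))
            (d.app U.unop (OmegaSh.idealSect i.ker U.unop s))) }
      fun U r s => by
        show OmegaSh.pullSect i Ω U.unop (d.app U.unop (OmegaSh.idealSect i.ker U.unop (r • s))) =
          (i.app U.unop r) • OmegaSh.pullSect i Ω U.unop (d.app U.unop (OmegaSh.idealSect i.ker U.unop s))
        rw [Omega15.idealSect_smul, app_mul, map_add, PrinLib.pullSect_smul, PrinLib.pullSect_smul,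
          Omega15.app_idealSect_eq_zero, zero_smul, add_zero]⟩
  refine ⟨(adj.homEquiv _ _).symm α, fun U s => ?_⟩
  have h1 : adj.unit.app _ ≫ (Scheme.Modules.pushforward i).map ((adj.homEquiv _ _).symm α) = α :=
    (adj.homEquiv_unit _ _ _).symm.trans (Equiv.apply_symm_apply _ α)
  exact congr(($h1).app U s)

/-- The identity has no differentials. -/
theorem isZero_of_isUniversal_id {m : S ⟶ S} (hm : m = 𝟙 S) {Ω : S.Modules} {d : OmegaSh.Der m Ω}
    (hd : OmegaSh.IsUniversal d) : IsZero Ω := by
  subst hm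
  rw [IsZero.iff_id_eq_zero]
  refine hom_ext_of_isUniversal hd fun U a => ?_
  show d.app U a = _
  exact (app_app d U a).trans (by simp)

/-- The differentials at a section are its conormal sheaf. -/
theorem nonempty_pullback_omega_iso_conormal (f : X ⟶ S) [QuasiSeparated f] (e : S ⟶ X) (he : e ≫ f = 𝟙 S)
    [IsImmersion e] [QuasiCompact e] :
    Nonempty ((Scheme.Modules.pullback e).obj (Omega.sheaf f) ≅ Omega.conormal e) := by
  have : QuasiSeparated (e ≫ f) := by rw [he]; infer_instance
  obtain ⟨φ, hφ⟩ := exists_conormalDiff e (OmegaSh.dOmega f)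
  obtain ⟨c, hc, -⟩ := Omega15.existsUnique_compat e (𝟙 S) (Category.comp_id (e ≫ f))
    (isUniversal_dOmega f) (OmegaSh.dOmega (e ≫ f))
  obtain ⟨w, r, σ, hr, hσ, hid⟩ := Omega15.exists_splitting (f := f) he
    (show f ≫ e ≫ f = f by rw [he, Category.comp_id]) (isUniversal_dOmega f)
    (isUniversal_dOmega (e ≫ f)) hφ hc
  refine ⟨⟨r, φ, ?_, hr⟩⟩
  rw [(isZero_of_isUniversal_id he (isUniversal_dOmega (e ≫ f))).eq_of_tgt c 0, zero_comp, add_zero] at hid
  exact hid

variable (G : Over S) [GrpObj G] [QuasiSeparated G.hom]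

/-- Translation invariance of differentials. -/
theorem nonempty_omega_iso_pullback :
    Nonempty (Omega.sheaf G.hom ≅
      (Scheme.Modules.pullback G.hom).obj ((Scheme.Modules.pullback η[G].left).obj (Omega.sheaf G.hom))) := by
  let P : Over S := G ⊗ G
  let p₁ : P.left ⟶ G.left := (fst G G).left
  let p₂ : P.left ⟶ G.left := (snd G G).left
  let m : P.left ⟶ G.left := μ[G].left
  have h2 : IsPullback p₂ p₁ G.hom G.hom :=
    (IsPullback.of_hasPullback G.hom G.hom).flip
  let σ : P ≅ P :=
    { hom := lift (fst G G) μ[G]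
      inv := lift (fst G G) ((fst G G)⁻¹ * snd G G)
      hom_inv_id := by
        ext
        · simp
        · rw [Category.assoc, lift_snd, MonObj.comp_mul, GrpObj.comp_inv, lift_fst, lift_snd,
            Category.id_comp, MonObj.mul_eq_mul G,
            inv_mul_cancel_left]
      inv_hom_id := by
        ext
        · simp
        · rw [Category.assoc, lift_snd, Category.id_comp,
            MonObj.mul_eq_mul G, MonObj.comp_mul,
            lift_fst, lift_snd, mul_inv_cancel_left] }
  have hm : IsPullback m p₁ G.hom G.hom := by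
    refine h2.of_iso ((Over.forget S).mapIso σ).symm (Iso.refl _) (Iso.refl _) (Iso.refl _) ?_ ?_ (by simp) (by simp)
    · show p₂ ≫ 𝟙 _ = σ.inv.left ≫ m
      rw [Category.comp_id]
      show (snd G G).left = (σ.inv ≫ μ[G]).left
      congr 1
      have := σ.inv_hom_id
      have h := congrArg (· ≫ snd G G) this
      simpa [σ] using h.symm
    · show p₁ ≫ 𝟙 _ = σ.inv.left ≫ p₁
      rw [Category.comp_id]
      show (fst G G).left = (σ.inv ≫ fst G G).left
      congr 1
      simp [σ]
  have : QuasiSeparated p₁ := MorphismProperty.of_isPullback h2 inferInstance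
  obtain ⟨c₂, hc₂, -⟩ := Omega15.existsUnique_compat p₂ G.hom h2.w.symm (isUniversal_dOmega G.hom)
    (OmegaSh.dOmega p₁)
  obtain ⟨cm, hcm, -⟩ := Omega15.existsUnique_compat m G.hom hm.w.symm (isUniversal_dOmega G.hom)
    (OmegaSh.dOmega p₁)
  haveI := Omega15.isIso_of_isPullback h2 (isUniversal_dOmega G.hom) (isUniversal_dOmega p₁) hc₂
  haveI := Omega15.isIso_of_isPullback hm (isUniversal_dOmega G.hom) (isUniversal_dOmega p₁) hcm
  let s : G ⟶ P := lift (𝟙 G) (toUnit G ≫ η[G])
  have hs₁ : s.left ≫ m = 𝟙 G.left := by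
    show (s ≫ μ[G]).left = (𝟙 G : G ⟶ G).left
    congr 1
    rw [MonObj.mul_eq_mul G, MonObj.comp_mul, lift_fst, lift_snd]
    exact _root_.mul_one _
  have hs₂ : s.left ≫ p₂ = G.hom ≫ η[G].left := by
    show (s ≫ snd G G).left = (toUnit G).left ≫ η[G].left
    rw [lift_snd]
    rfl
  let Ω := Omega.sheaf G.hom
  exact ⟨(Scheme.Modules.pullbackId G.left).symm.app Ω ≪≫ (Scheme.Modules.pullbackCongr hs₁).symm.app Ω ≪≫
    ((Scheme.Modules.pullbackComp s.left m).app Ω).symm ≪≫
    (Scheme.Modules.pullback s.left).mapIso (asIso cm ≪≫ (asIso c₂).symm) ≪≫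
    (Scheme.Modules.pullbackComp s.left p₂).app Ω ≪≫ (Scheme.Modules.pullbackCongr hs₂).app Ω ≪≫
    ((Scheme.Modules.pullbackComp G.hom η[G].left).app Ω).symm⟩

theorem nonempty_omega_iso_pullback_conormal :
    Nonempty (Omega.sheaf G.hom ≅ (Scheme.Modules.pullback G.hom).obj (Omega.conormal η[G].left)) := by
  have he : η[G].left ≫ G.hom = 𝟙 S := Over.w η[G]
  haveI : IsImmersion η[G].left :=
    haveI : IsImmersion (η[G].left ≫ G.hom) := he.symm ▸ (inferInstance : IsImmersion (𝟙 S))
    IsImmersion.of_comp η[G].left G.hom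
  haveI : QuasiCompact η[G].left :=
    haveI : QuasiCompact (η[G].left ≫ G.hom) := he.symm ▸ (inferInstance : QuasiCompact (𝟙 S))
    QuasiCompact.of_comp η[G].left G.hom
  obtain ⟨a⟩ := nonempty_omega_iso_pullback G
  obtain ⟨b⟩ := nonempty_pullback_omega_iso_conormal G.hom η[G].left he
  exact ⟨a ≪≫ (Scheme.Modules.pullback G.hom).mapIso b⟩

/-- A quasi-coherent sheaf on the spectrum of a field is free. -/
theorem exists_iso_coprod (R : CommRingCat.{u}) (hR : IsField R) (M : (Spec R).Modules) [Coh.IsQCoh M] :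
    ∃ I : Type u, Nonempty (M ≅ ∐ fun _ : I => Coh.structureModule (Spec R)) := by
  letI : Field R := hR.toField
  let V : ModuleCat R := (modulesSpecToSheaf.obj M).presheaf.obj (Opposite.op ⊤)
  haveI hi : IsIso M.fromTildeΓ := Scheme.Modules.isIso_fromTildeΓ_of_isQuasicoherent M
  let e₀ : tilde V ≅ M := @asIso _ _ _ _ (Scheme.Modules.fromTildeΓ M) hi
  let b := Module.Free.chooseBasis R (V : Type u)
  exact ⟨_, ⟨e₀.symm ≪≫ (tilde.functor R).mapIso b.repr.toModuleIso ≪≫ tildeFinsupp _⟩⟩

/-- The pullback of a free sheaf is free. -/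
theorem nonempty_pullback_coprod {T : Scheme.{u}} (q : T ⟶ X) (I : Type u) :
    Nonempty ((Scheme.Modules.pullback q).obj (∐ fun _ : I => Coh.structureModule X) ≅
      ∐ fun _ : I => Coh.structureModule T) := by
  obtain ⟨u₀⟩ := AmpleLib.exists_pullStructureIso q
  exact ⟨PreservesCoproduct.iso (Scheme.Modules.pullback q) _ ≪≫ Sigma.mapIso fun _ => u₀⟩

/-- Over a field the differentials are free. -/
theorem exists_free (K : Type u) [Field K] (h : S ≅ Spec (CommRingCat.of K)) :
    ∃ I : Type u, Nonempty (Omega.sheaf G.hom ≅ ∐ fun _ : I => Coh.structureModule G.left) := by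
  obtain ⟨a⟩ := nonempty_omega_iso_pullback_conormal G
  haveI := Omega15.isQCoh_conormal η[G].left
  haveI := EGA43.InjFibre.isQCoh_pullback h.inv (Omega.conormal η[G].left)
  obtain ⟨I, ⟨eM⟩⟩ := exists_iso_coprod (CommRingCat.of K) (Field.toIsField K)
    ((Scheme.Modules.pullback h.inv).obj (Omega.conormal η[G].left))
  obtain ⟨eq⟩ := nonempty_pullback_coprod (G.hom ≫ h.hom) I
  exact ⟨I, ⟨a ≪≫ (Scheme.Modules.pullback G.hom).mapIso
    ((Scheme.Modules.pullbackId S).symm.app _ ≪≫ (Scheme.Modules.pullbackCongr h.hom_inv_id).symm.app _ ≪≫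
      ((Scheme.Modules.pullbackComp h.hom h.inv).app _).symm ≪≫ (Scheme.Modules.pullback h.hom).mapIso eM) ≪≫
    (Scheme.Modules.pullbackComp G.hom h.hom).app _ ≪≫ eq⟩⟩

end

end Groth.Agent.CohDer1.GroupOmega
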