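import Groth.Agent.CohDer1.GroupLCI
import Groth.Agent.CAlgH.CIScheme
import Groth.Agent.Dual22Lib.GorMor
import Groth.Agent.CAlgSmall.DimFormulaBounds
import Groth.Agent.Synt15.LCIBridge
import Groth.Prelude.Def_Dual3

/-!
# Flat group schemes are syntomic
-/

set_option autoImplicit false

universe u

open CategoryTheory CategoryTheory.Limits AlgebraicGeometry MonoidalCategory CartesianMonoidalCategory MonObj

namespace Groth.Agent.CohDer1.GroupSyntomic

theorem isSyntomicMor {S : Scheme.{u}} (G : Over S) [GrpObj G] [Flat G.hom]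
    [LocallyOfFinitePresentation G.hom] : Synt.IsSyntomicMor G.hom := by
  rw [Synt15.isSyntomicMor_iff]
  refine ⟨inferInstance, inferInstance, (CAlgH.CIMorphism.forall_fiberStalk_iff G.hom).2 fun s w => ?_⟩
  let G' : Over (Spec (CommRingCat.of (S.residueField s))) :=
    (Over.pullback (S.fromSpecResidueField s)).obj G
  letI : GrpObj G' := Functor.grpObjObj
  haveI : LocallyOfFiniteType G'.hom := by
    show LocallyOfFiniteType (Limits.pullback.snd G.hom (S.fromSpecResidueField s))
    infer_instance
  have h : Synt.IsSyntomicMor G'.hom := GroupLCI.isSyntomicMor (G := G')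
  haveI : LocallyOfFiniteType (G.hom.fiberToSpecResidueField s) :=
    MorphismProperty.pullback_snd _ _ inferInstance
  exact (Synt15.ci_fiberStalk_iff_field (k := ↑(S.residueField s)) (G.hom.fiberToSpecResidueField s) w).1
    (((Synt15.isSyntomicMor_iff _).1 h).2.2 w)

theorem isLCIMor {X S : Scheme.{u}} (f : X ⟶ S) (h : Synt.IsSyntomicMor f) : Dual3.IsLCIMor f := fun x => by
  obtain ⟨U, V, e, hx, hs⟩ := h x
  letI := (f.appLE V.1 U.1 e).hom.toAlgebra
  exact ⟨U, V, e, hx, Synt15.isLCI_of_isSyntomic (R := Γ(S, V.1)) hs⟩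

theorem isGorenstein_Spec (R : Type u) [CommRing R] [LocCoh.IsGorensteinLocalRing R] :
    Dual3.IsGorenstein (Spec (CommRingCat.of R)) := by
  refine ⟨inferInstance, fun x => ?_⟩
  haveI : LocCoh.IsGorensteinLocalRing (Localization.AtPrime x.asIdeal) :=
    LocCoh.gorenstein_localization x.asIdeal
  exact SegreDim.gorensteinLocal_of_ringEquiv (StructureSheaf.stalkIso R x).toRingEquiv

theorem topologicalKrullDim_lt_top {R : Type u} [CommRing R] [IsNoetherianRing R] [IsLocalRing R]
    {X : Scheme.{u}} (f : X ⟶ Spec (CommRingCat.of R)) [LocallyOfFiniteType f] [QuasiCompact f] :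
    topologicalKrullDim X < ⊤ := by
  classical
  haveI : IsLocallyNoetherian X := LocallyOfFiniteType.isLocallyNoetherian f
  haveI : CompactSpace X := QuasiCompact.compactSpace_of_compactSpace f
  haveI : IsNoetherian X := ⟨⟩
  have hfin : {ξ : X | closure {ξ} ∈ irreducibleComponents (↥X)}.Finite := by
    refine Set.Finite.of_finite_image (f := fun ξ : X => closure {ξ})
      ((TopologicalSpace.NoetherianSpace.finite_irreducibleComponents).subset ?_) ?_
    · rintro _ ⟨ξ, hξ, rfl⟩; exact hξ
    · intro a _ b _ hab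
      exact isGenericPoint_closure.eq (by rw [IsGenericPoint]; exact hab.symm)
  refine lt_of_le_of_lt (CAlgSmall.topologicalKrullDim_le_add f
    (hfin.toFinset.sup (EGA43.DimFormula.trdAt f)) fun ξ hξ =>
      Finset.le_sup (f := EGA43.DimFormula.trdAt f) (hfin.mem_toFinset.2 hξ)) ?_
  have h : topologicalKrullDim (Spec (CommRingCat.of R)) = ringKrullDim R :=
    PrimeSpectrum.topologicalKrullDim_eq_ringKrullDim R
  rw [h]
  obtain ⟨d, hd⟩ : ∃ d : ℕ, ringKrullDim R = d := by
    have h1 := ringKrullDim_lt_top (R := R)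
    have h2 := ringKrullDim_nonneg_of_nontrivial (R := R)
    generalize ringKrullDim R = x at h1 h2
    induction x using WithBot.recBotCoe with
    | bot => simp at h2
    | coe a =>
      induction a using ENat.recTopCoe with
      | top => simp at h1
      | coe n => exact ⟨n, rfl⟩
  rw [hd, ← Nat.cast_add]
  exact WithBot.coe_lt_coe.2 (ENat.natCast_lt_top _)

end Groth.Agent.CohDer1.GroupSyntomic
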