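import Groth.Prelude.Def_Grpd
import Groth.Agent.S9371
import Groth.Agent.S9372

/-!
# Differentials of a groupoid scheme along the target map
-/

set_option autoImplicit false

universe u

open CategoryTheory CategoryTheory.Limits AlgebraicGeometry Grpd

namespace Groth.Agent.CohDer1.GroupoidOmega

variable {S : Scheme.{u}} (G : GroupoidScheme S)

/-- Composition of a composable pair. -/
noncomputable def comp {T : Scheme.{u}} (α β : T ⟶ G.R) (h : α ≫ G.s = β ≫ G.t) : T ⟶ G.R :=
  pullback.lift α β h ≫ G.c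

theorem comp_congr {T : Scheme.{u}} {α α' β β' : T ⟶ G.R} (ha : α = α') (hb : β = β')
    (h : α ≫ G.s = β ≫ G.t) :
    comp G α β h = comp G α' β' (by rw [← ha, ← hb, h]) := by
  subst ha hb; rfl

theorem comp_nat {T T' : Scheme.{u}} (f : T' ⟶ T) (α β : T ⟶ G.R) (h : α ≫ G.s = β ≫ G.t) :
    f ≫ comp G α β h = comp G (f ≫ α) (f ≫ β) (by rw [Category.assoc, Category.assoc, h]) := by
  rw [comp, comp, ← Category.assoc]
  congr 1
  apply pullback.hom_ext
  · rw [Category.assoc, pullback.lift_fst, pullback.lift_fst]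
  · rw [Category.assoc, pullback.lift_snd, pullback.lift_snd]

theorem inv_comp_s {T : Scheme.{u}} (α : T ⟶ G.R) : (α ≫ G.i) ≫ G.s = α ≫ G.t := by
  rw [Category.assoc, G.i_s]

theorem inv_comp_t {T : Scheme.{u}} (α : T ⟶ G.R) : (α ≫ G.i) ≫ G.t = α ≫ G.s := by
  rw [Category.assoc, G.i_t]

/-- `α (α⁻¹ β) = β` -/
theorem cancel_left {T : Scheme.{u}} (α β : T ⟶ G.R) (h : (α ≫ G.i) ≫ G.s = β ≫ G.t)
    (h' : α ≫ G.s = comp G (α ≫ G.i) β h ≫ G.t) :
    comp G α (comp G (α ≫ G.i) β h) h' = β := by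
  have h₁ : α ≫ G.s = (α ≫ G.i) ≫ G.t := (inv_comp_t G α).symm
  have e := G.assoc α (α ≫ G.i) β h₁ h
  refine e.symm.trans ?_
  have hαβ : α ≫ G.t = β ≫ G.t := (inv_comp_s G α).symm.trans h
  refine Eq.trans ?_ (G.e_comp β)
  exact comp_congr G ((G.comp_i α).trans (by rw [← Category.assoc, ← Category.assoc, hαβ])) rfl _

/-- `α⁻¹ (α γ) = γ` -/
theorem cancel_inv_left {T : Scheme.{u}} (α γ : T ⟶ G.R) (h : α ≫ G.s = γ ≫ G.t)
    (h' : (α ≫ G.i) ≫ G.s = comp G α γ h ≫ G.t) :
    comp G (α ≫ G.i) (comp G α γ h) h' = γ := by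
  have h₁ : (α ≫ G.i) ≫ G.s = α ≫ G.t := inv_comp_s G α
  have e := G.assoc (α ≫ G.i) α γ h₁ h
  refine e.symm.trans ?_
  refine Eq.trans ?_ (G.e_comp γ)
  exact comp_congr G ((G.i_comp α).trans (by rw [← Category.assoc, ← Category.assoc, h])) rfl _

/-- The shear `(α, β) ↦ α⁻¹ β`. -/
noncomputable def shear : pullback G.t G.t ⟶ G.R :=
  comp G (pullback.fst G.t G.t ≫ G.i) (pullback.snd G.t G.t)
    (by rw [inv_comp_s, pullback.condition])

theorem shear_s : shear G ≫ G.s = pullback.snd G.t G.t ≫ G.s := G.comp_s _ _ _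

theorem shear_t : shear G ≫ G.t = pullback.fst G.t G.t ≫ G.s :=
  (G.comp_t _ _ _).trans (inv_comp_t G _)

theorem comp_shear {T : Scheme.{u}} (m : T ⟶ pullback G.t G.t) :
    m ≫ shear G = comp G ((m ≫ pullback.fst G.t G.t) ≫ G.i) (m ≫ pullback.snd G.t G.t)
      (by rw [inv_comp_s, Category.assoc, Category.assoc, pullback.condition]) := by
  rw [shear, comp_nat]
  exact comp_congr G (Category.assoc _ _ _).symm rfl _

theorem isPullback_diagonal : IsPullback (pullback.diagonal G.t) G.s (shear G) G.e := by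
  have w : pullback.diagonal G.t ≫ shear G = G.s ≫ G.e := by
    rw [comp_shear]
    refine (comp_congr G (by simp) (by simp) _).trans ((G.i_comp (𝟙 G.R)).trans (Category.id_comp _))
  refine ⟨⟨w⟩, ⟨PullbackCone.IsLimit.mk _ (fun c => c.fst ≫ pullback.fst G.t G.t) (fun c => ?_) (fun c => ?_) ?_⟩⟩
  · -- the two components agree
    apply pullback.hom_ext
    · simp
    · have hc : c.fst ≫ shear G = c.snd ≫ G.e := c.condition
      have hb : c.snd = (c.fst ≫ pullback.fst G.t G.t) ≫ G.s := by
        rw [Category.assoc, ← shear_t, ← Category.assoc, hc, Category.assoc, G.e_t, Category.comp_id]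
      have hcl := cancel_left G (c.fst ≫ pullback.fst G.t G.t) (c.fst ≫ pullback.snd G.t G.t)
        (by rw [inv_comp_s, Category.assoc, Category.assoc, pullback.condition])
        (by rw [← comp_shear, Category.assoc c.fst (shear G), shear_t, Category.assoc])
      rw [Category.assoc, pullback.diagonal_snd, Category.comp_id]
      refine Eq.trans ?_ hcl
      refine (G.comp_e _).symm.trans ?_
      refine comp_congr G rfl ?_ _
      rw [← comp_shear, hc, hb]
      simp only [Category.assoc]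
  · show (c.fst ≫ pullback.fst G.t G.t) ≫ G.s = c.snd
    rw [Category.assoc, ← shear_t, ← Category.assoc,
      show c.fst ≫ shear G = c.snd ≫ G.e from c.condition, Category.assoc, G.e_t, Category.comp_id]
  · intro c m h₁ _
    rw [← h₁, Category.assoc, pullback.diagonal_fst, Category.comp_id]

theorem isPullback_shear : IsPullback (shear G) (pullback.fst G.t G.t) G.t G.s := by
  refine ⟨⟨shear_t G⟩, ⟨PullbackCone.IsLimit.mk _
    (fun c => pullback.lift c.snd (comp G c.snd c.fst c.condition.symm) (G.comp_t _ _ _).symm)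
    (fun c => ?_) (fun c => pullback.lift_fst _ _ _) ?_⟩⟩
  · rw [comp_shear]
    refine (comp_congr G (by rw [pullback.lift_fst]) (pullback.lift_snd _ _ _) _).trans ?_
    exact cancel_inv_left G c.snd c.fst _ _
  · intro c m h₁ h₂
    apply pullback.hom_ext
    · rw [h₂, pullback.lift_fst]
    · rw [pullback.lift_snd]
      refine ((cancel_left G (m ≫ pullback.fst G.t G.t) (m ≫ pullback.snd G.t G.t)
        (by rw [inv_comp_s, Category.assoc, Category.assoc, pullback.condition])
        (by rw [← comp_shear, Category.assoc m (shear G), shear_t, Category.assoc])).symm).trans ?_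
      exact comp_congr G h₂ ((comp_shear G m).symm.trans h₁) _

theorem result [QuasiSeparated G.t] :
    (∃ φ : (Scheme.Modules.pullback G.s).obj (Omega.conormal G.e) ⟶ Omega.sheaf G.t, Epi φ) ∧
      (Flat G.s → Nonempty ((Scheme.Modules.pullback G.s).obj (Omega.conormal G.e) ≅ Omega.sheaf G.t)) := by
  haveI : IsImmersion G.e :=
    haveI : IsImmersion (G.e ≫ G.t) := G.e_t.symm ▸ (inferInstance : IsImmersion (𝟙 G.U))
    IsImmersion.of_comp G.e G.t
  haveI : QuasiCompact G.e :=
    haveI : QuasiCompact (G.e ≫ G.t) := G.e_t.symm ▸ (inferInstance : QuasiCompact (𝟙 G.U))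
    QuasiCompact.of_comp G.e G.t
  have hsq := isPullback_diagonal G
  obtain ⟨φ, hφ, -⟩ := Groth.Agent.S9371.result (pullback.diagonal G.t) G.e (shear G) G.s hsq.w.symm
  obtain ⟨he, hi⟩ := Groth.Agent.S9372.result (pullback.diagonal G.t) G.e (shear G) G.s hsq φ hφ
  refine ⟨⟨φ, he⟩, fun hs => ?_⟩
  haveI : Flat (shear G) := MorphismProperty.of_isPullback (isPullback_shear G).flip hs
  exact ⟨@asIso _ _ _ _ φ (hi inferInstance)⟩

end Groth.Agent.CohDer1.GroupoidOmega
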