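import Groth.Agent.S14345
import Groth.Agent.S0389
import Groth.Agent.GrpdLib.FitStrat
import Mathlib.RingTheory.IsTensorProduct
import Mathlib.RingTheory.Spectrum.Prime.FreeLocus
import Mathlib.RingTheory.Ideal.MinimalPrime.Noetherian
import Mathlib.RingTheory.GradedAlgebra.Basic

/-!
# The stratum of a given Hilbert function
-/

set_option autoImplicit false

universe u

open TensorProduct

namespace Groth.Agent.CohDer1.HilbertStratum

theorem rank_le_iff {B : Type u} [CommRing B] (Q : Type u) [AddCommGroup Q] [Module B Q] [Module.Finite B Q]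
    [Module.Projective B Q] (p : PrimeSpectrum B) (k : ℕ) :
    ¬ Fitt.ideal B Q k ≤ p.asIdeal ↔ Module.rankAtStalk (R := B) Q p ≤ k := by
  rw [Groth.Agent.FittLib.not_le_iff_finrank_le, Module.rankAtStalk_eq]

theorem ideal_eq_top_of_projective {B : Type u} [CommRing B] (Q : Type u) [AddCommGroup Q] [Module B Q]
    [Module.Finite B Q] [Module.Projective B Q] {r k : ℕ} (hk : r ≤ k)
    (h : ∀ p : PrimeSpectrum B, Module.rankAtStalk (R := B) Q p = r) : Fitt.ideal B Q k = ⊤ := by
  by_contra hne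
  obtain ⟨P, hP, hle⟩ := Ideal.exists_le_maximal _ hne
  exact (rank_le_iff Q ⟨P, hP.isPrime⟩ k).2 (by rw [h]; exact hk) hle

theorem finite_projective_rank_iff {B : Type u} [CommRing B] (Q : Type u) [AddCommGroup Q] [Module B Q]
    [Module.Finite B Q] (r : ℕ) :
    (Module.Projective B Q ∧ ∀ p : PrimeSpectrum B, Module.rankAtStalk (R := B) Q p = r) ↔
      (∀ j, j < r → Fitt.ideal B Q j = ⊥) ∧ Fitt.ideal B Q r = ⊤ := by
  constructor
  · rintro ⟨hQ, h⟩
    exact ⟨fun j hj => Groth.Agent.S14345.ideal_eq_bot_of_projective hj h, ideal_eq_top_of_projective Q le_rfl h⟩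
  · rintro ⟨h0, h1⟩
    have h2 : ∀ k, r ≤ k → Fitt.ideal B Q k = ⊤ := fun k hk =>
      top_le_iff.1 (h1 ▸ Groth.Agent.FittLib.ideal_mono hk)
    have hQ : Module.Projective B Q := Groth.Agent.FittLib.projective_of_locallyFree _ fun p _ => by
      obtain ⟨f, hf, hfree, -⟩ := (Groth.Agent.FittLib.locallyFree_iff (R := B) (M := Q) r).2 ⟨h0, h2⟩ p
      exact ⟨f, hf, hfree⟩
    refine ⟨hQ, fun p => le_antisymm ((rank_le_iff Q p r).1 (h1 ▸ fun h => p.2.ne_top (top_le_iff.1 h))) ?_⟩
    by_contra hlt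
    exact (rank_le_iff Q p _).2 le_rfl ((h0 _ (not_le.1 hlt)).le.trans bot_le)

theorem ideal_eq_bot_or_eq_top {L : Type u} [CommRing L] [IsDomain L] (Q : Type u) [AddCommGroup Q] [Module L Q]
    [Module.Finite L Q] [Module.Projective L Q] (k : ℕ) :
    Fitt.ideal L Q k = ⊥ ∨ Fitt.ideal L Q k = ⊤ := by
  let o : PrimeSpectrum L := ⟨⊥, Ideal.isPrime_bot⟩
  have h : ∀ p : PrimeSpectrum L, Module.rankAtStalk (R := L) Q p = Module.rankAtStalk (R := L) Q o := fun p =>
    (Module.rankAtStalk_eq_of_le_of_finite_of_flat Q (show o ≤ p from (bot_le : (⊥ : Ideal L) ≤ p.asIdeal))).symm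
  rcases lt_or_ge k (Module.rankAtStalk (R := L) Q o) with hk | hk
  · exact Or.inl (Groth.Agent.S14345.ideal_eq_bot_of_projective hk h)
  · exact Or.inr (ideal_eq_top_of_projective Q hk h)

variable (A : Type u) [CommRing A]

theorem exists_free_generic (R : Type u) [CommRing R] [Algebra A R] [Algebra.FiniteType A R]
    (M : Type u) [AddCommGroup M] [Module A M] [Module R M] [IsScalarTower A R M] [Module.Finite R M]
    (q : Ideal A) [q.IsPrime] :
    ∃ f : A ⧸ q, f ≠ 0 ∧ Module.Free (Localization.Away f) (Localization.Away f ⊗[A] M) := by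
  let A' := A ⧸ q
  let R' := A' ⊗[A] R
  letI : Algebra R R' := Algebra.TensorProduct.rightAlgebra
  let M' := R' ⊗[R] M
  let e : M' ≃ₗ[A'] A' ⊗[A] M := Algebra.IsPushout.cancelBaseChange A A' R R' M
  haveI : Module.Finite R' M' := Module.Finite.base_change R R' M
  obtain ⟨f, hf, hfree, -⟩ := Groth.Agent.S0389.result (R := A') (S := R') (M := M')
  haveI := hfree
  refine ⟨f, hf, Module.Free.of_equiv ((e.baseChange A' (Localization.Away f) M' (A' ⊗[A] M)).trans
    (AlgebraTensorModule.cancelBaseChange A A' (Localization.Away f) (Localization.Away f) M))⟩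

variable {A}

theorem exists_uniform (R : Type u) [CommRing R] [Algebra A R] [Algebra.FiniteType A R]
    (M : Type u) [AddCommGroup M] [Module A M] [Module R M] [IsScalarTower A R M] [Module.Finite R M]
    (ℳ : ℤ → Submodule A M) [DirectSum.Decomposition ℳ] (hfg : ∀ v : ℤ, Module.Finite A ↥(ℳ v))
    (q : Ideal A) [q.IsPrime] :
    ∃ f : A, f ∉ q ∧ ∀ (v : ℤ) (k : ℕ) (p : Ideal A), p.IsPrime → q ≤ p → f ∉ p →
      Fitt.ideal A (ℳ v) k ≤ p → Fitt.ideal A (ℳ v) k ≤ q := by
  obtain ⟨f', hf', hfree⟩ := exists_free_generic A R M q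
  obtain ⟨f, rfl⟩ := Ideal.Quotient.mk_surjective f'
  have hfq : f ∉ q := fun h => hf' (Ideal.Quotient.eq_zero_iff_mem.2 h)
  refine ⟨f, hfq, fun v k p hp hqp hfp hle => ?_⟩
  let L := Localization.Away (Ideal.Quotient.mk q f)
  haveI : IsDomain L := IsLocalization.isDomain_localization
    (powers_le_nonZeroDivisors_of_noZeroDivisors hf')
  haveI := hfg v
  let pr : M →ₗ[A] ℳ v :=
    (DirectSum.component A ℤ (fun i => ↥(ℳ i)) v).comp (DirectSum.decomposeLinearEquiv ℳ).toLinearMap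
  classical
  have hpr : pr.comp (ℳ v).subtype = LinearMap.id := LinearMap.ext fun x => by
    simp only [pr, LinearMap.comp_apply, LinearEquiv.coe_coe, Submodule.subtype_apply,
      DirectSum.decomposeLinearEquiv_apply, DirectSum.decompose_coe]
    exact DirectSum.component.lof_self (R := A) (M := fun i => ↥(ℳ i)) v x
  haveI : Module.Projective L (L ⊗[A] ℳ v) :=
    Module.Projective.of_split ((ℳ v).subtype.baseChange L) (pr.baseChange L)
      (by rw [← LinearMap.baseChange_comp, hpr, LinearMap.baseChange_id])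
  by_contra hnq
  obtain ⟨x, hx, hxq⟩ := SetLike.not_le_iff_exists.1 hnq
  have hne : algebraMap A L x ≠ 0 := by
    rw [IsScalarTower.algebraMap_apply A (A ⧸ q) L, Ne, map_eq_zero_iff _ (IsLocalization.injective L
      (powers_le_nonZeroDivisors_of_noZeroDivisors hf')), Ideal.Quotient.algebraMap_eq, Ideal.Quotient.eq_zero_iff_mem]
    exact hxq
  have htop : (Fitt.ideal A (ℳ v) k).map (algebraMap A L) = ⊤ := by
    rw [← Groth.Agent.FittLib.ideal_baseChange]
    refine (ideal_eq_bot_or_eq_top (L ⊗[A] ℳ v) k).resolve_left fun h => hne ?_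
    rw [Groth.Agent.FittLib.ideal_baseChange] at h
    exact Ideal.mem_bot.1 (h ▸ Ideal.mem_map_of_mem _ hx)
  let p' : Ideal (A ⧸ q) := p.map (Ideal.Quotient.mk q)
  haveI : p'.IsPrime := Ideal.map_isPrime_of_surjective Ideal.Quotient.mk_surjective
    (by rwa [Ideal.mk_ker])
  have hd : Disjoint (Submonoid.powers (Ideal.Quotient.mk q f) : Set (A ⧸ q)) p' := by
    rw [Set.disjoint_left]
    rintro _ ⟨n, rfl⟩ h
    have := (Ideal.IsPrime.mem_of_pow_mem inferInstance n h : Ideal.Quotient.mk q f ∈ p')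
    rw [← Ideal.mem_comap, Ideal.comap_map_of_surjective' _ Ideal.Quotient.mk_surjective, Ideal.mk_ker,
      sup_of_le_left hqp] at this
    exact hfp this
  refine (IsLocalization.isPrime_of_isPrime_disjoint (Submonoid.powers (Ideal.Quotient.mk q f)) L p' inferInstance hd).ne_top ?_
  rw [eq_top_iff, ← htop, IsScalarTower.algebraMap_eq A (A ⧸ q) L, ← Ideal.map_map]
  exact Ideal.map_mono (Ideal.map_mono hle)

theorem exists_ideals [IsNoetherianRing A] (R : Type u) [CommRing R] [Algebra A R] [Algebra.FiniteType A R]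
    (M : Type u) [AddCommGroup M] [Module A M] [Module R M] [IsScalarTower A R M] [Module.Finite R M]
    (ℳ : ℤ → Submodule A M) [DirectSum.Decomposition ℳ] (hfg : ∀ v : ℤ, Module.Finite A ↥(ℳ v)) (h : ℤ → ℕ) :
    ∃ a b : Ideal A, ∀ (B : Type u) [CommRing B] [Algebra A B],
      ((∀ v : ℤ, Module.Finite B (B ⊗[A] ↥(ℳ v)) ∧ Module.Projective B (B ⊗[A] ↥(ℳ v)) ∧
          ∀ p : PrimeSpectrum B, Module.rankAtStalk (B ⊗[A] ↥(ℳ v)) p = h v) ↔
        (Ideal.map (algebraMap A B) a = ⊥ ∧ Ideal.map (algebraMap A B) b = ⊤)) := by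
  classical
  haveI := hfg
  let Z : Set (PrimeSpectrum A) := {p | ∃ v, Fitt.ideal A (ℳ v) (h v) ≤ p.asIdeal}
  let b := PrimeSpectrum.vanishingIdeal Z
  have hb : ∀ p : PrimeSpectrum A, b ≤ p.asIdeal → p ∈ Z := by
    intro p hp
    have hrad : ∀ q ∈ b.minimalPrimes, ∀ hq : q.IsPrime, (⟨q, hq⟩ : PrimeSpectrum A) ∈ Z := by
      intro q hqm hq
      by_contra hqZ
      obtain ⟨f, hfq, hf⟩ := exists_uniform R M ℳ hfg q
      have hx : ∀ q' ∈ b.minimalPrimes, ∃ x, x ∉ q ∧ (q' ≠ q → x ∈ q') := fun q' hq' => by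
        by_cases he : q' = q
        · exact ⟨1, (Ideal.ne_top_iff_one q).1 hq.ne_top, fun hh => absurd he hh⟩
        · have : ¬ q' ≤ q := fun hle => he (le_antisymm hle (hqm.2 hq'.1 hle))
          obtain ⟨x, hx, hxq⟩ := SetLike.not_le_iff_exists.1 this
          exact ⟨x, hxq, fun _ => hx⟩
      choose! x hxq hxq' using hx
      have hfin := b.finite_minimalPrimes_of_isNoetherianRing
      have hg : f * ∏ q' ∈ hfin.toFinset, x q' ∈ b := by
        rw [PrimeSpectrum.mem_vanishingIdeal]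
        intro z hz
        obtain ⟨q', hq', hq'z⟩ := Ideal.exists_minimalPrimes_le
          (J := z.asIdeal) (I := b) fun y hy => (PrimeSpectrum.mem_vanishingIdeal Z y).1 hy z hz
        by_cases he : q' = q
        · subst he
          refine Ideal.mul_mem_right _ _ ?_
          by_contra hfz
          obtain ⟨v, hv⟩ := hz
          exact hqZ ⟨v, hf v (h v) z.asIdeal z.2 hq'z hfz hv⟩
        · exact Ideal.mul_mem_left _ _ (hq'z (Ideal.prod_mem q' (hfin.mem_toFinset.2 hq') (hxq' q' hq' he)))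
      rcases hq.mem_or_mem (hqm.1.2 hg) with h1 | h1
      · exact hfq h1
      · obtain ⟨q', hq', h2⟩ := hq.prod_mem_iff.1 h1
        exact hxq q' (hfin.mem_toFinset.1 hq') h2
    obtain ⟨q, hq, hqp⟩ := Ideal.exists_minimalPrimes_le hp
    obtain ⟨v, hv⟩ := hrad q hq hq.1.1
    exact ⟨v, hv.trans hqp⟩
  refine ⟨⨆ v, ⨆ j : Fin (h v), Fitt.ideal A (ℳ v) j, b, fun B _ _ => ?_⟩
  have hiff : ∀ v, (Module.Finite B (B ⊗[A] ↥(ℳ v)) ∧ Module.Projective B (B ⊗[A] ↥(ℳ v)) ∧
      ∀ p : PrimeSpectrum B, Module.rankAtStalk (B ⊗[A] ↥(ℳ v)) p = h v) ↔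
      (∀ j, j < h v → (Fitt.ideal A (ℳ v) j).map (algebraMap A B) = ⊥) ∧
        (Fitt.ideal A (ℳ v) (h v)).map (algebraMap A B) = ⊤ := fun v => by
    rw [and_iff_right (inferInstance : Module.Finite B (B ⊗[A] ↥(ℳ v))), finite_projective_rank_iff]
    simp only [Groth.Agent.FittLib.ideal_baseChange]
  simp only [hiff, forall_and]
  refine and_congr ?_ ?_
  · simp only [Ideal.map_iSup, iSup_eq_bot]
    exact ⟨fun H v j => H v j j.2, fun H v j hj => H v ⟨j, hj⟩⟩
  · constructor
    · intro H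
      by_contra hne
      obtain ⟨P, hP, hle⟩ := Ideal.exists_le_maximal _ hne
      haveI := hP.isPrime
      obtain ⟨v, hv⟩ := hb ⟨P.comap (algebraMap A B), inferInstance⟩ (Ideal.map_le_iff_le_comap.1 hle)
      exact hP.ne_top (top_le_iff.1 (H v ▸ Ideal.map_le_iff_le_comap.2 hv))
    · intro H v
      by_contra hne
      obtain ⟨P, hP, hle⟩ := Ideal.exists_le_maximal _ hne
      haveI := hP.isPrime
      refine hP.ne_top (top_le_iff.1 (H ▸ Ideal.map_le_iff_le_comap.2 fun y hy => ?_))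
      exact (PrimeSpectrum.mem_vanishingIdeal Z y).1 hy ⟨P.comap (algebraMap A B), inferInstance⟩
        ⟨v, Ideal.map_le_iff_le_comap.1 hle⟩

end Groth.Agent.CohDer1.HilbertStratum
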