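import Mathlib.RingTheory.MvPowerSeries.Basic
import Mathlib.Tactic

/-!
# Supports of some power series with nonnegative coefficients
-/

open MvPowerSeries Finset

namespace Groth.Agent.CohDer1.HodgeSeries

local notation "S" => MvPowerSeries (Fin 2) ℤ

/-- An exponent. -/
noncomputable def ix (p q : ℕ) : Fin 2 →₀ ℕ := Finsupp.single 0 p + Finsupp.single 1 q

@[simp] lemma ix_zero (p q : ℕ) : ix p q 0 = p := by simp [ix]
@[simp] lemma ix_one (p q : ℕ) : ix p q 1 = q := by simp [ix]

lemma ix_eta (n : Fin 2 →₀ ℕ) : ix (n 0) (n 1) = n := by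
  ext i; fin_cases i <;> simp

lemma ix_eq_iff {p q p' q' : ℕ} : ix p q = ix p' q' ↔ p = p' ∧ q = q' :=
  ⟨fun h => ⟨by simpa using DFunLike.congr_fun h 0, by simpa using DFunLike.congr_fun h 1⟩,
    fun h => by rw [h.1, h.2]⟩

lemma ix_add (p q p' q' : ℕ) : ix p q + ix p' q' = ix (p + p') (q + q') := by
  ext i; fin_cases i <;> simp

/-- All coefficients are nonnegative, and the positive ones are at the places in `s`. -/
def HasSupp (f : S) (s : ℕ → ℕ → Prop) : Prop :=
  ∀ p q, 0 ≤ coeff (ix p q) f ∧ (coeff (ix p q) f ≠ 0 ↔ s p q)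

lemma HasSupp.congr {f : S} {s t : ℕ → ℕ → Prop} (h : HasSupp f s) (hst : ∀ p q, s p q ↔ t p q) :
    HasSupp f t :=
  fun p q => ⟨(h p q).1, (h p q).2.trans (hst p q)⟩

lemma HasSupp.nonneg {f : S} {s : ℕ → ℕ → Prop} (h : HasSupp f s) (n : Fin 2 →₀ ℕ) : 0 ≤ coeff n f := by
  rw [← ix_eta n]; exact (h _ _).1

lemma hasSupp_mul {f g : S} {s t : ℕ → ℕ → Prop} (hf : HasSupp f s) (hg : HasSupp g t) :
    HasSupp (f * g) (fun p q => ∃ p₁ q₁ p₂ q₂, p₁ + p₂ = p ∧ q₁ + q₂ = q ∧ s p₁ q₁ ∧ t p₂ q₂) := by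
  intro p q
  classical
  have hnn : ∀ x ∈ antidiagonal (ix p q), 0 ≤ coeff x.1 f * coeff x.2 g := fun x _ =>
    mul_nonneg (hf.nonneg _) (hg.nonneg _)
  rw [MvPowerSeries.coeff_mul]
  refine ⟨Finset.sum_nonneg hnn, ?_⟩
  rw [Ne, Finset.sum_eq_zero_iff_of_nonneg hnn]
  constructor
  · intro h
    push Not at h
    obtain ⟨⟨a, b⟩, hab, hne⟩ := h
    rw [Finset.mem_antidiagonal] at hab
    rw [← ix_eta a, ← ix_eta b] at hne
    have e0 := DFunLike.congr_fun hab 0
    have e1 := DFunLike.congr_fun hab 1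
    simp only [Finsupp.add_apply, ix_zero, ix_one] at e0 e1
    exact ⟨a 0, a 1, b 0, b 1, e0, e1, (hf _ _).2.1 (left_ne_zero_of_mul hne),
      (hg _ _).2.1 (right_ne_zero_of_mul hne)⟩
  · rintro ⟨p₁, q₁, p₂, q₂, hp, hq, h1, h2⟩ h
    have := h (ix p₁ q₁, ix p₂ q₂) (by rw [Finset.mem_antidiagonal, ix_add, hp, hq])
    rcases mul_eq_zero.1 this with h' | h'
    · exact (hf p₁ q₁).2.2 h1 h'
    · exact (hg p₂ q₂).2.2 h2 h'

lemma hasSupp_sum {ι : Type*} (I : Finset ι) (f : ι → S) (s : ι → ℕ → ℕ → Prop)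
    (h : ∀ i ∈ I, HasSupp (f i) (s i)) :
    HasSupp (∑ i ∈ I, f i) (fun p q => ∃ i ∈ I, s i p q) := by
  intro p q
  rw [map_sum]
  refine ⟨Finset.sum_nonneg fun i hi => (h i hi p q).1, ?_⟩
  rw [Ne, Finset.sum_eq_zero_iff_of_nonneg fun i hi => (h i hi p q).1]
  constructor
  · intro h'
    push Not at h'
    obtain ⟨i, hi, hne⟩ := h'
    exact ⟨i, hi, (h i hi p q).2.1 hne⟩
  · rintro ⟨i, hi, hs⟩ h'
    exact (h i hi p q).2.2 hs (h' i hi)

lemma hasSupp_zero : HasSupp 0 (fun _ _ => False) := fun p q => by simp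

lemma hasSupp_one : HasSupp 1 (fun p q => p = 0 ∧ q = 0) := by
  intro p q
  classical
  rw [coeff_one]
  have e : ix p q = 0 ↔ p = 0 ∧ q = 0 := by
    rw [show (0 : Fin 2 →₀ ℕ) = ix 0 0 by simp [ix], ix_eq_iff]
  simp only [e]
  split_ifs with h <;> simp [h]

lemma hasSupp_monomial (a : ℤ) (ha : 0 < a) (u v : ℕ) :
    HasSupp (monomial (ix u v) a) (fun p q => p = u ∧ q = v) := by
  intro p q
  classical
  rw [coeff_monomial]
  simp only [ix_eq_iff]
  split_ifs with h
  · exact ⟨ha.le, by simp [h, ha.ne']⟩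
  · exact ⟨le_rfl, by simp [h]⟩

lemma natCast_mul_X_pow (c u v : ℕ) :
    (c : S) * X 0 ^ u * X 1 ^ v = monomial (ix u v) (c : ℤ) := by
  rw [← map_natCast (MvPowerSeries.C (σ := Fin 2) (R := ℤ)), ← monomial_zero_eq_C_apply, X_pow_eq, X_pow_eq,
    monomial_mul_monomial, monomial_mul_monomial, zero_add, mul_one, mul_one]
  rfl

lemma hasSupp_sum_monomials (N : ℕ) (cond : ℕ → ℕ → Prop) [∀ u v, Decidable (cond u v)]
    (c : ℕ → ℕ → ℕ) (hc : ∀ u v, cond u v → 0 < c u v) (hN : ∀ u v, cond u v → u < N ∧ v < N) :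
    HasSupp (∑ u ∈ range N, ∑ v ∈ range N,
      if cond u v then (c u v : S) * X 0 ^ u * X 1 ^ v else 0) cond := by
  refine ((hasSupp_sum _ _ (fun u p q => ∃ v ∈ range N, cond u v ∧ p = u ∧ q = v) fun u _ =>
    hasSupp_sum _ _ (fun v p q => cond u v ∧ p = u ∧ q = v) fun v _ => ?_)).congr fun p q => ?_
  · split_ifs with h
    · rw [natCast_mul_X_pow]
      exact (hasSupp_monomial _ (by exact_mod_cast hc u v h) u v).congr fun p q => by simp [h]
    · exact hasSupp_zero.congr fun p q => by simp [h]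
  · constructor
    · rintro ⟨u, -, v, -, h, rfl, rfl⟩; exact h
    · exact fun h => ⟨p, mem_range.2 (hN p q h).1, q, mem_range.2 (hN p q h).2, h, rfl, rfl⟩

/-- The series of a hypersurface. -/
lemma hasSupp_hypersurface (b : ℕ) (Ps Ns H : S)
    (hP : HasSupp Ps (fun u v => 1 ≤ u ∧ 1 ≤ v ∧ u + v ≤ b))
    (hN : HasSupp Ns (fun u v => u + v + 2 ≤ b)) (h : (1 - Ps) * H = Ns) :
    HasSupp H (fun p q => p + q + 2 ≤ p * b + b ∧ p + q + 2 ≤ q * b + b) := by
  classical
  have hrec : H = Ns + Ps * H := by rw [← h]; ring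
  intro p
  induction p using Nat.strong_induction_on with
  | _ p ih =>
  intro q
  have hnn : ∀ x ∈ antidiagonal (ix p q), 0 ≤ coeff x.1 Ps * coeff x.2 H := by
    rintro ⟨a, c⟩ hx
    rw [Finset.mem_antidiagonal] at hx
    by_cases ha : coeff a Ps = 0
    · simp [ha]
    · rw [← ix_eta a] at ha
      obtain ⟨hu, -, -⟩ := (hP _ _).2.1 ha
      have e0 := DFunLike.congr_fun hx 0
      simp only [Finsupp.add_apply, ix_zero] at e0
      refine mul_nonneg (hP.nonneg _) ?_
      rw [← ix_eta c]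
      exact (ih (c 0) (by omega) _).1
  have key : coeff (ix p q) H =
      coeff (ix p q) Ns + ∑ x ∈ antidiagonal (ix p q), coeff x.1 Ps * coeff x.2 H := by
    conv_lhs => rw [hrec]
    rw [map_add, MvPowerSeries.coeff_mul]
  rw [key]
  have hn0 := (hN p q).1
  have hs0 := Finset.sum_nonneg hnn
  refine ⟨add_nonneg hn0 hs0, ?_⟩
  rw [Ne, add_eq_zero_iff_of_nonneg hn0 hs0, Finset.sum_eq_zero_iff_of_nonneg hnn, not_and_or]
  constructor
  · rintro (hne | hne)
    · have := (hN p q).2.1 hne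
      exact ⟨by nlinarith, by nlinarith⟩
    · push Not at hne
      obtain ⟨⟨a, c⟩, hx, hne⟩ := hne
      rw [Finset.mem_antidiagonal] at hx
      rw [← ix_eta a, ← ix_eta c] at hne
      obtain ⟨hu, hv, huv⟩ := (hP _ _).2.1 (left_ne_zero_of_mul hne)
      have e0 := DFunLike.congr_fun hx 0
      have e1 := DFunLike.congr_fun hx 1
      simp only [Finsupp.add_apply, ix_zero, ix_one] at e0 e1
      obtain ⟨g1, g2⟩ := (ih (c 0) (by omega) _).2.1 (right_ne_zero_of_mul hne)
      exact ⟨by nlinarith, by nlinarith⟩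
  · rintro ⟨h1, h2⟩
    by_cases hpq : p = 0 ∨ q = 0
    · left
      refine (hN p q).2.2 ?_
      rcases hpq with rfl | rfl <;> omega
    · right
      push Not at hpq ⊢
      have hb : 2 ≤ b := by
        by_contra hb
        have : p * b ≤ p * 1 := Nat.mul_le_mul_left _ (by omega)
        omega
      obtain ⟨u, v, hu, hv, huv, hup, hvq, g1, g2⟩ : ∃ u v, 1 ≤ u ∧ 1 ≤ v ∧ u + v ≤ b ∧ u ≤ p ∧ v ≤ q ∧
          (p - u) + (q - v) + 2 ≤ (p - u) * b + b ∧ (p - u) + (q - v) + 2 ≤ (q - v) * b + b := by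
        obtain ⟨p', rfl⟩ : ∃ p', p = p' + 1 := ⟨p - 1, by omega⟩
        obtain ⟨q', rfl⟩ : ∃ q', q = q' + 1 := ⟨q - 1, by omega⟩
        rcases le_total p' q' with hle | hle
        · refine ⟨1, min (b - 1) (q' - p' + 1), le_rfl, by omega, by omega, by omega, by omega, ?_, ?_⟩
          all_goals
            rcases min_choice (b - 1) (q' - p' + 1) with hm | hm <;> rw [hm]
          all_goals
            have := min_le_left (b - 1) (q' - p' + 1)
            have := min_le_right (b - 1) (q' - p' + 1)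
            simp only [Nat.add_sub_cancel]
          · rw [add_mul] at h1; omega
          · have : p' * 2 ≤ p' * b := Nat.mul_le_mul_left _ hb
            omega
          · have e : p' * b ≤ (q' + 1 - (b - 1)) * b := Nat.mul_le_mul_right _ (by omega)
            rw [add_mul] at h1
            omega
          · have : q' + 1 - (q' - p' + 1) = p' := by omega
            rw [this]
            have : p' * 2 ≤ p' * b := Nat.mul_le_mul_left _ hb
            omega
        · refine ⟨min (b - 1) (p' - q' + 1), 1, by omega, le_rfl, by omega, by omega, by omega, ?_, ?_⟩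
          all_goals
            rcases min_choice (b - 1) (p' - q' + 1) with hm | hm <;> rw [hm]
          all_goals
            have := min_le_left (b - 1) (p' - q' + 1)
            have := min_le_right (b - 1) (p' - q' + 1)
            simp only [Nat.add_sub_cancel]
          · have e : q' * b ≤ (p' + 1 - (b - 1)) * b := Nat.mul_le_mul_right _ (by omega)
            rw [add_mul] at h2
            omega
          · have : p' + 1 - (p' - q' + 1) = q' := by omega
            rw [this]
            have : q' * 2 ≤ q' * b := Nat.mul_le_mul_left _ hb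
            omega
          · rw [add_mul] at h2; omega
          · have : q' * 2 ≤ q' * b := Nat.mul_le_mul_left _ hb
            omega
      refine ⟨(ix u v, ix (p - u) (q - v)), ?_, mul_ne_zero ((hP u v).2.2 ⟨hu, hv, huv⟩)
        ((ih (p - u) (by omega) _).2.2 ⟨g1, g2⟩)⟩
      rw [Finset.mem_antidiagonal, ix_add]
      exact ix_eq_iff.2 ⟨by omega, by omega⟩

lemma hasSupp_binomial (k : ℕ) :
    HasSupp (((1 + X 0) * (1 + X 1)) ^ k : S) (fun e g => e ≤ k ∧ g ≤ k) := by
  induction k with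
  | zero => rw [pow_zero]; exact hasSupp_one.congr fun p q => by omega
  | succ k ih =>
    have hfac : HasSupp ((1 + X 0) * (1 + X 1) : S) (fun e g => e ≤ 1 ∧ g ≤ 1) := by
      have := hasSupp_sum_monomials 2 (fun u v => u ≤ 1 ∧ v ≤ 1) (fun _ _ => 1) (fun _ _ _ => one_pos)
        (fun u v h => ⟨by omega, by omega⟩)
      have e : (∑ u ∈ range 2, ∑ v ∈ range 2,
          if u ≤ 1 ∧ v ≤ 1 then ((1 : ℕ) : S) * X 0 ^ u * X 1 ^ v else 0) = (1 + X 0) * (1 + X 1) := by
        simp [Finset.sum_range_succ]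
        ring
      rwa [e] at this
    rw [pow_succ]
    refine (hasSupp_mul ih hfac).congr fun p q => ⟨?_, fun h => ⟨min p k, min q k, p - min p k, q - min q k, ?_⟩⟩
    · rintro ⟨p₁, q₁, p₂, q₂, rfl, rfl, h1, h2⟩; omega
    · omega

section Product

variable {ι : Type*} [DecidableEq ι] (a : ι → ℕ) (Hs : ι → S)

/-- The support of a hypersurface series. -/
abbrev supp1 (b p q : ℕ) : Prop := p + q + 2 ≤ p * b + b ∧ p + q + 2 ≤ q * b + b

variable {a Hs} (hH : ∀ i, HasSupp (Hs i) (supp1 (a i)))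
include hH

lemma prod_nonneg (P : Finset ι) : ∃ s, HasSupp (∏ i ∈ P, Hs i) s := by
  induction P using Finset.induction_on with
  | empty => exact ⟨_, by rw [Finset.prod_empty]; exact hasSupp_one⟩
  | insert i P hi ih =>
    obtain ⟨s, hs⟩ := ih
    exact ⟨_, by rw [Finset.prod_insert hi]; exact hasSupp_mul (hH i) hs⟩

lemma prod_upper (A : ℕ) (hA : ∀ i, a i ≤ A) (P : Finset ι) : ∀ p q,
    coeff (ix p q) (∏ i ∈ P, Hs i) ≠ 0 → p + q + 2 * P.card ≤ p * A + ∑ i ∈ P, a i := by
  induction P using Finset.induction_on with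
  | empty =>
    intro p q h
    rw [Finset.prod_empty] at h
    obtain ⟨rfl, rfl⟩ := (hasSupp_one p q).2.1 h
    simp
  | insert i P hi ih =>
    intro p q h
    obtain ⟨s, hs⟩ := prod_nonneg hH P
    rw [Finset.prod_insert hi] at h
    obtain ⟨p₁, q₁, p₂, q₂, rfl, rfl, ⟨h1, -⟩, h2⟩ := (hasSupp_mul (hH i) hs p q).2.1 h
    have h3 := ih p₂ q₂ ((hs p₂ q₂).2.2 h2)
    have h4 : p₁ * a i ≤ p₁ * A := Nat.mul_le_mul_left _ (hA i)
    rw [Finset.card_insert_of_notMem hi, Finset.sum_insert hi, add_mul]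
    omega

lemma prod_lower (P : Finset ι) (hP : ∀ i ∈ P, 2 ≤ a i) : ∀ q, q + 2 * P.card ≤ ∑ i ∈ P, a i →
    coeff (ix 0 q) (∏ i ∈ P, Hs i) ≠ 0 := by
  induction P using Finset.induction_on with
  | empty =>
    intro q h
    rw [Finset.prod_empty]
    exact (hasSupp_one 0 q).2.2 ⟨rfl, by simpa using h⟩
  | insert i P hi ih =>
    intro q h
    obtain ⟨s, hs⟩ := prod_nonneg hH P
    rw [Finset.card_insert_of_notMem hi, Finset.sum_insert hi] at h
    rw [Finset.prod_insert hi]
    have hai := hP i (mem_insert_self _ _)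
    have hcard : 2 * P.card ≤ ∑ j ∈ P, a j := by
      have : P.card * 2 ≤ ∑ j ∈ P, a j := by
        simpa using Finset.card_nsmul_le_sum P (fun j => a j) 2 fun j hj => hP j (mem_insert_of_mem hj)
      omega
    refine (hasSupp_mul (hH i) hs 0 q).2.2 ⟨0, min q (a i - 2), 0, q - min q (a i - 2), rfl, by omega,
      ⟨by rw [zero_mul]; omega, ?_⟩, (hs _ _).2.1 (ih (fun j hj => hP j (mem_insert_of_mem hj)) _ ?_)⟩
    · have : min q (a i - 2) + 2 ≤ a i := by omega
      exact le_add_left (by omega)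
    · omega

end Product

theorem main (d : ℕ) (a : Fin d → ℕ) (ha : ∀ i, 1 ≤ a i) (Hs : Fin d → S) (p q : ℕ) (hpq : p ≤ q)
    (hH : ∀ i, HasSupp (Hs i) (supp1 (a i))) :
    coeff (ix p q) (∑ P ∈ (Finset.univ : Finset (Fin d)).powerset with P.Nonempty,
      (((1 + X 0) * (1 + X 1)) ^ (P.card - 1) * ∏ i ∈ P, Hs i : S)) ≠ 0 ↔
      p + q + d < p * Finset.univ.sup a + ∑ i, a i := by
  classical
  choose s hs using fun P => prod_nonneg hH P
  rw [(hasSupp_sum _ _ _ fun P _ => hasSupp_mul (hasSupp_binomial (P.card - 1)) (hs P) ) p q |>.2]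
  set A := Finset.univ.sup a
  constructor
  · rintro ⟨P, hP, e, g, p', q', rfl, rfl, ⟨he, hg⟩, hc⟩
    have hm : 1 ≤ P.card := Finset.card_pos.2 (mem_filter.1 hP).2
    have h1 := prod_upper hH A (fun i => Finset.le_sup (mem_univ i)) P p' q' ((hs P p' q').2.2 hc)
    have h2 : (d - P.card) + ∑ i ∈ P, a i ≤ ∑ i, a i := by
      rw [← Finset.sum_sdiff (subset_univ P)]
      have : (univ \ P).card * 1 ≤ ∑ j ∈ univ \ P, a j := by
        simpa using Finset.card_nsmul_le_sum (univ \ P) (fun j => a j) 1 fun j _ => ha j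
      rw [Finset.card_univ_diff, Fintype.card_fin, mul_one] at this
      omega
    have hA : 1 ≤ A := by
      obtain ⟨i, -⟩ := (mem_filter.1 hP).2
      exact (ha i).trans (Finset.le_sup (mem_univ i))
    have h3 : e * 1 ≤ e * A := Nat.mul_le_mul_left _ hA
    have h4 : P.card ≤ d := by simpa using Finset.card_le_univ P
    rw [add_mul]
    omega
  · intro h
    set P := (Finset.univ : Finset (Fin d)).filter (fun i => 2 ≤ a i) with hPdef
    have hsum : ∑ i, a i + P.card = ∑ i ∈ P, a i + d := by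
      rw [← Finset.sum_sdiff (subset_univ P)]
      have h1 : ∑ i ∈ univ \ P, a i = (univ \ P).card := by
        rw [Finset.card_eq_sum_ones]
        refine Finset.sum_congr rfl fun i hi => ?_
        have := ha i
        simp [hPdef] at hi
        omega
      rw [h1, Finset.card_univ_diff, Fintype.card_fin]
      have : P.card ≤ d := by simpa using Finset.card_le_univ P
      omega
    have hne : P.Nonempty := by
      by_contra hne
      rw [Finset.not_nonempty_iff_eq_empty] at hne
      rw [hne] at hsum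
      simp only [Finset.card_empty, Finset.sum_empty, add_zero, zero_add] at hsum
      have hA1 : A ≤ 1 := Finset.sup_le fun i _ => by
        by_contra hi
        have : i ∈ P := by simp [hPdef]; omega
        simp [hne] at this
      have : p * A ≤ p * 1 := Nat.mul_le_mul_left _ hA1
      omega
    haveI : Nonempty (Fin d) := ⟨hne.choose⟩
    obtain ⟨j, -, hj⟩ := Finset.exists_mem_eq_sup (univ : Finset (Fin d)) univ_nonempty a
    have hjP : j ∈ P := by
      obtain ⟨i, hi⟩ := hne
      have h2 : 2 ≤ a i := (mem_filter.1 hi).2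
      have h3 : a i ≤ A := Finset.le_sup (mem_univ i)
      simp only [hPdef, mem_filter, mem_univ, true_and]
      change A = a j at hj
      omega
    change A = a j at hj
    have hj2 : 2 ≤ a j := (mem_filter.1 hjP).2
    rw [hj] at h
    rw [← Finset.add_sum_erase _ _ hjP] at hsum
    have hcard : (P.erase j).card + 1 = P.card := Finset.card_erase_add_one hjP
    have hB : 2 * (P.erase j).card ≤ ∑ i ∈ P.erase j, a i := by
      have : (P.erase j).card * 2 ≤ ∑ i ∈ P.erase j, a i := by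
        simpa using Finset.card_nsmul_le_sum (P.erase j) (fun i => a i) 2 fun i hi =>
          (mem_filter.1 (mem_of_mem_erase hi)).2
      omega
    have hp2 : p * 2 ≤ p * a j := Nat.mul_le_mul_left _ hj2
    -- distribute `q`
    let g := min (P.card - 1) (q - p)
    let qr := min (∑ i ∈ P.erase j, a i - 2 * (P.erase j).card) (q - p - g)
    have hqj : p + (q - g - qr) + 2 ≤ p * a j + a j := by omega
    refine ⟨P, mem_filter.2 ⟨mem_powerset.2 (subset_univ _), hne⟩, 0, g, p, q - g, by omega, by omega,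
      ⟨Nat.zero_le _, min_le_left _ _⟩, (hs P p (q - g)).2.1 ?_⟩
    rw [← Finset.mul_prod_erase P Hs hjP]
    refine (hasSupp_mul (hH j) (hs (P.erase j)) p (q - g)).2.2
      ⟨p, q - g - qr, 0, qr, add_zero p, by omega, ⟨hqj, ?_⟩,
        (hs (P.erase j) 0 qr).2.1 (prod_lower hH _ (fun i hi => (mem_filter.1 (mem_of_mem_erase hi)).2) _ ?_)⟩
    swap
    · exact (Nat.add_le_add_right (min_le_left _ _) _).trans (Nat.sub_add_cancel hB).le
    have hle : p * a j ≤ (q - g - qr) * a j := Nat.mul_le_mul_right _ (by omega)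
    omega

end Groth.Agent.CohDer1.HodgeSeries
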