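import Mathlib

/-!
# Morphisms between truncated objects of the derived category
-/

set_option autoImplicit false
set_option backward.isDefEq.respectTransparency.types false
set_option linter.style.haveILetI false
set_option maxHeartbeats 400000

universe w v u

open CategoryTheory CategoryTheory.Limits CategoryTheory.Pretriangulated CategoryTheory.Triangulated
open DerivedCategory DerivedCategory.TStructure

namespace Groth.Agent.CohDer1.HomTrunc

variable {A : Type u} [Category.{v} A] [Abelian A] [HasDerivedCategory.{w} A]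

local notation "H" => DerivedCategory.homologyFunctor A

theorem isZero_H_of_isLE (X : DerivedCategory A) (n i : ℤ) [X.IsLE n] (hi : n < i) : IsZero ((H i).obj X) :=
  isZero_of_isLE X n i hi

theorem isZero_H_of_isGE (X : DerivedCategory A) (n i : ℤ) [X.IsGE n] (hi : i < n) : IsZero ((H i).obj X) :=
  isZero_of_isGE X n i hi

theorem isIso_H_truncLTι (X : DerivedCategory A) (n i : ℤ) (hi : i < n) :
    IsIso ((H i).map (((TStructure.t (C := A)).truncLTι n).app X)) := by
  have hT := (TStructure.t (C := A)).triangleLTGE_distinguished n X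
  have h1 : Mono ((H i).map (((TStructure.t (C := A)).truncLTι n).app X)) :=
    (HomologySequence.mono_homologyMap_mor₁_iff _ hT (i - 1) i).2
      (IsZero.eq_of_src (isZero_H_of_isGE _ n _ (by lia)) _ _)
  have h2 : Epi ((H i).map (((TStructure.t (C := A)).truncLTι n).app X)) :=
    (HomologySequence.epi_homologyMap_mor₁_iff _ hT i).2
      (IsZero.eq_of_tgt (isZero_H_of_isGE _ n _ hi) _ _)
  exact isIso_of_mono_of_epi _

theorem isIso_H_truncGEπ (X : DerivedCategory A) (n i : ℤ) (hi : n ≤ i) :
    IsIso ((H i).map (((TStructure.t (C := A)).truncGEπ n).app X)) := by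
  have hT := (TStructure.t (C := A)).triangleLTGE_distinguished n X
  haveI : ((TStructure.t (C := A)).truncLT n).obj X |>.IsLE (n - 1) := inferInstance
  have h1 : Mono ((H i).map (((TStructure.t (C := A)).truncGEπ n).app X)) :=
    (HomologySequence.mono_homologyMap_mor₂_iff _ hT i).2
      (IsZero.eq_of_src (isZero_H_of_isLE _ (n - 1) _ (by lia)) _ _)
  have h2 : Epi ((H i).map (((TStructure.t (C := A)).truncGEπ n).app X)) :=
    (HomologySequence.epi_homologyMap_mor₂_iff _ hT i (i + 1)).2
      (IsZero.eq_of_tgt (isZero_H_of_isLE _ (n - 1) _ (by lia)) _ _)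
  exact isIso_of_mono_of_epi _

theorem map_injective_of_concentrated {X Y : DerivedCategory A} (n : ℤ) [X.IsGE n] [X.IsLE n] [Y.IsGE n] [Y.IsLE n]
    (f g : X ⟶ Y) (h : (H n).map f = (H n).map g) : f = g := by
  obtain ⟨X₀, ⟨eX⟩⟩ := exists_iso_singleFunctor_obj_of_isGE_of_isLE X n
  obtain ⟨Y₀, ⟨eY⟩⟩ := exists_iso_singleFunctor_obj_of_isGE_of_isLE Y n
  obtain ⟨a, ha⟩ := (singleFunctor A n).map_surjective (eX.inv ≫ f ≫ eY.hom)
  obtain ⟨b, hb⟩ := (singleFunctor A n).map_surjective (eX.inv ≫ g ≫ eY.hom)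
  have hab : a = b := by
    have h1 := NatIso.naturality_1 (singleFunctorCompHomologyFunctorIso A n) a
    have h2 := NatIso.naturality_1 (singleFunctorCompHomologyFunctorIso A n) b
    have h3 : (singleFunctor A n ⋙ H n).map a = (singleFunctor A n ⋙ H n).map b := by
      simp only [Functor.comp_map, ha, hb, Functor.map_comp, h]
    rw [h3] at h1
    exact h1.symm.trans h2
  subst hab
  rw [← cancel_epi eX.inv, ← cancel_mono eY.hom, Category.assoc, Category.assoc, ← ha, ← hb]

/-- A morphism from an object `≤ n` to an object `≥ n` is zero if it is so on `H^n`. -/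
theorem eq_zero {X Y : DerivedCategory A} (n : ℤ) [X.IsLE n] [Y.IsGE n] (f : X ⟶ Y) (h : (H n).map f = 0) : f = 0 := by
  let g := (TStructure.t (C := A)).descTruncGE f n
  have hg : ((TStructure.t (C := A)).truncGEπ n).app X ≫ g = f := (TStructure.t (C := A)).π_descTruncGE f n
  let k := (TStructure.t (C := A)).liftTruncLT g n (n + 1) rfl
  have hk : k ≫ ((TStructure.t (C := A)).truncLTι (n + 1)).app Y = g :=
    (TStructure.t (C := A)).liftTruncLT_ι g n (n + 1) rfl
  haveI := isIso_H_truncGEπ X n n le_rfl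
  haveI := isIso_H_truncLTι Y (n + 1) n (lt_add_one n)
  have h1 : (H n).map k = 0 := by
    rw [← cancel_mono ((H n).map (((TStructure.t (C := A)).truncLTι (n + 1)).app Y)),
      ← cancel_epi ((H n).map (((TStructure.t (C := A)).truncGEπ n).app X)), zero_comp, comp_zero,
      ← Functor.map_comp, ← Functor.map_comp, hk, hg, h]
  haveI : (((TStructure.t (C := A)).truncLT (n + 1)).obj Y).IsLE n :=
    (TStructure.t (C := A)).isLE_truncLT_obj Y (n + 1) n (by lia)
  have hk0 : k = 0 := map_injective_of_concentrated n k 0 (by rw [h1, Functor.map_zero])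
  rw [← hg, ← hk, hk0, zero_comp, comp_zero]

/-- A morphism out of an object `≤ n` which is zero on `H^n` factors through `τ_{<n}`. -/
theorem exists_lift {X Y : DerivedCategory A} (n : ℤ) [X.IsLE n] (f : X ⟶ Y) (h : (H n).map f = 0) :
    ∃ g : X ⟶ ((TStructure.t (C := A)).truncLT n).obj Y, g ≫ ((TStructure.t (C := A)).truncLTι n).app Y = f := by
  have h0 : f ≫ ((TStructure.t (C := A)).truncGEπ n).app Y = 0 :=
    eq_zero n _ (by rw [Functor.map_comp, h, zero_comp])
  obtain ⟨g, hg⟩ := Triangle.coyoneda_exact₂ _ ((TStructure.t (C := A)).triangleLTGE_distinguished n Y) f h0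
  exact ⟨g, hg.symm⟩

/-- A morphism into an object `≥ n` which is zero on `H^n` factors through `τ_{≥ n+1}`. -/
theorem exists_desc {X Y : DerivedCategory A} (n m : ℤ) (hm : n + 1 = m) [Y.IsGE n] (f : X ⟶ Y) (h : (H n).map f = 0) :
    ∃ g : ((TStructure.t (C := A)).truncGE m).obj X ⟶ Y, ((TStructure.t (C := A)).truncGEπ m).app X ≫ g = f := by
  haveI : (((TStructure.t (C := A)).truncLT m).obj X).IsLE n :=
    (TStructure.t (C := A)).isLE_truncLT_obj X m n (by lia)
  have h0 : ((TStructure.t (C := A)).truncLTι m).app X ≫ f = 0 :=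
    eq_zero n _ (by rw [Functor.map_comp, h, comp_zero])
  obtain ⟨g, hg⟩ := Triangle.yoneda_exact₂ _ ((TStructure.t (C := A)).triangleLTGE_distinguished m X) f h0
  exact ⟨g, hg.symm⟩

/-- A morphism from an object `≤ n` into `Q K` factors through `Q (K.truncLE n)`. -/
theorem exists_lift_Q {X : DerivedCategory A} (n : ℤ) [X.IsLE n] (K : CochainComplex A ℤ) (f : X ⟶ Q.obj K) :
    ∃ g : X ⟶ Q.obj (K.truncLE n), g ≫ Q.map (K.ιTruncLE n) = f := by
  let u := (TStructure.t (C := A)).liftTruncLT (Q.map (K.ιTruncLE n)) n (n + 1) rfl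
  have hu : u ≫ ((TStructure.t (C := A)).truncLTι (n + 1)).app (Q.obj K) = Q.map (K.ιTruncLE n) :=
    (TStructure.t (C := A)).liftTruncLT_ι _ n (n + 1) rfl
  haveI : (((TStructure.t (C := A)).truncLT (n + 1)).obj (Q.obj K)).IsLE n :=
    (TStructure.t (C := A)).isLE_truncLT_obj _ (n + 1) n (by lia)
  haveI : IsIso u := by
    rw [DerivedCategory.isIso_iff]
    intro i
    by_cases hi : i ≤ n
    · haveI := isIso_H_truncLTι (Q.obj K) (n + 1) i (by lia)
      haveI : IsIso ((H i).map (Q.map (K.ιTruncLE n))) := by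
        haveI := (quasiIsoAt_iff_isIso_homologyMap _ i).1 (K.quasiIsoAt_ιTruncLE n i hi)
        exact (NatIso.isIso_map_iff (homologyFunctorFactors A i) (K.ιTruncLE n)).2 this
      haveI : IsIso ((H i).map u ≫ (H i).map (((TStructure.t (C := A)).truncLTι (n + 1)).app (Q.obj K))) := by
        rw [← Functor.map_comp, hu]; infer_instance
      exact IsIso.of_isIso_comp_right ((H i).map u) ((H i).map (((TStructure.t (C := A)).truncLTι (n + 1)).app (Q.obj K)))
    · exact ⟨⟨0, (isZero_H_of_isLE _ n _ (by lia)).eq_of_src _ _, (isZero_H_of_isLE _ n _ (by lia)).eq_of_src _ _⟩⟩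
  exact ⟨(TStructure.t (C := A)).liftTruncLT f n (n + 1) rfl ≫ inv u, by
    rw [Category.assoc, ← hu, IsIso.inv_hom_id_assoc, (TStructure.t (C := A)).liftTruncLT_ι]⟩

/-- A morphism from `Q K` into an object `≥ n` factors through `Q (K.truncGE n)`. -/
theorem exists_desc_Q {Y : DerivedCategory A} (n : ℤ) [Y.IsGE n] (K : CochainComplex A ℤ) (f : Q.obj K ⟶ Y) :
    ∃ g : Q.obj (K.truncGE n) ⟶ Y, Q.map (K.πTruncGE n) ≫ g = f := by
  let u := (TStructure.t (C := A)).descTruncGE (Q.map (K.πTruncGE n)) n
  have hu : ((TStructure.t (C := A)).truncGEπ n).app (Q.obj K) ≫ u = Q.map (K.πTruncGE n) :=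
    (TStructure.t (C := A)).π_descTruncGE _ n
  haveI : IsIso u := by
    rw [DerivedCategory.isIso_iff]
    intro i
    by_cases hi : n ≤ i
    · haveI := isIso_H_truncGEπ (Q.obj K) n i hi
      haveI : IsIso ((H i).map (Q.map (K.πTruncGE n))) := by
        haveI := (quasiIsoAt_iff_isIso_homologyMap _ i).1 (K.quasiIsoAt_πTruncGE n i hi)
        exact (NatIso.isIso_map_iff (homologyFunctorFactors A i) (K.πTruncGE n)).2 this
      haveI : IsIso ((H i).map (((TStructure.t (C := A)).truncGEπ n).app (Q.obj K)) ≫ (H i).map u) := by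
        rw [← Functor.map_comp, hu]; infer_instance
      exact IsIso.of_isIso_comp_left ((H i).map (((TStructure.t (C := A)).truncGEπ n).app (Q.obj K))) ((H i).map u)
    · exact ⟨⟨0, (isZero_H_of_isGE _ n _ (by lia)).eq_of_src _ _, (isZero_H_of_isGE _ n _ (by lia)).eq_of_src _ _⟩⟩
  exact ⟨inv u ≫ (TStructure.t (C := A)).descTruncGE f n, by
    rw [← hu, Category.assoc, IsIso.hom_inv_id_assoc, (TStructure.t (C := A)).π_descTruncGE]⟩

/-- `H^i` of a map of complexes seen in the derived category. -/
theorem H_map_Q_eq_zero {K L : CochainComplex A ℤ} (f : K ⟶ L) (i : ℤ) (h : HomologicalComplex.homologyMap f i = 0) :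
    (H i).map (Q.map f) = 0 := by
  rw [← cancel_mono ((homologyFunctorFactors A i).hom.app L), homologyFunctorFactors_hom_naturality, h]
  exact comp_zero.trans zero_comp.symm

end Groth.Agent.CohDer1.HomTrunc
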