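import Mathlib

/-!
# A triangulated category with a bounded t-structure is idempotent complete
-/

set_option autoImplicit false
set_option backward.isDefEq.respectTransparency.types false
set_option linter.style.haveILetI false
set_option maxHeartbeats 400000

universe v u

open CategoryTheory CategoryTheory.Limits CategoryTheory.Pretriangulated CategoryTheory.Triangulated

namespace Groth.Agent.CohDer1.IdemTStructure

theorem exists_conj {R : Type*} [Ring R] (e f : R) (he : e * e = e) (hf : f * f = f) (hd : (e - f) * (e - f) = 0) :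
    ∃ u v : R, u * v = 1 ∧ v * u = 1 ∧ u * f * v = e := by
  have h : e + f - e * f - f * e = 0 := by
    rw [← hd, sub_mul, mul_sub, mul_sub, he, hf]; abel
  have hefe : e * f * e = e := by
    have := congrArg (fun z => e * z) h
    simp only [mul_sub, mul_add, mul_zero, ← mul_assoc, he] at this
    rw [add_sub_cancel_right] at this
    exact (sub_eq_zero.1 this).symm
  have hfef : f * e * f = f := by
    have := congrArg (fun z => f * z) h
    simp only [mul_sub, mul_add, mul_zero, ← mul_assoc, hf] at this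
    rw [show f * e + f - f * e * f - f * e = f - f * e * f by abel] at this
    exact (sub_eq_zero.1 this).symm
  have z1 : ∀ x : R, x * e * e = x * e := fun x => by rw [mul_assoc, he]
  have z2 : ∀ x : R, x * f * f = x * f := fun x => by rw [mul_assoc, hf]
  refine ⟨e * f + (1 - e) * (1 - f), f * e + (1 - f) * (1 - e), ?_, ?_, ?_⟩
  · simp only [mul_add, add_mul, mul_sub, sub_mul, mul_one, one_mul, ← mul_assoc, he, hf, z1, z2, hefe]
    linear_combination (norm := noncomm_ring) -h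
  · simp only [mul_add, add_mul, mul_sub, sub_mul, mul_one, one_mul, ← mul_assoc, he, hf, z1, z2, hfef]
    linear_combination (norm := noncomm_ring) -h
  · simp only [mul_add, add_mul, mul_sub, sub_mul, mul_one, one_mul, ← mul_assoc, he, hf, z1, z2, hefe]
    noncomm_ring

variable {C : Type u} [Category.{v} C] [Preadditive C]

/-- An endomorphism splits. -/
def Splits {X : C} (p : X ⟶ X) : Prop :=
  ∃ (Y : C) (i : Y ⟶ X) (e : X ⟶ Y), i ≫ e = 𝟙 Y ∧ e ≫ i = p

theorem splits_of_near {X : C} (e f : End X) (he : e * e = e) (hf : f * f = f) (hd : (e - f) * (e - f) = 0)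
    (h : Splits f) : Splits e := by
  obtain ⟨Y, i, r, h1, h2⟩ := h
  obtain ⟨u, v, huv, hvu, heq⟩ := exists_conj e f he hf hd
  refine ⟨Y, i ≫ u, v ≫ r, ?_, ?_⟩
  · rw [Category.assoc, ← Category.assoc (f := u), show u ≫ v = 𝟙 X from hvu, Category.id_comp, h1]
  · rw [Category.assoc, ← Category.assoc (f := r), h2]
    exact heq

variable [HasZeroObject C] [HasShift C ℤ] [∀ n : ℤ, (shiftFunctor C n).Additive] [Pretriangulated C]

theorem splits_of_triangle (T : Triangle C) (hT : T ∈ distTriang C) (e₁ : T.obj₁ ⟶ T.obj₁) (e₂ : T.obj₂ ⟶ T.obj₂)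
    (e₃ : T.obj₃ ⟶ T.obj₃) (he₂ : e₂ ≫ e₂ = e₂) (c₁ : T.mor₁ ≫ e₂ = e₁ ≫ T.mor₁) (c₂ : T.mor₂ ≫ e₃ = e₂ ≫ T.mor₂)
    (c₃ : T.mor₃ ≫ e₁⟦(1 : ℤ)⟧' = e₃ ≫ T.mor₃) (h₁ : Splits e₁) (h₃ : Splits e₃) : Splits e₂ := by
  obtain ⟨A, iA, rA, hA, hA'⟩ := h₁
  obtain ⟨B, iB, rB, hB, hB'⟩ := h₃
  obtain ⟨X, a, b, hT'⟩ := distinguished_cocone_triangle₂ (iB ≫ T.mor₃ ≫ rA⟦(1 : ℤ)⟧')
  have hr₃ : T.mor₃ ≫ rA⟦(1 : ℤ)⟧' = rB ≫ iB ≫ T.mor₃ ≫ rA⟦(1 : ℤ)⟧' := by
    rw [← Category.assoc rB, hB', ← Category.assoc, ← c₃, Category.assoc, ← Functor.map_comp, ← hA', Category.assoc, hA,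
      Category.comp_id]
  have hi₃ : (iB ≫ T.mor₃ ≫ rA⟦(1 : ℤ)⟧') ≫ iA⟦(1 : ℤ)⟧' = iB ≫ T.mor₃ := by
    simp only [Category.assoc]
    rw [← (shiftFunctor C (1 : ℤ)).map_comp rA iA, hA', c₃, ← hB', Category.assoc, reassoc_of% hB]
  obtain ⟨r, r₁, r₂⟩ := complete_distinguished_triangle_morphism₂ T (Triangle.mk a b _) hT hT' rA rB hr₃
  obtain ⟨i, i₁, i₂⟩ := complete_distinguished_triangle_morphism₂ (Triangle.mk a b _) T hT' hT iA iB hi₃
  change T.obj₂ ⟶ X at r
  change X ⟶ T.obj₂ at i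
  change T.mor₁ ≫ r = rA ≫ a at r₁
  change T.mor₂ ≫ rB = r ≫ b at r₂
  change a ≫ i = iA ≫ T.mor₁ at i₁
  change b ≫ iB = i ≫ T.mor₂ at i₂
  have q₁ : a ≫ i ≫ r = a := by rw [reassoc_of% i₁, r₁, reassoc_of% hA]
  have q₂ : (i ≫ r) ≫ b = b := by
    rw [Category.assoc, ← r₂, ← Category.assoc, ← i₂, Category.assoc, hB, Category.comp_id]
  have hiso : IsIso (i ≫ r) := isIso₂_of_isIso₁₃
    (Triangle.homMk (Triangle.mk a b _) (Triangle.mk a b _) (𝟙 _) (i ≫ r) (𝟙 _) (q₁.trans (Category.id_comp _).symm)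
      ((Category.comp_id _).trans q₂.symm)
      (by rw [CategoryTheory.Functor.map_id, Category.comp_id, Category.id_comp]))
    hT' hT' (IsIso.id _) (IsIso.id _)
  have q₁' : a ≫ inv (i ≫ r) = a := by rw [IsIso.comp_inv_eq, q₁]
  have q₂' : inv (i ≫ r) ≫ b = b := by rw [IsIso.inv_comp_eq, q₂]
  let e' : T.obj₂ ⟶ T.obj₂ := r ≫ inv (i ≫ r) ≫ i
  have he' : e' ≫ e' = e' := by
    simp only [e', Category.assoc]
    rw [← Category.assoc i r, IsIso.hom_inv_id_assoc]
  have c₁' : T.mor₁ ≫ e' = e₁ ≫ T.mor₁ := by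
    rw [show T.mor₁ ≫ e' = T.mor₁ ≫ r ≫ inv (i ≫ r) ≫ i from rfl, reassoc_of% r₁, reassoc_of% q₁', i₁, ← Category.assoc, hA']
  have c₂' : e' ≫ T.mor₂ = T.mor₂ ≫ e₃ := by
    simp only [e', Category.assoc]
    rw [← i₂, reassoc_of% q₂', ← reassoc_of% r₂, hB']
  obtain ⟨x, hx⟩ := Triangle.yoneda_exact₂ T hT (e₂ - e') (by rw [Preadditive.comp_sub, c₁, c₁', sub_self])
  obtain ⟨y, hy⟩ := Triangle.coyoneda_exact₂ T hT (e₂ - e') (by rw [Preadditive.sub_comp, ← c₂, c₂', sub_self])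
  have hd : (e₂ - e') ≫ (e₂ - e') = 0 := by
    conv_lhs => arg 1; rw [hy]
    conv_lhs => arg 2; rw [hx]
    rw [Category.assoc, ← Category.assoc T.mor₁, comp_distTriang_mor_zero₁₂ T hT, zero_comp, comp_zero]
  exact splits_of_near (e₂ : End T.obj₂) e' he₂ he' hd
    ⟨X, inv (i ≫ r) ≫ i, r, by rw [Category.assoc, IsIso.inv_hom_id], rfl⟩

variable [IsTriangulated C] (t : TStructure C)

theorem splits_compl_of_heart (n : ℤ) {X : C} [t.IsGE X n] [t.IsLE X n] (p : X ⟶ X) (hp : p ≫ p = p) :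
    Splits (𝟙 X - p) := by
  obtain ⟨Z, f, h, hT⟩ := distinguished_cocone_triangle₁ p
  obtain ⟨g, hg⟩ := Triangle.coyoneda_exact₂ _ hT (𝟙 X - p)
    (show (𝟙 X - p) ≫ p = 0 by rw [Preadditive.sub_comp, Category.id_comp, hp, sub_self])
  change X ⟶ Z at g
  have hfp : f ≫ p = 0 := comp_distTriang_mor_zero₁₂ _ hT
  let k : (t.truncLE n).obj Z ⟶ X := (t.truncLEι n).app Z ≫ f
  let r : X ⟶ (t.truncLE n).obj Z := t.liftTruncLE g n
  have hrk : r ≫ k = 𝟙 X - p := by
    rw [← Category.assoc]; erw [t.liftTruncLE_ι g n]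
    exact hg.symm
  have hkp : k ≫ p = 0 := by rw [Category.assoc, hfp, comp_zero]
  refine ⟨(t.truncLE n).obj Z, k, r, ?_, hrk⟩
  have h0 : (k ≫ r - 𝟙 _) ≫ (t.truncLEι n).app Z ≫ f = 0 := by
    show (k ≫ r - 𝟙 _) ≫ k = 0
    rw [Preadditive.sub_comp, Category.assoc, hrk, Preadditive.comp_sub, Category.comp_id, hkp, sub_zero,
      Category.id_comp, sub_self]
  obtain ⟨v, hv⟩ := Triangle.coyoneda_exact₂ _ (inv_rot_of_distTriang _ hT)
    ((k ≫ r - 𝟙 _) ≫ (t.truncLEι n).app Z) ((Category.assoc _ _ _).trans h0)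
  change (t.truncLE n).obj Z ⟶ X⟦(-1 : ℤ)⟧ at v
  haveI : t.IsGE (X⟦(-1 : ℤ)⟧) (n + 1) := t.isGE_shift _ n (-1) (n + 1) (by lia)
  rw [t.zero v n (n + 1) (by lia)] at hv
  exact sub_eq_zero.1 (t.to_truncLE_obj_ext (hv.trans (zero_comp.trans zero_comp.symm)))

theorem splits_of_amplitude : ∀ (m : ℕ) (a : ℤ) (X : C) (_ : t.IsGE X a) (_ : t.IsLE X (a + m)) (p : X ⟶ X),
    p ≫ p = p → Splits p
  | 0, a, X, hge, hle, p, hp => by
    haveI : t.IsLE X a := by simpa using hle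
    have := splits_compl_of_heart t a (𝟙 X - p) (by
      rw [Preadditive.sub_comp, Preadditive.comp_sub, Preadditive.comp_sub, hp, Category.comp_id, Category.comp_id,
        Category.id_comp, sub_self, sub_zero])
    rwa [sub_sub_cancel] at this
  | m + 1, a, X, hge, hle, p, hp => by
    let n : ℤ := a + m + 1
    haveI : t.IsLE X n := t.isLE_of_le X (a + (m + 1 : ℕ)) n (by simp [n]; lia)
    have hAge : t.IsGE ((t.truncLT n).obj X) a := inferInstance
    have hAle : t.IsLE ((t.truncLT n).obj X) (a + m) := t.isLE_truncLT_obj _ _ _ (by simp [n])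
    have hBge : t.IsGE ((t.truncGE n).obj X) n := inferInstance
    have hBle : t.IsLE ((t.truncGE n).obj X) n := inferInstance
    exact splits_of_triangle _ (t.triangleLTGE_distinguished n X) ((t.truncLT n).map p) p ((t.truncGE n).map p) hp
      ((t.truncLTι n).naturality p).symm ((t.truncGEπ n).naturality p).symm
      ((t.truncGEδLT n).naturality p).symm
      (splits_of_amplitude m a _ hAge hAle _ (by rw [← Functor.map_comp, hp]))
      (splits_of_amplitude 0 n _ hBge (by simpa using hBle) _ (by rw [← Functor.map_comp, hp]))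

theorem main (hb : ∀ X : C, t.bounded X) : IsIdempotentComplete C where
  idempotents_split X p hp := by
    obtain ⟨⟨a, ha⟩, b, hb⟩ := hb X
    exact splits_of_amplitude t (b - a).toNat a X ha (t.isLE_of_le X b _ (by lia)) p hp

end Groth.Agent.CohDer1.IdemTStructure
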