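import Groth.Agent.Misc15.DefoConnAlg
import Groth.Agent.Clifford24.Lipman.GG
import Groth.Agent.CurveRR24.RR
import Groth.Agent.SerreDual.Trace
import Groth.Agent.Coherent.CohBC.HomCorep

/-! Multiplication of sections is surjective when the kernel bundle has no `H¹`. -/

set_option autoImplicit false
set_option backward.isDefEq.respectTransparency.types false
set_option linter.style.haveILetI false
set_option maxHeartbeats 1000000
universe u

open CategoryTheory CategoryTheory.Limits AlgebraicGeometry Opposite TopologicalSpace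
open Groth.Agent Groth.Agent.Coherent Groth.Agent.PicLib Groth.Agent.AmpleLib Groth.Agent.DCat
open Groth.Agent.Misc15.DefoConnAlg (T T_tmul)

namespace Groth.Agent.CohDer1.KerMulSurj

variable {X : Scheme.{u}} (k : Type u) [Field k] [X.Over (Spec (CommRingCat.of k))]

/-- The free module. -/
noncomputable abbrev Fr (J : Type u) : X.Modules := ∐ fun _ : J => Coh.structureModule X

/-- The inclusion of a summand of a free module. -/
noncomputable def inc (J : Type u) (j : J) : Coh.structureModule X ⟶ (Fr (X := X) J) :=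
  Sigma.ι (fun _ : J => Coh.structureModule X) j

/-- The projection to a summand of a free module. -/
noncomputable def proj (J : Type u) [DecidableEq J] (i : J) :
    (Fr (X := X) J) ⟶ Coh.structureModule X :=
  Sigma.desc fun j => if i = j then 𝟙 (Coh.structureModule X) else 0

theorem inc_proj (J : Type u) [DecidableEq J] (i j : J) :
    inc (X := X) J j ≫ proj J i = if i = j then 𝟙 _ else 0 :=
  Sigma.ι_desc _ _

theorem sum_proj_inc (J : Type u) [DecidableEq J] [Fintype J] :
    ∑ i : J, proj (X := X) J i ≫ inc J i = 𝟙 _ := by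
  refine Sigma.hom_ext _ _ fun j => ?_
  show inc J j ≫ _ = inc J j ≫ _
  rw [Preadditive.comp_sum, Finset.sum_eq_single j]
  · rw [← Category.assoc, inc_proj, if_pos rfl, Category.id_comp, Category.comp_id]
  · intro i _ hij
    rw [← Category.assoc, inc_proj, if_neg hij, zero_comp]
  · simp

/-- Comparison of `H⁰` with global sections is natural. -/
theorem hhZero_natural {M N : X.Modules} (f : M ⟶ N) (x : Coh.HH X M 0) :
    CurveRR24.hhZero k N (SerreDual.hmap k f 0 x) =
      mapGA (baseHom k X) f (CurveRR24.hhZero k M x) := by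
  unfold SerreDual.hmap CurveRR24.hhZero
  simp only [LinearEquiv.trans_apply, LinearMap.coe_comp, LinearEquiv.coe_coe, Function.comp_apply]
  rw [← secA_natural]
  exact congrArg (secA (baseHom k X) N) ((SerreDual.hBE k N 0).apply_symm_apply _)

variable [IsProper (X ↘ Spec (CommRingCat.of k))]

include k in
theorem finite_of_bijective [Nontrivial Γ(X, ⊤)] {L : X.Modules} (hL : Coh.IsCoh L) {J : Type u}
    (ev : (Fr (X := X) J) ⟶ L) (hev : Function.Injective (ev.app ⊤)) : Finite J := by
  classical
  haveI := CurveRR24.finite_HH_of_isCoh k hL 0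
  haveI : Module.Finite k (GA (baseHom k X) L) := Module.Finite.equiv (CurveRR24.hhZero k L)
  let φ := baseHom k X
  let v : J → GA φ (Fr (X := X) J) := fun j => (inc J j).app ⊤ (1 : Γ(X, ⊤))
  have hv : LinearIndependent k v := by
    rw [linearIndependent_iff']
    intro s c hc i hi
    have h1 := congrArg (mapGA φ (proj J i)) hc
    rw [map_sum, map_zero, Finset.sum_eq_single i] at h1
    · rw [map_smul] at h1
      have h2 : (proj (X := X) J i).app ⊤ ((inc J i).app ⊤ (1 : Γ(X, ⊤))) = (1 : Γ(X, ⊤)) := by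
        show (inc J i ≫ proj J i).app ⊤ _ = _
        rw [inc_proj, if_pos rfl]
        rfl
      have h3 : φ (c i) * (1 : Γ(X, ⊤)) = 0 := (congrArg (fun z : Γ(X, ⊤) => φ (c i) * z) h2.symm).trans h1
      rw [mul_one] at h3
      exact φ.injective (h3.trans (map_zero φ).symm)
    · intro j _ hji
      rw [map_smul]
      have h2 : (proj (X := X) J i).app ⊤ ((inc J j).app ⊤ (1 : Γ(X, ⊤))) = 0 := by
        show (inc J j ≫ proj J i).app ⊤ _ = _
        rw [inc_proj, if_neg (Ne.symm hji)]
        rfl
      refine (congrArg (fun z : Γ(X, ⊤) => φ (c j) * z) h2).trans ?_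
      exact mul_zero _
    · exact fun h => absurd hi h
  exact (hv.map_injOn (mapGA φ ev) (hev.injOn)).finite

include k in
theorem surjective_mul {L : X.Modules} (hL : PicF.IsInvertible L) {J : Type u}
    (ev : (Fr (X := X) J) ⟶ L) [Epi ev]
    (hev : Function.Bijective (Sheaf.H.map ((SheafOfModules.toSheaf X.ringCatSheaf).map ev) 0))
    (N : X.Modules) (hvan : Subsingleton (Coh.HH X (CohB1.tensorMod (kernel ev) N) 1)) :
    Function.Surjective ((toSheafify (Opens.grothendieckTopology ↥X)
      (CohB1.tensorPre L N).presheaf).app (Opposite.op ⊤)) := by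
  classical
  intro z
  by_cases hX : Nontrivial Γ(X, ⊤)
  swap
  · haveI := not_nontrivial_iff_subsingleton.1 hX
    haveI : Subsingleton Γ(CohB1.tensorMod L N, ⊤) := Module.subsingleton Γ(X, ⊤) _
    exact ⟨0, Subsingleton.elim (α := Γ(CohB1.tensorMod L N, ⊤)) _ _⟩
  have hinj : Function.Injective (ev.app ⊤) := by
    intro a b hab
    let φ := baseHom k X
    have := hev.1 (a₁ := (CurveRR24.hhZero k _).symm a) (a₂ := (CurveRR24.hhZero k _).symm b) (by
      rw [← SerreDual.hmap_eq k, ← SerreDual.hmap_eq k]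
      apply (CurveRR24.hhZero k L).injective
      rw [hhZero_natural k, hhZero_natural k, LinearEquiv.apply_symm_apply, LinearEquiv.apply_symm_apply]
      exact hab)
    exact (CurveRR24.hhZero k _).symm.injective this
  haveI := finite_of_bijective k (CurveRR24.isCoh_of_isInvertible k hL) ev hinj
  haveI : Fintype J := Fintype.ofFinite J
  let S : ShortComplex X.Modules := ShortComplex.mk (kernel.ι ev) ev (kernel.condition _)
  haveI : Coh.IsQCoh S.X₃ := (CurveRR24.isCoh_of_isInvertible k hL).1
  have hS : S.ShortExact := { exact := ShortComplex.exact_kernel ev }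
  have hT := Misc15.DefoConnAlg.shortExact_tensor hS (fun x => let ⟨U, hx, e⟩ := PicLib.isFinLocFreeOfRank_one hL x; ⟨U, 1, hx, e⟩) N
  obtain ⟨y, hy⟩ := Lipman24.surjective_app_top hT hvan (show Γ(CohB1.tensorMod L N, ⊤) from z)
  let F := (shT X).flip.obj N
  have hsum : (∑ i : J, T N (proj J i) ≫ T N (inc J i)) = 𝟙 (CohB1.tensorMod (Fr (X := X) J) N) := by
    refine hom_ext fun U a b => ?_
    rw [Coherent.app_sum]
    have h1 : ∀ i : J, (T N (proj J i) ≫ T N (inc J i)).app U (tmul a b) =
        tmul ((proj J i ≫ inc J i).app U a) b := fun i => by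
      show (T N (inc J i)).app U ((T N (proj J i)).app U (tmul a b)) = _
      rw [T_tmul, T_tmul]
      rfl
    rw [Finset.sum_congr rfl fun i _ => h1 i]
    let g : Γ((Fr (X := X) J), U) →+ Γ(CohB1.tensorMod (Fr (X := X) J) N, U) :=
      AddMonoidHom.mk' (fun a => tmul a b) (fun a a' => tmul_add_left _ _ _)
    have h2 := map_sum g (fun i : J => (proj J i ≫ inc J i).app U a) Finset.univ
    refine h2.symm.trans (congrArg g ?_)
    rw [← Coherent.app_sum, sum_proj_inc]
    rfl
  let n : J → Γ(N, ⊤) := fun i => (unitTensorIso N).hom.app ⊤ ((T N (proj J i)).app ⊤ y)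
  let e : J → Γ(L, ⊤) := fun i => ev.app ⊤ ((inc J i).app ⊤ (1 : Γ(X, ⊤)))
  let Θ := (toSheafify (Opens.grothendieckTopology ↥X) (CohB1.tensorPre L N).presheaf).app (Opposite.op ⊤)
  have hw : ∀ i, ∃ w, Θ w = tmul (e i) (n i) := fun i => ⟨_, rfl⟩
  choose w hw using hw
  refine ⟨∑ i, w i, (map_sum Θ.hom _ _).trans ((Finset.sum_congr rfl fun i _ => hw i).trans ?_)⟩
  show (∑ i, tmul (e i) (n i) : Γ(CohB1.tensorMod L N, ⊤)) = z
  refine Eq.trans ?_ hy
  have h3 : y = ∑ i : J, (T N (inc J i)).app ⊤ ((T N (proj J i)).app ⊤ y) := by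
    conv_lhs => rw [show y = (𝟙 (CohB1.tensorMod (Fr (X := X) J) N) : _ ⟶ _).app ⊤ y from rfl]
    rw [← hsum, Coherent.app_sum]
    rfl
  rw [show (S.map ((shT X).flip.obj N)).g = T N ev from Misc15.DefoConnAlg.flip_map N ev]
  conv_rhs => rw [h3]
  refine Eq.trans ?_ (map_sum ((T N ev).app ⊤).hom _ _).symm
  refine Finset.sum_congr rfl fun i _ => ?_
  have h4 : (T N (proj J i)).app ⊤ y = tmul (show Γ(Coh.structureModule X, ⊤) from (1 : Γ(X, ⊤))) (n i) :=
    (ConcreteCategory.congr_hom (congrArg (fun ψ => Scheme.Modules.Hom.app ψ ⊤) (unitTensorIso N).hom_inv_id)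
      ((T N (proj J i)).app ⊤ y)).symm
  rw [h4, T_tmul]
  exact (T_tmul ev ⊤ _ _).symm

include k in
theorem surjective_mul_pow {L : X.Modules} (hL : PicF.IsInvertible L) {J : Type u}
    (ev : (Fr (X := X) J) ⟶ L) [Epi ev]
    (hev : Function.Bijective (Sheaf.H.map ((SheafOfModules.toSheaf X.ringCatSheaf).map ev) 0))
    (P Q : X.Modules)
    (hvan : Subsingleton (Coh.HH X (CohB1.tensorMod (CohB1.tensorMod P (kernel ev)) Q) 1)) :
    Function.Surjective ((toSheafify (Opens.grothendieckTopology ↥X)
      (CohB1.tensorPre L (CohB1.tensorMod P Q)).presheaf).app (Opposite.op ⊤)) :=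
  surjective_mul k hL ev hev _ (CurveRR24.subsingleton_HH_congr
    (CohBC.assocMod (kernel ev) P Q ≪≫ AmpleLib.tensorIso (tensorComm (kernel ev) P) (Iso.refl Q)).symm 1 hvan)

end Groth.Agent.CohDer1.KerMulSurj
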