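import Groth.Agent.CohDer1.ConeBifunctor
import Groth.Prelude.Def_Koszul
import Groth.Prelude.Def_DTen
import Mathlib.Algebra.Homology.Monoidal
import Mathlib.Algebra.Category.ModuleCat.Monoidal.Basic

/-!
# The tensor product of two Koszul complexes
-/

universe u

open CategoryTheory Category Limits MonoidalCategory CochainComplex

namespace Groth.Agent.CohDer1.KoszulTensor

variable {A : Type u} [CommRing A]

/-- Cones of multiplications of isomorphic complexes. -/
noncomputable def coneCongr {C D : CochainComplex (ModuleCat.{u} A) ℤ} (e : C ≅ D) (a : A) :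
    mappingCone (a • 𝟙 C) ≅ mappingCone (a • 𝟙 D) where
  hom := mappingCone.map _ _ e.hom e.hom (by simp [Linear.smul_comp, Linear.comp_smul])
  inv := mappingCone.map _ _ e.inv e.inv (by simp [Linear.smul_comp, Linear.comp_smul])
  hom_inv_id := by rw [← mappingCone.map_comp]; simp [mappingCone.map_id]
  inv_hom_id := by rw [← mappingCone.map_comp]; simp [mappingCone.map_id]

lemma map_smul_id (K M : DRing.Cx A) (a : A) :
    HomologicalComplex.mapBifunctorMap (a • 𝟙 K) (𝟙 M) (curriedTensor (ModuleCat.{u} A))
      (ComplexShape.up ℤ) = a • 𝟙 (HomologicalComplex.mapBifunctor K M _ (ComplexShape.up ℤ)) := by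
  ext n : 1
  apply HomologicalComplex.mapBifunctor.hom_ext
  intro p q h
  rw [HomologicalComplex.ι_mapBifunctorMap]
  simp [MonoidalLinear.smul_whiskerRight, Linear.smul_comp, Linear.comp_smul]

theorem koszul_append (g : List A) : ∀ f : List A,
    Nonempty ((MonoidalCategoryStruct.tensorObj (C := DRing.Cx A) (Koszul.koszul A f) (Koszul.koszul A g)) ≅
      Koszul.koszul A (f ++ g))
  | [] => ⟨HomologicalComplex.leftUnitor (Koszul.koszul A g)⟩
  | a :: l => by
    obtain ⟨e⟩ := koszul_append g l
    refine ⟨ConeBifunctor.iso (curriedTensor (ModuleCat.{u} A)) (a • 𝟙 (Koszul.koszul A l))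
      (Koszul.koszul A g) ≪≫ ?_⟩
    rw [map_smul_id]
    exact coneCongr e a

end Groth.Agent.CohDer1.KoszulTensor
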