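import Groth.Agent.DCat.MLSeq
import Groth.Agent.S14616
import Mathlib.Algebra.Homology.HomologicalComplexLimits
import Mathlib.Algebra.Homology.HomologicalComplexAbelian
import Mathlib.Algebra.Homology.ConcreteCategory
import Mathlib.Algebra.Homology.ShortComplex.Ab

/-!
# Cohomology of limits of Mittag-Leffler systems of complexes
-/

set_option autoImplicit false

open CategoryTheory CategoryTheory.Limits Opposite Groth.Agent.DCat.MLSeq

universe u

namespace Groth.Agent.CohDer1.MLHomologyLimit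

/-- The `lim¹` of a Mittag-Leffler sequence vanishes. -/
lemma exists_sub_tr_eq {A : ℕᵒᵖ ⥤ AddCommGrpCat.{u}} (hA : (A ⋙ forget AddCommGrpCat).IsMittagLeffler)
    (y : ∀ i : ℕ, A.obj (op i)) :
    ∃ x : ∀ i : ℕ, A.obj (op i), ∀ i, x i - trg A i.le_succ (x (i + 1)) = y i := by
  let t : ∀ n, A.obj (op (n + 1)) →+ A.obj (op n) := fun n => (A.map (homOfLE n.le_succ).op).hom
  let O : ℕᵒᵖ ⥤ AddCommGrpCat.{u} := Functor.ofOpSequence (X := fun n => AddCommGrpCat.of (A.obj (op n)))
    (fun n => AddCommGrpCat.ofHom (t n))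
  have htr : ∀ {i j : ℕ} (h : i ≤ j) (x : A.obj (op j)), trg O h x = trg A h x := by
    intro i j h
    induction j, h using Nat.le_induction with
    | base =>
      intro x
      exact (tr_refl (O ⋙ forget _) _ x).trans (tr_refl (A ⋙ forget _) _ x).symm
    | succ j hj ih =>
      intro x
      rw [← trg_trg (A := A) hj j.le_succ x, ← ih]
      refine (trg_trg (A := O) hj j.le_succ x).symm.trans (congrArg (trg O hj) ?_)
      exact congrArg (fun φ : AddCommGrpCat.of (A.obj (op (j + 1))) ⟶ AddCommGrpCat.of (A.obj (op j)) => φ.hom x)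
        (Functor.ofOpSequence_map_homOfLE_succ (X := fun n => AddCommGrpCat.of (A.obj (op n)))
          (fun n => AddCommGrpCat.ofHom (t n)) j)
  have hO : (O ⋙ forget AddCommGrpCat).IsMittagLeffler := by
    rw [ml_iff_g] at hA ⊢
    intro i
    obtain ⟨j, hij, hj⟩ := hA i
    refine ⟨j, hij, fun k hjk x => ?_⟩
    obtain ⟨z, hz⟩ := hj k hjk x
    exact ⟨z, (htr _ z).trans (hz.trans (htr _ x).symm)⟩
  obtain ⟨x, hx⟩ := Groth.Agent.S14616.result (fun n => A.obj (op n)) t hO y
  exact ⟨x, fun i => congrFun hx i⟩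

/-- An essentially constant system is Mittag-Leffler. -/
lemma ml_of_factor {A : ℕᵒᵖ ⥤ AddCommGrpCat.{u}} {A₀ : AddCommGrpCat.{u}}
    (c : (Functor.const ℕᵒᵖ).obj A₀ ⟶ A) (i₀ : ℕ) (s : A.obj (op i₀) ⟶ A₀)
    (hs : ∀ j, ∃ (k : ℕ) (hi : i₀ ≤ k) (hj : j ≤ k),
      A.map (homOfLE hj).op = A.map (homOfLE hi).op ≫ s ≫ c.app (op j)) :
    (A ⋙ forget AddCommGrpCat).IsMittagLeffler := by
  rw [ml_iff_g]
  intro i
  obtain ⟨k, hk₀, hki, hk⟩ := hs i
  refine ⟨k, hki, fun l hkl x => ⟨(c.app (op l)).hom (s.hom (trg A hk₀ x)), ?_⟩⟩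
  rw [trg_nat c]
  exact (congrArg (fun φ => φ.hom x) hk).symm

/-- Successively compatible families are compatible. -/
lemma exists_of_succ {A : ℕᵒᵖ ⥤ AddCommGrpCat.{u}} {c : Cone A} (hc : IsLimit c) (w : ∀ i : ℕ, A.obj (op i))
    (hw : ∀ i, trg A i.le_succ (w (i + 1)) = w i) : ∃ x : c.pt, ∀ i : ℕ, (c.π.app (op i)).hom x = w i := by
  have h : ∀ {i j : ℕ} (hij : i ≤ j), trg A hij (w j) = w i := by
    intro i j hij
    induction j, hij using Nat.le_induction with
    | base => exact tr_refl (A ⋙ forget _) _ _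
    | succ j hj ih => rw [← trg_trg (A := A) hj j.le_succ, hw j, ih]
  obtain ⟨x, hx⟩ := exists_of_section hc ⟨fun i => w i.unop, fun {i j} f => h (leOfHom f.unop)⟩
  exact ⟨x, fun i => hx (op i)⟩

section Complex

variable (C : HomologicalComplex AddCommGrpCat.{u} (ComplexShape.up ℤ))

lemma iCycles_injective (n : ℤ) : Function.Injective (C.iCycles n).hom :=
  (AddCommGrpCat.mono_iff_injective _).1 inferInstance

lemma homologyπ_surjective (n : ℤ) : Function.Surjective (C.homologyπ n).hom :=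
  (AddCommGrpCat.epi_iff_surjective _).1 inferInstance

lemma homologyπ_eq_zero_iff {m n : ℤ} (hm : m + 1 = n) (z : C.cycles n) :
    (C.homologyπ n).hom z = 0 ↔ ∃ a : C.X m, (C.d m n).hom a = (C.iCycles n).hom z := by
  constructor
  · intro hz
    obtain ⟨a, ha⟩ := (ShortComplex.ab_exact_iff (ShortComplex.mk (C.toCycles m n) (C.homologyπ n)
      (C.toCycles_comp_homologyπ m n))).1 (ShortComplex.exact_of_g_is_cokernel _
      (C.homologyIsCokernel m n ((ComplexShape.up ℤ).prev_eq' hm))) z hz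
    exact ⟨a, by rw [← ha, ← C.toCycles_i m n]; rfl⟩
  · rintro ⟨a, ha⟩
    rw [show z = (C.toCycles m n).hom a from iCycles_injective C n (by rw [← ha, ← C.toCycles_i m n]; rfl)]
    exact congrArg (fun φ => φ.hom a) (C.toCycles_comp_homologyπ m n)

lemma exists_cycle {n m : ℤ} (hm : n + 1 = m) (x : C.X n) (hx : (C.d n m).hom x = 0) :
    ∃ z : C.cycles n, (C.iCycles n).hom z = x :=
  ⟨(C.liftCycles (elt x) m ((ComplexShape.up ℤ).next_eq' hm) (by
      rw [elt_comp, hx]; ext ⟨k⟩; simp [elt])).hom ⟨1⟩, by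
    refine Eq.trans ?_ (elt_apply x)
    exact congrArg (fun φ : AddCommGrpCat.of (ULift.{u} ℤ) ⟶ C.X n => φ.hom ⟨1⟩) (C.liftCycles_i _ _ _ _)⟩

lemma d_iCycles (n m : ℤ) (z : C.cycles n) : (C.d n m).hom ((C.iCycles n).hom z) = 0 :=
  congrArg (fun φ => φ.hom z) (C.iCycles_d n m)

lemma d_d (m n p : ℤ) (x : C.X m) : (C.d n p).hom ((C.d m n).hom x) = 0 :=
  congrArg (fun φ => φ.hom x) (C.d_comp_d m n p)

variable {C} {D : HomologicalComplex AddCommGrpCat.{u} (ComplexShape.up ℤ)} (φ : C ⟶ D)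

lemma f_d (m n : ℤ) (x : C.X m) : (D.d m n).hom ((φ.f m).hom x) = (φ.f n).hom ((C.d m n).hom x) :=
  congrArg (fun ψ => ψ.hom x) (φ.comm m n)

lemma homologyMap_π (n : ℤ) (z : C.cycles n) :
    (HomologicalComplex.homologyMap φ n).hom ((C.homologyπ n).hom z) =
      (D.homologyπ n).hom ((HomologicalComplex.cyclesMap φ n).hom z) :=
  congrArg (fun ψ => ψ.hom z) (HomologicalComplex.homologyπ_naturality φ n)

lemma cyclesMap_i (n : ℤ) (z : C.cycles n) :
    (D.iCycles n).hom ((HomologicalComplex.cyclesMap φ n).hom z) = (φ.f n).hom ((C.iCycles n).hom z) :=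
  congrArg (fun ψ => ψ.hom z) (HomologicalComplex.cyclesMap_i φ n)

end Complex

open HomologicalComplex in
theorem isIso_post (K : ℕᵒᵖ ⥤ HomologicalComplex AddCommGrpCat.{u} (ComplexShape.up ℤ)) (n : ℤ)
    (h2 : ((K ⋙ eval _ _ (n - 2)) ⋙ forget AddCommGrpCat).IsMittagLeffler)
    (h1 : ((K ⋙ eval _ _ (n - 1)) ⋙ forget AddCommGrpCat).IsMittagLeffler)
    (hH : ((K ⋙ homologyFunctor _ _ (n - 1)) ⋙ forget AddCommGrpCat).IsMittagLeffler) :
    IsIso (limit.post K (homologyFunctor _ _ n)) := by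
  let L := limit K
  let p : ∀ i : ℕ, L ⟶ K.obj (op i) := fun i => limit.π K (op i)
  let r : ∀ i : ℕ, K.obj (op (i + 1)) ⟶ K.obj (op i) := fun i => K.map (homOfLE i.le_succ).op
  have hlim : ∀ m, IsLimit ((eval _ _ m).mapCone (limit.cone K)) := fun m =>
    isLimitOfPreserves (eval _ _ m) (limit.isLimit K)
  have hext : ∀ (m : ℤ) (x y : L.X m), (∀ i, ((p i).f m).hom x = ((p i).f m).hom y) → x = y :=
    fun m x y h => ext_of_limit (hlim m) fun i => h i.unop
  have hex : ∀ (m : ℤ) (w : ∀ i, (K.obj (op i)).X m), (∀ i, ((r i).f m).hom (w (i + 1)) = w i) →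
      ∃ x : L.X m, ∀ i, ((p i).f m).hom x = w i := fun m w hw => exists_of_succ (hlim m) w hw
  have hpost : ∀ i, limit.post K (homologyFunctor _ _ n) ≫ limit.π (K ⋙ homologyFunctor _ _ n) (op i) =
      homologyMap (p i) n := fun i => limit.post_π _ _ _
  rw [ConcreteCategory.isIso_iff_bijective]
  refine ⟨(injective_iff_map_eq_zero (limit.post K (homologyFunctor _ _ n)).hom).2 fun x hx => ?_, fun y => ?_⟩
  · obtain ⟨z, rfl⟩ := homologyπ_surjective L n x
    let w := (L.iCycles n).hom z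
    have ha : ∀ i, ∃ a : (K.obj (op i)).X (n - 1), ((K.obj (op i)).d (n - 1) n).hom a = ((p i).f n).hom w := by
      intro i
      have h0 : (homologyMap (p i) n).hom ((L.homologyπ n).hom z) = 0 := by
        rw [← hpost i]
        exact (congrArg (limit.π (K ⋙ homologyFunctor _ _ n) (op i)).hom hx).trans (map_zero _)
      rw [homologyMap_π, homologyπ_eq_zero_iff _ (sub_add_cancel n 1), cyclesMap_i] at h0
      exact h0
    choose a ha using ha
    have he : ∀ i, ∃ e : (K.obj (op i)).cycles (n - 1),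
        ((K.obj (op i)).iCycles (n - 1)).hom e = ((r i).f (n - 1)).hom (a (i + 1)) - a i := by
      intro i
      refine exists_cycle _ (sub_add_cancel n 1) _ ?_
      rw [map_sub, f_d, ha, ha, sub_eq_zero, ← ConcreteCategory.comp_apply, ← comp_f,
        show p (i + 1) ≫ r i = p i from limit.w K _]
    choose e he using he
    obtain ⟨η, hη⟩ : ∃ η : ∀ i, (K.obj (op i)).homology (n - 1), ∀ i,
        η i - (homologyMap (r i) (n - 1)).hom (η (i + 1)) = ((K.obj (op i)).homologyπ (n - 1)).hom (e i) :=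
      exists_sub_tr_eq hH fun i => ((K.obj (op i)).homologyπ (n - 1)).hom (e i)
    choose ζ hζ using fun i => homologyπ_surjective (K.obj (op i)) (n - 1) (η i)
    let a' : ∀ i, (K.obj (op i)).X (n - 1) := fun i => a i + ((K.obj (op i)).iCycles (n - 1)).hom (ζ i)
    have hb : ∀ i, ∃ b : (K.obj (op i)).X (n - 2),
        ((K.obj (op i)).d (n - 2) (n - 1)).hom b = ((r i).f (n - 1)).hom (a' (i + 1)) - a' i := by
      intro i
      have h0 : ((K.obj (op i)).homologyπ (n - 1)).hom
          (e i + (cyclesMap (r i) (n - 1)).hom (ζ (i + 1)) - ζ i) = 0 := by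
        rw [map_sub, map_add, ← homologyMap_π, hζ, hζ, ← hη i]
        abel
      obtain ⟨b, hb⟩ := (homologyπ_eq_zero_iff (m := n - 2) _ (by omega) _).1 h0
      refine ⟨b, hb.trans ?_⟩
      rw [map_sub, map_add, he, cyclesMap_i]
      simp only [a', map_add]
      abel_nf
    choose b hb using hb
    obtain ⟨c, hc⟩ : ∃ c : ∀ i, (K.obj (op i)).X (n - 2),
        ∀ i, c i - ((r i).f (n - 2)).hom (c (i + 1)) = b i := exists_sub_tr_eq h2 b
    obtain ⟨A, hA⟩ := hex (n - 1) (fun i => a' i + ((K.obj (op i)).d (n - 2) (n - 1)).hom (c i)) fun i => by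
      rw [map_add, ← f_d (r i)]
      have h := hb i
      rw [← hc i, map_sub] at h
      rw [eq_add_of_sub_eq h.symm]
      abel
    refine (homologyπ_eq_zero_iff L (sub_add_cancel n 1) z).2 ⟨A, hext n _ _ fun i => ?_⟩
    rw [← f_d (p i), hA]
    simp only [a', map_add, d_iCycles, d_d, add_zero]
    exact ha i
  · choose z hz using fun i => homologyπ_surjective (K.obj (op i)) n
      ((limit.π (K ⋙ homologyFunctor _ _ n) (op i)).hom y)
    let w : ∀ i, (K.obj (op i)).X n := fun i => ((K.obj (op i)).iCycles n).hom (z i)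
    have hu : ∀ i, ∃ u : (K.obj (op i)).X (n - 1),
        ((K.obj (op i)).d (n - 1) n).hom u = ((r i).f n).hom (w (i + 1)) - w i := by
      intro i
      have h0 : ((K.obj (op i)).homologyπ n).hom ((cyclesMap (r i) n).hom (z (i + 1)) - z i) = 0 := by
        rw [map_sub, ← homologyMap_π, hz, hz, sub_eq_zero]
        exact congrArg (fun φ => φ.hom y) (limit.w (K ⋙ homologyFunctor _ _ n) (homOfLE i.le_succ).op)
      obtain ⟨u, hu⟩ := (homologyπ_eq_zero_iff _ (sub_add_cancel n 1) _).1 h0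
      exact ⟨u, hu.trans (by rw [map_sub, cyclesMap_i])⟩
    choose u hu using hu
    obtain ⟨c, hc⟩ : ∃ c : ∀ i, (K.obj (op i)).X (n - 1),
        ∀ i, c i - ((r i).f (n - 1)).hom (c (i + 1)) = u i := exists_sub_tr_eq h1 u
    obtain ⟨W, hW⟩ := hex n (fun i => w i + ((K.obj (op i)).d (n - 1) n).hom (c i)) fun i => by
      rw [map_add, ← f_d (r i)]
      have h := hu i
      rw [← hc i, map_sub] at h
      rw [eq_add_of_sub_eq h.symm]
      abel
    obtain ⟨Z, hZ⟩ := exists_cycle L rfl W (hext (n + 1) _ 0 fun i => by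
      rw [← f_d (p i), hW, map_add, d_iCycles, d_d, add_zero, map_zero])
    refine ⟨(L.homologyπ n).hom Z, ext_of_limit (limit.isLimit _) fun i => ?_⟩
    obtain ⟨i⟩ := i
    refine (congrArg (fun φ => φ.hom ((L.homologyπ n).hom Z)) (hpost i)).trans ?_
    refine ((homologyMap_π (p i) n Z).trans ?_).trans (hz i)
    rw [← sub_eq_zero, ← map_sub, homologyπ_eq_zero_iff _ (sub_add_cancel n 1)]
    refine ⟨c i, ?_⟩
    rw [map_sub, cyclesMap_i, hZ, hW]
    exact (add_sub_cancel_left _ _).symm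

end Groth.Agent.CohDer1.MLHomologyLimit
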