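import Groth.Prelude.Def_W4c5normfunctorschNorm
import Mathlib.RingTheory.IsTensorProduct
import Mathlib.RingTheory.Norm.Basic
import Mathlib.LinearAlgebra.TensorProduct.Tower

/-!
# Base change of universal normic laws
-/

set_option autoImplicit false

universe u

open scoped TensorProduct

namespace Groth.Agent.CohDer1.NormicBaseChange

variable {R Q : Type u} [CommRing R] [CommRing Q] [Algebra R Q]

section Bc

variable {X Y Z : Type u} [AddCommGroup X] [Module R X] [AddCommGroup Y] [Module R Y] [Module Q Y]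
  [IsScalarTower R Q Y] [AddCommGroup Z] [Module R Z]
  (S : Type u) [CommSemiring S] [Algebra R S] [Algebra Q S] [IsScalarTower R Q S]

/-- `s ⊗ x ↦ s ⊗ g x`, for semiring test algebras. -/
noncomputable def bc (g : X →ₗ[R] Y) : S ⊗[R] X →ₗ[R] S ⊗[Q] Y :=
  TensorProduct.lift (((TensorProduct.mk Q S Y).restrictScalars₁₂ R R).compl₂ g)

@[simp] lemma bc_tmul (g : X →ₗ[R] Y) (s : S) (x : X) : bc (Q := Q) S g (s ⊗ₜ[R] x) = s ⊗ₜ[Q] g x := rfl

lemma bc_smul (g : X →ₗ[R] Y) (s : S) (z : S ⊗[R] X) : bc (Q := Q) S g (s • z) = s • bc (Q := Q) S g z := by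
  induction z using TensorProduct.induction_on with
  | zero => simp
  | tmul t x => simp [TensorProduct.smul_tmul']
  | add a b ha hb => simp [smul_add, ha, hb]

lemma bc_lTensor (g : X →ₗ[R] Y) (h : Z →ₗ[R] X) (z : S ⊗[R] Z) :
    bc (Q := Q) S g (h.lTensor S z) = bc (Q := Q) S (g.comp h) z := by
  induction z using TensorProduct.induction_on with
  | zero => simp
  | tmul t x => simp
  | add a b ha hb => simp [ha, hb]

lemma lTensor_bc {W : Type u} [AddCommGroup W] [Module R W] [Module Q W] [IsScalarTower R Q W] (g : X →ₗ[R] Y)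
    (h : Y →ₗ[Q] W) (z : S ⊗[R] X) :
    h.lTensor S (bc (Q := Q) S g z) = bc (Q := Q) S ((h.restrictScalars R).comp g) z := by
  induction z using TensorProduct.induction_on with
  | zero => simp
  | tmul t x => simp
  | add a b ha hb => simp [ha, hb]

lemma bc_nat {S' : Type u} [CommSemiring S'] [Algebra R S'] [Algebra Q S'] [IsScalarTower R Q S']
    (φ : S →ₐ[Q] S') (g : X →ₗ[R] Y) (z : S ⊗[R] X) :
    φ.toLinearMap.rTensor Y (bc (Q := Q) S g z) = bc (Q := Q) S' g ((φ.restrictScalars R).toLinearMap.rTensor X z) := by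
  induction z using TensorProduct.induction_on with
  | zero => simp
  | tmul t x => simp
  | add a b ha hb => simp [ha, hb]

end Bc

lemma bc_eq_bcAlong {X Y : Type u} [AddCommGroup X] [Module R X] [AddCommGroup Y] [Module R Y] [Module Q Y]
    [IsScalarTower R Q Y] (g : X →ₗ[R] Y) (P : Type u) [CommRing P] [Algebra R P] [Algebra Q P]
    [IsScalarTower R Q P] (z : P ⊗[R] X) : PolLaw.bcAlong g P z = bc (Q := Q) P g z := by
  induction z using TensorProduct.induction_on with
  | zero => simp
  | tmul t x => simp [PolLaw.bcAlong]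
  | add a b ha hb => simp only [map_add, ha, hb]

section Back

variable (S : Type u) [CommSemiring S] [Algebra R S] (Y : Type u) [AddCommGroup Y] [Module R Y] [Module Q Y]
  [IsScalarTower R Q Y]

/-- `(q ⊗ s) ⊗ y ↦ s ⊗ q y`. -/
noncomputable def back : (Q ⊗[R] S) ⊗[Q] Y ≃ₗ[R] S ⊗[R] Y :=
  (((TensorProduct.comm Q (Q ⊗[R] S) Y).trans
    (TensorProduct.AlgebraTensorModule.cancelBaseChange R Q Q Y S)).restrictScalars R).trans (TensorProduct.comm R Y S)

@[simp] lemma back_tmul (q : Q) (s : S) (y : Y) : back S Y ((q ⊗ₜ[R] s) ⊗ₜ[Q] y) = s ⊗ₜ[R] (q • y) := by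
  simp [back]

lemma back_smul (s : S) (z : (Q ⊗[R] S) ⊗[Q] Y) :
    back S Y ((Algebra.TensorProduct.includeRight (R := R) (A := Q) s) • z) = s • back S Y z := by
  induction z using TensorProduct.induction_on with
  | zero => simp
  | add a b ha hb => simp only [smul_add, map_add, ha, hb]
  | tmul p y =>
    induction p using TensorProduct.induction_on with
    | zero => simp
    | add a b ha hb => simp only [TensorProduct.add_tmul, smul_add, map_add, ha, hb]
    | tmul q t =>
      rw [TensorProduct.smul_tmul', smul_eq_mul, Algebra.TensorProduct.includeRight_apply,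
        Algebra.TensorProduct.tmul_mul_tmul, one_mul, back_tmul, back_tmul, TensorProduct.smul_tmul', smul_eq_mul]

end Back

variable {M' M'' : Type u} [AddCommGroup M'] [Module R M'] [AddCommGroup M''] [Module R M''] [Module Q M'']
  [IsScalarTower R Q M''] {Y : Type u} [AddCommGroup Y] [Module R Y] [Module Q Y] [IsScalarTower R Q Y]

/-- Restriction of a law over `Q` to a law over `R`. -/
noncomputable def res (g : M' →ₗ[R] M'') (G : M'' →ₚₗ[Q] Y) : M' →ₚₗ[R] Y where
  toFun' S _ _ x := back S Y (G.toFun' (Q ⊗[R] S) (bc (Q := Q) (Q ⊗[R] S) g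
    ((Algebra.TensorProduct.includeRight : S →ₐ[R] Q ⊗[R] S).toLinearMap.rTensor M' x)))
  isCompat' {S} _ _ {S'} _ _ φ := by
    funext x
    simp only [Function.comp_apply]
    let ψ : Q ⊗[R] S →ₐ[Q] Q ⊗[R] S' := Algebra.TensorProduct.map (AlgHom.id Q Q) φ
    have h1 : ∀ w : (Q ⊗[R] S) ⊗[Q] Y, φ.toLinearMap.rTensor Y (back S Y w) = back S' Y (ψ.toLinearMap.rTensor Y w) := by
      intro w
      induction w using TensorProduct.induction_on with
      | zero => simp
      | add a b ha hb => simp only [map_add, ha, hb]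
      | tmul p y =>
        induction p using TensorProduct.induction_on with
        | zero => simp
        | add a b ha hb => simp only [TensorProduct.add_tmul, map_add, ha, hb]
        | tmul q t => simp [ψ]
    rw [h1, G.isCompat_apply', bc_nat]
    congr 3
    induction x using TensorProduct.induction_on with
    | zero => simp
    | add a b ha hb => simp only [map_add, ha, hb]
    | tmul s m => simp [ψ]

variable {g : M' →ₗ[R] M''} (hb : IsBaseChange Q g)

/-- The inverse of `bc g`. -/
noncomputable def unbc (S : Type u) [CommSemiring S] [Algebra R S] [Algebra Q S] [IsScalarTower R Q S] :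
    S ⊗[Q] M'' →ₗ[Q] S ⊗[R] M' :=
  (TensorProduct.AlgebraTensorModule.cancelBaseChange R Q Q S M').toLinearMap ∘ₗ hb.equiv.symm.toLinearMap.lTensor S

lemma unbc_bc (S : Type u) [CommSemiring S] [Algebra R S] [Algebra Q S] [IsScalarTower R Q S] (z : S ⊗[R] M') :
    unbc hb S (bc (Q := Q) S g z) = z := by
  induction z using TensorProduct.induction_on with
  | zero => simp
  | tmul t x => simp [unbc, IsBaseChange.equiv_symm_apply]
  | add a b ha hb' => simp [map_add, ha, hb']

lemma bc_unbc (S : Type u) [CommSemiring S] [Algebra R S] [Algebra Q S] [IsScalarTower R Q S] (z : S ⊗[Q] M'') :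
    bc (Q := Q) S g (unbc hb S z) = z := by
  induction z using TensorProduct.induction_on with
  | zero => simp
  | add a b ha hb' => simp [map_add, ha, hb']
  | tmul t x =>
    obtain ⟨w, rfl⟩ := hb.equiv.surjective x
    simp only [unbc, LinearMap.comp_apply, LinearMap.lTensor_tmul, LinearEquiv.coe_coe, LinearEquiv.symm_apply_apply]
    induction w using TensorProduct.induction_on with
    | zero => simp
    | add a b ha hb' => simp [TensorProduct.tmul_add, map_add, ha, hb']
    | tmul q m =>
      rw [TensorProduct.AlgebraTensorModule.cancelBaseChange_tmul, bc_tmul, hb.equiv_tmul, TensorProduct.tmul_smul,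
        TensorProduct.smul_tmul']

/-- Extension of a law over `R` to a law over `Q`. -/
noncomputable def ext' (F : M' →ₚₗ[R] Y) : M'' →ₚₗ[Q] Y where
  toFun' S _ _ z :=
    letI : Algebra R S := Algebra.compHom S (algebraMap R Q)
    haveI : IsScalarTower R Q S := IsScalarTower.of_algebraMap_eq fun _ => rfl
    bc (Q := Q) S LinearMap.id (F.toFun' S (unbc hb S z))
  isCompat' {S} _ _ {S'} _ _ φ := by
    letI : Algebra R S := Algebra.compHom S (algebraMap R Q)
    haveI : IsScalarTower R Q S := IsScalarTower.of_algebraMap_eq fun _ => rfl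
    letI : Algebra R S' := Algebra.compHom S' (algebraMap R Q)
    haveI : IsScalarTower R Q S' := IsScalarTower.of_algebraMap_eq fun _ => rfl
    funext z
    simp only [Function.comp_apply]
    rw [bc_nat, F.isCompat_apply']
    congr 2
    obtain ⟨x, rfl⟩ : ∃ x, bc (Q := Q) S g x = z := ⟨_, bc_unbc hb S z⟩
    rw [bc_nat, unbc_bc, unbc_bc]

lemma ext'_bc (F : M' →ₚₗ[R] Y) (S : Type u) [CommSemiring S] [a : Algebra R S] [Algebra Q S] [IsScalarTower R Q S]
    (x : S ⊗[R] M') :
    (ext' hb F).toFun' S (bc (Q := Q) S g x) = bc (Q := Q) S LinearMap.id (F.toFun' S x) := by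
  obtain rfl : a = Algebra.compHom S (algebraMap R Q) :=
    Algebra.algebra_ext _ _ fun r => IsScalarTower.algebraMap_apply R Q S r
  letI : Algebra R S := Algebra.compHom S (algebraMap R Q)
  change bc (Q := Q) S LinearMap.id (F.toFun' S (unbc hb S (bc (Q := Q) S g x))) = _
  rw [unbc_bc]

lemma res_ext' (F : M' →ₚₗ[R] Y) : res g (ext' hb F) = F := by
  ext S _ _ x
  simp only [res]
  rw [ext'_bc, ← F.isCompat_apply']
  generalize F.toFun' S x = w
  induction w using TensorProduct.induction_on with
  | zero => simp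
  | add a b ha hb' => simp only [map_add, ha, hb']
  | tmul s y => simp

lemma ext'_res (G : M'' →ₚₗ[Q] Y) : ext' hb (res g G) = G := by
  ext S _ _ z
  letI : Algebra R S := Algebra.compHom S (algebraMap R Q)
  haveI : IsScalarTower R Q S := IsScalarTower.of_algebraMap_eq fun _ => rfl
  obtain ⟨x, rfl⟩ : ∃ x, bc (Q := Q) S g x = z := ⟨_, bc_unbc hb S z⟩
  rw [ext'_bc]
  simp only [res]
  let μ : Q ⊗[R] S →ₐ[Q] S := Algebra.TensorProduct.lift (Algebra.ofId Q S) (AlgHom.id R S) fun _ _ => Commute.all _ _
  have h1 : ∀ w : (Q ⊗[R] S) ⊗[Q] Y, bc (Q := Q) S LinearMap.id (back S Y w) = μ.toLinearMap.rTensor Y w := by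
    intro w
    induction w using TensorProduct.induction_on with
    | zero => simp
    | add a b ha hb' => simp only [map_add, ha, hb']
    | tmul p y =>
      induction p using TensorProduct.induction_on with
      | zero => simp
      | add a b ha hb' => simp only [TensorProduct.add_tmul, map_add, ha, hb']
      | tmul q t => simp [μ, ← Algebra.smul_def, TensorProduct.smul_tmul]
  rw [h1, G.isCompat_apply', bc_nat, ← LinearMap.comp_apply (f := (μ.restrictScalars R).toLinearMap.rTensor M'),
    ← LinearMap.rTensor_comp]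
  congr 2
  have : (μ.restrictScalars R).toLinearMap ∘ₗ (Algebra.TensorProduct.includeRight : S →ₐ[R] Q ⊗[R] S).toLinearMap =
      LinearMap.id := LinearMap.ext fun s => by simp [μ]
  rw [this, LinearMap.rTensor_id, LinearMap.id_apply]

variable {W : Type u} [AddCommGroup W] [Module R W] [Module Q W] [IsScalarTower R Q W]

lemma res_postcomp (g' : M' →ₗ[R] M'') (h : Y →ₗ[Q] W) (G : M'' →ₚₗ[Q] Y) :
    res g' (PolLaw.postcomp h G) = PolLaw.postcomp (h.restrictScalars R) (res g' G) := by
  ext S _ _ x
  change back S W (h.lTensor _ _) = (h.restrictScalars R).lTensor S (back S Y _)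
  generalize G.toFun' (Q ⊗[R] S) _ = w
  induction w using TensorProduct.induction_on with
  | zero => simp
  | add a b ha hb' => simp only [map_add, ha, hb']
  | tmul p y =>
    induction p using TensorProduct.induction_on with
    | zero => simp
    | add a b ha hb' => simp only [TensorProduct.add_tmul, map_add, ha, hb']
    | tmul q t => simp

lemma ext'_postcomp (h : Y →ₗ[Q] W) (F : M' →ₚₗ[R] Y) :
    ext' hb (PolLaw.postcomp (h.restrictScalars R) F) = PolLaw.postcomp h (ext' hb F) := by
  ext S _ _ z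
  letI : Algebra R S := Algebra.compHom S (algebraMap R Q)
  haveI : IsScalarTower R Q S := IsScalarTower.of_algebraMap_eq fun _ => rfl
  obtain ⟨x, rfl⟩ : ∃ x, bc (Q := Q) S g x = z := ⟨_, bc_unbc hb S z⟩
  change _ = h.lTensor S ((ext' hb F).toFun' S _)
  rw [ext'_bc, ext'_bc, lTensor_bc]
  change bc (Q := Q) S LinearMap.id ((h.restrictScalars R).lTensor S _) = _
  rw [bc_lTensor, LinearMap.id_comp, LinearMap.comp_id]

section Normic

variable {R' Q' : Type u} [CommRing R'] [Algebra R R'] [CommRing Q'] [Algebra R Q'] [Algebra Q Q'] [Algebra R' Q']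
  [IsScalarTower R Q Q'] [IsScalarTower R R' Q'] [Algebra.IsPushout R R' Q Q']

/-- The comparison of the two base changes of the algebra. -/
noncomputable def wHom (P : Type u) [CommRing P] [Algebra R P] [Algebra Q P] [IsScalarTower R Q P] :
    P ⊗[R] R' →ₐ[P] P ⊗[Q] Q' :=
  Algebra.TensorProduct.lift (Algebra.ofId P _)
    (((Algebra.TensorProduct.includeRight : Q' →ₐ[Q] P ⊗[Q] Q').restrictScalars R).comp (IsScalarTower.toAlgHom R R' Q'))
    fun _ _ => Commute.all _ _

lemma wHom_eq (P : Type u) [CommRing P] [Algebra R P] [Algebra Q P] [IsScalarTower R Q P] (y : P ⊗[R] R') :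
    wHom (Q := Q) (R' := R') (Q' := Q') P y = bc (Q := Q) P (IsScalarTower.toAlgHom R R' Q').toLinearMap y := by
  induction y using TensorProduct.induction_on with
  | zero => simp
  | add a b ha hb' => simp only [map_add, ha, hb']
  | tmul p r => simp [wHom, Algebra.TensorProduct.algebraMap_apply]

lemma wHom_bijective (P : Type u) [CommRing P] [Algebra R P] [Algebra Q P] [IsScalarTower R Q P] :
    Function.Bijective (wHom (R := R) (Q := Q) (R' := R') (Q' := Q') P) := by
  have h : IsBaseChange Q (IsScalarTower.toAlgHom R R' Q').toLinearMap :=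
    (Algebra.IsPushout.symm (inferInstance : Algebra.IsPushout R R' Q Q')).out
  rw [show ⇑(wHom (R := R) (Q := Q) (R' := R') (Q' := Q') P) =
    ⇑(bc (Q := Q) P (IsScalarTower.toAlgHom R R' Q').toLinearMap) from funext (wHom_eq P)]
  exact ⟨Function.LeftInverse.injective (unbc_bc h P), Function.RightInverse.surjective (bc_unbc h P)⟩

lemma norm_wHom (P : Type u) [CommRing P] [Algebra R P] [Algebra Q P] [IsScalarTower R Q P] (y : P ⊗[R] R') :
    Algebra.norm P (wHom (Q := Q) (Q' := Q') P y) = Algebra.norm P y :=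
  Algebra.norm_eq_of_algEquiv (AlgEquiv.ofBijective _ (wHom_bijective P)) y

variable [Module R' M'] [IsScalarTower R R' M'] [Module R' M''] [Module Q' M''] [IsScalarTower R' Q' M'']
  [IsScalarTower Q Q' M'']

lemma bc_act (f : M' →ₗ[R'] M'') (hg : ∀ m, g m = f m) (P : Type u) [CommRing P] [Algebra R P] [Algebra Q P]
    [IsScalarTower R Q P] (y : P ⊗[R] R') (m : P ⊗[R] M') :
    bc (Q := Q) P g (PolLaw.actEnd M' P y m) =
      PolLaw.actEnd M'' P (wHom (Q := Q) (Q' := Q') P y) (bc (Q := Q) P g m) := by
  induction y using TensorProduct.induction_on with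
  | zero => simp
  | add a b ha hb' => simp only [map_add, LinearMap.add_apply, ha, hb']
  | tmul p r =>
    induction m using TensorProduct.induction_on with
    | zero => simp
    | add a b ha hb' => simp only [map_add, ha, hb']
    | tmul t x =>
      rw [wHom_eq, PolLaw.actEnd_tmul_tmul, bc_tmul, bc_tmul, bc_tmul, PolLaw.actEnd_tmul_tmul, hg, hg, map_smul]
      simp [algebraMap_smul]

lemma isNormic_ext' (f : M' →ₗ[R'] M'') (hg : ∀ m, g m = f m) (F : M' →ₚₗ[R] Y) (hF : PolLaw.IsNormic R' F) :
    PolLaw.IsNormic Q' (ext' hb F) := by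
  intro P _ _ x m
  letI : Algebra R P := Algebra.compHom P (algebraMap R Q)
  haveI : IsScalarTower R Q P := IsScalarTower.of_algebraMap_eq fun _ => rfl
  obtain ⟨y, rfl⟩ := (wHom_bijective (R := R) (Q := Q) (R' := R') (Q' := Q') P).surjective x
  obtain ⟨z, rfl⟩ : ∃ z, bc (Q := Q) P g z = m := ⟨_, bc_unbc hb P m⟩
  rw [← bc_act f hg, ext'_bc, ext'_bc, hF, bc_smul, norm_wHom]

variable [Module.Free R R'] [Module.Finite R R']

lemma isNormic_res (f : M' →ₗ[R'] M'') (hg : ∀ m, g m = f m) (G : M'' →ₚₗ[Q] Y) (hG : PolLaw.IsNormic Q' G) :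
    PolLaw.IsNormic R' (res g G) := by
  intro P _ _ x m
  simp only [res]
  rw [PolLaw.rTensor_actEnd, bc_act f hg (Q' := Q'), hG, norm_wHom, ← PolLaw.detAct_self, PolLaw.detAct_map,
    PolLaw.detAct_self, back_smul]

theorem exists_baseChange (f : M' →ₗ[R'] M'') (hg : ∀ m, g m = f m) (hb : IsBaseChange Q g)
    {N : Type u} [AddCommGroup N] [Module R N] (ν : M' →ₚₗ[R] N) (hν : PolLaw.IsUnivNormic R' ν)
    (ν'' : M'' →ₚₗ[Q] Y) (hν'' : PolLaw.IsUnivNormic Q' ν'') :
    ∃ u : N →ₗ[R] Y,
      (∀ (P : Type u) [CommRing P] [Algebra R P] [Algebra Q P] [IsScalarTower R Q P] (m : P ⊗[R] M'),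
          ν''.toFun' P (PolLaw.bcAlong g P m) = PolLaw.bcAlong u P (ν.toFun' P m)) ∧
      IsBaseChange Q u := by
  obtain ⟨u, hu, -⟩ := hν.2 Y (res g ν'') (isNormic_res f hg ν'' hν''.1)
  let ι : N →ₗ[R] Q ⊗[R] N := TensorProduct.mk R Q N 1
  have hιn : PolLaw.IsNormic R' (PolLaw.postcomp ι ν) := fun P _ _ x m => by
    change ι.lTensor P (ν.toFun' P _) = _ • ι.lTensor P _
    rw [hν.1]
    induction ν.toFun' P m using TensorProduct.induction_on with
    | zero => simp
    | add a b ha hb' => simp only [smul_add, map_add, ha, hb']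
    | tmul p n => simp [TensorProduct.smul_tmul']
  obtain ⟨φ, hφ, -⟩ := hν''.2 (Q ⊗[R] N) (ext' hb (PolLaw.postcomp ι ν)) (isNormic_ext' hb f hg _ hιn)
  let u' : Q ⊗[R] N →ₗ[Q] Y := u.liftBaseChange Q
  have hu' : (u'.restrictScalars R).comp ι = u := LinearMap.ext fun n => by simp [u', ι]
  have key : ∀ {E : Type u} [AddCommGroup E] [Module R E] {A B : N →ₗ[R] E},
      PolLaw.postcomp A ν = PolLaw.postcomp B ν → A = B := fun {E _ _ A B} h => by
    have hn : PolLaw.IsNormic R' (PolLaw.postcomp A ν) := fun P _ _ x m => by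
      change A.lTensor P (ν.toFun' P _) = _ • A.lTensor P _
      rw [hν.1]
      induction ν.toFun' P m using TensorProduct.induction_on with
      | zero => simp
      | add a b ha hb' => simp only [smul_add, map_add, ha, hb']
      | tmul p n => simp [TensorProduct.smul_tmul']
    exact (hν.2 E _ hn).unique rfl h.symm
  have hassoc : ∀ {A B C : Type u} [AddCommGroup A] [Module R A] [AddCommGroup B] [Module R B] [AddCommGroup C]
      [Module R C] (b : B →ₗ[R] C) (a : A →ₗ[R] B) (F : M' →ₚₗ[R] A),
      PolLaw.postcomp (b.comp a) F = PolLaw.postcomp b (PolLaw.postcomp a F) := fun b a F => by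
    ext S _ _ x
    change (b.comp a).lTensor S _ = b.lTensor S (a.lTensor S _)
    rw [LinearMap.lTensor_comp, LinearMap.comp_apply]
  have h1 : u'.comp φ = LinearMap.id := by
    refine (hν''.2 Y ν'' hν''.1).unique ?_ ?_
    · have e1 : PolLaw.postcomp (u'.comp φ) ν'' = PolLaw.postcomp u' (PolLaw.postcomp φ ν'') := by
        ext S _ _ x
        change (u'.comp φ).lTensor S _ = u'.lTensor S (φ.lTensor S _)
        rw [LinearMap.lTensor_comp, LinearMap.comp_apply]
      rw [e1, hφ, ← ext'_postcomp, ← hassoc, hu', hu, ext'_res]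
    · ext S _ _ x
      change (LinearMap.id : Y →ₗ[Q] Y).lTensor S _ = _
      rw [LinearMap.lTensor_id, LinearMap.id_apply]
  have h2 : (φ.restrictScalars R).comp u = ι := key (by
    rw [hassoc, hu, ← res_postcomp, hφ, res_ext'])
  refine ⟨u, fun P _ _ _ _ m => ?_, ?_⟩
  · rw [bc_eq_bcAlong, bc_eq_bcAlong, ← ext'_res hb ν'', ext'_bc, ← hu]
    change bc (Q := Q) P LinearMap.id (u.lTensor P _) = _
    rw [bc_lTensor, LinearMap.id_comp]
  · refine IsBaseChange.of_equiv (LinearEquiv.ofLinearMap u' φ h1 ?_) fun n => by simp [u', LinearEquiv.ofLinearMap]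
    refine TensorProduct.AlgebraTensorModule.ext fun q n => ?_
    have := LinearMap.congr_fun h2 n
    simp only [LinearMap.comp_apply, LinearMap.restrictScalars_apply] at this
    simp only [LinearMap.comp_apply, u', LinearMap.liftBaseChange_tmul, map_smul, this, LinearMap.id_apply]
    simp [ι, TensorProduct.smul_tmul']

end Normic

end Groth.Agent.CohDer1.NormicBaseChange
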