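import Mathlib.Algebra.QuadraticAlgebra.Defs
import Mathlib.RingTheory.Ideal.Quotient.Operations
import Mathlib.Algebra.Polynomial.AlgebraMap
import Mathlib.Tactic.Ring
import Groth.Prelude.Def_W4c1imperftorsorsPerf

/-!
# The preperfection of `R[α]/(uα, α² − v²)`
-/

universe u

open TensorProduct Polynomial W4c1imperftorsors

namespace Groth.Agent.CohDer1.PrePerfQuad

variable (p : ℕ) [Fact p.Prime] {R : Type u} [CommRing R] [CharP R p] (u v : R)

/-- The algebra `R[α]/(uα, α² − v²)`. -/
abbrev B : Type u := R[X] ⧸ Ideal.span {(C u * X : R[X]), X ^ 2 - C (v ^ 2)}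

/-- The class of the variable. -/
noncomputable def α : B u v := Ideal.Quotient.mk _ X

omit [CharP R p] in
lemma α_sq : α u v ^ 2 = algebraMap R (B u v) (v ^ 2) := by
  rw [α, ← map_pow]
  exact Ideal.Quotient.eq.2 (Ideal.subset_span (by simp [Polynomial.algebraMap_eq]))

omit [CharP R p] in
lemma exists_affine (x : B u v) : ∃ a b : R, x = algebraMap R (B u v) a + algebraMap R (B u v) b * α u v := by
  obtain ⟨P, rfl⟩ := Ideal.Quotient.mk_surjective x
  induction P using Polynomial.induction_on with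
  | C a =>
    refine ⟨a, 0, ?_⟩
    rw [map_zero, zero_mul, add_zero]
    rfl
  | add P Q hP hQ =>
    obtain ⟨a, b, hP⟩ := hP
    obtain ⟨a', b', hQ⟩ := hQ
    refine ⟨a + a', b + b', ?_⟩
    rw [map_add, hP, hQ, map_add, map_add]
    ring
  | monomial n a ih =>
    obtain ⟨a', b', h⟩ := ih
    refine ⟨b' * v ^ 2, a', ?_⟩
    rw [show C a * X ^ (n + 1) = C a * X ^ n * X by ring, map_mul, h, show Ideal.Quotient.mk _ X = α u v from rfl, add_mul,
      mul_assoc (algebraMap R (B u v) b'), ← sq, α_sq, ← map_mul, add_comm]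

/-- The inclusion of the right factor of a twist. -/
noncomputable def ι (i : ℕ) : B u v →+* Twist p R (B u v) i :=
  (Algebra.TensorProduct.includeRight : ASrc p R (B u v) i →ₐ[Src p R i] Twist p R (B u v) i).toRingHom.comp
    ((aEquiv p R (B u v) i).symm : B u v →+* ASrc p R (B u v) i)

lemma ι_algebraMap (i : ℕ) (a : R) :
    ι p u v i (algebraMap R (B u v) a) = algebraMap R (Twist p R (B u v) i) (a ^ p ^ i) :=
  ((Algebra.TensorProduct.includeRight : ASrc p R (B u v) i →ₐ[Src p R i] Twist p R (B u v) i).commutes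
    ((srcEquiv p R i).symm a)).trans rfl

/-- The generator of a twist. -/
noncomputable def αT (i : ℕ) : Twist p R (B u v) i := ι p u v i (α u v)

lemma exists_affine_twist (i : ℕ) (z : Twist p R (B u v) i) :
    ∃ r s : R, z = algebraMap R _ r + s • αT p u v i := by
  induction z using TensorProduct.induction_on with
  | zero => exact ⟨0, 0, by rw [map_zero, zero_smul, add_zero]⟩
  | tmul r x =>
    obtain ⟨a, b, h⟩ := exists_affine u v ((aEquiv p R (B u v) i) x)
    refine ⟨r * a ^ p ^ i, r * b ^ p ^ i, ?_⟩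
    have hx : r ⊗ₜ[Src p R i] x = r • ι p u v i ((aEquiv p R (B u v) i) x) := by
      change _ = r • ((1 : R) ⊗ₜ[Src p R i] x)
      rw [TensorProduct.smul_tmul', smul_eq_mul, mul_one]
    rw [hx, h, map_add, map_mul, ι_algebraMap, ι_algebraMap, ← αT, Algebra.smul_def, Algebra.smul_def,
      map_mul, map_mul]
    ring
  | add z w hz hw =>
    obtain ⟨r, s, rfl⟩ := hz
    obtain ⟨r', s', rfl⟩ := hw
    exact ⟨r + r', s + s', by rw [map_add, add_smul]; abel⟩

lemma exists_eval (i : ℕ) {T : Type u} [CommRing T] [Algebra R T] (t : T)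
    (hu : algebraMap R T (u ^ p ^ i) * t = 0) (ht : t ^ 2 = algebraMap R T ((v ^ 2) ^ p ^ i)) :
    ∃ φ : Twist p R (B u v) i →ₐ[R] T, φ (αT p u v i) = t := by
  letI : Algebra (Src p R i) T := ((algebraMap R T).comp (algebraMap (Src p R i) R)).toAlgebra
  haveI : IsScalarTower (Src p R i) R T := IsScalarTower.of_algebraMap_eq fun _ => rfl
  let e : R[X] →+* T := eval₂RingHom ((algebraMap R T).comp (iterateFrobenius R p i)) t
  have hker : ∀ P ∈ Ideal.span {(C u * X : R[X]), X ^ 2 - C (v ^ 2)}, e P = 0 := by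
    intro P hP
    refine RingHom.mem_ker.1 ((Ideal.span_le (I := RingHom.ker e)).2 ?_ hP)
    rintro _ (rfl | rfl) <;>
      simp only [SetLike.mem_coe, RingHom.mem_ker, e, coe_eval₂RingHom, eval₂_mul, eval₂_sub, eval₂_X_pow,
        eval₂_C, eval₂_X, RingHom.coe_comp, Function.comp_apply, iterateFrobenius_def]
    · exact hu
    · rw [ht, sub_self]
  let g : ASrc p R (B u v) i →ₐ[Src p R i] T :=
    { toRingHom := (Ideal.Quotient.lift _ e hker).comp (aEquiv p R (B u v) i : ASrc p R (B u v) i →+* B u v)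
      commutes' := fun s => by
        change e (C (srcEquiv p R i s)) = algebraMap R T (algebraMap (Src p R i) R s)
        rw [coe_eval₂RingHom, eval₂_C, algebraMap_src, RingHom.coe_comp, Function.comp_apply, iterateFrobenius_def] }
  refine ⟨Algebra.TensorProduct.lift (Algebra.ofId R T) g fun _ _ => Commute.all _ _, ?_⟩
  refine (Algebra.TensorProduct.lift_tmul (Algebra.ofId R T) g (fun _ _ => Commute.all _ _) 1
    ((aEquiv p R (B u v) i).symm (α u v))).trans ?_
  rw [map_one, one_mul]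
  change eval₂ ((algebraMap R T).comp (iterateFrobenius R p i)) t X = t
  rw [eval₂_X]

section

variable [CharP (B u v) p]

lemma relFrob_ι (i : ℕ) (x : B u v) : relFrob p R (B u v) i (ι p u v (i + 1) x) = ι p u v i (x ^ p) := by
  change relFrobAux p R (B u v) i ((1 : R) ⊗ₜ (aEquiv p R (B u v) (i + 1)).symm x) = _
  rw [relFrobAux, Algebra.TensorProduct.lift_tmul, map_one, one_mul]
  rfl

lemma relFrob_αT (hp : p ≠ 2) (i : ℕ) :
    relFrob p R (B u v) i (αT p u v (i + 1)) = v ^ ((p - 1) * p ^ i) • αT p u v i := by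
  obtain ⟨m, hm⟩ := (Fact.out : p.Prime).odd_of_ne_two hp
  have h1 : α u v ^ p = algebraMap R (B u v) (v ^ (p - 1)) * α u v := by
    rw [show α u v ^ p = (α u v ^ 2) ^ m * α u v by rw [hm, pow_succ, pow_mul], α_sq, ← map_pow, ← pow_mul,
      show p - 1 = 2 * m by omega]
  rw [αT, relFrob_ι, h1, map_mul, ι_algebraMap, ← pow_mul, Algebra.smul_def, αT]

theorem algebraMap_prePerf_bijective (hp : p ≠ 2) (huv : u * v = 0)
    (hsep : ∀ N : ℕ, 1 ≤ N → ∀ g : R,
      (∀ n : ℕ, g ∈ Ideal.span {v ^ n} ⊔ Ideal.span {u ^ N}) → g ∈ Ideal.span {u ^ N}) :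
    Function.Bijective (algebraMap R (prePerf p R (B u v))) := by
  have hq : ∀ i, 1 ≤ p ^ i := fun i => Nat.one_le_pow _ _ (Fact.out : p.Prime).pos
  have hp1 : ∀ i, (p - 1) * p ^ i + p ^ i = p ^ (i + 1) := fun i => by
    rw [← Nat.succ_mul, Nat.succ_eq_add_one, Nat.sub_add_cancel (Fact.out : p.Prime).one_le, pow_succ']
  have hu0 : ∀ i, u ^ p ^ i * v ^ p ^ i = 0 := fun i => by
    rw [← mul_pow, huv, zero_pow (by have := hq i; omega)]
  choose ε hε using fun i => exists_eval p u v i (T := R) (v ^ p ^ i)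
    (by rw [Algebra.algebraMap_self, RingHom.id_apply, hu0])
    (by rw [Algebra.algebraMap_self, RingHom.id_apply, ← pow_mul, ← pow_mul, mul_comm])
  refine ⟨fun a b hab => ?_, fun x => ?_⟩
  · have h : ε 0 (algebraMap R _ a) = ε 0 (algebraMap R _ b) :=
      congrArg (fun y : prePerf p R (B u v) => ε 0 (y.1 0)) hab
    simpa only [AlgHom.commutes, Algebra.algebraMap_self, RingHom.id_apply] using h
  have hx : ∀ i, relFrob p R (B u v) i (x.1 (i + 1)) = x.1 i := fun i => Algebra.mem_iInf.1 x.2 i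
  have hεF : ∀ i z, ε i (relFrob p R (B u v) i z) = ε (i + 1) z := fun i z => by
    obtain ⟨r, s, rfl⟩ := exists_affine_twist p u v (i + 1) z
    simp only [map_add, map_smul, AlgHom.commutes, relFrob_αT p u v hp, hε, smul_eq_mul, ← pow_add]
    rw [hp1]
  have hr : ∀ i, ε i (x.1 i) = ε 0 (x.1 0) := fun i => by
    induction i with
    | zero => rfl
    | succ i ih => rw [← hεF, hx, ih]
  set r := ε 0 (x.1 0) with hr0
  let β : ∀ i, Twist p R (B u v) i := fun i => αT p u v i - algebraMap R _ (v ^ p ^ i)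
  have hβ : ∀ i, relFrob p R (B u v) i (β (i + 1)) = v ^ ((p - 1) * p ^ i) • β i := fun i => by
    simp only [β, map_sub, AlgHom.commutes, relFrob_αT p u v hp, smul_sub]
    congr 1
    rw [Algebra.smul_def, ← map_mul, ← pow_add, hp1]
  have hs : ∀ i, ∃ s : R, x.1 i = algebraMap R _ r + s • β i := fun i => by
    obtain ⟨a, s, h⟩ := exists_affine_twist p u v i (x.1 i)
    refine ⟨s, ?_⟩
    have h' : r = a + s * v ^ p ^ i := by
      rw [← hr i, h, map_add, map_smul, AlgHom.commutes, hε]
      rfl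
    rw [h, h', map_add, smul_sub, map_mul, Algebra.smul_def s (algebraMap R _ _)]
    abel
  choose s hs using hs
  have hdiv : ∀ n i, ∃ c : R, s i • β i = (c * v ^ n) • β i := fun n => by
    induction n with
    | zero => exact fun i => ⟨s i, by rw [pow_zero, mul_one]⟩
    | succ n ih =>
      intro i
      obtain ⟨c, hc⟩ := ih (i + 1)
      obtain ⟨k, hk⟩ := Nat.exists_eq_add_of_le (Nat.mul_pos
        (Nat.sub_pos_of_lt (Fact.out : p.Prime).one_lt) (hq i) : 1 ≤ (p - 1) * p ^ i)
      refine ⟨c * v ^ k, ?_⟩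
      have h := hx i
      rw [hs, hs, map_add, AlgHom.commutes, hc, map_smul, hβ, smul_smul, hk] at h
      rw [← add_left_cancel h]
      congr 1
      ring
  refine ⟨r, Subtype.ext (funext fun i => ?_)⟩
  change algebraMap R _ r = x.1 i
  rw [hs i, left_eq_add]
  let Q := R ⧸ Ideal.span {u ^ p ^ i}
  let T := QuadraticAlgebra Q (algebraMap R Q ((v ^ 2) ^ p ^ i)) 0
  have hQ : algebraMap R Q (u ^ p ^ i) = 0 := Ideal.Quotient.eq_zero_iff_mem.2 (Ideal.mem_span_singleton_self _)
  obtain ⟨φ, hφ⟩ := exists_eval p u v i (T := T) (⟨0, 1⟩ : T)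
    (by rw [IsScalarTower.algebraMap_apply R Q T, hQ, map_zero, zero_mul])
    (by rw [sq, IsScalarTower.algebraMap_apply R Q T, QuadraticAlgebra.algebraMap_eq, QuadraticAlgebra.mk_mul_mk]
        ext <;> ring)
  have him : ∀ c : R, (φ (c • β i)).im = algebraMap R Q c := fun c => by
    rw [Algebra.smul_def, map_mul, AlgHom.commutes]
    simp only [β]
    rw [map_sub, hφ, AlgHom.commutes]
    rw [IsScalarTower.algebraMap_apply R Q T, IsScalarTower.algebraMap_apply R Q T]
    rw [QuadraticAlgebra.algebraMap_eq, QuadraticAlgebra.algebraMap_eq, QuadraticAlgebra.mk_sub_mk, QuadraticAlgebra.mk_mul_mk]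
    ring
  have hmem : s i ∈ Ideal.span {u ^ p ^ i} := hsep _ (hq i) _ fun n => by
    obtain ⟨c, hc⟩ := hdiv n i
    have h := (him (s i)).symm.trans ((congrArg (fun z => (φ z).im) hc).trans (him _))
    have h2 := Ideal.Quotient.eq.1 h
    have h3 : s i = c * v ^ n + (s i - c * v ^ n) := by ring
    rw [h3]
    exact Ideal.add_mem _ (Ideal.mem_sup_left (Ideal.mem_span_singleton'.2 ⟨c, rfl⟩)) (Ideal.mem_sup_right h2)
  obtain ⟨d, hd⟩ := Ideal.mem_span_singleton'.1 hmem
  have h0 : u ^ p ^ i • β i = 0 := by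
    have : u ^ p ^ i • αT p u v i = 0 := by
      rw [αT, Algebra.smul_def, ← ι_algebraMap, ← map_mul]
      have : algebraMap R (B u v) u * α u v = 0 :=
        Ideal.Quotient.eq_zero_iff_mem.2 (Ideal.subset_span (by simp [Polynomial.algebraMap_eq]))
      rw [this, map_zero]
    simp only [β, smul_sub, this, Algebra.smul_def (u ^ p ^ i) (algebraMap R _ _), ← map_mul, hu0, map_zero, sub_zero]
  rw [← hd, mul_smul, h0, smul_zero]

end

end Groth.Agent.CohDer1.PrePerfQuad
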