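import Groth.Prelude.Def_AlphaP
import Groth.Prelude.Def_ConstGrp
import Groth.Agent.HopfQuot.PointsSep
import Groth.Agent.HopfQuot.UnitComponent
import Groth.Agent.HopfQuot.AlphaPCalc
import Mathlib.FieldTheory.Finite.Basic
import Groth.Agent.HopfQuot.FiniteQuotRank
import Groth.Agent.HopfLib.FaithfullyFlat
import Mathlib.RingTheory.Bialgebra.MonoidAlgebra
import Mathlib.RingTheory.Coalgebra.Convolution
import Mathlib.RingTheory.Unramified.Field
import Mathlib.FieldTheory.IsAlgClosed.Basic
import Mathlib.Algebra.CharP.Lemmas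
import Mathlib.GroupTheory.SpecificGroups.Cyclic
import Mathlib.Data.ZMod.Basic
import Mathlib.RingTheory.LocalRing.Module
import Mathlib.Data.Nat.Prime.Factorial
import Mathlib.Data.Nat.Choose.Dvd

/-!
# Finite group schemes of prime order; infinitesimal subgroups of order `p`
-/

set_option autoImplicit false

universe u v w

open TensorProduct WithConv Coalgebra

namespace Groth.Agent.CohDer1.PrimeOrder

variable {k : Type u} [Field k]

section Calc

variable {A : Type v} [CommRing A] [Bialgebra k A]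

/-- The linear forms killing products of two elements of augmentation zero and `1`. -/
def IsPrim (f : WithConv (A →ₗ[k] k)) : Prop :=
  ∀ a b, f (a * b) = f a * counit (R := k) b + counit (R := k) a * f b

/-- Product of linear forms on the tensor square. -/
noncomputable def tt (f g : WithConv (A →ₗ[k] k)) : WithConv (A ⊗[k] A →ₗ[k] k) :=
  toConv ((TensorProduct.lid k k).toLinearMap ∘ₗ TensorProduct.map f.ofConv g.ofConv)

@[simp] lemma tt_tmul (f g : WithConv (A →ₗ[k] k)) (a b : A) : tt f g (a ⊗ₜ b) = f a * g b := by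
  simp [tt]

lemma tt_mul (f g f' g' : WithConv (A →ₗ[k] k)) : tt f g * tt f' g' = tt (f * f') (g * g') := by
  apply WithConv.ofConv_injective
  refine TensorProduct.ext' fun a b => ?_
  change (tt f g * tt f' g') (a ⊗ₜ b) = tt (f * f') (g * g') (a ⊗ₜ b)
  rw [tt_tmul, LinearMap.convMul_apply, TensorProduct.comul_tmul, Coalgebra.Repr.convMul_apply (ℛ k a) f f',
    Coalgebra.Repr.convMul_apply (ℛ k b) g g', Finset.sum_mul_sum, ← (ℛ k a).eq, ← (ℛ k b).eq, TensorProduct.sum_tmul]
  simp only [TensorProduct.tmul_sum, map_sum]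
  refine Finset.sum_congr rfl fun i _ => Finset.sum_congr rfl fun j _ => ?_
  rw [AlgebraTensorModule.tensorTensorTensorComm_tmul, TensorProduct.map_tmul, LinearMap.mul'_apply]
  simp
  ring

lemma tt_one : tt (1 : WithConv (A →ₗ[k] k)) 1 = 1 := by
  apply WithConv.ofConv_injective
  refine TensorProduct.ext' fun a b => ?_
  simp [tt, LinearMap.convOne_def, mul_comm]

/-- Restriction along the multiplication. -/
noncomputable def mm : WithConv (A →ₗ[k] k) →* WithConv (A ⊗[k] A →ₗ[k] k) where
  toFun f := toConv (f.ofConv ∘ₗ LinearMap.mul' k A)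
  map_one' := by
    apply WithConv.ofConv_injective
    refine TensorProduct.ext' fun a b => ?_
    simp [LinearMap.convOne_def, mul_comm]
  map_mul' f g := by
    apply WithConv.ofConv_injective
    refine TensorProduct.ext' fun a b => ?_
    change (f * g) (a * b) = (toConv (f.ofConv ∘ₗ LinearMap.mul' k A) * toConv (g.ofConv ∘ₗ LinearMap.mul' k A)) (a ⊗ₜ b)
    rw [LinearMap.convMul_apply, LinearMap.convMul_apply, TensorProduct.comul_tmul, Bialgebra.comul_mul, ← (ℛ k a).eq,
      ← (ℛ k b).eq, Finset.sum_mul_sum, TensorProduct.sum_tmul]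
    simp only [TensorProduct.tmul_sum, map_sum]
    exact Finset.sum_congr rfl fun i _ => Finset.sum_congr rfl fun j _ => by simp

lemma pow_mul_apply {f : WithConv (A →ₗ[k] k)} (hf : IsPrim f) (n : ℕ) (a b : A) :
    (f ^ n) (a * b) = ∑ j ∈ Finset.range (n + 1), (n.choose j : k) * ((f ^ j) a * (f ^ (n - j)) b) := by
  have h1 : mm f = tt f 1 + tt 1 f := by
    apply WithConv.ofConv_injective
    refine TensorProduct.ext' fun a b => ?_
    change f (a * b) = tt f 1 (a ⊗ₜ b) + tt 1 f (a ⊗ₜ b)
    rw [hf, tt_tmul, tt_tmul]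
    simp [LinearMap.convOne_def]
  have hc : Commute (tt f 1) (tt 1 f) := by simp [commute_iff_eq, tt_mul]
  have hp : ∀ j l : ℕ, tt f 1 ^ j * tt 1 f ^ l = tt (f ^ j) (f ^ l) := by
    intro j l
    have e1 : tt f 1 ^ j = tt (f ^ j) 1 := by
      induction j with
      | zero => simp [tt_one]
      | succ j ih => rw [pow_succ, ih, tt_mul, one_mul, ← pow_succ]
    have e2 : tt 1 f ^ l = tt 1 (f ^ l) := by
      induction l with
      | zero => simp [tt_one]
      | succ l ih => rw [pow_succ, ih, tt_mul, one_mul, ← pow_succ]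
    rw [e1, e2, tt_mul, one_mul, mul_one]
  have h2 := congrArg (fun F : WithConv (A ⊗[k] A →ₗ[k] k) => F (a ⊗ₜ b)) (congrArg (· ^ n) h1)
  simp only [hc.add_pow, ← map_pow, WithConv.ofConv_sum, LinearMap.sum_apply] at h2
  refine Eq.trans (show (f ^ n) (a * b) = mm (f ^ n) (a ⊗ₜ b) from rfl) (h2.trans (Finset.sum_congr rfl fun j _ => ?_))
  rw [hp, ← nsmul_eq_mul', WithConv.ofConv_smul, LinearMap.smul_apply, nsmul_eq_mul]
  rw [tt_tmul]

lemma IsPrim.apply_one {f : WithConv (A →ₗ[k] k)} (hf : IsPrim f) : f 1 = 0 := by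
  have := hf 1 1
  rw [one_mul, Bialgebra.counit_one, mul_one, one_mul] at this
  exact left_eq_add.1 this

lemma pow_apply_one {f : WithConv (A →ₗ[k] k)} (hf : IsPrim f) (n : ℕ) : (f ^ n) 1 = if n = 0 then 1 else 0 := by
  induction n with
  | zero => simp
  | succ n ih =>
    rw [pow_succ, LinearMap.convMul_apply, Bialgebra.comul_one, Algebra.TensorProduct.one_def, TensorProduct.map_tmul,
      LinearMap.mul'_apply, show f.ofConv 1 = 0 from hf.apply_one, mul_zero, if_neg n.succ_ne_zero]

variable (p : ℕ) [hp : Fact p.Prime] [CharP k p]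

lemma IsPrim.pow_p {f : WithConv (A →ₗ[k] k)} (hf : IsPrim f) : IsPrim (f ^ p) := by
  intro a b
  rw [pow_mul_apply hf, Finset.sum_range_succ, Finset.sum_eq_single 0]
  · simp [add_comm]
  · intro j hj hj0
    rw [(CharP.cast_eq_zero_iff k p _).2 (Nat.Prime.dvd_choose_self hp.out hj0 (Finset.mem_range.1 hj)), zero_mul]
  · intro h; exact absurd (Finset.mem_range.2 hp.out.pos) h

variable (A) in
/-- The space of primitive forms. -/
def primSub : Submodule k (WithConv (A →ₗ[k] k)) where
  carrier := {f | IsPrim f}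
  add_mem' {f g} hf hg a b := by
    change f (a * b) + g (a * b) = (f a + g a) * _ + _ * (f b + g b)
    rw [hf, hg]; ring
  zero_mem' a b := by change (0 : k) = 0 * _ + _ * 0; simp
  smul_mem' c f hf a b := by
    change c * f (a * b) = c * f a * _ + _ * (c * f b)
    rw [hf]; ring

end Calc

section Fixed

open Polynomial in
/-- A `p`-semilinear fixed point among the `p`-th power iterates. -/
lemma exists_fixed [IsAlgClosed k] (p : ℕ) [hp : Fact p.Prime] [CharP k p] {P : Type w} [Ring P] [Algebra k P]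
    [Module.Finite k P] (S : Submodule k P) (hS : ∀ x ∈ S, x ^ p ∈ S) (D : P) (hD : D ∈ S) (hD0 : D ≠ 0) :
    ∃ v ∈ S, v ≠ 0 ∧ ∃ e : k, (e = 0 ∨ e = 1) ∧ v ^ p = e • v := by
  classical
  have hmem : ∀ i, D ^ p ^ i ∈ S := by
    intro i
    induction i with
    | zero => simpa using hD
    | succ i ih => rw [pow_succ, pow_mul]; exact hS _ ih
  have hex : ∃ n, ¬ LinearIndependent k (fun i : Fin n => D ^ p ^ (i : ℕ)) :=
    ⟨Module.finrank k P + 1, fun h => by simpa using h.fintype_card_le_finrank⟩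
  obtain ⟨l, hl⟩ : ∃ l, Nat.find hex = l + 2 := by
    have h0 : Nat.find hex ≠ 0 := fun h => Nat.find_spec hex (by rw [h]; exact linearIndependent_empty_type)
    have h1 : Nat.find hex ≠ 1 := fun h => Nat.find_spec hex (by
      rw [h, linearIndependent_unique_iff]
      simpa using hD0)
    exact ⟨Nat.find hex - 2, by omega⟩
  have hli : LinearIndependent k (fun i : Fin (l + 1) => D ^ p ^ (i : ℕ)) :=
    not_not.1 (Nat.find_min hex (by omega))
  have hdep : D ^ p ^ (l + 1) ∈ Submodule.span k (Set.range fun i : Fin (l + 1) => D ^ p ^ (i : ℕ)) := by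
    by_contra hc
    apply Nat.find_spec hex
    rw [hl]
    have e : (fun i : Fin (l + 2) => D ^ p ^ (i : ℕ)) =
        Fin.snoc (fun i : Fin (l + 1) => D ^ p ^ (i : ℕ)) (D ^ p ^ (l + 1)) := by
      funext i
      refine Fin.lastCases ?_ (fun j => ?_) i <;> simp
    rw [e]
    exact linearIndependent_finSnoc.2 ⟨hli, hc⟩
  obtain ⟨a', ha'⟩ := (Submodule.mem_span_range_iff_exists_fun k).1 hdep
  let a : ℕ → k := fun i => if h : i < l + 1 then a' ⟨i, h⟩ else 0
  have ha : D ^ p ^ (l + 1) = ∑ i ∈ Finset.range (l + 1), a i • D ^ p ^ i := by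
    rw [← ha', Finset.sum_range (fun i => a i • D ^ p ^ i)]
    exact Finset.sum_congr rfl fun i _ => by rw [show a i = a' i from dif_pos i.2]
  by_cases hall : ∀ i < l + 1, a i = 0
  · refine ⟨D ^ p ^ l, hmem l, hli.ne_zero (Fin.last l), 0, Or.inl rfl, ?_⟩
    rw [zero_smul, ← pow_mul, ← pow_succ, ha]
    exact Finset.sum_eq_zero fun i hi => by rw [hall i (Finset.mem_range.1 hi), zero_smul]
  push Not at hall
  let W : ℕ → k[X] := fun i => Nat.rec (Polynomial.C (a 0))
    (fun i Wi => Polynomial.X ^ (p * (p - 1)) * Wi ^ p + Polynomial.C (a (i + 1))) i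
  have hW0 : W 0 = Polynomial.C (a 0) := rfl
  have hWs : ∀ i, W (i + 1) = Polynomial.X ^ (p * (p - 1)) * W i ^ p + Polynomial.C (a (i + 1)) := fun i => rfl
  have hWne : ∀ i, (∃ j ≤ i, a j ≠ 0) → W i ≠ 0 := by
    intro i
    induction i with
    | zero => rintro ⟨j, hj, hj0⟩; rw [Nat.le_zero.1 hj] at hj0; rw [hW0]; simpa using hj0
    | succ i ih =>
      rintro ⟨j, hj, hj0⟩ h0
      rw [hWs] at h0
      rcases eq_or_ne (W i) 0 with hw | hw
      · rw [hw, zero_pow hp.out.ne_zero, mul_zero, zero_add, Polynomial.C_eq_zero] at h0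
        rcases hj.lt_or_eq with hj' | rfl
        · exact ih ⟨j, by omega, hj0⟩ hw
        · exact hj0 h0
      · have h1 := congrArg Polynomial.natDegree (eq_neg_of_add_eq_zero_left h0)
        rw [natDegree_neg, natDegree_C, natDegree_mul (pow_ne_zero _ Polynomial.X_ne_zero) (pow_ne_zero _ hw),
          natDegree_X_pow] at h1
        have := Nat.mul_pos hp.out.pos (Nat.sub_pos_of_lt hp.out.one_lt)
        omega
  obtain ⟨i0, hi0, hi0'⟩ := hall
  let Q : k[X] := Polynomial.X ^ (p - 1) * W l - 1
  obtain ⟨t, ht⟩ : ∃ t, Q.IsRoot t := by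
    refine IsAlgClosed.exists_root Q fun hdeg => ?_
    have h1 := natDegree_eq_of_degree_eq_some (n := 0) (by simpa using hdeg)
    rw [natDegree_sub_eq_left_of_natDegree_lt] at h1 <;>
      rw [natDegree_mul (pow_ne_zero _ Polynomial.X_ne_zero) (hWne l ⟨i0, by omega, hi0'⟩), natDegree_X_pow] at *
    · have := hp.out.two_le; omega
    · rw [natDegree_one]; have := hp.out.two_le; omega
  have ht1 : t ^ (p - 1) * (W l).eval t = 1 := by simpa [Q, sub_eq_zero] using ht
  have ht0 : t ≠ 0 := fun h => by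
    rw [h, zero_pow (Nat.sub_ne_zero_of_lt hp.out.one_lt), zero_mul] at ht1; exact zero_ne_one ht1
  let c : ℕ → k := fun i => t ^ p * (W i).eval t
  have hcl : c l = t := by
    simp only [c]
    rw [show p = (p - 1) + 1 from (Nat.succ_pred_eq_of_pos hp.out.pos).symm, pow_succ, mul_comm (t ^ _) t, mul_assoc,
      show (p - 1 + 1 - 1) = p - 1 by omega] at *
    rw [ht1, mul_one]
  have hcs : ∀ i, c (i + 1) = c i ^ p + a (i + 1) * t ^ p := fun i => by
    simp only [c, hWs, eval_add, eval_mul, eval_pow, eval_X, eval_C, mul_pow, ← pow_mul]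
    have : p + p * (p - 1) = p * p := by
      rw [Nat.mul_sub, mul_one]; have := Nat.le_mul_self p; omega
    rw [mul_add, ← mul_assoc, ← pow_add, this, mul_comm (a _)]
  let F : k[X] := ∑ i ∈ Finset.range (l + 1), Polynomial.C (c i) * Polynomial.X ^ p ^ i
  have hv : Polynomial.aeval D F = ∑ i ∈ Finset.range (l + 1), c i • D ^ p ^ i := by
    simp [F, Algebra.smul_def]
  have hvp : Polynomial.aeval D F ^ p = ∑ i ∈ Finset.range (l + 1), c i ^ p • D ^ p ^ (i + 1) := by
    rw [← map_pow, sum_pow_char p, map_sum]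
    exact Finset.sum_congr rfl fun i _ => by
      rw [mul_pow, map_mul, ← map_pow Polynomial.C, aeval_C, ← pow_mul, ← pow_succ, aeval_X_pow, Algebra.smul_def, map_pow]
  refine ⟨Polynomial.aeval D F, ?_, ?_, 1, Or.inr rfl, ?_⟩
  · rw [hv]; exact Submodule.sum_mem _ fun i _ => S.smul_mem _ (hmem i)
  · rw [hv, Finset.sum_range (fun i => c i • D ^ p ^ i)]
    intro h
    have := Fintype.linearIndependent_iff.1 hli _ h (Fin.last l)
    rw [Fin.val_last, hcl] at this
    exact ht0 this
  · rw [one_smul, hvp, hv, Finset.sum_range_succ, ha, hcl, Finset.smul_sum, Finset.sum_range_succ' (fun i => t ^ p • a i • D ^ p ^ i),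
      Finset.sum_range_succ' (fun i => c i • D ^ p ^ i), ← add_assoc, ← Finset.sum_add_distrib]
    congr 1
    · exact Finset.sum_congr rfl fun i _ => by rw [hcs, add_smul, smul_smul, mul_comm (t ^ p)]
    · simp only [c, hW0, eval_C, smul_smul]

end Fixed

section Build

variable {A : Type v} [CommRing A] [Bialgebra k A] {B : Type w} [CommRing B] [Bialgebra k B] (p : ℕ) [hp : Fact p.Prime]
  [CharP k p]

/-- The first `p` powers. -/
noncomputable def evalPow (f : WithConv (A →ₗ[k] k)) : A →ₗ[k] (Fin p → k) :=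
  LinearMap.pi fun i : Fin p => (f ^ (i : ℕ)).ofConv

lemma evalPow_surjective {f : WithConv (A →ₗ[k] k)} (hf : IsPrim f) (y : A) (hy0 : counit (R := k) y = 0) (hy : f y ≠ 0) :
    ∀ j : Fin p, (∀ i : ℕ, i < j → (f ^ i) (y ^ (j : ℕ)) = 0) ∧ (f ^ (j : ℕ)) (y ^ (j : ℕ)) ≠ 0 := by
  have key : ∀ j : ℕ, (∀ i < j, (f ^ i) (y ^ j) = 0) ∧ (f ^ j) (y ^ j) = (j.factorial : k) * f y ^ j := by
    intro j
    induction j with
    | zero => exact ⟨fun i hi => absurd hi (Nat.not_lt_zero i), by simp⟩
    | succ j ih =>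
      have hterm : ∀ i ≤ j + 1, ∀ l, l ≤ i → l ≠ 1 →
          (i.choose l : k) * ((f ^ l) y * (f ^ (i - l)) (y ^ j)) = 0 := by
        intro i hi l hl hl1
        rcases Nat.eq_zero_or_pos l with rfl | hl0
        · simp [hy0]
        · rw [ih.1 (i - l) (by omega), mul_zero, mul_zero]
      refine ⟨fun i hi => ?_, ?_⟩
      · rw [pow_succ', pow_mul_apply hf]
        refine Finset.sum_eq_zero fun l hl => ?_
        rw [Finset.mem_range] at hl
        by_cases hl1 : l = 1
        · rw [ih.1 (i - l) (by omega), mul_zero, mul_zero]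
        · exact hterm i hi.le l (by omega) hl1
      · rw [pow_succ' y, pow_mul_apply hf, Finset.sum_eq_single 1]
        · rw [Nat.choose_one_right, Nat.add_sub_cancel, ih.2, pow_one, Nat.factorial_succ]; push_cast; ring
        · exact fun l hl hl1 => hterm (j + 1) le_rfl l (by rw [Finset.mem_range] at hl; omega) hl1
        · intro h; exact absurd (Finset.mem_range.2 (by omega)) h
  intro j
  refine ⟨(key j).1, ?_⟩
  rw [(key j).2]
  exact mul_ne_zero (fun h => (Nat.not_le.2 j.2) ((Nat.Prime.dvd_factorial hp.out).1 ((CharP.cast_eq_zero_iff k p _).1 h)))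
    (pow_ne_zero _ hy)

lemma li_pow {f : WithConv (A →ₗ[k] k)} (hf : IsPrim f) (y : A) (hy0 : counit (R := k) y = 0) (hy : f y ≠ 0) :
    LinearIndependent k (fun j : Fin p => evalPow p f (y ^ (j : ℕ))) := by
  rw [Fintype.linearIndependent_iff]
  intro g hg
  have h : ∀ n, ∀ i : Fin p, (i : ℕ) = n → g i = 0 := by
    intro n
    induction n using Nat.strong_induction_on with
    | _ n ih =>
      rintro i rfl
      have h1 := congrArg (fun F : Fin p → k => F i) hg
      simp only [Finset.sum_apply, Pi.smul_apply, Pi.zero_apply, smul_eq_mul] at h1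
      rw [Finset.sum_eq_single i] at h1
      · exact (mul_eq_zero.1 h1).resolve_right (evalPow_surjective p hf y hy0 hy i).2
      · intro j _ hj
        rcases lt_or_gt_of_ne (Fin.val_ne_of_ne hj) with h | h
        · rw [ih j h j rfl, zero_mul]
        · exact mul_eq_zero_of_right _ ((evalPow_surjective p hf y hy0 hy j).1 i h)
      · exact fun h => absurd (Finset.mem_univ i) h
  exact fun i => h i i rfl

lemma evalPow_surj {f : WithConv (A →ₗ[k] k)} (hf : IsPrim f) (y : A) (hy0 : counit (R := k) y = 0) (hy : f y ≠ 0) :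
    Function.Surjective (evalPow p f) := by
  have h := (li_pow p hf y hy0 hy).span_eq_top_of_card_eq_finrank' (by simp)
  rw [← LinearMap.range_eq_top, eq_top_iff, ← h, Submodule.span_le]
  rintro _ ⟨j, rfl⟩
  exact ⟨_, rfl⟩

lemma pow_eq_pow {v : WithConv (A →ₗ[k] k)} {w : WithConv (B →ₗ[k] k)} {e : k} (hv : v ^ p = e • v)
    (hw : w ^ p = e • w) (g : A →ₗ[k] B) (hg : ∀ i < p, ∀ a, (w ^ i) (g a) = (v ^ i) a) (n : ℕ) (a : A) :
    (w ^ n) (g a) = (v ^ n) a := by
  induction n using Nat.strong_induction_on generalizing a with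
  | _ n ih =>
    rcases lt_or_ge n p with hn | hn
    · exact hg n hn a
    · obtain ⟨r, rfl⟩ := Nat.exists_eq_add_of_le hn
      rw [pow_add, pow_add, hv, hw, smul_mul_assoc, smul_mul_assoc, ← pow_succ', ← pow_succ', WithConv.ofConv_smul,
        WithConv.ofConv_smul, LinearMap.smul_apply, LinearMap.smul_apply, ih (r + 1) (by have := hp.out.two_le; omega)]

/-- A bialgebra map from a pair of primitive forms with the same `p`-th power relation. -/
theorem exists_hom [Module.Finite k B] (hB : Module.finrank k B = p) {v : WithConv (A →ₗ[k] k)}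
    {w : WithConv (B →ₗ[k] k)} {e : k} (hv : IsPrim v) (hw : IsPrim w) (hvp : v ^ p = e • v) (hwp : w ^ p = e • w)
    (yB : B) (hyB : counit (R := k) yB = 0) (hwy : w yB ≠ 0) (y : A) (hy : counit (R := k) y = 0) (hvy : v y ≠ 0) :
    ∃ f : A →ₐc[k] B, Function.Surjective f := by
  have hBs := evalPow_surj p hw yB hyB hwy
  have hBi : Function.Injective (evalPow p w) :=
    (LinearMap.injective_iff_surjective_of_finrank_eq_finrank (by simp [hB])).2 hBs
  let E := LinearEquiv.ofBijective (evalPow p w) ⟨hBi, hBs⟩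
  let g : A →ₗ[k] B := E.symm.toLinearMap ∘ₗ evalPow p v
  have hg : ∀ n a, (w ^ n) (g a) = (v ^ n) a := pow_eq_pow p hvp hwp g fun i hi a =>
    congrFun (E.apply_symm_apply (evalPow p v a)) ⟨i, hi⟩
  let f₀ : A →ₐ[k] B := AlgHom.ofLinearMap g
    (hBi (funext fun i => by
      change (w ^ (i : ℕ)) (g 1) = (w ^ (i : ℕ)) 1
      rw [hg, pow_apply_one hv, pow_apply_one hw]))
    (fun a b => hBi (funext fun i => by
      change (w ^ (i : ℕ)) (g (a * b)) = (w ^ (i : ℕ)) (g a * g b)
      rw [hg, pow_mul_apply hv, pow_mul_apply hw]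
      simp only [hg]))
  have hε : (Bialgebra.counitAlgHom k B).comp f₀ = Bialgebra.counitAlgHom k A := AlgHom.ext fun a => by
    have := hg 0 a
    change Coalgebra.counit (R := k) (g a) = Coalgebra.counit (R := k) a
    simpa [LinearMap.convOne_def] using this
  let f : A →ₐc[k] B := BialgHom.ofAlgHom f₀ hε (AlgHom.ext fun a => by
    let P : Set (B →ₗ[k] k) := Set.range fun i : Fin p => (w ^ (i : ℕ)).ofConv
    have hP : ∀ b : B, (∀ l ∈ P, l b = 0) → b = 0 := fun b hb =>
      hBi (by rw [map_zero]; exact funext fun i => hb _ ⟨i, rfl⟩)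
    refine sub_eq_zero.1 (Groth.Agent.HopfQuot.eq_zero_of_forall_pair (k := k) (P := P) (Q := P) hP hP ?_)
    rintro _ ⟨i, rfl⟩ _ ⟨j, rfl⟩
    rw [map_sub, map_sub, sub_eq_zero]
    have h1 := hg ((i : ℕ) + j) a
    rw [pow_add, pow_add, LinearMap.convMul_apply, LinearMap.convMul_apply] at h1
    refine Eq.trans ?_ h1.symm
    change LinearMap.mul' k k (TensorProduct.map _ _ (Algebra.TensorProduct.map f₀ f₀ (Coalgebra.comul (R := k) a))) = _
    generalize Coalgebra.comul (R := k) a = t
    induction t using TensorProduct.induction_on with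
    | zero => simp
    | add s u hs hu => simp only [map_add, hs, hu]
    | tmul s u => simp [f₀, hg])
  refine ⟨f, ?_⟩
  exact E.symm.surjective.comp (evalPow_surj p hv y hy hvy)

end Build

section Targets

variable (p : ℕ) [hp : Fact p.Prime] [CharP k p]

variable (k) in
/-- The coefficient of `x`. -/
noncomputable def wAlpha : WithConv (AlphaP.A p k →ₗ[k] k) := toConv (HopfQuot.AlphaCalc.L1 p k)

lemma wAlpha_pow (m : ℕ) : wAlpha k p (AlphaP.x p k ^ m) = if m = 1 then 1 else 0 := by
  rcases lt_or_ge m p with h | h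
  · exact HopfQuot.AlphaCalc.L1_pow p k h
  · rw [if_neg (by have := hp.out.two_le; omega), pow_eq_zero_of_le h (AlphaP.x_pow p k), map_zero]

lemma isPrim_wAlpha : IsPrim (wAlpha k p) := by
  haveI := HopfQuot.AlphaCalc.nontrivial_base p k
  let L : AlphaP.A p k →ₗ[k] AlphaP.A p k →ₗ[k] k := (LinearMap.mul k _).compr₂ (wAlpha k p).ofConv
  let R : AlphaP.A p k →ₗ[k] AlphaP.A p k →ₗ[k] k :=
    (LinearMap.mul k k).compl₁₂ (wAlpha k p).ofConv Coalgebra.counit +
      (LinearMap.mul k k).compl₁₂ Coalgebra.counit (wAlpha k p).ofConv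
  have : L = R := (AlphaP.basis p k).ext fun i => (AlphaP.basis p k).ext fun j => by
    change wAlpha k p (AlphaP.basis p k i * AlphaP.basis p k j) = wAlpha k p (AlphaP.basis p k i) *
      counit (R := k) (AlphaP.basis p k j) + counit (R := k) (AlphaP.basis p k i) * wAlpha k p (AlphaP.basis p k j)
    rw [AlphaP.basis_apply, AlphaP.basis_apply, ← pow_add, wAlpha_pow, wAlpha_pow, wAlpha_pow, Bialgebra.counit_pow,
      Bialgebra.counit_pow, AlphaP.counit_x, zero_pow_eq, zero_pow_eq]
    rcases Nat.eq_zero_or_pos (i : ℕ) with hi | hi <;> rcases Nat.eq_zero_or_pos (j : ℕ) with hj | hj <;>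
      simp [hi, hj, Nat.pos_iff_ne_zero.1, show (i : ℕ) ≠ 0 ∨ (i : ℕ) = 0 from (em _).symm]
    all_goals omega
  exact fun a b => LinearMap.congr_fun (LinearMap.congr_fun this a) b

lemma IsPrim.eq_zero_of_x {f : WithConv (AlphaP.A p k →ₗ[k] k)} (hf : IsPrim f) (hx : f (AlphaP.x p k) = 0) :
    f = 0 := by
  haveI := HopfQuot.AlphaCalc.nontrivial_base p k
  apply WithConv.ofConv_injective
  refine (AlphaP.basis p k).ext fun i => ?_
  rw [AlphaP.basis_apply]
  change f (AlphaP.x p k ^ (i : ℕ)) = 0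
  induction (i : ℕ) with
  | zero => rw [pow_zero]; exact hf.apply_one
  | succ n ih => rw [pow_succ, hf, ih, hx]; ring

lemma wAlpha_pow_p : wAlpha k p ^ p = (0 : k) • wAlpha k p := by
  rw [zero_smul]
  refine IsPrim.eq_zero_of_x p (IsPrim.pow_p p (isPrim_wAlpha p)) ?_
  obtain ⟨n, hn⟩ := Nat.exists_eq_add_of_le' hp.out.one_le
  rw [show wAlpha k p ^ p = wAlpha k p ^ (n + 1) from congrArg _ hn, pow_succ, LinearMap.convMul_apply,
    AlphaP.comul_x, map_add, TensorProduct.map_tmul, TensorProduct.map_tmul, map_add, LinearMap.mul'_apply,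
    LinearMap.mul'_apply]
  have : n ≠ 0 := by have := hp.out.two_le; omega
  rw [show (wAlpha k p ^ n).ofConv 1 = 0 from (pow_apply_one (isPrim_wAlpha p) n).trans (if_neg this),
    show (wAlpha k p).ofConv 1 = 0 from (isPrim_wAlpha p).apply_one, mul_zero, zero_mul, add_zero]

variable (k) in
/-- The logarithm of a grouplike element. -/
noncomputable def wMu : WithConv (MonoidAlgebra k (Multiplicative (ZMod p)) →ₗ[k] k) :=
  toConv ((MonoidAlgebra.basis (Multiplicative (ZMod p)) k).constr k fun g => ZMod.castHom dvd_rfl k g.toAdd)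

lemma wMu_single (g : Multiplicative (ZMod p)) :
    wMu k p (MonoidAlgebra.single g 1) = ZMod.castHom dvd_rfl k g.toAdd := by
  rw [← MonoidAlgebra.basis_apply]
  exact (MonoidAlgebra.basis (Multiplicative (ZMod p)) k).constr_basis k _ g

lemma isPrim_wMu : IsPrim (wMu k p) := by
  let b := MonoidAlgebra.basis (Multiplicative (ZMod p)) k
  let L := (LinearMap.mul k (MonoidAlgebra k (Multiplicative (ZMod p)))).compr₂ (wMu k p).ofConv
  let R : MonoidAlgebra k (Multiplicative (ZMod p)) →ₗ[k] MonoidAlgebra k (Multiplicative (ZMod p)) →ₗ[k] k :=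
    (LinearMap.mul k k).compl₁₂ (wMu k p).ofConv Coalgebra.counit +
      (LinearMap.mul k k).compl₁₂ Coalgebra.counit (wMu k p).ofConv
  have : L = R := b.ext fun i => b.ext fun j => by
    change wMu k p (b i * b j) = wMu k p (b i) * counit (R := k) (b j) + counit (R := k) (b i) * wMu k p (b j)
    simp only [b, MonoidAlgebra.basis_apply, MonoidAlgebra.single_mul_single, mul_one, MonoidAlgebra.counit_single,
      CommSemiring.counit_apply, one_mul, wMu_single, toAdd_mul, map_add]
  exact fun a c => LinearMap.congr_fun (LinearMap.congr_fun this a) c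

lemma wMu_pow_single (n : ℕ) (g : Multiplicative (ZMod p)) :
    (wMu k p ^ n) (MonoidAlgebra.single g 1) = ZMod.castHom dvd_rfl k g.toAdd ^ n := by
  induction n with
  | zero => simp
  | succ n ih =>
    rw [pow_succ, LinearMap.convMul_apply, MonoidAlgebra.comul_single, CommSemiring.comul_apply,
      TensorProduct.map_tmul, TensorProduct.map_tmul, LinearMap.mul'_apply, pow_succ]
    exact congrArg₂ (· * ·) ih (wMu_single p g)

lemma wMu_pow_p : wMu k p ^ p = (1 : k) • wMu k p := by
  rw [one_smul]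
  apply WithConv.ofConv_injective
  refine (MonoidAlgebra.basis (Multiplicative (ZMod p)) k).ext fun g => ?_
  rw [MonoidAlgebra.basis_apply]
  refine (wMu_pow_single p p g).trans ?_
  rw [wMu_single, ← map_pow, ZMod.pow_card]

lemma finrank_mu : Module.finrank k (MonoidAlgebra k (Multiplicative (ZMod p))) = p := by
  rw [Module.finrank_eq_card_basis (MonoidAlgebra.basis (Multiplicative (ZMod p)) k), Fintype.card_multiplicative,
    ZMod.card]

end Targets

section Main

variable [IsAlgClosed k] (p : ℕ) [hp : Fact p.Prime] [CharP k p] {A : Type v} [CommRing A] [HopfAlgebra k A]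
  [Module.Finite k A]

include hp in
lemma exists_prim (hA : ¬ IsReduced A) : ∃ φ : WithConv (A →ₗ[k] k), IsPrim φ ∧ φ ≠ 0 := by
  let m := RingHom.ker (Bialgebra.counitAlgHom k A)
  have hm : m ^ 2 ≠ m := fun h => hA (by
    haveI := HopfQuot.UnitComp.formallyUnramified_of_sq_eq h
    exact Algebra.FormallyUnramified.isReduced_of_field k A)
  obtain ⟨y, hy, hy2⟩ := Set.exists_of_ssubset
    ((Ideal.pow_le_self two_ne_zero).lt_of_ne hm : m ^ 2 < m)
  let S : Submodule k A := (m ^ 2).restrictScalars k ⊔ Submodule.span k {(1 : A)}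
  have hyS : y ∉ S := by
    intro h
    obtain ⟨z, hz, o, ho, rfl⟩ := Submodule.mem_sup.1 h
    obtain ⟨c, rfl⟩ := Submodule.mem_span_singleton.1 ho
    have h1 : Bialgebra.counitAlgHom k A (z + c • 1) = 0 := hy
    rw [map_add, show Bialgebra.counitAlgHom k A z = 0 from Ideal.pow_le_self two_ne_zero hz, map_smul, map_one,
      zero_add, smul_eq_mul, mul_one] at h1
    rw [h1, zero_smul, add_zero] at hy2
    exact hy2 hz
  obtain ⟨φ, hφy, hφ⟩ := Submodule.exists_dual_map_eq_bot_of_notMem hyS inferInstance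
  have hS : ∀ x ∈ S, φ x = 0 := fun x hx => by
    have := Submodule.mem_map_of_mem (f := φ) hx
    rwa [hφ, Submodule.mem_bot] at this
  refine ⟨toConv φ, fun a b => ?_, fun h => hφy (by rw [show φ = 0 from congrArg WithConv.ofConv h]; rfl)⟩
  let a' := a - counit (R := k) a • (1 : A)
  let b' := b - counit (R := k) b • (1 : A)
  have e : a * b = a' * b' + counit (R := k) a • b + counit (R := k) b • a - (counit (R := k) a * counit (R := k) b) • (1 : A) := by
    simp only [a', b', Algebra.smul_def, map_mul]; ring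
  have h0 : φ (a' * b') = 0 := hS _ (Submodule.mem_sup_left (by
    show a' * b' ∈ m ^ 2
    rw [pow_two]
    exact Ideal.mul_mem_mul (by simp [m, a']) (by simp [m, b'])))
  have h1 : φ 1 = 0 := hS _ (Submodule.mem_sup_right (Submodule.mem_span_singleton_self 1))
  change φ (a * b) = φ a * _ + _ * φ b
  rw [e, map_sub, map_add, map_add, map_smul, map_smul, map_smul, h0, h1, smul_eq_mul, smul_eq_mul, smul_zero]
  ring

omit [IsAlgClosed k] [Module.Finite k A] in
lemma exists_aug {v : WithConv (A →ₗ[k] k)} (hv : IsPrim v) (hv0 : v ≠ 0) :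
    ∃ y : A, counit (R := k) y = 0 ∧ v y ≠ 0 := by
  by_contra! h
  refine hv0 (WithConv.ofConv_injective (LinearMap.ext fun a => ?_))
  have := h (a - counit (R := k) a • (1 : A)) (by simp)
  rwa [map_sub, map_smul, show v.ofConv 1 = 0 from hv.apply_one, smul_zero, sub_zero] at this

/-- A nonreduced finite group scheme contains `μ_p` or `α_p`. -/
theorem nonreduced (hA : ¬ IsReduced A) :
    (∃ f : A →ₐc[k] MonoidAlgebra k (Multiplicative (ZMod p)), Function.Surjective f) ∨
      (∃ f : A →ₐc[k] AlphaP.A p k, Function.Surjective f) := by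
  obtain ⟨φ, hφ, hφ0⟩ := exists_prim (k := k) p hA
  haveI : Module.Finite k (WithConv (A →ₗ[k] k)) := Module.Finite.equiv (WithConv.linearEquiv k _).symm
  obtain ⟨v, hv, hv0, e, he, hvp⟩ := exists_fixed p (primSub (k := k) A) (fun x hx => IsPrim.pow_p p hx) φ hφ hφ0
  obtain ⟨y, hy, hvy⟩ := exists_aug (k := k) hv hv0
  rcases he with rfl | rfl
  · right
    haveI := HopfQuot.AlphaCalc.nontrivial_base p k
    refine exists_hom p (AlphaP.finrank_eq p k) hv (isPrim_wAlpha p) hvp (wAlpha_pow_p p) (AlphaP.x p k)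
      (AlphaP.counit_x p k) ?_ y hy hvy
    have := wAlpha_pow (k := k) p 1
    rw [pow_one, if_pos rfl] at this
    rw [this]; exact one_ne_zero
  · left
    let g : Multiplicative (ZMod p) := Multiplicative.ofAdd 1
    refine exists_hom p (finrank_mu p) hv (isPrim_wMu p) hvp (wMu_pow_p p)
      (MonoidAlgebra.single g 1 - 1) ?_ ?_ y hy hvy
    · simp
    · rw [map_sub, show (wMu k p).ofConv 1 = 0 from (isPrim_wMu p).apply_one, sub_zero, wMu_single]
      simp [g]

end Main

end Groth.Agent.CohDer1.PrimeOrder
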