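import Groth.Agent.CohDer1.PrimeOrder
import Groth.Agent.S17329
import Mathlib.RingTheory.Bialgebra.Equiv

/-!
# Finite group schemes of prime order
-/

set_option autoImplicit false

universe u v

open TensorProduct WithConv Coalgebra

namespace Groth.Agent.CohDer1.PrimeOrder

open Groth.Agent.HopfQuot

variable {k : Type u} [Field k] [IsAlgClosed k] {A : Type v} [CommRing A] [HopfAlgebra k A] [Module.Finite k A]

/-- A reduced finite group scheme of prime order is constant. -/
theorem constant_of_reduced [IsReduced A] (ℓ : ℕ) [Fact ℓ.Prime] (hA : Module.finrank k A = ℓ) :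
    Nonempty (A ≃ₐc[k] ConstGrp.F k (Multiplicative (ZMod ℓ))) := by
  classical
  haveI : Finite (A →ₐ[k] k) := finite_algHom
  haveI : Fintype (A →ₐ[k] k) := Fintype.ofFinite _
  haveI : Finite (WithConv (A →ₐ[k] k)) := Finite.of_injective WithConv.ofConv WithConv.ofConv_injective
  have hcard : Nat.card (WithConv (A →ₐ[k] k)) = ℓ := by
    rw [← hA, (AlgEquiv.ofBijective _ (bijective_evalPoints (k := k) (E := A))).toLinearEquiv.finrank_eq,
      Module.finrank_fintype_fun_eq_card, ← Nat.card_eq_fintype_card]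
    exact Nat.card_congr ⟨WithConv.ofConv, WithConv.toConv, fun _ => rfl, fun _ => rfl⟩
  let θ : Multiplicative (ZMod ℓ) ≃* WithConv (A →ₐ[k] k) :=
    mulEquivOfPrimeCardEq (p := ℓ) (by simp) hcard
  let f₀ : A →ₐ[k] ConstGrp.F k (Multiplicative (ZMod ℓ)) :=
    (ConstGrp.equivFun (R := k) (G := Multiplicative (ZMod ℓ))).symm.toAlgHom.comp (AlgHom.pi fun g => (θ g).ofConv)
  have hf : ∀ a g, f₀ a g = (θ g).ofConv a := fun a g => rfl
  have hbij : Function.Bijective f₀ := by
    have h := bijective_evalPoints (k := k) (E := A)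
    refine ⟨fun a b hab => h.1 (funext fun χ => ?_), fun y => ?_⟩
    · obtain ⟨g, hg⟩ := θ.surjective (toConv χ)
      have := congrFun hab g
      rwa [hf, hf, hg] at this
    · obtain ⟨a, ha⟩ := h.2 fun χ => y (θ.symm (toConv χ))
      refine ⟨a, ConstGrp.ext fun g => (hf a g).trans ((congrFun ha (θ g).ofConv).trans ?_)⟩
      exact congrArg y (θ.symm_apply_apply g)
  have hε : (Bialgebra.counitAlgHom k (ConstGrp.F k (Multiplicative (ZMod ℓ)))).comp f₀ = Bialgebra.counitAlgHom k A :=
    AlgHom.ext fun a => by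
      change f₀ a 1 = Coalgebra.counit (R := k) a
      rw [hf, map_one, AlgHom.convOne_apply]
      simp
  let f : A →ₐc[k] ConstGrp.F k (Multiplicative (ZMod ℓ)) := BialgHom.ofAlgHom f₀ hε (AlgHom.ext fun a => by
    let P : Set (ConstGrp.F k (Multiplicative (ZMod ℓ)) →ₗ[k] k) :=
      Set.range fun g => (ConstGrp.ev k g).toLinearMap
    have hP : ∀ b, (∀ l ∈ P, l b = 0) → b = 0 := fun b hb => ConstGrp.ext fun g => hb _ ⟨g, rfl⟩
    refine sub_eq_zero.1 (eq_zero_of_forall_pair (k := k) (P := P) (Q := P) hP hP ?_)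
    rintro _ ⟨g, rfl⟩ _ ⟨h, rfl⟩
    rw [map_sub, map_sub, sub_eq_zero]
    have e : ∀ t, LinearMap.mul' k k (TensorProduct.map (ConstGrp.ev k g).toLinearMap (ConstGrp.ev k h).toLinearMap t) =
        ConstGrp.pair k (Multiplicative (ZMod ℓ)) t (g, h) := fun t => by
      induction t using TensorProduct.induction_on with
      | zero => simp
      | add s u hs hu => simp only [map_add, hs, hu]; rfl
      | tmul s u => simp
    rw [e, e]
    refine Eq.trans ?_ (ConstGrp.pair_comul k (Multiplicative (ZMod ℓ)) (f₀ a) g h).symm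
    rw [hf, map_mul, AlgHom.convMul_apply]
    change ConstGrp.pair k (Multiplicative (ZMod ℓ)) (Algebra.TensorProduct.map f₀ f₀ (Coalgebra.comul (R := k) a)) (g, h) = _
    generalize Coalgebra.comul (R := k) a = t
    induction t using TensorProduct.induction_on with
    | zero => simp
    | add s u hs hu => simp only [map_add, ← hs, ← hu]; rfl
    | tmul s u => simp [hf])
  exact ⟨BialgEquiv.ofBijective f hbij⟩

omit [IsAlgClosed k] in
/-- The order of a subgroup divides the order of the group. -/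
theorem finrank_dvd [IsAlgClosed k] {B : Type*} [CommRing B] [HopfAlgebra k B] (f : A →ₐc[k] B)
    (hf : Function.Surjective f) : Module.finrank k B ∣ Module.finrank k A := by
  let I := RingHom.ker (f : A →+* B)
  haveI : I.IsHopfIdeal k := HopfLib.isHopfIdeal_ker f
  let e : (A ⧸ I) ≃ₐ[k] B := Ideal.quotientKerAlgEquivOfSurjective (f := (f : A →ₐ[k] B)) hf
  obtain ⟨hfree, hrank⟩ := Groth.Agent.S17329.result k A I
  haveI := hfree
  haveI : Nontrivial A := (Bialgebra.counitAlgHom k A).toRingHom.domain_nontrivial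
  haveI : Nontrivial ↥(FinQuot.inv k I) := inferInstance
  have hsub : Module.finrank k ↥(FinQuot.inv k I) * Module.finrank ↥(FinQuot.inv k I) A = Module.finrank k A := by
    haveI : Module.Free ↥(FinQuot.inv k I) A := hfree
    exact Module.finrank_mul_finrank k ↥(FinQuot.inv k I) A
  rw [← hsub, ← e.toLinearEquiv.finrank_eq]
  exact ⟨_, (congrArg (_ * ·) hrank).trans (mul_comm _ _)⟩

theorem prime_order (p : ℕ) [hp : Fact p.Prime] [CharP k p] (ℓ : ℕ) [hl : Fact ℓ.Prime] (hA : Module.finrank k A = ℓ) :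
    (ℓ ≠ p → Nonempty (A ≃ₐc[k] ConstGrp.F k (Multiplicative (ZMod ℓ)))) ∧
      (ℓ = p → Nonempty (A ≃ₐc[k] ConstGrp.F k (Multiplicative (ZMod p))) ∨
        Nonempty (A ≃ₐc[k] MonoidAlgebra k (Multiplicative (ZMod p))) ∨
        Nonempty (A ≃ₐc[k] AlphaP.A p k)) := by
  haveI := AlphaCalc.nontrivial_base p k
  by_cases hr : IsReduced A
  · exact ⟨fun _ => constant_of_reduced ℓ hA, fun h => by subst h; exact Or.inl (constant_of_reduced _ hA)⟩
  have key : ∀ {B : Type u} [CommRing B] [HopfAlgebra k B] [Module.Finite k B], Module.finrank k B = p →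
      ∀ f : A →ₐc[k] B, Function.Surjective f → ℓ = p ∧ Nonempty (A ≃ₐc[k] B) := by
    intro B _ _ _ hB f hf
    have hd := finrank_dvd f hf
    rw [hB, hA, Nat.prime_dvd_prime_iff_eq hp.out hl.out] at hd
    have hinj : Function.Injective f :=
      (LinearMap.injective_iff_surjective_of_finrank_eq_finrank (f := (f : A →ₗ[k] B)) (by rw [hA, hB, hd])).2 hf
    exact ⟨hd.symm, ⟨BialgEquiv.ofBijective f ⟨hinj, hf⟩⟩⟩
  rcases nonreduced (k := k) p hr with ⟨f, hf⟩ | ⟨f, hf⟩
  · obtain ⟨h, e⟩ := key (finrank_mu p) f hf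
    exact ⟨fun hne => absurd h hne, fun _ => Or.inr (Or.inl e)⟩
  · obtain ⟨h, e⟩ := key (AlphaP.finrank_eq p k) f hf
    exact ⟨fun hne => absurd h hne, fun _ => Or.inr (Or.inr e)⟩

end Groth.Agent.CohDer1.PrimeOrder
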