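import Groth.Agent.CohDer1.FKFlat

/-!
# Direct images of exact functors without first cohomology
-/

set_option autoImplicit false
set_option backward.isDefEq.respectTransparency false
set_option linter.style.haveILetI false

universe u

open CategoryTheory CategoryTheory.Limits AlgebraicGeometry
open Groth.Agent.Coherent Groth.Agent.CohDer1.FKFlat

attribute [local instance] HasDerivedCategory.standard

namespace Groth.Agent.CohDer1.PushExact

variable {P X Y : Scheme.{u}} (q : P ⟶ Y) [QuasiCompact q] [QuasiSeparated q]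
  [HasInjectiveResolutions P.Modules] (Φ : X.Modules ⥤ P.Modules) [Φ.Additive] [PreservesFiniteLimits Φ]
  [PreservesColimitsOfSize.{u, u} Φ]

theorem exact_push (hqc : ∀ M : QCohCat.QCoh X, Coh.IsQCoh (Φ.obj M.obj))
    (hacy : ∀ M : QCohCat.QCoh X, IsZero ((Coh.Rpush q 1).obj (Φ.obj M.obj))) :
    let F := ObjectProperty.ι (QCohCat.isQCoh X) ⋙ Φ ⋙ Coh.push q
    PreservesFiniteLimits F ∧ PreservesFiniteColimits F ∧ ∀ J : Type u, PreservesColimitsOfShape (Discrete J) F := by
  intro F
  haveI : PreservesFiniteColimits Φ := PreservesColimitsOfSize.preservesFiniteColimits _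
  haveI : (Coh.push q).IsRightAdjoint := (Scheme.Modules.pullbackPushforwardAdjunction q).isRightAdjoint
  haveI : PreservesLimitsOfSize.{u, u} (Coh.push q) :=
    (Scheme.Modules.pullbackPushforwardAdjunction q).rightAdjoint_preservesLimits
  haveI : PreservesFiniteLimits (Coh.push q) := PreservesLimitsOfSize.preservesFiniteLimits _
  letI : Abelian (QCohCat.QCoh X) := inferInstance
  haveI := preservesFiniteLimits_ι' X
  haveI : PreservesFiniteColimits (ObjectProperty.ι (QCohCat.isQCoh X)) :=
    PreservesColimitsOfSize.preservesFiniteColimits _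
  haveI : F.Additive := inferInstanceAs ((ObjectProperty.ι (QCohCat.isQCoh X) ⋙ Φ ⋙ Coh.push q)).Additive
  haveI hFl : PreservesFiniteLimits F :=
    inferInstanceAs (PreservesFiniteLimits (ObjectProperty.ι (QCohCat.isQCoh X) ⋙ Φ ⋙ Coh.push q))
  refine ⟨hFl, ?_, fun J => ⟨fun {D} => ?_⟩⟩
  · haveI : PreservesFiniteLimits (ObjectProperty.ι (QCohCat.isQCoh X) ⋙ Φ) := inferInstance
    haveI : PreservesFiniteColimits (ObjectProperty.ι (QCohCat.isQCoh X) ⋙ Φ) := inferInstance
    refine ((Functor.preservesFiniteColimits_tfae F).out 3 0).2 ?_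
    intro S hS
    refine ⟨?_, ?_⟩
    · have hex := ((Functor.preservesFiniteLimits_tfae F).out 3 0).1 hFl
      exact (hex S hS).1
    · have hT := hS.map_of_exact (ObjectProperty.ι (QCohCat.isQCoh X) ⋙ Φ)
      exact AmpleLib.epi_push_of_isZero_rpushAb q hT
        (IsZero.of_iso (Functor.map_isZero (SheafOfModules.toSheaf.{u} Y.ringCatSheaf)
            (hacy S.X₁))
          (toAbRpushIso q (Φ.obj S.X₁.obj) 1).symm)
  · haveI := PushSums.preservesColimit_push (fun j => Φ.obj (D.obj ⟨j⟩).obj) q fun j => hqc _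
    haveI : PreservesColimit ((D ⋙ ObjectProperty.ι (QCohCat.isQCoh X)) ⋙ Φ) (Coh.push q) :=
      preservesColimit_of_iso_diagram (K₁ := Discrete.functor fun j => Φ.obj (D.obj ⟨j⟩).obj) (Coh.push q)
        (Discrete.natIso fun _ => Iso.refl _)
    haveI : PreservesColimit (D ⋙ ObjectProperty.ι (QCohCat.isQCoh X)) (Φ ⋙ Coh.push q) :=
      @comp_preservesColimit _ _ _ _ _ _ _ _ _ _ _ inferInstance ‹_›
    exact comp_preservesColimit (ObjectProperty.ι (QCohCat.isQCoh X)) (Φ ⋙ Coh.push q)

end Groth.Agent.CohDer1.PushExact
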