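import Groth.Agent.CohDer1.StalkLocal
import Groth.Agent.CohDer1.PushExact
import Groth.Agent.CohDer1.ProjMaps
import Groth.Agent.CohDer1.EWModules
import Groth.Agent.Coherent.QcohOps

/-!
# The projection formula for exact kernel transforms
-/

set_option autoImplicit false
set_option backward.isDefEq.respectTransparency false
set_option linter.style.haveILetI false

universe u

open CategoryTheory CategoryTheory.Limits AlgebraicGeometry TopologicalSpace Opposite
open Groth.Agent.Coherent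

attribute [local instance] HasDerivedCategory.standard

namespace Groth.Agent.CohDer1.ProjFlat

variable {X P Q : Scheme.{u}}

theorem isIso_stalk_pullback (p : P ⟶ X) {M N : X.Modules} (f : M ⟶ N) (x : P)
    (h : IsIso ((DerSch.stalkFunctor X (p.base x)).map f)) :
    IsIso ((DerSch.stalkFunctor P x).map ((Scheme.Modules.pullback p).map f)) :=
  (NatIso.isIso_map_iff (ModStalk.pullbackStalkIso p x) f).2
    (@Functor.map_isIso _ _ _ _ _ _ (ModuleCat.extendScalars (p.stalkMap x).hom) _ h)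

theorem isIso_stalk_unit' {V : Scheme.{u}} (j : V ⟶ X) [IsOpenImmersion j] (M : X.Modules) {x : X}
    (hx : x ∈ j.opensRange) :
    IsIso ((DerSch.stalkFunctor X x).map ((Scheme.Modules.restrictAdjunction j).unit.app M)) :=
  StalkLocal.isIso_stalk_of_bijective _ hx fun W hW => by
    rw [Scheme.Modules.restrictAdjunction_unit_app_app]
    refine resM_bijective_of_eq M _ ?_
    rw [Scheme.Hom.image_preimage_eq_opensRange_inf, inf_eq_right.2 hW]

theorem nonempty_projection (p : P ⟶ X) (g : Q ⟶ P) [QuasiCompact g] [QuasiSeparated g]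
    [HasInjectiveResolutions Q.Modules]
    (haff : ∀ x : X, ∃ (V : X.Opens) (hV : IsAffineOpen V), x ∈ V ∧ IsAffineHom hV.fromSpec)
    (E : Q.Modules)
    [hlim : PreservesFiniteLimits (Scheme.Modules.pullback p ⋙ Scheme.Modules.pullback g ⋙ DCoh.tensorRightMod E)]
    (hE : Coh.IsQCoh E)
    (hacy : ∀ M : QCohCat.QCoh X, IsZero ((Coh.Rpush g 1).obj
      ((Scheme.Modules.pullback p ⋙ Scheme.Modules.pullback g ⋙ DCoh.tensorRightMod E).obj M.obj))) :
    Nonempty (ObjectProperty.ι (QCohCat.isQCoh X) ⋙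
        (Scheme.Modules.pullback p ⋙ DCoh.tensorRightMod ((Scheme.Modules.pushforward g).obj E)) ≅
      ObjectProperty.ι (QCohCat.isQCoh X) ⋙
        (Scheme.Modules.pullback p ⋙ Scheme.Modules.pullback g ⋙ DCoh.tensorRightMod E) ⋙ Coh.push g) := by
  let Φ := Scheme.Modules.pullback p ⋙ Scheme.Modules.pullback g ⋙ DCoh.tensorRightMod E
  let T := Scheme.Modules.pullback p ⋙ DCoh.tensorRightMod ((Scheme.Modules.pushforward g).obj E)
  let ι' := ObjectProperty.ι (QCohCat.isQCoh X)
  haveI := FKExact.preservesColimits_tensorRightMod E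
  haveI := FKExact.preservesColimits_tensorRightMod ((Scheme.Modules.pushforward g).obj E)
  haveI : PreservesColimitsOfSize.{u, u} (Scheme.Modules.pullback g) :=
    (Scheme.Modules.pullbackPushforwardAdjunction g).leftAdjoint_preservesColimits
  haveI : PreservesColimitsOfSize.{u, u} (Scheme.Modules.pullback p) :=
    (Scheme.Modules.pullbackPushforwardAdjunction p).leftAdjoint_preservesColimits
  haveI : PreservesColimitsOfSize.{u, u} Φ := inferInstance
  haveI : PreservesColimitsOfSize.{u, u} T := inferInstance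
  haveI : PreservesFiniteColimits T := PreservesColimitsOfSize.preservesFiniteColimits _
  haveI : Φ.Additive := inferInstance
  haveI : PreservesFiniteLimits Φ := hlim
  have hqc : ∀ M : QCohCat.QCoh X, Coh.IsQCoh (Φ.obj M.obj) := fun M => by
    haveI := hE
    haveI : Coh.IsQCoh M.obj := M.property
    haveI : Coh.IsQCoh ((Scheme.Modules.pullback p).obj M.obj) := EGA43.InjFibre.isQCoh_pullback p _
    haveI : Coh.IsQCoh ((Scheme.Modules.pullback g).obj ((Scheme.Modules.pullback p).obj M.obj)) :=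
      EGA43.InjFibre.isQCoh_pullback g _
    exact isQCoh_tensorMod ((Scheme.Modules.pullback g).obj ((Scheme.Modules.pullback p).obj M.obj)) E
  obtain ⟨-, hGc, hGs⟩ := PushExact.exact_push g Φ hqc hacy
  let τ : ι' ⋙ T ⟶ ι' ⋙ Φ ⋙ Coh.push g :=
    Functor.whiskerLeft (ι' ⋙ Scheme.Modules.pullback p) (ProjMaps.projNatL g E)
  suffices ∀ M, IsIso (τ.app M) by
    haveI := NatIso.isIso_of_isIso_app τ
    exact ⟨asIso τ⟩
  intro M
  refine ModStalk.isIso_of_stalks _ fun x => ?_
  obtain ⟨V, hV, hxV, hj⟩ := haff (p.base x)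
  haveI := hj
  let j := hV.fromSpec
  have hxj : p.base x ∈ j.opensRange := by
    rw [IsAffineOpen.opensRange_fromSpec]
    exact hxV
  let S := DerSch.stalkFunctor P x
  let t := Functor.whiskerRight τ S
  haveI := hGc
  haveI := hGs
  -- direct images from the chart
  have hqj : ∀ A : ModuleCat Γ(X, V),
      QCohCat.isQCoh X ((tilde.functor Γ(X, V) ⋙ Scheme.Modules.pushforward j).obj A) := fun A => by
    haveI : Coh.IsQCoh ((tilde.functor Γ(X, V)).obj A) := inferInstanceAs ((tilde A).IsQuasicoherent)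
    exact isQCoh_push j ((tilde.functor Γ(X, V)).obj A)
  let H₀ : ModuleCat Γ(X, V) ⥤ QCohCat.QCoh X := (QCohCat.isQCoh X).lift _ hqj
  haveI hH₁ : PreservesColimitsOfSize.{u, u} (H₀ ⋙ ι') := by
    refine ⟨fun {J} _ => ⟨fun {D} => ?_⟩⟩
    haveI : PreservesColimit (D ⋙ tilde.functor Γ(X, V)) (Scheme.Modules.pushforward j) :=
      DirImgLib.preservesColimit_pushforward j _ fun i => inferInstanceAs ((tilde (D.obj i)).IsQuasicoherent)
    show PreservesColimit D (tilde.functor Γ(X, V) ⋙ Scheme.Modules.pushforward j)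
    exact comp_preservesColimit _ _
  haveI : PreservesColimitsOfSize.{u, u} H₀ := preservesColimits_of_reflects_of_preserves H₀ ι'
  haveI : PreservesFiniteColimits H₀ := PreservesColimitsOfSize.preservesFiniteColimits _
  haveI : PreservesFiniteColimits (H₀ ⋙ ι') := PreservesColimitsOfSize.preservesFiniteColimits _
  haveI : ∀ J : Type u, PreservesColimitsOfShape (Discrete J) (H₀ ⋙ (ι' ⋙ Φ ⋙ Coh.push g) ⋙ S) := fun J =>
    inferInstance
  haveI : ∀ J : Type u, PreservesColimitsOfShape (Discrete J) (H₀ ⋙ (ι' ⋙ T) ⋙ S) := fun J =>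
    inferInstanceAs (PreservesColimitsOfShape (Discrete J) ((H₀ ⋙ ι') ⋙ T ⋙ S))
  haveI : PreservesFiniteColimits (H₀ ⋙ (ι' ⋙ Φ ⋙ Coh.push g) ⋙ S) := inferInstance
  haveI : PreservesFiniteColimits (H₀ ⋙ (ι' ⋙ T) ⋙ S) :=
    inferInstanceAs (PreservesFiniteColimits ((H₀ ⋙ ι') ⋙ T ⋙ S))
  haveI : PreservesBinaryBiproducts (H₀ ⋙ (ι' ⋙ T) ⋙ S) :=
    preservesBinaryBiproducts_of_preservesBinaryCoproducts _
  haveI : (H₀ ⋙ (ι' ⋙ T) ⋙ S).Additive := Functor.additive_of_preservesBinaryBiproducts _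
  haveI : PreservesBinaryBiproducts (H₀ ⋙ (ι' ⋙ Φ ⋙ Coh.push g) ⋙ S) :=
    preservesBinaryBiproducts_of_preservesBinaryCoproducts _
  haveI : (H₀ ⋙ (ι' ⋙ Φ ⋙ Coh.push g) ⋙ S).Additive := Functor.additive_of_preservesBinaryBiproducts _
  -- restriction to the chart is harmless at `x`
  have key : ∀ (A : QCohCat.QCoh X) (B : QCohCat.QCoh X) (η : A ⟶ B),
      (∀ y ∈ j.opensRange, IsIso ((DerSch.stalkFunctor X y).map (ι'.map η))) →
      (IsIso (t.app A) ↔ IsIso (t.app B)) := fun A B η hη => by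
    haveI h₁ : IsIso (((ι' ⋙ T) ⋙ S).map η) :=
      StalkLocal.isIso_stalk_twist p _ (ι'.map η) x (hη _ hxj)
    haveI h₂ : IsIso (((ι' ⋙ Φ ⋙ Coh.push g) ⋙ S).map η) :=
      StalkLocal.isIso_stalk_push g (Φ.map (ι'.map η)) (O := p ⁻¹ᵁ j.opensRange) hxj fun z hz =>
        StalkLocal.isIso_stalk_twist g E ((Scheme.Modules.pullback p).map (ι'.map η)) z
          (isIso_stalk_pullback p (ι'.map η) (g.base z) (hη _ hz))
    exact (NatTrans.isIso_app_iff_of_iso t (Iso.refl _)).trans
      ⟨fun h => by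
        haveI := h
        haveI : IsIso (((ι' ⋙ T) ⋙ S).map η ≫ t.app B) := by rw [t.naturality]; infer_instance
        exact IsIso.of_isIso_comp_left (((ι' ⋙ T) ⋙ S).map η) _,
      fun h => by
        haveI := h
        haveI : IsIso (t.app A ≫ ((ι' ⋙ Φ ⋙ Coh.push g) ⋙ S).map η) := by rw [← t.naturality]; infer_instance
        exact IsIso.of_isIso_comp_right _ (((ι' ⋙ Φ ⋙ Coh.push g) ⋙ S).map η)⟩
  -- pieces of a module
  have piece : ∀ A : QCohCat.QCoh X, ∃ (N : ModuleCat Γ(X, V)), Nonempty ((H₀.obj N).obj ≅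
      (Scheme.Modules.pushforward j).obj ((Scheme.Modules.restrictFunctor j).obj A.obj)) := fun A => by
    haveI : Coh.IsQCoh A.obj := A.property
    haveI : Coh.IsQCoh ((Scheme.Modules.restrictFunctor j).obj A.obj) :=
      Scheme.Modules.isQuasicoherent_restrictFunctor j A.obj
    haveI : IsIso ((Scheme.Modules.restrictFunctor j).obj A.obj).fromTildeΓ :=
      (isQuasicoherent_iff_isIso_fromTildeΓ _).1 inferInstance
    exact ⟨_, ⟨(Scheme.Modules.pushforward j).mapIso
      (asIso ((Scheme.Modules.restrictFunctor j).obj A.obj).fromTildeΓ)⟩⟩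
  have toPiece : ∀ (A : QCohCat.QCoh X) (N : ModuleCat Γ(X, V))
      (e : (H₀.obj N).obj ≅ (Scheme.Modules.pushforward j).obj ((Scheme.Modules.restrictFunctor j).obj A.obj)),
      IsIso (t.app A) ↔ IsIso (t.app (H₀.obj N)) := fun A N e => by
    refine key A (H₀.obj N) (ObjectProperty.homMk ((Scheme.Modules.restrictAdjunction j).unit.app A.obj ≫ e.inv))
      fun y hy => ?_
    haveI := isIso_stalk_unit' j A.obj hy
    show IsIso ((DerSch.stalkFunctor X y).map ((Scheme.Modules.restrictAdjunction j).unit.app A.obj ≫ e.inv))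
    rw [Functor.map_comp]
    infer_instance
  let O₁ : QCohCat.QCoh X := ⟨Coh.structureModule X, QCohLoc.isQCoh_structureModule X⟩
  have hO : IsIso (t.app O₁) := by
    obtain ⟨o⟩ := AmpleLib.exists_pullStructureIso p
    haveI : IsIso (τ.app O₁) :=
      (NatTrans.isIso_app_iff_of_iso (ProjMaps.projNatL g E) o).2 (ProjMaps.isIso_projL_unit g E)
    show IsIso (S.map (τ.app O₁))
    infer_instance
  obtain ⟨o'⟩ := AmpleLib.exists_pullStructureIso j
  have hR : IsIso (t.app (H₀.obj (ModuleCat.of Γ(X, V) Γ(X, V)))) := by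
    refine (toPiece O₁ _ ((Scheme.Modules.pushforward j).mapIso ?_)).1 hO
    exact tildeSelf ≪≫ ((Scheme.Modules.restrictFunctorIsoPullback j).app _ ≪≫ o').symm
  obtain ⟨N, ⟨e⟩⟩ := piece M
  refine (toPiece M N e).2 ?_
  haveI : IsIso ((Functor.whiskerLeft H₀ t).app (ModuleCat.of Γ(X, V) Γ(X, V))) := hR
  exact EWModules.isIso_app_of_isIso_app_ring (H₀ ⋙ (ι' ⋙ T) ⋙ S) (H₀ ⋙ (ι' ⋙ Φ ⋙ Coh.push g) ⋙ S)
    (Functor.whiskerLeft H₀ t) N

end Groth.Agent.CohDer1.ProjFlat
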