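import Groth.Agent.HopfLib.FiniteGen
import Groth.Agent.HopfLib.ModuleInvariants
import Groth.Prelude.Def_ComodTens
import Mathlib.RingTheory.FiniteType
import Mathlib.RingTheory.TensorProduct.MvPolynomial

/-!
# Finite generation of relative invariants
-/

open TensorProduct HopfRep MvPolynomial Groth.Agent.HopfLib

universe u

namespace Groth.Agent.CohDer1.RelativeInvariantsFG

set_option linter.unusedSectionVars false
set_option maxHeartbeats 800000
set_option synthInstance.maxHeartbeats 100000

variable {k : Type u} [Field k] {H : Type u} [CommRing H] [HopfAlgebra k H]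

section Poly

variable {σ : Type} [Fintype σ]

lemma homogeneousComponent_mul_of_isHomogeneous {G : MvPolynomial σ k} {e : ℕ} (hG : G.IsHomogeneous e)
    (d : ℕ) (F : MvPolynomial σ k) :
    homogeneousComponent d (G * F) = if e ≤ d then G * homogeneousComponent (d - e) F else 0 := by
  classical
  have hm : ∀ j, G * homogeneousComponent j F ∈ homogeneousSubmodule σ k (e + j) := fun j =>
    hG.mul (homogeneousComponent_isHomogeneous j F)
  conv_lhs => rw [← sum_homogeneousComponent F, Finset.mul_sum, map_sum]
  simp only [homogeneousComponent_of_mem (hm _)]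
  by_cases hde : e ≤ d
  · rw [if_pos hde]
    by_cases hin : d - e ∈ Finset.range (F.totalDegree + 1)
    · rw [Finset.sum_eq_single_of_mem (d - e) hin fun j _ hj => if_neg (by omega), if_pos (by omega)]
    · rw [Finset.sum_eq_zero fun j hj => if_neg fun h => hin (by rw [show d - e = j by omega]; exact hj),
        homogeneousComponent_eq_zero _ _ (by simp at hin; omega), mul_zero]
  · rw [if_neg hde]
    exact Finset.sum_eq_zero fun j _ => if_neg (by omega)

variable {A : Type u} [CommRing A] [Algebra k A]

/-- The degree projections of `A ⊗ k[X]`. -/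
noncomputable def proj (d : ℕ) : A ⊗[k] MvPolynomial σ k →ₗ[k] A ⊗[k] MvPolynomial σ k :=
  (homogeneousComponent d).lTensor A

lemma proj_tmul (d : ℕ) (a : A) (s : MvPolynomial σ k) :
    proj d (a ⊗ₜ[k] s) = a ⊗ₜ homogeneousComponent d s := LinearMap.lTensor_tmul _ _ _ _

lemma proj_mul (d e : ℕ) (y c : A ⊗[k] MvPolynomial σ k) :
    proj d (proj e y * c) = if e ≤ d then proj e y * proj (d - e) c else 0 := by
  induction y using TensorProduct.induction_on with
  | zero => simp
  | add p q hp hq => simp only [map_add, add_mul, hp, hq]; split <;> simp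
  | tmul a G =>
    induction c using TensorProduct.induction_on with
    | zero => simp
    | add p q hp hq => simp only [map_add, mul_add, hp, hq]; split <;> simp
    | tmul b F =>
      rw [proj_tmul, Algebra.TensorProduct.tmul_mul_tmul, proj_tmul, proj_tmul,
        homogeneousComponent_mul_of_isHomogeneous (homogeneousComponent_isHomogeneous e G)]
      split
      · rw [Algebra.TensorProduct.tmul_mul_tmul]
      · rw [tmul_zero]

lemma exists_sum_proj (y : A ⊗[k] MvPolynomial σ k) :
    ∃ N, ∀ M, N ≤ M → ∑ d ∈ Finset.range M, proj d y = y := by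
  induction y using TensorProduct.induction_on with
  | zero => exact ⟨0, fun M _ => by simp⟩
  | add p q hp hq =>
    obtain ⟨N, hN⟩ := hp
    obtain ⟨N', hN'⟩ := hq
    refine ⟨max N N', fun M hM => ?_⟩
    simp only [map_add, Finset.sum_add_distrib]
    rw [hN M (le_of_max_le_left hM), hN' M (le_of_max_le_right hM)]
  | tmul a s =>
    refine ⟨s.totalDegree + 1, fun M hM => ?_⟩
    simp only [proj_tmul, ← tmul_sum]
    congr 1
    conv_rhs => rw [← sum_homogeneousComponent s]
    refine (Finset.sum_subset (Finset.range_subset_range.2 hM) fun j _ hj => ?_).symm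
    exact homogeneousComponent_eq_zero _ _ (by simp at hj; omega)

/-- Evaluation of the variables at zero. -/
noncomputable def aug : A ⊗[k] MvPolynomial σ k →ₐ[k] A :=
  Algebra.TensorProduct.lift (AlgHom.id k A) (MvPolynomial.aeval fun _ : σ => (0 : A)) fun _ _ => Commute.all _ _

lemma aug_tmul (a : A) (t : MvPolynomial σ k) : aug (a ⊗ₜ[k] t) = a * algebraMap k A (coeff 0 t) :=
  (Algebra.TensorProduct.lift_tmul _ _ _ a t).trans (by simp [MvPolynomial.constantCoeff_eq])

section Arith

local notation "T" => (A ⊗[k] MvPolynomial σ k) ⊗[k] H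

lemma t_zero_mul (x : T) : 0 * x = 0 := zero_mul x
lemma t_mul_zero (x : T) : x * 0 = 0 := mul_zero x
lemma t_add_mul (x y z : T) : (x + y) * z = x * z + y * z := (inferInstance : CommRing T).right_distrib x y z
lemma t_mul_add (x y z : T) : x * (y + z) = x * y + x * z := (inferInstance : CommRing T).left_distrib x y z
lemma t_mul_one (x : T) : x * 1 = x := mul_one x
lemma t_one_mul (x : T) : 1 * x = x := one_mul x

end Arith

variable [cA : Comod k H A] [GLin.IsCoactAlg k H A] [cS : Comod k H (MvPolynomial σ k)]
  [GLin.IsCoactAlg k H (MvPolynomial σ k)]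

/-- The diagonal coaction as an algebra map. -/
noncomputable def tensorCoact :
    A ⊗[k] MvPolynomial σ k →ₐ[k] (A ⊗[k] MvPolynomial σ k) ⊗[k] H :=
  Algebra.TensorProduct.lift
    ((Algebra.TensorProduct.map Algebra.TensorProduct.includeLeft (AlgHom.id k H)).comp (GLin.coactAlgHom k H A))
    ((Algebra.TensorProduct.map Algebra.TensorProduct.includeRight (AlgHom.id k H)).comp
      (GLin.coactAlgHom k H (MvPolynomial σ k))) fun x y => mul_comm (G := (A ⊗[k] MvPolynomial σ k) ⊗[k] H) _ _

lemma tensor_coact_eq : (ComodTens.Comod.tensor cA cS).coact = (tensorCoact (k := k) (H := H) (A := A) (σ := σ)).toLinearMap := by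
  refine TensorProduct.ext' fun a s => ?_
  rw [ComodTens.tensor_coact_tmul, AlgHom.toLinearMap_apply, tensorCoact, Algebra.TensorProduct.lift_tmul]
  simp only [AlgHom.comp_apply, GLin.coactAlgHom_apply]
  generalize cA.coact a = x
  generalize cS.coact s = y
  induction x using TensorProduct.induction_on with
  | zero => simp [t_zero_mul]
  | add p q hp hq => simp only [TensorProduct.add_tmul, map_add, t_add_mul, hp, hq]
  | tmul b h =>
    induction y using TensorProduct.induction_on with
    | zero => simp [t_mul_zero]
    | add p q hp hq => simp only [TensorProduct.tmul_add, map_add, t_mul_add, hp, hq]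
    | tmul t g => simp

lemma isCoactAlg_tensor : @GLin.IsCoactAlg k _ H _ _ (A ⊗[k] MvPolynomial σ k) _ _ (ComodTens.Comod.tensor cA cS) :=
  @GLin.IsCoactAlg.mk k _ H _ _ (A ⊗[k] MvPolynomial σ k) _ _ (ComodTens.Comod.tensor cA cS)
    (by rw [tensor_coact_eq]; exact map_one (tensorCoact (k := k) (H := H) (A := A) (σ := σ)).toRingHom)
    (fun x y => by rw [tensor_coact_eq]; exact map_mul (tensorCoact (k := k) (H := H) (A := A) (σ := σ)).toRingHom x y)

theorem exists_finset_invariants (hG : IsLinearlyReductive k H) [IsNoetherianRing A]
    (hlin : GLin.IsLinear k H σ) :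
    letI := ComodTens.Comod.tensor cA cS
    ∃ s : Finset (A ⊗[k] MvPolynomial σ k),
      (∀ f ∈ s, Comod.coact (k := k) (A := H) f = f ⊗ₜ (1 : H)) ∧
      ∀ f ∈ fixedPts k H (A ⊗[k] MvPolynomial σ k), f ∈ Algebra.adjoin k
        ((fun a => a ⊗ₜ[k] (1 : MvPolynomial σ k)) '' (GLin.invariants k H A : Set A) ∪ ↑s) := by
  classical
  letI cP := ComodTens.Comod.tensor cA cS
  haveI : GLin.IsCoactAlg k H (A ⊗[k] MvPolynomial σ k) := isCoactAlg_tensor
  let P := A ⊗[k] MvPolynomial σ k
  haveI : IsNoetherianRing P := Algebra.FiniteType.isNoetherianRing A P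
  obtain ⟨α, hα, h1⟩ := exists_integral hG
  have hprojcom : ∀ d, Hoch.IsComodHom H (proj (A := A) (σ := σ) d : P →ₗ[k] P) := by
    intro d
    refine TensorProduct.ext' fun a s => ?_
    simp only [LinearMap.comp_apply, proj_tmul]
    rw [show cP.coact = _ from tensor_coact_eq]
    simp only [AlgHom.toLinearMap_apply, tensorCoact, Algebra.TensorProduct.lift_tmul, AlgHom.comp_apply,
      GLin.coactAlgHom_apply]
    rw [← rTensor_homogeneousComponent_coact hlin d s]
    generalize cA.coact a = x
    generalize cS.coact s = y
    induction x using TensorProduct.induction_on with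
    | zero => simp [t_zero_mul]
    | add p q hp hq => simp only [map_add, t_add_mul, hp, hq]
    | tmul b h =>
      induction y using TensorProduct.induction_on with
      | zero => simp [t_mul_zero]
      | add p q hp hq => simp only [map_add, t_mul_add, hp, hq]
      | tmul t g => simp [proj_tmul]
  have hprojfix : ∀ d, ∀ F ∈ fixedPts k H P, proj d F ∈ fixedPts k H P := by
    intro d F hF
    have := IsComodHom.hit_apply (hprojcom d) α F
    rw [hit_eq_self_of_mem_fixedPts h1 hF] at this
    rw [this]
    exact reynolds_mem_fixedPts hα h1 _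
  let T : Set P := {F | F ∈ fixedPts k H P ∧ ∃ d, 0 < d ∧ proj d F = F}
  obtain ⟨s, hs, hspan⟩ := (Submodule.fg_span_iff_fg_span_finset_subset T).1
    (IsNoetherian.noetherian (Ideal.span T))
  refine ⟨s, fun f hf => (hs hf).1, ?_⟩
  let U : Set P := (fun a => a ⊗ₜ[k] (1 : MvPolynomial σ k)) '' (GLin.invariants k H A : Set A) ∪ ↑s
  have key : ∀ d : ℕ, ∀ F ∈ fixedPts k H P, proj d F = F → F ∈ Algebra.adjoin k U := by
    intro d
    induction d using Nat.strong_induction_on with
    | _ d ih =>
      intro F hF hhd
      rcases Nat.eq_zero_or_pos d with rfl | hd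
      · let ι : A →ₗ[k] P := (TensorProduct.mk k A (MvPolynomial σ k)).flip 1
        let ε : P →ₗ[k] A := (aug (k := k) (A := A) (σ := σ)).toLinearMap
        have hι : ∀ y : P, proj 0 y = ι (ε y) := fun y => by
          induction y using TensorProduct.induction_on with
          | zero => simp
          | add p q hp hq => simp only [map_add, hp, hq]
          | tmul a t =>
            refine (proj_tmul 0 a t).trans ?_
            refine Eq.trans ?_ (congrArg ι (show ε (a ⊗ₜ[k] t) = a * algebraMap k A (coeff 0 t) from aug_tmul a t)).symm
            simp only [ι, LinearMap.flip_apply, TensorProduct.mk_apply, homogeneousComponent_zero]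
            rw [mul_comm, ← Algebra.smul_def, TensorProduct.smul_tmul, MvPolynomial.smul_eq_C_mul, mul_one]
        have hει : ε.comp ι = LinearMap.id := LinearMap.ext fun a => by
          refine (aug_tmul a 1).trans ?_
          simp
        have hFa : F = ι (ε F) := hhd.symm.trans (hι F)
        have hinv : ε F ∈ GLin.invariants k H A := by
          have hc : cP.coact (ι (ε F)) = ι.rTensor H (cA.coact (ε F)) := by
            rw [show cP.coact = _ from tensor_coact_eq]
            simp only [AlgHom.toLinearMap_apply, tensorCoact, ι, LinearMap.flip_apply, TensorProduct.mk_apply,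
              Algebra.TensorProduct.lift_tmul, map_one, t_mul_one, AlgHom.comp_apply, GLin.coactAlgHom_apply]
            generalize cA.coact (ε F) = x
            induction x using TensorProduct.induction_on with
            | zero => simp
            | add p q hp hq => simp only [map_add, hp, hq]
            | tmul b h => simp
          have h2 : cP.coact (ι (ε F)) = ι (ε F) ⊗ₜ[k] (1 : H) := by rw [← hFa]; exact hF
          have h3 := congrArg (ε.rTensor H) (hc.symm.trans h2)
          rw [← LinearMap.comp_apply, ← LinearMap.rTensor_comp, hει, LinearMap.rTensor_id, LinearMap.id_apply,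
            LinearMap.rTensor_tmul] at h3
          rw [GLin.mem_invariants_iff, h3]
          exact congrArg (· ⊗ₜ[k] (1 : H)) (LinearMap.congr_fun hει (ε F))
        rw [hFa]
        exact Algebra.subset_adjoin (Or.inl ⟨ε F, hinv, rfl⟩)
      · obtain ⟨c, -, hc⟩ := Submodule.mem_span_finset.1
          (hspan ▸ Submodule.subset_span (show F ∈ T from ⟨hF, d, hd, hhd⟩) : F ∈ Submodule.span P (↑s : Set P))
        rw [← hit_eq_self_of_mem_fixedPts h1 hF, ← hhd, ← hc, map_sum, map_sum]
        refine Subalgebra.sum_mem _ fun y hy => ?_
        obtain ⟨hyinv, e, he, hye⟩ := hs hy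
        rw [smul_eq_mul, mul_comm (c y) y, ← hye, proj_mul, hye]
        split
        · rw [hit_mul_of_mem_invariants α hyinv]
          refine Subalgebra.mul_mem _ (Algebra.subset_adjoin (Or.inr hy))
            (ih (d - e) (by omega) _ (reynolds_mem_fixedPts hα h1 _) ?_)
          rw [IsComodHom.hit_apply (hprojcom (d - e)) α]
          congr 1
          generalize c y = z
          induction z using TensorProduct.induction_on with
          | zero => simp
          | add p q hp hq => simp only [map_add, hp, hq]
          | tmul a t => simp only [proj_tmul, homogeneousComponent_of_mem (homogeneousComponent_mem (d - e) t), if_pos]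
        · rw [map_zero]
          exact Subalgebra.zero_mem _
  intro f hf
  obtain ⟨N, hN⟩ := exists_sum_proj f
  rw [← hN N le_rfl]
  refine Subalgebra.sum_mem _ fun d _ => key d _ (hprojfix d f hf) ?_
  generalize f = z
  induction z using TensorProduct.induction_on with
  | zero => simp
  | add p q hp hq => simp only [map_add, hp, hq]
  | tmul a t => simp only [proj_tmul, homogeneousComponent_of_mem (homogeneousComponent_mem d t), if_pos]

end Poly

theorem exists_finset_invariants_eq_adjoin (hG : IsLinearlyReductive k H)
    (A : Type u) [CommRing A] [Algebra k A] [IsNoetherianRing A] [Comod k H A] [GLin.IsCoactAlg k H A]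
    (C : Type u) [CommRing C] [Algebra k C] [Comod k H C] [GLin.IsCoactAlg k H C]
    [Algebra A C] [IsScalarTower k A C] [Algebra.FiniteType A C]
    (hAC : Hoch.IsComodHom H (IsScalarTower.toAlgHom k A C).toLinearMap) :
    ∃ s : Finset C, GLin.invariants k H C =
      Algebra.adjoin k (⇑(algebraMap A C) '' ↑(GLin.invariants k H A) ∪ ↑s) := by
  classical
  obtain ⟨α, hα, h1⟩ := exists_integral hG
  obtain ⟨g, hg⟩ := Algebra.FiniteType.out (R := A) (A := C)
  obtain ⟨W, hW, hgW, hWs⟩ := exists_finite_subcomod (k := k) (A := H) (V := C) (g : Set C) g.finite_toSet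
  have : Module.Finite k W := hW
  let e := Module.finBasis k W
  let cW := ComodSub.Comod.restr (inferInstance : Comod k H C) W hWs
  letI := symComod e cW
  haveI := isCoactAlg_symComod e cW
  let S := MvPolynomial (Fin (Module.finrank k W)) k
  have hlin : GLin.IsLinear k H (Fin (Module.finrank k W)) := by
    intro i
    refine ⟨fun j => sliceL (e.coord j) (cW.coact (e i)), ?_⟩
    show symCoact e cW (X i) = _
    rw [← symLin_basis e i, symCoact_symLin]
    generalize cW.coact (e i) = t
    induction t using TensorProduct.induction_on with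
    | zero => simp
    | add p q hp hq => simp only [map_add, TensorProduct.tmul_add, Finset.sum_add_distrib, hp, hq]
    | tmul w a =>
      conv_lhs => rw [LinearMap.rTensor_tmul, ← e.sum_repr w, map_sum, TensorProduct.sum_tmul]
      refine Finset.sum_congr rfl fun j _ => ?_
      rw [map_smul, symLin_basis, TensorProduct.smul_tmul]
      simp only [sliceL_tmul]
      rfl
  obtain ⟨s, hs, hgen⟩ := exists_finset_invariants (A := A) hG hlin
  letI : Comod k H (A ⊗[k] S) := ComodTens.Comod.tensor inferInstance inferInstance
  haveI : GLin.IsCoactAlg k H (A ⊗[k] S) := isCoactAlg_tensor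
  let π : A ⊗[k] S →ₐ[k] C := Algebra.TensorProduct.lift (IsScalarTower.toAlgHom k A C)
    (MvPolynomial.aeval fun i => (e i : C)) fun _ _ => Commute.all _ _
  have hW' : ∀ w : W, (MvPolynomial.aeval fun i => (e i : C)) (symLin e w) = (w : C) := fun w =>
    LinearMap.congr_fun (show (MvPolynomial.aeval fun i => (e i : C)).toLinearMap ∘ₗ symLin e = W.subtype from
      e.ext fun i => by rw [LinearMap.comp_apply, symLin_basis]; exact MvPolynomial.aeval_X _ _) w
  have hsurj : Function.Surjective π := by
    rw [← AlgHom.range_eq_top, eq_top_iff]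
    intro c _
    have hc : c ∈ Algebra.adjoin A (g : Set C) := hg ▸ Algebra.mem_top
    clear ‹c ∈ (⊤ : Subalgebra k C)›
    induction hc using Algebra.adjoin_induction with
    | mem x hx => exact ⟨1 ⊗ₜ symLin e ⟨x, hgW hx⟩, by simp [π, hW']⟩
    | algebraMap a => exact ⟨a ⊗ₜ 1, by simp [π]⟩
    | add x y _ _ hx hy => exact add_mem hx hy
    | mul x y _ _ hx hy => exact mul_mem hx hy
  have hπ : Hoch.IsComodHom H π.toLinearMap := by
    have h : (GLin.coactAlgHom k H C).comp π =
        (Algebra.TensorProduct.map π (AlgHom.id k H)).comp (tensorCoact (k := k) (H := H) (A := A)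
          (σ := Fin (Module.finrank k W))) := by
      refine Algebra.TensorProduct.ext (AlgHom.ext fun a => ?_) (MvPolynomial.algHom_ext fun i => ?_)
      · simp only [AlgHom.comp_apply, AlgHom.restrictScalars_apply, Algebra.TensorProduct.includeLeft_apply,
          GLin.coactAlgHom_apply, π, tensorCoact, Algebra.TensorProduct.lift_tmul, map_one, t_mul_one, mul_one]
        refine (IsComodHom.coact_apply hAC a).trans ?_
        generalize Comod.coact (k := k) (A := H) a = x
        induction x using TensorProduct.induction_on with
        | zero => simp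
        | add p q hp hq => simp only [map_add, hp, hq]
        | tmul b h => simp
      · simp only [AlgHom.comp_apply, AlgHom.restrictScalars_apply, Algebra.TensorProduct.includeRight_apply,
          GLin.coactAlgHom_apply, π, tensorCoact, Algebra.TensorProduct.lift_tmul, map_one, t_one_mul, one_mul,
          MvPolynomial.aeval_X]
        rw [show (MvPolynomial.aeval fun i => (e i : C)) (X i : S) = (e i : C) from MvPolynomial.aeval_X _ _,
          show Comod.coact (k := k) (A := H) (X i : S) = (symLin e).rTensor H (cW.coact (e i)) by
            show symCoact e cW (X i) = _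
            simp [symCoact],
          ← ComodSub.restr_coact_coe (inferInstance : Comod k H C) W hWs (e i)]
        generalize cW.coact (e i) = t
        induction t using TensorProduct.induction_on with
        | zero => simp
        | add p q hp hq => simp only [map_add, hp, hq]
        | tmul w a =>
          simp only [LinearMap.rTensor_tmul, Algebra.TensorProduct.map_tmul, AlgHom.id_apply, Submodule.subtype_apply,
            Algebra.TensorProduct.includeRight_apply, Algebra.TensorProduct.lift_tmul, map_one, one_mul, hW']
    have hgen2 : ∀ t : (A ⊗[k] S) ⊗[k] H,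
        Algebra.TensorProduct.map π (AlgHom.id k H) t = π.toLinearMap.rTensor H t := fun t => by
      induction t using TensorProduct.induction_on with
      | zero => simp
      | add p q hp hq => simp only [map_add, hp, hq]
      | tmul x h => simp
    exact LinearMap.ext fun p => (AlgHom.congr_fun h p).trans ((hgen2 _).trans
      (congrArg (π.toLinearMap.rTensor H) (LinearMap.congr_fun tensor_coact_eq p).symm))
  refine ⟨s.image π, le_antisymm (fun f hf => ?_) (Algebra.adjoin_le ?_)⟩
  · obtain ⟨p, rfl⟩ := hsurj f
    have h := IsComodHom.hit_apply hπ α p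
    rw [show π p = π.toLinearMap (hit α p) from
      ((IsComodHom.hit_apply hπ α p).trans (hit_eq_self_of_mem_fixedPts h1 hf)).symm]
    have h2 := Set.mem_image_of_mem π (hgen _ (reynolds_mem_fixedPts hα h1 p))
    rw [← Subalgebra.coe_map, AlgHom.map_adjoin, Set.image_union, Set.image_image] at h2
    rw [Finset.coe_image]
    refine Algebra.adjoin_mono (Set.union_subset_union_left _ ?_) h2
    rintro _ ⟨a, ha, rfl⟩
    exact ⟨a, ha, by simp [π]⟩
  · rintro _ (⟨a, ha, rfl⟩ | hf)
    · show Comod.coact (k := k) (A := H) (algebraMap A C a) = algebraMap A C a ⊗ₜ (1 : H)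
      refine (IsComodHom.coact_apply hAC a).trans ?_
      rw [(GLin.mem_invariants_iff k H A a).1 ha]
      rfl
    · obtain ⟨p, hp, rfl⟩ := Finset.mem_image.1 (Finset.mem_coe.1 hf)
      show Comod.coact (k := k) (A := H) (π p) = π p ⊗ₜ (1 : H)
      refine (IsComodHom.coact_apply hπ p).trans ?_
      rw [hs p hp]
      rfl

end Groth.Agent.CohDer1.RelativeInvariantsFG
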