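import Groth.Agent.SmoothLib.Monogenic
import Mathlib.AlgebraicGeometry.EllipticCurve.VariableChange
import Mathlib.RingTheory.Localization.Away.Basic

/-!
# Weierstrass curves with the same j-invariant are étale-locally isomorphic, j ≠ 0, 1728
-/

universe u

open Polynomial WeierstrassCurve

namespace Groth.Agent.CohDer1.SameJ

variable {R : Type u} [CommRing R]

/-- The auxiliary invariant, of weight six. -/
def k (W : WeierstrassCurve R) : R := W.b₂ * W.b₄ - 18 * W.b₆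

lemma twelve_k (W : WeierstrassCurve R) : 12 * k W = W.c₆ + W.b₂ * W.c₄ := by
  simp only [k, c₆, c₄]
  ring

lemma k_variableChange (C : VariableChange R) (W : WeierstrassCurve R) :
    k (C • W) = (↑C.u⁻¹ : R) ^ 6 * (k W + C.r * W.c₄) := by
  simp only [k, variableChange_b₂, variableChange_b₄, variableChange_b₆, c₄]
  ring

lemma k_map {S : Type u} [CommRing S] (φ : R →+* S) (W : WeierstrassCurve R) : k (W.map φ) = φ (k W) := by
  simp [k, map_ofNat]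

section Rigid

variable (V W : WeierstrassCurve R)

/-- Coefficient. -/
def P₂ : R := -V.b₂ ^ 2 * (V.a₂ * (V.a₃ + W.a₃) - V.a₁ * V.a₄) -
  8 * V.a₁ * (V.b₄ ^ 2 + V.b₄ * W.b₄ + W.b₄ ^ 2) - 27 * (V.a₃ + W.a₃) * (V.b₆ + W.b₆) +
  9 * V.b₂ * (V.b₄ * (V.a₃ + W.a₃) + W.b₆ * V.a₁)

/-- Coefficient. -/
def Q : R := -V.b₂ ^ 3 - 108 * (V.b₆ + W.b₆) + 36 * V.b₂ * V.b₄

/-- Coefficient. -/
def P₃ : R := -V.b₂ ^ 2 * (-(V.a₁ * V.a₃) - V.a₄ - W.a₄) -
  16 * (V.b₄ ^ 2 + V.b₄ * W.b₄ + W.b₄ ^ 2) + 18 * V.b₂ * W.b₆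

/-- The determinant when `a₃`, `a₆` are unknown. -/
def d₂ : R := (V.a₁ * V.b₂ - 18 * (V.a₃ + W.a₃)) * Q V W + 72 * P₂ V W

/-- The determinant when `a₄`, `a₆` are unknown. -/
def d₃ : R := 2 * V.b₂ * Q V W + 72 * P₃ V W

variable {V W}

theorem d₂_map {S : Type u} [CommRing S] (φ : R →+* S) (V W : WeierstrassCurve R) :
    d₂ (V.map φ) (W.map φ) = φ (d₂ V W) := by
  simp [d₂, P₂, Q, map_ofNat]

theorem d₃_map {S : Type u} [CommRing S] (φ : R →+* S) (V W : WeierstrassCurve R) :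
    d₃ (V.map φ) (W.map φ) = φ (d₃ V W) := by
  simp [d₃, P₃, Q, map_ofNat]

theorem rigid₂ (h1 : V.a₁ = W.a₁) (h2 : V.a₂ = W.a₂) (h4 : V.a₄ = W.a₄) (hk : k V = k W)
    (hΔ : V.Δ = W.Δ) (hd : IsUnit (d₂ V W)) : V = W := by
  have e1 : (V.a₁ * V.b₂ - 18 * (V.a₃ + W.a₃)) * (V.a₃ - W.a₃) - 72 * (V.a₆ - W.a₆) = 0 := by
    simp only [k, b₂, b₄, b₆, ← h1, ← h2, ← h4] at hk ⊢
    linear_combination hk
  have e2 : P₂ V W * (V.a₃ - W.a₃) + Q V W * (V.a₆ - W.a₆) = 0 := by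
    simp only [Δ, P₂, Q, b₂, b₄, b₆, b₈, ← h1, ← h2, ← h4] at hΔ ⊢
    linear_combination hΔ
  have h3 : V.a₃ = W.a₃ := sub_eq_zero.1 (hd.mul_right_eq_zero.1 (by
    rw [d₂]; linear_combination Q V W * e1 + 72 * e2))
  have h6 : V.a₆ = W.a₆ := sub_eq_zero.1 (hd.mul_right_eq_zero.1 (by
    rw [d₂]; linear_combination -P₂ V W * e1 + (V.a₁ * V.b₂ - 18 * (V.a₃ + W.a₃)) * e2))
  exact WeierstrassCurve.ext h1 h2 h3 h4 h6

theorem rigid₃_eqs (h1 : V.a₁ = W.a₁) (h2 : V.a₂ = W.a₂) (h3 : V.a₃ = W.a₃) (hk : k V = k W)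
    (hΔ : V.Δ = W.Δ) :
    2 * V.b₂ * (V.a₄ - W.a₄) - 72 * (V.a₆ - W.a₆) = 0 ∧
      P₃ V W * (V.a₄ - W.a₄) + Q V W * (V.a₆ - W.a₆) = 0 := by
  constructor
  · simp only [k, b₂, b₄, b₆, ← h1, ← h2, ← h3] at hk ⊢
    linear_combination hk
  · simp only [Δ, P₃, Q, b₂, b₄, b₆, b₈, ← h1, ← h2, ← h3] at hΔ ⊢
    linear_combination hΔ

theorem rigid₃ (h1 : V.a₁ = W.a₁) (h2 : V.a₂ = W.a₂) (h3 : V.a₃ = W.a₃) (hk : k V = k W)
    (hΔ : V.Δ = W.Δ) (hc : V.c₄ = W.c₄) (h2u : IsUnit (2 : R))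
    (hd : IsUnit (d₃ V W) ∨ IsUnit (3 : R)) : V = W := by
  obtain ⟨e1, e2⟩ := rigid₃_eqs h1 h2 h3 hk hΔ
  rcases hd with hd | h3u
  · have h4 : V.a₄ = W.a₄ := sub_eq_zero.1 (hd.mul_right_eq_zero.1 (by
      rw [d₃]; linear_combination Q V W * e1 + 72 * e2))
    have h6 : V.a₆ = W.a₆ := sub_eq_zero.1 (hd.mul_right_eq_zero.1 (by
      rw [d₃]; linear_combination -P₃ V W * e1 + 2 * V.b₂ * e2))
    exact WeierstrassCurve.ext h1 h2 h3 h4 h6
  · have h48 : IsUnit (48 : R) := by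
      rw [show (48 : R) = 2 ^ 4 * 3 by norm_num]
      exact (h2u.pow 4).mul h3u
    have h72 : IsUnit (72 : R) := by
      rw [show (72 : R) = 2 ^ 3 * 3 ^ 2 by norm_num]
      exact (h2u.pow 3).mul (h3u.pow 2)
    have h4 : V.a₄ = W.a₄ := sub_eq_zero.1 (h48.mul_right_eq_zero.1 (by
      simp only [c₄, b₂, b₄, ← h1, ← h2, ← h3] at hc
      linear_combination -hc))
    have h6 : V.a₆ = W.a₆ := sub_eq_zero.1 (h72.mul_right_eq_zero.1 (by
      rw [h4, sub_self, mul_zero, zero_sub, neg_eq_zero] at e1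
      exact e1))
    exact WeierstrassCurve.ext h1 h2 h3 h4 h6

theorem d₂_not_mem (q : Ideal R) [q.IsPrime] (h2 : (2 : R) ∈ q) (ha : V.a₁ ∉ q) : d₂ V W ∉ q := by
  intro hd
  have hE : d₂ V W + V.a₁ * V.b₂ ^ 4 = 2 * (9 * (-(V.a₃ + W.a₃) * Q V W + 4 * P₂ V W +
      V.a₁ * V.b₂ * (-6 * (V.b₆ + W.b₆) + 2 * V.b₂ * V.b₄))) := by
    simp only [d₂, Q]
    ring
  have hb : V.a₁ * V.b₂ ^ 4 ∈ q :=
    (q.add_mem_iff_right hd).1 (hE ▸ q.mul_mem_right _ h2)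
  rcases Ideal.IsPrime.mem_or_mem ‹_› hb with h | h
  · exact ha h
  · have := (‹q.IsPrime›).mem_of_pow_mem _ h
    have h' : V.a₁ ^ 2 ∈ q := by
      rw [show V.a₁ ^ 2 = V.b₂ - 2 * (2 * V.a₂) by simp only [b₂]; ring]
      exact q.sub_mem this (q.mul_mem_right _ h2)
    exact ha ((‹q.IsPrime›).mem_of_pow_mem _ h')

theorem d₃_not_mem (q : Ideal R) [q.IsPrime] (h3 : (3 : R) ∈ q) (h2 : IsUnit (2 : R))
    (hc : IsUnit V.c₄) : d₃ V W ∉ q := by
  intro hd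
  have hE : d₃ V W + 2 * V.b₂ ^ 4 = 3 * (24 * P₃ V W + 2 * V.b₂ * (-36 * (V.b₆ + W.b₆) +
      12 * V.b₂ * V.b₄)) := by
    simp only [d₃, Q]
    ring
  have hb : V.b₂ ^ 4 ∈ q :=
    (q.unit_mul_mem_iff_mem h2).1 ((q.add_mem_iff_right hd).1 (hE ▸ q.mul_mem_right _ h3))
  have hb' := (‹q.IsPrime›).mem_of_pow_mem _ hb
  refine ‹q.IsPrime›.ne_top (q.eq_top_of_isUnit_mem ?_ hc)
  rw [c₄, show V.b₂ ^ 2 - 24 * V.b₄ = V.b₂ * V.b₂ - 3 * (8 * V.b₄) by ring]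
  exact q.sub_mem (q.mul_mem_left _ hb') (q.mul_mem_right _ h3)

end Rigid

/-- What two curves with the same invariant share. -/
structure SameJ (W W' : WeierstrassCurve R) : Prop where
  c₄ : IsUnit W.c₄
  c₆ : IsUnit W.c₆
  c₄' : IsUnit W'.c₄
  c₆' : IsUnit W'.c₆
  eq : W.Δ * W'.c₄ ^ 3 = W'.Δ * W.c₄ ^ 3

theorem SameJ.map {W W' : WeierstrassCurve R} (h : SameJ W W') {S : Type u} [CommRing S]
    (φ : R →+* S) : SameJ (W.map φ) (W'.map φ) where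
  c₄ := by simpa using h.c₄.map φ
  c₆ := by simpa using h.c₆.map φ
  c₄' := by simpa using h.c₄'.map φ
  c₆' := by simpa using h.c₆'.map φ
  eq := by simpa using congrArg φ h.eq

theorem SameJ.exists_scalar {W W' : WeierstrassCurve R} (h : SameJ W W') :
    ∃ c ρ ρ' : R, IsUnit c ∧ c * (W.c₄ * W'.c₆) = W.c₆ * W'.c₄ ∧ ρ * W.c₄ = k W ∧ ρ' * W'.c₄ = k W' := by
  refine ⟨W.c₆ * W'.c₄ * ↑(h.c₄.mul h.c₆').unit⁻¹, k W * ↑h.c₄.unit⁻¹, k W' * ↑h.c₄'.unit⁻¹,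
    (h.c₆.mul h.c₄').mul (Units.isUnit _), ?_, ?_, ?_⟩
  all_goals rw [mul_assoc, IsUnit.val_inv_mul, mul_one]

theorem SameJ.match' {W W' : WeierstrassCurve R} (h : SameJ W W') {ρ ρ' : R} (u : Rˣ) (s t : R)
    (hu : (u : R) ^ 2 * (W.c₄ * W'.c₆) = W.c₆ * W'.c₄) (hρ : ρ * W.c₄ = k W)
    (hρ' : ρ' * W'.c₄ = k W') :
    let C : VariableChange R := ⟨u, (u : R) ^ 2 * ρ' - ρ, s, t⟩
    (C • W).c₄ = W'.c₄ ∧ (C • W).Δ = W'.Δ ∧ k (C • W) = k W' ∧
      W.b₂ + 12 * ((u : R) ^ 2 * ρ' - ρ) = (u : R) ^ 2 * W'.b₂ := by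
  intro C
  have hc : W.c₆ ^ 2 * W'.c₄ ^ 3 = W'.c₆ ^ 2 * W.c₄ ^ 3 := by
    linear_combination W'.c₄ ^ 3 * W.c_relation - W.c₄ ^ 3 * W'.c_relation - 1728 * h.eq
  have h4 : (u : R) ^ 4 * W'.c₄ = W.c₄ := by
    refine ((h.c₄.pow 2).mul (h.c₆'.pow 2)).mul_left_cancel ?_
    linear_combination ((u : R) ^ 2 * (W.c₄ * W'.c₆) + W.c₆ * W'.c₄) * W'.c₄ * hu + hc
  have hΔ : (u : R) ^ 12 * W'.Δ = W.Δ := by
    refine (h.c₄'.pow 3).mul_left_cancel ?_
    linear_combination ((u : R) ^ 8 * W'.c₄ ^ 2 + (u : R) ^ 4 * W'.c₄ * W.c₄ + W.c₄ ^ 2) * W'.Δ * h4 - h.eq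
  have hinv (n : ℕ) : (↑u⁻¹ : R) ^ n * (u : R) ^ n = 1 := by simp [← mul_pow]
  refine ⟨?_, ?_, ?_, ?_⟩
  · rw [variableChange_c₄, ← h4, ← mul_assoc, hinv, one_mul]
  · rw [variableChange_Δ, ← hΔ, ← mul_assoc, hinv, one_mul]
  · rw [k_variableChange]
    change (↑u⁻¹ : R) ^ 6 * (k W + ((u : R) ^ 2 * ρ' - ρ) * W.c₄) = k W'
    have : k W + ((u : R) ^ 2 * ρ' - ρ) * W.c₄ = (u : R) ^ 6 * k W' := by
      linear_combination -hρ + (u : R) ^ 6 * hρ' - (u : R) ^ 2 * ρ' * h4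
    rw [this, ← mul_assoc, hinv, one_mul]
  · refine (h.c₄.mul h.c₄').mul_left_cancel ?_
    linear_combination hu - 12 * W'.c₄ * hρ + 12 * (u : R) ^ 2 * W.c₄ * hρ' +
      (u : R) ^ 2 * W.c₄ * twelve_k W' - W'.c₄ * twelve_k W

section Cover

/-- An étale neighbourhood with a chosen prime over `p`, given by a quadratic equation. -/
theorem exists_root_cover {A : Type u} [CommRing A] (p : PrimeSpectrum A) (e : A) (he : e ∉ p.asIdeal)
    (a b : Localization.Away e) (hdisc : IsUnit (a ^ 2 - 4 * b)) :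
    ∃ (B : Type u) (_ : CommRing B) (_ : Algebra A B) (ψ : Localization.Away e →ₐ[A] B) (x : B)
      (q : PrimeSpectrum B), Algebra.Etale A B ∧ q.comap (algebraMap A B) = p ∧
        x ^ 2 + ψ a * x + ψ b = 0 := by
  let A' := Localization.Away e
  let f : A'[X] := X ^ 2 + C a * X + C b
  have hm : f.Monic := by simp only [f]; monicity!
  have hs : f.Separable := by
    obtain ⟨i, hi⟩ := hdisc.exists_left_inv
    refine ⟨-(4 * C i), C i * derivative f, ?_⟩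
    have : derivative f = 2 * X + C a := by simp [f]; ring
    rw [this]
    have hi' : C i * (C a ^ 2 - 4 * C b) = (1 : A'[X]) := by
      rw [← map_pow, ← map_ofNat (C : A' →+* A'[X]) 4, ← map_mul, ← map_sub, ← map_mul, hi, map_one]
    simp only [f]
    linear_combination hi'
  haveI : Algebra.Etale A' (AdjoinRoot f) := Groth.Agent.SmoothLib.etale_adjoinRoot_of_separable f hm hs
  haveI : Algebra.Etale A A' := Algebra.Etale.of_isLocalizationAway e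
  haveI : Algebra.Etale A (AdjoinRoot f) := Algebra.Etale.comp A A' (AdjoinRoot f)
  haveI : Module.Finite A' (AdjoinRoot f) := hm.finite_adjoinRoot
  obtain ⟨p', hp'⟩ : p ∈ Set.range (PrimeSpectrum.comap (algebraMap A A')) := by
    rw [PrimeSpectrum.localization_away_comap_range A' e]
    exact he
  haveI : Nontrivial A' := nontrivial_of_ne 0 1 fun h => p'.isPrime.ne_top
    ((Ideal.eq_top_iff_one _).2 (h ▸ zero_mem _))
  have hdeg : f.degree = 2 := by simp only [f]; compute_degree!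
  have hinj : Function.Injective (algebraMap A' (AdjoinRoot f)) := by
    rw [injective_iff_map_eq_zero]
    intro x hx
    rw [AdjoinRoot.algebraMap_eq, ← AdjoinRoot.mk_C, AdjoinRoot.mk_eq_zero] at hx
    by_contra hne
    exact hm.not_dvd_of_degree_lt (C_ne_zero.2 hne) (by rw [degree_C hne, hdeg]; decide) hx
  haveI : FaithfulSMul A' (AdjoinRoot f) := (faithfulSMul_iff_algebraMap_injective _ _).2 hinj
  obtain ⟨q, hq⟩ := Algebra.IsIntegral.comap_surjective A' (AdjoinRoot f) p'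
  refine ⟨AdjoinRoot f, inferInstance, inferInstance, IsScalarTower.toAlgHom A A' (AdjoinRoot f),
    AdjoinRoot.root f, q, inferInstance, ?_, ?_⟩
  · rw [IsScalarTower.algebraMap_eq A A' (AdjoinRoot f), PrimeSpectrum.comap_comp_apply, hq, hp']
  · have := AdjoinRoot.eval₂_root f
    change AdjoinRoot.root f ^ 2 + AdjoinRoot.of f a * AdjoinRoot.root f + AdjoinRoot.of f b = 0
    simpa [f] using this

/-- Shrinking a neighbourhood. -/
theorem exists_away {A B : Type u} [CommRing A] [CommRing B] [Algebra A B] [Algebra.Etale A B]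
    (p : PrimeSpectrum A) (q : PrimeSpectrum B) (hq : q.comap (algebraMap A B) = p) (g : B)
    (hg : g ∉ q.asIdeal) :
    Algebra.Etale A (Localization.Away g) ∧
      p ∈ Set.range (PrimeSpectrum.comap (algebraMap A (Localization.Away g))) := by
  haveI : Algebra.Etale B (Localization.Away g) := Algebra.Etale.of_isLocalizationAway g
  refine ⟨Algebra.Etale.comp A B (Localization.Away g), ?_⟩
  obtain ⟨q', hq'⟩ : q ∈ Set.range (PrimeSpectrum.comap (algebraMap B (Localization.Away g))) := by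
    rw [PrimeSpectrum.localization_away_comap_range _ g]
    exact hg
  exact ⟨q', by rw [IsScalarTower.algebraMap_eq A B, PrimeSpectrum.comap_comp_apply, hq', hq]⟩

variable {A : Type u} [CommRing A]

theorem not_mem_of_comap {B : Type u} [CommRing B] [Algebra A B] {p : PrimeSpectrum A}
    {q : PrimeSpectrum B} (hq : q.comap (algebraMap A B) = p) {a : A} (ha : a ∉ p.asIdeal) :
    algebraMap A B a ∉ q.asIdeal := fun h => ha (by rw [← hq]; exact h)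

theorem cover_two (W W' : WeierstrassCurve A) (h : SameJ W W') (p : PrimeSpectrum A)
    (h2 : (2 : A) ∈ p.asIdeal) :
    ∃ (B : Type u) (_ : CommRing B) (_ : Algebra A B), Algebra.Etale A B ∧
      p ∈ Set.range (PrimeSpectrum.comap (algebraMap A B)) ∧
      ∃ C : VariableChange B, C • (W.map (algebraMap A B)) = W'.map (algebraMap A B) := by
  have ha : W'.a₁ ∉ p.asIdeal := fun ha => p.isPrime.ne_top (p.asIdeal.eq_top_of_isUnit_mem (by
    rw [show W'.c₄ = W'.a₁ * (W'.a₁ * W'.b₂) + 2 * (2 * W'.a₂ * W'.b₂ - 12 * W'.b₄) by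
      simp only [c₄, b₂]; ring]
    exact p.asIdeal.add_mem (p.asIdeal.mul_mem_right _ ha) (p.asIdeal.mul_mem_right _ h2)) h.c₄')
  obtain ⟨c, ρ, ρ', hc, hcu, hρ, hρ'⟩ := h.exists_scalar
  let φ := algebraMap A (Localization.Away W'.a₁)
  let D : A := W.a₂ + 3 * (c * ρ' - ρ) - c * W'.a₂
  have hb := twelve_k W
  have hD : W.a₁ ^ 2 + 4 * D = c * W'.a₁ ^ 2 := by
    refine (h.c₄.mul h.c₄').mul_left_cancel ?_
    have hbk : W.c₄ * W'.c₄ * (W.b₂ + 12 * (c * ρ' - ρ) - c * W'.b₂) = 0 := by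
      linear_combination hcu - 12 * W'.c₄ * hρ + 12 * c * W.c₄ * hρ' +
        c * W.c₄ * twelve_k W' - W'.c₄ * twelve_k W
    simp only [b₂] at hbk
    simp only [D]
    linear_combination hbk
  obtain ⟨B₁, _, _, ψ, s, q, _, hq, hs⟩ := exists_root_cover p W'.a₁ ha (φ W.a₁) (φ (-D)) (by
    rw [← map_ofNat φ 4, ← map_pow, ← map_mul, ← map_sub,
      show W.a₁ ^ 2 - 4 * -D = c * W'.a₁ ^ 2 by linear_combination hD, map_mul, map_pow]
    exact (hc.map φ).mul ((IsLocalization.Away.algebraMap_isUnit W'.a₁).pow 2))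
  let ι := algebraMap A B₁
  have hψ (x : A) : ψ (φ x) = ι x := ψ.commutes x
  simp only [hψ] at hs
  have hua : IsUnit (ι W'.a₁) := by
    rw [← hψ]
    exact (IsLocalization.Away.algebraMap_isUnit W'.a₁).map ψ
  have hu2 : (ι W.a₁ + 2 * s) ^ 2 = ι c * ι W'.a₁ ^ 2 := by
    have hD' := congrArg ι hD
    simp only [map_add, map_pow, map_mul, map_ofNat, map_neg] at hD' hs ⊢
    linear_combination 4 * hs + hD'
  let u₀ : B₁ := (ι W.a₁ + 2 * s) * ↑hua.unit⁻¹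
  have hu₀ : u₀ * ι W'.a₁ = ι W.a₁ + 2 * s := by
    simp only [u₀]; rw [mul_assoc, IsUnit.val_inv_mul, mul_one]
  have huc : u₀ ^ 2 = ι c := by
    refine (hua.pow 2).mul_left_cancel ?_
    linear_combination (u₀ * ι W'.a₁ + (ι W.a₁ + 2 * s)) * hu₀ + hu2
  have huu : IsUnit u₀ := (isUnit_pow_iff (by norm_num : 2 ≠ 0)).1 (huc ▸ hc.map ι)
  let u : B₁ˣ := huu.unit
  let r : B₁ := (u : B₁) ^ 2 * ι ρ' - ι ρ
  have hden : IsUnit (ι W.a₁ + 2 * s) := hu₀ ▸ huu.mul hua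
  let t : B₁ := (ι W.a₄ - s * ι W.a₃ + 2 * r * ι W.a₂ - r * s * ι W.a₁ + 3 * r ^ 2 -
    (u : B₁) ^ 4 * ι W'.a₄) * ↑hden.unit⁻¹
  have ht : t * (ι W.a₁ + 2 * s) = ι W.a₄ - s * ι W.a₃ + 2 * r * ι W.a₂ - r * s * ι W.a₁ +
      3 * r ^ 2 - (u : B₁) ^ 4 * ι W'.a₄ := by
    simp only [t]; rw [mul_assoc, IsUnit.val_inv_mul, mul_one]
  let C₁ : VariableChange B₁ := ⟨u, r, s, t⟩
  let V := C₁ • W.map ι
  have hinv (n : ℕ) : (↑u⁻¹ : B₁) ^ n * (u : B₁) ^ n = 1 := by simp [← mul_pow]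
  have e1 : V.a₁ = (W'.map ι).a₁ := by
    change (↑u⁻¹ : B₁) * (ι W.a₁ + 2 * s) = ι W'.a₁
    rw [← hu₀, ← mul_assoc, show u₀ = (u : B₁) from rfl, Units.inv_mul, one_mul]
  have e2 : V.a₂ = (W'.map ι).a₂ := by
    change (↑u⁻¹ : B₁) ^ 2 * (ι W.a₂ - s * ι W.a₁ + 3 * r - s ^ 2) = ι W'.a₂
    have : ι W.a₂ - s * ι W.a₁ + 3 * r - s ^ 2 = (u : B₁) ^ 2 * ι W'.a₂ := by
      have huc' : (u : B₁) ^ 2 = ι c := huc
      simp only [D, map_add, map_sub, map_mul, map_ofNat, map_neg] at hs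
      simp only [r, huc']
      linear_combination -hs
    rw [this, ← mul_assoc, hinv, one_mul]
  have e4 : V.a₄ = (W'.map ι).a₄ := by
    change (↑u⁻¹ : B₁) ^ 4 * (ι W.a₄ - s * ι W.a₃ + 2 * r * ι W.a₂ - (t + r * s) * ι W.a₁ +
      3 * r ^ 2 - 2 * s * t) = ι W'.a₄
    have : ι W.a₄ - s * ι W.a₃ + 2 * r * ι W.a₂ - (t + r * s) * ι W.a₁ + 3 * r ^ 2 - 2 * s * t =
        (u : B₁) ^ 4 * ι W'.a₄ := by linear_combination -ht
    rw [this, ← mul_assoc, hinv, one_mul]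
  obtain ⟨-, eΔ, ek, -⟩ := (h.map ι).match' (ρ := ι ρ) (ρ' := ι ρ') u s t (by
      have := congrArg ι hcu
      simp only [map_mul] at this
      simpa [show (u : B₁) ^ 2 = ι c from huc] using this)
    (by simpa [k_map] using congrArg ι hρ) (by simpa [k_map] using congrArg ι hρ')
  have hd : d₂ V (W'.map ι) ∉ q.asIdeal := d₂_not_mem q.asIdeal (by
      rw [← map_ofNat ι 2]
      have : (2 : A) ∈ (q.comap ι).asIdeal := hq ▸ h2
      exact this)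
    (e1 ▸ not_mem_of_comap hq ha)
  obtain ⟨het, hp⟩ := exists_away p q hq _ hd
  let g := d₂ V (W'.map ι)
  let χ := algebraMap B₁ (Localization.Away g)
  refine ⟨Localization.Away g, inferInstance, inferInstance, het, hp, C₁.map χ, ?_⟩
  rw [IsScalarTower.algebraMap_eq A B₁ (Localization.Away g), ← WeierstrassCurve.map_map,
    ← WeierstrassCurve.map_map, WeierstrassCurve.map_variableChange]
  refine rigid₂ (congrArg χ e1) (congrArg χ e2) (congrArg χ e4) ?_ ?_ ?_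
  · rw [k_map, k_map]; exact congrArg χ ek
  · rw [WeierstrassCurve.map_Δ, WeierstrassCurve.map_Δ]; exact congrArg χ eΔ
  · rw [d₂_map]
    exact IsLocalization.Away.algebraMap_isUnit g

theorem cover_not_two (W W' : WeierstrassCurve A) (h : SameJ W W') (p : PrimeSpectrum A)
    (h2 : (2 : A) ∉ p.asIdeal) :
    ∃ (B : Type u) (_ : CommRing B) (_ : Algebra A B), Algebra.Etale A B ∧
      p ∈ Set.range (PrimeSpectrum.comap (algebraMap A B)) ∧
      ∃ C : VariableChange B, C • (W.map (algebraMap A B)) = W'.map (algebraMap A B) := by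
  obtain ⟨c, ρ, ρ', hc, hcu, hρ, hρ'⟩ := h.exists_scalar
  let φ := algebraMap A (Localization.Away (2 : A))
  obtain ⟨B₁, _, _, ψ, x, q, _, hq, hx⟩ := exists_root_cover p 2 h2 0 (φ (-c)) (by
    rw [← map_ofNat φ 4, ← map_mul, ← map_zero φ, ← map_pow, ← map_sub,
      show (0 : A) ^ 2 - 4 * -c = 2 ^ 2 * c by ring, map_mul, map_pow]
    exact ((IsLocalization.Away.algebraMap_isUnit (2 : A)).pow 2).mul (hc.map φ))
  let ι := algebraMap A B₁
  have hψ (x : A) : ψ (φ x) = ι x := ψ.commutes x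
  have h2u : IsUnit (2 : B₁) := by
    rw [← map_ofNat ι 2, ← hψ]
    exact (IsLocalization.Away.algebraMap_isUnit (2 : A)).map ψ
  have huc : x ^ 2 = ι c := by
    simp only [hψ, map_zero, zero_mul, add_zero, map_neg] at hx
    linear_combination hx
  have huu : IsUnit x := (isUnit_pow_iff (by norm_num : 2 ≠ 0)).1 (huc ▸ hc.map ι)
  let u : B₁ˣ := huu.unit
  let r : B₁ := (u : B₁) ^ 2 * ι ρ' - ι ρ
  let s : B₁ := ((u : B₁) * ι W'.a₁ - ι W.a₁) * ↑h2u.unit⁻¹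
  let t : B₁ := ((u : B₁) ^ 3 * ι W'.a₃ - ι W.a₃ - r * ι W.a₁) * ↑h2u.unit⁻¹
  have hs : s * 2 = (u : B₁) * ι W'.a₁ - ι W.a₁ := by
    simp only [s]; rw [mul_assoc, IsUnit.val_inv_mul, mul_one]
  have ht : t * 2 = (u : B₁) ^ 3 * ι W'.a₃ - ι W.a₃ - r * ι W.a₁ := by
    simp only [t]; rw [mul_assoc, IsUnit.val_inv_mul, mul_one]
  let C₁ : VariableChange B₁ := ⟨u, r, s, t⟩
  let V := C₁ • W.map ι
  obtain ⟨ec, eΔ, ek, eb⟩ := (h.map ι).match' (ρ := ι ρ) (ρ' := ι ρ') u s t (by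
      have := congrArg ι hcu
      simp only [map_mul] at this
      simpa [show (u : B₁) ^ 2 = ι c from huc] using this)
    (by simpa [k_map] using congrArg ι hρ) (by simpa [k_map] using congrArg ι hρ')
  have hinv (n : ℕ) : (↑u⁻¹ : B₁) ^ n * (u : B₁) ^ n = 1 := by simp [← mul_pow]
  have e1 : V.a₁ = (W'.map ι).a₁ := by
    change (↑u⁻¹ : B₁) * (ι W.a₁ + 2 * s) = ι W'.a₁
    rw [show ι W.a₁ + 2 * s = (u : B₁) * ι W'.a₁ by linear_combination hs, ← mul_assoc,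
      Units.inv_mul, one_mul]
  have e2 : V.a₂ = (W'.map ι).a₂ := by
    change (↑u⁻¹ : B₁) ^ 2 * (ι W.a₂ - s * ι W.a₁ + 3 * r - s ^ 2) = ι W'.a₂
    have : ι W.a₂ - s * ι W.a₁ + 3 * r - s ^ 2 = (u : B₁) ^ 2 * ι W'.a₂ := by
      refine ((h2u.pow 2)).mul_left_cancel ?_
      simp only [b₂, WeierstrassCurve.map_a₁, WeierstrassCurve.map_a₂] at eb
      change ι W.a₁ ^ 2 + 4 * ι W.a₂ + 12 * r = (u : B₁) ^ 2 * (ι W'.a₁ ^ 2 + 4 * ι W'.a₂) at eb
      linear_combination eb - (ι W.a₁ + 2 * s + (u : B₁) * ι W'.a₁) * hs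
    rw [this, ← mul_assoc, hinv, one_mul]
  have e3 : V.a₃ = (W'.map ι).a₃ := by
    change (↑u⁻¹ : B₁) ^ 3 * (ι W.a₃ + r * ι W.a₁ + 2 * t) = ι W'.a₃
    rw [show ι W.a₃ + r * ι W.a₁ + 2 * t = (u : B₁) ^ 3 * ι W'.a₃ by linear_combination ht,
      ← mul_assoc, hinv, one_mul]
  obtain ⟨g, hg, hgd⟩ : ∃ g : B₁, g ∉ q.asIdeal ∧ (g = d₃ V (W'.map ι) ∨ g = 3) := by
    by_cases h3 : (3 : B₁) ∈ q.asIdeal
    · exact ⟨_, d₃_not_mem q.asIdeal h3 h2u (ec ▸ (h.map ι).c₄'), Or.inl rfl⟩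
    · exact ⟨_, h3, Or.inr rfl⟩
  obtain ⟨het, hp⟩ := exists_away p q hq g hg
  let χ := algebraMap B₁ (Localization.Away g)
  refine ⟨Localization.Away g, inferInstance, inferInstance, het, hp, C₁.map χ, ?_⟩
  rw [IsScalarTower.algebraMap_eq A B₁ (Localization.Away g), ← WeierstrassCurve.map_map,
    ← WeierstrassCurve.map_map, WeierstrassCurve.map_variableChange]
  refine rigid₃ (congrArg χ e1) (congrArg χ e2) (congrArg χ e3) ?_ ?_ ?_ ?_ ?_
  · rw [k_map, k_map]; exact congrArg χ ek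
  · rw [WeierstrassCurve.map_Δ, WeierstrassCurve.map_Δ]; exact congrArg χ eΔ
  · rw [WeierstrassCurve.map_c₄, WeierstrassCurve.map_c₄]; exact congrArg χ ec
  · simpa [map_ofNat] using h2u.map χ
  · have hgu : IsUnit (χ g) := IsLocalization.Away.algebraMap_isUnit g
    rcases hgd with rfl | rfl
    · left
      rw [d₃_map]
      exact hgu
    · exact Or.inr (by simpa [map_ofNat] using hgu)

theorem exists_etale_nhd (W₁ W₂ : WeierstrassCurve A) [W₁.IsElliptic] [W₂.IsElliptic]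
    (hj : W₁.j = W₂.j) (h0 : IsUnit W₁.j) (h1728 : IsUnit (W₁.j - 1728)) (p : PrimeSpectrum A) :
    ∃ (B : Type u) (_ : CommRing B) (_ : Algebra A B), Algebra.Etale A B ∧
      p ∈ Set.range (PrimeSpectrum.comap (algebraMap A B)) ∧
      ∃ C : VariableChange B, C • (W₁.map (algebraMap A B)) = W₂.map (algebraMap A B) := by
  have hmul (W : WeierstrassCurve A) [W.IsElliptic] : W.Δ * W.j = W.c₄ ^ 3 := by
    rw [WeierstrassCurve.j, ← WeierstrassCurve.coe_Δ', Units.mul_inv_cancel_left]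
  have hc4 (W : WeierstrassCurve A) [W.IsElliptic] (hW : IsUnit W.j) : IsUnit W.c₄ :=
    (isUnit_pow_iff (by norm_num : 3 ≠ 0)).1 (hmul W ▸ W.isUnit_Δ.mul hW)
  have hc6 (W : WeierstrassCurve A) [W.IsElliptic] (hW : IsUnit (W.j - 1728)) : IsUnit W.c₆ :=
    (isUnit_pow_iff (by norm_num : 2 ≠ 0)).1
      ((show W.Δ * (W.j - 1728) = W.c₆ ^ 2 by
          linear_combination hmul W - W.c_relation) ▸ W.isUnit_Δ.mul hW)
  have h : SameJ W₁ W₂ := ⟨hc4 W₁ h0, hc6 W₁ h1728, hc4 W₂ (hj ▸ h0), hc6 W₂ (hj ▸ h1728), by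
    rw [← hmul W₁, ← hmul W₂, hj]; ring⟩
  by_cases h2 : (2 : A) ∈ p.asIdeal
  · exact cover_two W₁ W₂ h p h2
  · exact cover_not_two W₁ W₂ h p h2

end Cover

end Groth.Agent.CohDer1.SameJ
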