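import Groth.Agent.CohDer1.SliceRetract
import Mathlib.RingTheory.Jacobson.Artinian
import Mathlib.RingTheory.FiniteType

/-!
# The slice theorem on an affine neighbourhood of a rational point
-/

set_option autoImplicit false

universe u

open IsLocalRing TensorProduct RingTheory.Sequence

namespace Groth.Agent.CohDer1.Slice

variable {k : Type u} [Field k] {R : Type u} [CommRing R] [Algebra k R] [Algebra.FiniteType k R]
  {Rb : Type u} [CommRing Rb] [Algebra k Rb]

set_option maxHeartbeats 1600000 in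
/-- From the local isomorphism to a neighbourhood. -/
theorem spread (q : R →ₐ[k] Rb) (hq : Function.Surjective q) (eb : Rb →ₐ[k] k)
    [(RingHom.ker eb.toRingHom).IsPrime] [(RingHom.ker (eb.comp q).toRingHom).IsPrime]
    {A : Type u} [CommRing A] [Algebra k A] [IsLocalRing A] [IsArtinianRing A] [Module.Finite k A]
    (eA : A →ₐ[k] k) (φ : R →ₐ[k] A ⊗[k] Rb) (hφR : (prR eA).comp φ = q)
    (φm : Localization.AtPrime (RingHom.ker (eb.comp q).toRingHom) →ₐ[k]
      A ⊗[k] Localization.AtPrime (RingHom.ker eb.toRingHom))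
    (hφm : ∀ x, φm (algebraMap R _ x) =
      Algebra.TensorProduct.map (AlgHom.id k A) (IsScalarTower.toAlgHom k Rb _) (φ x))
    (hb : Function.Bijective φm) :
    ∃ s : R, eb (q s) ≠ 0 ∧ Function.Bijective (Localization.awayMap φ.toRingHom s) := by
  classical
  haveI : IsNoetherianRing R := Algebra.FiniteType.isNoetherianRing k R
  let mR := RingHom.ker (eb.comp q).toRingHom
  let mb := RingHom.ker eb.toRingHom
  let Rm := Localization.AtPrime mR
  let Rbm := Localization.AtPrime mb
  let ψ : A ⊗[k] Rb →ₐ[k] A ⊗[k] Rbm :=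
    Algebra.TensorProduct.map (AlgHom.id k A) (IsScalarTower.toAlgHom k Rb Rbm)
  obtain ⟨N, hN⟩ := IsArtinianRing.isNilpotent_jacobson_bot (R := A)
  rw [IsLocalRing.jacobson_eq_maximalIdeal ⊥ bot_ne_top] at hN
  have hPRnil : ∀ {C : Type u} [CommRing C] [Algebra k C] (z : A ⊗[k] C),
      (z - (Algebra.TensorProduct.includeRight : C →ₐ[k] A ⊗[k] C) (prR eA z)) ^ N = 0 := fun {C} _ _ z => by
    have h := Ideal.pow_mem_pow (sub_prR_mem eA z) N
    rw [← Ideal.map_pow, hN, Ideal.zero_eq_bot, Ideal.map_bot] at h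
    exact h
  -- injectivity spreads out
  have hne : ∀ {x : R}, x ∈ mR.primeCompl ↔ eb (q x) ≠ 0 := Iff.rfl
  obtain ⟨g, hg⟩ := (IsNoetherian.noetherian (RingHom.ker φ.toRingHom) : (RingHom.ker φ.toRingHom).FG)
  have hkz : ∀ x ∈ g, ∃ u : mR.primeCompl, (u : R) * x = 0 := fun x hx => by
    refine (IsLocalization.map_eq_zero_iff mR.primeCompl Rm x).1 (hb.1 ?_)
    rw [hφm, map_zero, show φ x = 0 from hg.le (Submodule.subset_span hx), map_zero]
  choose u hu using hkz
  let s₁ : mR.primeCompl := ∏ x ∈ g.attach, u x.1 x.2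
  have hs₁ : ∀ x, φ x = 0 → (s₁ : R) * x = 0 := by
    intro x hx
    have hx' : x ∈ Submodule.span R (g : Set R) := hg.ge hx
    induction hx' using Submodule.span_induction with
    | mem y hy =>
      have hd : u y hy ∣ s₁ := Finset.dvd_prod_of_mem (fun x : {x // x ∈ g} => u x.1 x.2) (Finset.mem_attach g ⟨y, hy⟩)
      obtain ⟨w, hw⟩ := hd
      rw [hw, Submonoid.coe_mul, mul_comm (u y hy : R), mul_assoc, hu, mul_zero]
    | zero => simp
    | add a b ha hb ha' hb' =>
      rw [mul_add, ha' (hg.le ha), hb' (hg.le hb), add_zero]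
    | smul r a ha ha' =>
      rw [smul_eq_mul, mul_left_comm, ha' (hg.le ha), mul_zero]
  -- surjectivity spreads out
  haveI : IsNoetherianRing Rb := isNoetherianRing_of_surjective R Rb q.toRingHom hq
  have hkill : ∀ z, ψ z = 0 → ∃ v : mR.primeCompl, φ v * z = 0 := by
    intro z hz
    let b := Module.finBasis k A
    obtain ⟨c, rfl⟩ := TensorProduct.eq_repr_basis_left b z
    have hci : ∀ i, algebraMap Rb Rbm (c i) = 0 := fun i => by
      have h := congrArg (fun z => TensorProduct.lid k Rbm ((b.coord i).rTensor Rbm z)) hz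
      simp only [Finsupp.sum, map_sum, map_zero] at h
      rw [← h]
      simp only [ψ, Algebra.TensorProduct.map_tmul, LinearMap.rTensor_tmul, TensorProduct.lid_tmul,
        AlgHom.id_apply, Module.Basis.coord_apply, Module.Basis.repr_self, IsScalarTower.toAlgHom_apply]
      rw [Finset.sum_eq_single i (fun j _ hj => by simp [Finsupp.single_eq_of_ne' hj]) (fun hi => by
        simp [Finsupp.notMem_support_iff.1 hi])]
      simp
    choose w hw using fun i => (IsLocalization.map_eq_zero_iff mb.primeCompl Rbm _).1 (hci i)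
    let W : mb.primeCompl := ∏ i, w i
    obtain ⟨v, hv⟩ := hq (W : Rb)
    have hvm : v ∈ mR.primeCompl := fun h => W.2 (show eb (W : Rb) = 0 by rw [← hv]; exact h)
    have h0 : (Algebra.TensorProduct.includeRight : Rb →ₐ[k] A ⊗[k] Rb) (W : Rb) *
        c.sum (fun i n => b i ⊗ₜ[k] n) = 0 := by
      rw [Finsupp.sum, Finset.mul_sum]
      refine Finset.sum_eq_zero fun i _ => ?_
      obtain ⟨w', hw'⟩ := Finset.dvd_prod_of_mem w (Finset.mem_univ i)
      rw [Algebra.TensorProduct.includeRight_apply, Algebra.TensorProduct.tmul_mul_tmul,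
        show (W : Rb) * c i = 0 by rw [show W = w i * w' from hw', Submonoid.coe_mul, mul_comm (w i : Rb), mul_assoc, hw, mul_zero],
        TensorProduct.tmul_zero]
    refine ⟨⟨v ^ N, pow_mem hvm N⟩, ?_⟩
    have hn := hPRnil (φ v)
    rw [show prR eA (φ v) = q v from AlgHom.congr_fun hφR v, hv] at hn
    have key : ∀ n : ℕ, φ v ^ n * c.sum (fun i n => b i ⊗ₜ[k] n) =
        (φ v - (Algebra.TensorProduct.includeRight : Rb →ₐ[k] A ⊗[k] Rb) (W : Rb)) ^ n *
          c.sum (fun i n => b i ⊗ₜ[k] n) := by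
      intro n
      induction n with
      | zero => simp
      | succ n ih =>
        rw [pow_succ' (φ v), mul_assoc, ih, pow_succ']
        linear_combination ((φ v - (Algebra.TensorProduct.includeRight : Rb →ₐ[k] A ⊗[k] Rb) (W : Rb)) ^ n) * h0
    show φ (v ^ N) * _ = 0
    rw [map_pow, key, hn, zero_mul]
  have hcok : ∀ z, ∃ (v : mR.primeCompl) (r : R), φ v * z = φ r := by
    intro z
    obtain ⟨y, hy⟩ := hb.2 (ψ z)
    obtain ⟨⟨r, w⟩, rfl⟩ := IsLocalization.mk'_surjective mR.primeCompl y
    obtain ⟨v, hv⟩ := hkill (φ w * z - φ r) (by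
      rw [map_sub, map_mul, ← hy, ← hφm, ← hφm, ← map_mul, IsLocalization.mk'_spec', sub_self])
    exact ⟨v * w, v * r, by rw [Submonoid.coe_mul, map_mul, map_mul]; linear_combination hv⟩
  letI := φ.toRingHom.toAlgebra
  haveI : Module.Finite R (A ⊗[k] Rb) := finite_toAlgebra q hq eA φ hφR
  obtain ⟨T, hT⟩ := (Module.Finite.fg_top : (⊤ : Submodule R (A ⊗[k] Rb)).FG)
  choose v r hvr using hcok
  let s₂ : mR.primeCompl := ∏ x ∈ T, v x
  have hs₂ : ∀ z, ∃ r, φ r = φ s₂ * z := by
    intro z
    have hz : z ∈ Submodule.span R (T : Set (A ⊗[k] Rb)) := hT.ge trivial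
    induction hz using Submodule.span_induction with
    | mem x hx =>
      obtain ⟨w, hw⟩ := Finset.dvd_prod_of_mem v hx
      exact ⟨w * r x, by rw [map_mul, show s₂ = v x * w from hw, Submonoid.coe_mul, map_mul, ← hvr]; ring⟩
    | zero => exact ⟨0, by simp⟩
    | add a b _ _ ha hb =>
      obtain ⟨r, hr⟩ := ha
      obtain ⟨r', hr'⟩ := hb
      exact ⟨r + r', by rw [map_add, hr, hr', mul_add]⟩
    | smul c a _ ha =>
      obtain ⟨r, hr⟩ := ha
      exact ⟨c * r, by rw [map_mul, hr, Algebra.smul_def]; show φ c * _ = _ * (φ c * a); ring⟩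
  refine ⟨(s₁ * s₂ : mR.primeCompl), hne.1 (s₁ * s₂).2,
    Localization.awayMap_injective_iff.2 fun a ha => ⟨1, ?_⟩, Localization.awayMap_surjective_iff.2 fun a => ?_⟩
  · rw [pow_one, Submonoid.coe_mul, mul_comm (s₁ : R), mul_assoc, hs₁ a ha, mul_zero]
  · obtain ⟨r, hr⟩ := hs₂ a
    refine ⟨(s₁ : R) * r, 1, ?_⟩
    show φ ((s₁ : R) * r) = φ ((s₁ * s₂ : mR.primeCompl) : R) ^ 1 * a
    rw [pow_one, Submonoid.coe_mul, map_mul, map_mul, hr, mul_assoc]


/-- An element with unit image in the reduced factor is a unit. -/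
theorem isUnit_of_prR {A : Type u} [CommRing A] [Algebra k A] [IsLocalRing A] [IsArtinianRing A]
    {C : Type u} [CommRing C] [Algebra k C] (eA : A →ₐ[k] k) {z : A ⊗[k] C} (h : IsUnit (prR eA z)) :
    IsUnit z := by
  obtain ⟨N, hN⟩ := IsArtinianRing.isNilpotent_jacobson_bot (R := A)
  rw [IsLocalRing.jacobson_eq_maximalIdeal ⊥ bot_ne_top] at hN
  have h1 := Ideal.pow_mem_pow (sub_prR_mem eA z) N
  rw [← Ideal.map_pow, hN, Ideal.zero_eq_bot, Ideal.map_bot] at h1
  have hn : IsNilpotent (z - (Algebra.TensorProduct.includeRight : C →ₐ[k] A ⊗[k] C) (prR eA z)) := ⟨N, h1⟩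
  have hu := h.map (Algebra.TensorProduct.includeRight : C →ₐ[k] A ⊗[k] C)
  have := hn.isUnit_add_left_of_commute hu (Commute.all _ _)
  rwa [add_sub_cancel] at this

set_option maxHeartbeats 1600000 in
/-- Localisation of a retraction datum. -/
theorem localize_step (q : R →ₐ[k] Rb) (hq : Function.Surjective q) (eb : Rb →ₐ[k] k)
    [(RingHom.ker eb.toRingHom).IsPrime] [(RingHom.ker (eb.comp q).toRingHom).IsPrime]
    [IsNoetherianRing (Localization.AtPrime (RingHom.ker (eb.comp q).toRingHom))]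
    [IsNoetherianRing (Localization.AtPrime (RingHom.ker eb.toRingHom))]
    {A : Type u} [CommRing A] [Algebra k A] [IsLocalRing A] [IsArtinianRing A] [Module.Finite k A]
    (eA : A →ₐ[k] k) (π : R →ₐ[k] A)
    (πm : Localization.AtPrime (RingHom.ker (eb.comp q).toRingHom) →ₐ[k] A)
    (hπm : ∀ x, πm (algebraMap R _ x) = π x) (hπs : Function.Surjective πm)
    (qm : Localization.AtPrime (RingHom.ker (eb.comp q).toRingHom) →ₐ[k]
      Localization.AtPrime (RingHom.ker eb.toRingHom))
    (hqm : ∀ x, qm (algebraMap R _ x) = algebraMap Rb _ (q x)) (hqms : Function.Surjective qm)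
    (hcompat : eA.comp π = eb.comp q)
    (l : List (Localization.AtPrime (RingHom.ker (eb.comp q).toRingHom)))
    (hker : RingHom.ker πm = Ideal.ofList l)
    (hl' : Ideal.ofList (l.map qm) = maximalIdeal (Localization.AtPrime (RingHom.ker eb.toRingHom)))
    (hlr : IsWeaklyRegular (Localization.AtPrime (RingHom.ker eb.toRingHom)) (l.map qm))
    (φ : R →ₐ[k] A ⊗[k] Rb) (hφR : (prR eA).comp φ = q)
    (hφA : (Algebra.TensorProduct.productMap (AlgHom.id k A) ((Algebra.ofId k A).comp eb)).comp φ = π) :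
    ∃ s : R, eb (q s) ≠ 0 ∧ Function.Bijective (Localization.awayMap φ.toRingHom s) := by
  let mR := RingHom.ker (eb.comp q).toRingHom
  let mb := RingHom.ker eb.toRingHom
  let Rm := Localization.AtPrime mR
  let Rbm := Localization.AtPrime mb
  -- localise
  let ψ : A ⊗[k] Rb →ₐ[k] A ⊗[k] Rbm :=
    Algebra.TensorProduct.map (AlgHom.id k A) (IsScalarTower.toAlgHom k Rb Rbm)
  have hψR : ∀ z, prR eA (ψ z) = algebraMap Rb Rbm (prR eA z) := fun z => by
    induction z using TensorProduct.induction_on with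
    | zero => simp
    | add x y hx hy => simp [map_add, hx, hy]
    | tmul a x => simp [ψ, Algebra.ofId_apply, ← IsScalarTower.algebraMap_apply]
  have hunits : ∀ u : mR.primeCompl, IsUnit (ψ (φ u)) := fun u => by
    refine isUnit_of_prR eA ?_
    rw [hψR, show prR eA (φ u) = q u from AlgHom.congr_fun hφR u]
    exact IsLocalization.map_units Rbm (⟨q u, fun h => u.2 h⟩ : mb.primeCompl)
  let φm : Rm →ₐ[k] A ⊗[k] Rbm :=
    { IsLocalization.lift (M := mR.primeCompl) (S := Rm) (g := (ψ.comp φ).toRingHom) hunits with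
      commutes' := fun c => by
        show IsLocalization.lift (M := mR.primeCompl) (S := Rm) (g := (ψ.comp φ).toRingHom) hunits (algebraMap k Rm c) = _
        rw [IsScalarTower.algebraMap_apply k R Rm, IsLocalization.lift_eq]
        exact (ψ.comp φ).commutes c }
  have hφm : ∀ x, φm (algebraMap R Rm x) = ψ (φ x) := fun x => IsLocalization.lift_eq hunits x
  have hext : ∀ {C : Type u} [CommRing C] [Algebra k C] (f g : Rm →ₐ[k] C),
      (∀ x, f (algebraMap R Rm x) = g (algebraMap R Rm x)) → f = g := fun f g h =>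
    AlgHom.coe_ringHom_injective (IsLocalization.ringHom_ext mR.primeCompl (RingHom.ext h))
  let ebm : Rbm →ₐ[k] k := IsLocalization.liftAlgHom (M := mb.primeCompl) (S := Rbm) (f := eb)
    fun u => isUnit_iff_ne_zero.2 u.2
  have hebm : ∀ x, ebm (algebraMap Rb Rbm x) = eb x := fun x => by simp [ebm]
  have hψA : ∀ z, Algebra.TensorProduct.productMap (AlgHom.id k A) ((Algebra.ofId k A).comp ebm) (ψ z) =
      Algebra.TensorProduct.productMap (AlgHom.id k A) ((Algebra.ofId k A).comp eb) z := fun z => by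
    induction z using TensorProduct.induction_on with
    | zero => simp
    | add x y hx hy => simp only [map_add, hx, hy]
    | tmul a x => simp [ψ, hebm]
  have hb : Function.Bijective φm := by
    refine bijective_of_slice πm hπs qm hqms (eA.comp πm) eA ebm rfl ?_ l hker hl'
      hlr φm ?_ ?_
    · refine hext _ _ fun x => ?_
      simp only [AlgHom.comp_apply, hqm, hebm, hπm]
      rw [hqm, hπm, hebm]
      exact (AlgHom.congr_fun hcompat x).symm
    · refine hext _ _ fun x => ?_
      simp only [AlgHom.comp_apply, hφm, hqm]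
      rw [show prR eA (ψ (φ x)) = algebraMap Rb Rbm (prR eA (φ x)) from hψR _,
        show prR eA (φ x) = q x from AlgHom.congr_fun hφR x, hqm]
    · refine hext _ _ fun x => ?_
      simp only [AlgHom.comp_apply, hφm]
      rw [hψA]
      exact (AlgHom.congr_fun hφA x).trans (hπm x).symm
  exact spread q hq eb eA φ hφR φm hφm hb


set_option maxHeartbeats 1600000 in
/-- Data of the slice and the spreading of the local isomorphism. -/
theorem exists_slice (q : R →ₐ[k] Rb) (hq : Function.Surjective q) (hnil : ∀ x, q x = 0 → IsNilpotent x)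
    (eb : Rb →ₐ[k] k) [(RingHom.ker eb.toRingHom).IsPrime]
    (hregR : IsRegularLocalRing (Localization.AtPrime (RingHom.ker eb.toRingHom))) :
    ∃ (A : Type u) (_ : CommRing A) (_ : Algebra k A) (_ : IsLocalRing A) (π : R →ₐ[k] A) (eA : A →ₐ[k] k),
      Function.Surjective π ∧ eA.comp π = eb.comp q ∧ IsArtinianRing A ∧
      ∀ φ : R →ₐ[k] A ⊗[k] Rb, (prR eA).comp φ = q →
        (Algebra.TensorProduct.productMap (AlgHom.id k A) ((Algebra.ofId k A).comp eb)).comp φ = π →
        ∃ s : R, eb (q s) ≠ 0 ∧ Function.Bijective (Localization.awayMap φ.toRingHom s) := by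
  classical
  haveI : IsNoetherianRing R := Algebra.FiniteType.isNoetherianRing k R
  let eR : R →ₐ[k] k := eb.comp q
  have hsurjk : ∀ {C : Type u} [CommRing C] [Algebra k C] (e : C →ₐ[k] k), Function.Surjective e :=
    fun e a => ⟨algebraMap k _ a, e.commutes a⟩
  haveI hMR : (RingHom.ker eR.toRingHom).IsMaximal := RingHom.ker_isMaximal_of_surjective eR (hsurjk eR)
  haveI hMb : (RingHom.ker eb.toRingHom).IsMaximal := RingHom.ker_isMaximal_of_surjective eb (hsurjk eb)
  let mR := RingHom.ker eR.toRingHom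
  let mb := RingHom.ker eb.toRingHom
  let Rm := Localization.AtPrime mR
  let Rbm := Localization.AtPrime mb
  haveI : IsRegularLocalRing Rbm := hregR
  have hcm : mR = mb.comap q.toRingHom := rfl
  let qm : Rm →ₐ[k] Rbm :=
    { Localization.localRingHom mR mb q.toRingHom hcm with
      commutes' := fun c => by
        show Localization.localRingHom mR mb q.toRingHom hcm (algebraMap k Rm c) = _
        rw [IsScalarTower.algebraMap_apply k R Rm, Localization.localRingHom_to_map,
          IsScalarTower.algebraMap_apply k Rb Rbm]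
        exact congrArg _ (q.commutes c) }
  have hqm : ∀ x, qm (algebraMap R Rm x) = algebraMap Rb Rbm (q x) := fun x =>
    Localization.localRingHom_to_map mR mb q.toRingHom hcm x
  have hqms : Function.Surjective qm := by
    intro y
    obtain ⟨⟨x, s, hs⟩, rfl⟩ := IsLocalization.mk'_surjective mb.primeCompl y
    obtain ⟨x, rfl⟩ := hq x
    obtain ⟨s, rfl⟩ := hq s
    exact ⟨IsLocalization.mk' Rm x (⟨s, fun h => hs h⟩ : mR.primeCompl),
      Localization.localRingHom_mk' mR mb q.toRingHom hcm x ⟨s, fun h => hs h⟩⟩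
  have hqmnil : ∀ x, qm x = 0 → IsNilpotent x := by
    intro x hx
    obtain ⟨⟨x, s⟩, rfl⟩ := IsLocalization.mk'_surjective mR.primeCompl x
    have h1 : algebraMap Rb Rbm (q x) = 0 := by
      rw [← hqm, ← IsLocalization.mk'_spec Rm x s, map_mul, hx, zero_mul]
    obtain ⟨⟨v, hv⟩, hvx⟩ := (IsLocalization.map_eq_zero_iff mb.primeCompl Rbm _).1 h1
    obtain ⟨v, rfl⟩ := hq v
    obtain ⟨n, hn⟩ := hnil (v * x) (by rw [map_mul]; exact hvx)
    refine ⟨n, ?_⟩
    rw [← IsLocalization.mk'_pow]
    refine (IsLocalization.mk'_eq_zero_iff _ _).2 ⟨⟨v ^ n, ?_⟩, by rw [← mul_pow]; exact hn⟩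
    exact fun h => hv ((inferInstance : mR.IsPrime).mem_of_pow_mem n h)
  -- the sequence
  obtain ⟨l', hl', hlr⟩ := exists_regular_list _ Rbm le_rfl
  obtain ⟨l, rfl⟩ : ∃ l : List Rm, l.map qm = l' := by
    clear hl' hlr
    induction l' with
    | nil => exact ⟨[], rfl⟩
    | cons a l ihl =>
      obtain ⟨a, rfl⟩ := hqms a
      obtain ⟨l', rfl⟩ := ihl
      exact ⟨a :: l', rfl⟩
  have hlm : ∀ x ∈ l, x ∈ maximalIdeal Rm := fun x hx => by
    have h1 : qm x ∈ maximalIdeal Rbm := hl'.le (Ideal.subset_span (List.mem_map.2 ⟨x, hx, rfl⟩))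
    exact fun hu => h1 (hu.map qm)
  let I : Ideal Rm := Ideal.ofList l
  let A := Rm ⧸ I
  have hIm : I ≤ maximalIdeal Rm := Ideal.span_le.2 hlm
  haveI : Nontrivial A := Ideal.Quotient.nontrivial_iff.2 fun h =>
    (maximalIdeal.isMaximal Rm).ne_top (top_le_iff.1 (h ▸ hIm))
  haveI : IsLocalRing A := IsLocalRing.of_surjective' (Ideal.Quotient.mk I) Ideal.Quotient.mk_surjective
  let πm : Rm →ₐ[k] A := Ideal.Quotient.mkₐ k I
  let π : R →ₐ[k] A := πm.comp (IsScalarTower.toAlgHom k R Rm)
  -- every element of the maximal ideal of `A` is nilpotent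
  have hAnil : ∀ a : A, a ∈ maximalIdeal A → IsNilpotent a := by
    intro a ha
    obtain ⟨y, rfl⟩ := Ideal.Quotient.mk_surjective a
    have hy : y ∈ maximalIdeal Rm := fun hu => ha (hu.map _)
    have h1 : qm y ∈ Ideal.map qm I := by
      rw [show Ideal.map qm I = Ideal.ofList (l.map qm) from Ideal.map_ofList (qm : Rm →+* Rbm) l, hl']
      intro hu
      obtain ⟨w, hw⟩ := hqms (hu.unit⁻¹ : Rbmˣ)
      have h2 : qm (y * w - 1) = 0 := by simp [hw]
      obtain ⟨n, hn⟩ := hqmnil _ h2
      refine hy (isUnit_of_mul_isUnit_left (y := w) ?_)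
      simpa using (hqmnil _ h2).isUnit_add_one
    obtain ⟨i, hi, hiy⟩ := (Ideal.mem_map_iff_of_surjective (qm : Rm →+* Rbm) hqms).1 h1
    obtain ⟨n, hn⟩ := hqmnil (y - i) (by rw [map_sub]; exact sub_eq_zero.2 hiy.symm)
    refine ⟨n, ?_⟩
    rw [show Ideal.Quotient.mk I y = Ideal.Quotient.mk I (y - i) by
      rw [map_sub, Ideal.Quotient.eq_zero_iff_mem.2 hi, sub_zero], ← map_pow, hn, map_zero]
  have hAres : ∀ a : A, ∃ c : k, a - algebraMap k A c ∈ maximalIdeal A := by
    intro a
    obtain ⟨y, rfl⟩ := Ideal.Quotient.mk_surjective a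
    obtain ⟨⟨x, s⟩, rfl⟩ := IsLocalization.mk'_surjective mR.primeCompl y
    refine ⟨eR x / eR s, ?_⟩
    have hs0 : eR s ≠ 0 := fun h => s.2 h
    have hmem : IsLocalization.mk' Rm x s - algebraMap k Rm (eR x / eR s) ∈ maximalIdeal Rm := by
      rw [IsScalarTower.algebraMap_apply k R Rm]
      have h1 : algebraMap R Rm (x - algebraMap k R (eR x / eR s) * s) ∈ maximalIdeal Rm := by
        refine (IsLocalization.AtPrime.to_map_mem_maximal_iff Rm mR _).2 ?_
        show eR _ = 0
        rw [map_sub, map_mul, AlgHom.commutes]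
        simp [div_mul_cancel₀ _ hs0]
      have h2 : algebraMap R Rm (x - algebraMap k R (eR x / eR s) * s) =
          (IsLocalization.mk' Rm x s - algebraMap R Rm (algebraMap k R (eR x / eR s))) * algebraMap R Rm s := by
        rw [sub_mul, IsLocalization.mk'_spec, map_sub, map_mul]
      rw [h2] at h1
      exact ((inferInstance : (maximalIdeal Rm).IsPrime).mem_or_mem h1).resolve_right fun h =>
        s.2 ((IsLocalization.AtPrime.to_map_mem_maximal_iff Rm mR _).1 h)
    intro hu
    rw [← Ideal.Quotient.mk_algebraMap, ← map_sub] at hu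
    haveI : IsLocalHom (Ideal.Quotient.mk I) := IsLocalHom.of_surjective _ Ideal.Quotient.mk_surjective
    exact hmem (hu.of_map)
  have hπ : Function.Surjective π := by
    intro a
    obtain ⟨y, rfl⟩ := Ideal.Quotient.mk_surjective a
    obtain ⟨⟨x, s⟩, rfl⟩ := IsLocalization.mk'_surjective mR.primeCompl y
    -- the inverse of the image of `s` is a polynomial in it
    obtain ⟨c, hc⟩ := hAres (π s)
    have hc0 : c ≠ 0 := by
      intro h
      rw [h, map_zero, sub_zero] at hc
      exact hc ((IsLocalization.map_units Rm s).map (Ideal.Quotient.mk I))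
    obtain ⟨n, hn⟩ := hAnil _ hc
    let z : R := algebraMap k R c⁻¹ * (algebraMap k R c - s)
    have hz : π z ^ n = 0 := by
      have : π z = (-algebraMap k A c⁻¹) * (π s - algebraMap k A c) := by
        simp only [z, map_mul, map_sub, AlgHom.commutes]; ring
      rw [this, mul_pow, hn, mul_zero]
    refine ⟨x * algebraMap k R c⁻¹ * ∑ i ∈ Finset.range n, z ^ i, ?_⟩
    have hsu : π s * (algebraMap k A c⁻¹ * ∑ i ∈ Finset.range n, π z ^ i) = 1 := by
      have h1 : π s * algebraMap k A c⁻¹ = 1 - π z := by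
        have h0 : algebraMap k A c⁻¹ * algebraMap k A c = 1 := by rw [← map_mul, inv_mul_cancel₀ hc0, map_one]
        simp only [z, map_mul, map_sub, AlgHom.commutes]
        linear_combination h0
      rw [← mul_assoc, h1, mul_neg_geom_sum, hz, sub_zero]
    have h2 : Ideal.Quotient.mk I (IsLocalization.mk' Rm x s) * π s = π x := by
      show Ideal.Quotient.mk I _ * Ideal.Quotient.mk I (algebraMap R Rm s) = Ideal.Quotient.mk I (algebraMap R Rm x)
      rw [← map_mul, IsLocalization.mk'_spec]
    rw [map_mul, map_mul, map_sum, AlgHom.commutes]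
    simp only [map_pow]
    rw [← h2, mul_assoc, mul_assoc, hsu, mul_one]
  haveI : IsArtinianRing A := by
    refine (isArtinianRing_iff_isNilpotent_maximalIdeal A).2 ?_
    obtain ⟨n, hn⟩ := Ideal.exists_radical_pow_le_of_fg (⊥ : Ideal A) (IsNoetherian.noetherian _)
    exact ⟨n, le_bot_iff.1 (le_trans (Ideal.pow_right_mono (fun a ha => Ideal.mem_radical_iff.2
      (by obtain ⟨m, hm⟩ := hAnil a ha; exact ⟨m, by simp [hm]⟩)) n) hn)⟩
  haveI : Algebra.FiniteType k A := Algebra.FiniteType.of_surjective π hπ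
  haveI : Module.Finite k A := Module.finite_of_isArtinianRing k A
  have hkerA : ∀ x, eR x = 0 → π x ∈ maximalIdeal A := by
    intro x hx hu
    haveI : IsLocalHom (Ideal.Quotient.mk I) := IsLocalHom.of_surjective _ Ideal.Quotient.mk_surjective
    exact ((IsLocalization.AtPrime.to_map_mem_maximal_iff Rm mR _).2 hx) (IsUnit.of_map (Ideal.Quotient.mk I) _ hu)
  have hbij : Function.Bijective (algebraMap k (ResidueField A)) := by
    refine ⟨RingHom.injective _, fun y => ?_⟩
    obtain ⟨a, rfl⟩ := Ideal.Quotient.mk_surjective y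
    obtain ⟨c, hc⟩ := hAres a
    exact ⟨c, ((Ideal.Quotient.mk_eq_mk_iff_sub_mem _ _).2 hc).symm⟩
  let eA : A →ₐ[k] k :=
    ((AlgEquiv.ofBijective (Algebra.ofId k (ResidueField A)) hbij).symm : ResidueField A →ₐ[k] k).comp
      (Ideal.Quotient.mkₐ k (maximalIdeal A))
  have hcompat : eA.comp π = eb.comp q := by
    refine AlgHom.ext fun x => ?_
    have h1 := hkerA (x - algebraMap k R (eR x)) (by rw [map_sub, AlgHom.commutes]; simp)
    have h2 : eA (π (x - algebraMap k R (eR x))) = 0 := by
      rw [← RingHom.mem_ker, ker_eq_maximalIdeal eA]; exact h1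
    rw [map_sub, map_sub, AlgHom.commutes, AlgHom.commutes, sub_eq_zero] at h2
    exact h2
  refine ⟨A, inferInstance, inferInstance, inferInstance, π, eA, hπ, hcompat, inferInstance, fun φ hφR hφA => ?_⟩
  exact localize_step q hq eb eA π πm (fun x => rfl) Ideal.Quotient.mk_surjective qm hqm hqms hcompat l
    Ideal.mk_ker hl' hlr φ hφR hφA

end Groth.Agent.CohDer1.Slice
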