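import Groth.Agent.CAlgH3.RegularLocal
import Groth.Agent.CAlgH3.ArtinRegular
import Mathlib.RingTheory.TensorProduct.Free

/-!
# A local ring is the product of its reduction and an Artinian slice, given a group-like retraction
-/

set_option autoImplicit false

universe u

open IsLocalRing TensorProduct RingTheory.Sequence
open scoped Pointwise

namespace Groth.Agent.CohDer1.Slice

/-- A regular local ring has a regular sequence generating its maximal ideal. -/
theorem exists_regular_list (n : ℕ) : ∀ (R : Type u) [CommRing R] [IsRegularLocalRing R],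
    (maximalIdeal R).spanFinrank ≤ n → ∃ l : List R, Ideal.ofList l = maximalIdeal R ∧ IsWeaklyRegular R l := by
  induction n with
  | zero =>
    intro R _ _ h
    refine ⟨[], ?_, IsWeaklyRegular.nil R R⟩
    rw [Ideal.ofList_nil]
    exact ((Submodule.spanFinrank_eq_zero_iff_eq_bot (IsNoetherian.noetherian _)).1 (Nat.le_zero.1 h)).symm
  | succ n ih =>
    intro R _ _ h
    by_cases h0 : maximalIdeal R = ⊥
    · exact ⟨[], by rw [Ideal.ofList_nil, h0], IsWeaklyRegular.nil R R⟩
    obtain ⟨x, hx, hx2⟩ : ∃ x ∈ maximalIdeal R, x ∉ maximalIdeal R ^ 2 := by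
      by_contra! hall
      refine h0 (Submodule.eq_bot_of_le_smul_of_le_jacobson_bot (maximalIdeal R) _ (IsNoetherian.noetherian _) ?_
        (maximalIdeal_le_jacobson _))
      intro y hy
      have := hall y hy
      rw [pow_two] at this
      exact this
    obtain ⟨hreg, heq⟩ := CAlgH3.regular_quotient_of_notMem_sq hx hx2
    haveI := CAlgH3.isDomain_of_isRegularLocalRing R
    have hle : (maximalIdeal (R ⧸ Ideal.span {x})).spanFinrank ≤ n := by
      rw [← IsRegularLocalRing.spanFinrank_maximalIdeal] at heq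
      have : (maximalIdeal R).spanFinrank = (maximalIdeal (R ⧸ Ideal.span {x})).spanFinrank + 1 := by
        exact_mod_cast heq
      omega
    obtain ⟨l, hl, hlr⟩ := ih (R ⧸ Ideal.span {x}) hle
    obtain ⟨l', rfl⟩ : ∃ l' : List R, l'.map (Ideal.Quotient.mk (Ideal.span {x})) = l := by
      clear hl hlr
      induction l with
      | nil => exact ⟨[], rfl⟩
      | cons a l ihl =>
        obtain ⟨a, rfl⟩ := Ideal.Quotient.mk_surjective a
        obtain ⟨l', rfl⟩ := ihl
        exact ⟨a :: l', rfl⟩
    refine ⟨x :: l', ?_, ?_⟩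
    · have hl2 := congrArg (Ideal.comap (Ideal.Quotient.mk (Ideal.span {x}))) hl
      rw [← Ideal.map_ofList, Ideal.comap_map_of_surjective _ Ideal.Quotient.mk_surjective, ← RingHom.ker_eq_comap_bot,
        Ideal.mk_ker] at hl2
      rw [Ideal.ofList_cons, sup_comm, hl2]
      haveI : IsLocalHom (Ideal.Quotient.mk (Ideal.span {x})) :=
        IsLocalHom.of_surjective _ Ideal.Quotient.mk_surjective
      exact IsLocalRing.maximalIdeal_comap _
    · refine (isWeaklyRegular_cons_iff' R x l').2 ⟨?_, ?_⟩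
      · intro a b hab
        have hx0 : x ≠ 0 := fun e => hx2 (by rw [e]; exact Submodule.zero_mem _)
        exact mul_left_cancel₀ hx0 hab
      · have e : (x • (⊤ : Submodule R R)) = (Ideal.span {x} : Ideal R) := by
          ext y
          rw [Submodule.mem_smul_pointwise_iff_exists, Ideal.mem_span_singleton]
          exact ⟨fun ⟨c, _, hc⟩ => ⟨c, hc.symm⟩, fun ⟨c, hc⟩ => ⟨c, trivial, hc.symm⟩⟩
        let e' : QuotSMulTop x R ≃ₗ[R ⧸ Ideal.span {x}] (R ⧸ Ideal.span {x}) :=
          { (Submodule.quotEquivOfEq _ _ e) with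
            map_smul' := fun r z => by
              obtain ⟨r, rfl⟩ := Ideal.Quotient.mk_surjective r
              exact (Submodule.quotEquivOfEq _ _ e).map_smul r z }
        exact (e'.isWeaklyRegular_congr _).2 hlr

variable {k : Type u} [Field k] {R : Type u} [CommRing R] [Algebra k R] [IsLocalRing R] [IsNoetherianRing R]
  {A : Type u} [CommRing A] [Algebra k A] [IsLocalRing A] [IsArtinianRing A] [Module.Finite k A]
  {Rb : Type u} [CommRing Rb] [Algebra k Rb] [IsLocalRing Rb] [IsNoetherianRing Rb]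

/-- The projection to the reduced factor. -/
noncomputable abbrev prR (eA : A →ₐ[k] k) : A ⊗[k] Rb →ₐ[k] Rb :=
  Algebra.TensorProduct.productMap ((Algebra.ofId k Rb).comp eA) (AlgHom.id k Rb)

omit [IsLocalRing Rb] [IsNoetherianRing Rb] [IsArtinianRing A] [Module.Finite k A] in
theorem ker_eq_maximalIdeal (eA : A →ₐ[k] k) : RingHom.ker eA = maximalIdeal A :=
  IsLocalRing.eq_maximalIdeal (RingHom.ker_isMaximal_of_surjective eA fun a => ⟨algebraMap k A a, eA.commutes a⟩)

omit [IsLocalRing Rb] [IsNoetherianRing Rb] [IsArtinianRing A] [Module.Finite k A] in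
theorem sub_prR_mem (eA : A →ₐ[k] k) (z : A ⊗[k] Rb) :
    z - (Algebra.TensorProduct.includeRight : Rb →ₐ[k] A ⊗[k] Rb) (prR eA z) ∈
      (maximalIdeal A).map (Algebra.TensorProduct.includeLeft : A →ₐ[k] A ⊗[k] Rb) := by
  induction z using TensorProduct.induction_on with
  | zero => simp
  | add x y hx hy =>
    convert add_mem hx hy using 1
    simp only [map_add]
    ring
  | tmul a x =>
    have e : a ⊗ₜ[k] x - (Algebra.TensorProduct.includeRight : Rb →ₐ[k] A ⊗[k] Rb) (prR eA (a ⊗ₜ[k] x)) =
        (1 ⊗ₜ x) * (Algebra.TensorProduct.includeLeft : A →ₐ[k] A ⊗[k] Rb) (a - algebraMap k A (eA a)) := by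
      simp only [prR, Algebra.TensorProduct.productMap_apply_tmul, AlgHom.comp_apply, Algebra.ofId_apply,
        AlgHom.id_apply, map_mul, AlgHom.commutes, map_sub, mul_sub, Algebra.TensorProduct.includeLeft_apply,
        Algebra.TensorProduct.includeRight_apply, Algebra.TensorProduct.tmul_mul_tmul, one_mul, mul_one]
      rw [mul_comm ((1 : A) ⊗ₜ[k] x) (algebraMap k (A ⊗[k] Rb) (eA a))]
    rw [e]
    refine Ideal.mul_mem_left _ _ (Ideal.mem_map_of_mem _ ?_)
    rw [← ker_eq_maximalIdeal eA]; simp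

omit [IsLocalRing R] [IsNoetherianRing R] [IsLocalRing Rb] [IsNoetherianRing Rb] in
theorem finite_toAlgebra (q : R →ₐ[k] Rb) (hq : Function.Surjective q) (eA : A →ₐ[k] k)
    (φ : R →ₐ[k] A ⊗[k] Rb) (hφR : (prR eA).comp φ = q) :
    letI := φ.toRingHom.toAlgebra
    Module.Finite R (A ⊗[k] Rb) := by
  let PR := prR (Rb := Rb) eA
  let iA : A →ₐ[k] A ⊗[k] Rb := Algebra.TensorProduct.includeLeft
  let iR : Rb →ₐ[k] A ⊗[k] Rb := Algebra.TensorProduct.includeRight
  let J : Ideal (A ⊗[k] Rb) := (maximalIdeal A).map iA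
  have hker' : ∀ z, z - iR (PR z) ∈ J := sub_prR_mem eA
  have hPR : ∀ r, PR (φ r) = q r := fun r => AlgHom.congr_fun hφR r
  obtain ⟨N, hN⟩ := IsArtinianRing.isNilpotent_jacobson_bot (R := A)
  rw [IsLocalRing.jacobson_eq_maximalIdeal ⊥ bot_ne_top] at hN
  have hJN : J ^ N = ⊥ := by rw [← Ideal.map_pow, hN, Ideal.zero_eq_bot, Ideal.map_bot]
  letI := φ.toRingHom.toAlgebra
  let b := Module.finBasis k A
  let S : Submodule R (A ⊗[k] Rb) := Submodule.span R (Set.range fun i => iA (b i))
  have hA' : ∀ a, ∀ z ∈ S, z * iA a ∈ S := by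
    intro a z hz
    induction hz using Submodule.span_induction with
    | mem z hz =>
      obtain ⟨i, rfl⟩ := hz
      rw [← map_mul, ← b.sum_repr (b i * a), map_sum]
      refine sum_mem fun j _ => ?_
      rw [map_smul, Algebra.smul_def, ← φ.commutes]
      exact S.smul_mem (algebraMap k R (b.repr (b i * a) j)) (Submodule.subset_span ⟨j, rfl⟩)
    | zero => simp
    | add x y _ _ hx hy => rw [add_mul]; exact add_mem hx hy
    | smul r x _ hx => rw [smul_mul_assoc]; exact S.smul_mem r hx
  have h1S : ∀ r : R, φ r ∈ S := fun r => by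
    have h1 : (1 : A ⊗[k] Rb) ∈ S := by
      rw [← map_one iA, ← b.sum_repr (1 : A), map_sum]
      refine sum_mem fun j _ => ?_
      rw [map_smul, Algebra.smul_def, ← φ.commutes]
      exact S.smul_mem (algebraMap k R (b.repr 1 j)) (Submodule.subset_span ⟨j, rfl⟩)
    have := S.smul_mem r h1
    rwa [Algebra.smul_def, mul_one] at this
  have key : ∀ n : ℕ, ∀ z, ∃ s ∈ S, z - s ∈ J ^ n := by
    intro n
    induction n with
    | zero => exact fun z => ⟨0, S.zero_mem, by simp⟩
    | succ n ih =>
      intro z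
      obtain ⟨r, hr⟩ := hq (PR z)
      have hz : z - φ r ∈ J := by
        have h1 := hker' z
        have h2 := hker' (φ r)
        rw [hPR, hr] at h2
        convert sub_mem h1 h2 using 1
        ring
      suffices ∀ w ∈ J, ∃ s ∈ S, w - s ∈ J ^ (n + 1) by
        obtain ⟨s, hs, hzs⟩ := this _ hz
        exact ⟨φ r + s, S.add_mem (h1S r) hs, by rwa [← sub_sub]⟩
      intro w hw
      induction hw using Submodule.span_induction with
      | mem x hx =>
        obtain ⟨a, ha, rfl⟩ := hx
        exact ⟨iA a, by simpa using hA' a 1 (by simpa using h1S 1), by simp⟩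
      | zero => exact ⟨0, S.zero_mem, by simp⟩
      | add x y _ _ hx hy =>
        obtain ⟨s, hs, hxs⟩ := hx
        obtain ⟨t, ht, hyt⟩ := hy
        exact ⟨s + t, S.add_mem hs ht, by convert add_mem hxs hyt using 1; ring⟩
      | smul c x hxJ hx =>
        -- `c = s' + J^n`
        obtain ⟨s', hs', hcs⟩ := ih c
        have hmem : c • x - s' * x ∈ J ^ (n + 1) := by
          rw [smul_eq_mul, ← sub_mul, pow_succ]
          exact Ideal.mul_mem_mul hcs hxJ
        -- multiplication by elements of `J` coming from `A`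
        suffices ∀ x ∈ J, ∀ s' ∈ S, ∃ s ∈ S, s' * x - s ∈ J ^ (n + 1) by
          obtain ⟨s, hs, hh⟩ := this x hxJ s' hs'
          exact ⟨s, hs, by convert add_mem hmem hh using 1; ring⟩
        intro x hx s' hs'
        induction hx using Submodule.span_induction generalizing s' with
        | mem x hx =>
          obtain ⟨a, ha, rfl⟩ := hx
          exact ⟨_, hA' a s' hs', by simp⟩
        | zero => exact ⟨0, S.zero_mem, by simp⟩
        | add x y _ _ hx hy =>
          obtain ⟨s, hs, hxs⟩ := hx s' hs'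
          obtain ⟨t, ht, hyt⟩ := hy s' hs'
          exact ⟨s + t, S.add_mem hs ht, by convert add_mem hxs hyt using 1; ring⟩
        | smul d x hxJ hx =>
          obtain ⟨s'', hs'', hds⟩ := ih (s' * d)
          obtain ⟨t, ht, htt⟩ := hx s'' hs''
          refine ⟨t, ht, ?_⟩
          have : s' * (d • x) - s'' * x ∈ J ^ (n + 1) := by
            rw [smul_eq_mul, ← mul_assoc, ← sub_mul, pow_succ]
            exact Ideal.mul_mem_mul hds hxJ
          convert add_mem this htt using 1
          ring
  classical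
  refine ⟨⟨(Finset.univ.image fun i => iA (b i)), ?_⟩⟩
  rw [Finset.coe_image, Finset.coe_univ, Set.image_univ, eq_top_iff]
  intro z _
  obtain ⟨s, hs, hzs⟩ := key N z
  rw [hJN, Ideal.mem_bot, sub_eq_zero] at hzs
  exact hzs ▸ hs

omit [IsNoetherianRing Rb] in
theorem weaklyRegular_of_prR (eA : A →ₐ[k] k) (L : List (A ⊗[k] Rb))
    (hreg : IsWeaklyRegular Rb (L.map (prR eA))) : IsWeaklyRegular (A ⊗[k] Rb) L := by
  let PR := prR (Rb := Rb) eA
  let iA : A →ₐ[k] A ⊗[k] Rb := Algebra.TensorProduct.includeLeft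
  let iR : Rb →ₐ[k] A ⊗[k] Rb := Algebra.TensorProduct.includeRight
  let J : Ideal (A ⊗[k] Rb) := (maximalIdeal A).map iA
  have hker' : ∀ z, z - iR (PR z) ∈ J := sub_prR_mem eA
  rw [CAlgH3.weaklyRegular_iff_mod (A := A) (maximalIdeal.isMaximal A).ne_top _ (A ⊗[k] Rb)]
  have hJ' : ((maximalIdeal A).map (algebraMap A (A ⊗[k] Rb)) • ⊤ : Submodule (A ⊗[k] Rb) (A ⊗[k] Rb)) =
      RingHom.ker PR := by
    rw [smul_eq_mul, Ideal.mul_top]
    refine le_antisymm ?_ fun z hz => ?_
    · rw [Ideal.map_le_iff_le_comap]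
      intro a ha
      show PR (iA a) = 0
      simp [PR, iA, show eA a = 0 from (ker_eq_maximalIdeal eA).ge ha]
    · have h1 := hker' z
      rw [show PR z = 0 from hz, map_zero, sub_zero] at h1
      exact h1
  let e : ((A ⊗[k] Rb) ⧸ ((maximalIdeal A).map (algebraMap A (A ⊗[k] Rb)) • ⊤ :
      Submodule (A ⊗[k] Rb) (A ⊗[k] Rb))) ≃+ Rb :=
    (Submodule.quotEquivOfEq _ _ hJ').toAddEquiv.trans
      (RingHom.quotientKerEquivOfSurjective (f := PR.toRingHom)
        fun x => ⟨iR x, by simp [PR, iR]⟩).toAddEquiv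
  refine (AddEquiv.isWeaklyRegular_congr (e := e) ?_).2 hreg
  rw [List.forall₂_map_right_iff, List.forall₂_same]
  intro x _ z
  obtain ⟨z, rfl⟩ := Submodule.Quotient.mk_surjective _ z
  exact map_mul PR x z

set_option maxHeartbeats 800000 in
/-- The local form of the slice theorem. -/
theorem bijective_of_slice (π : R →ₐ[k] A) (hπ : Function.Surjective π) (q : R →ₐ[k] Rb)
    (hq : Function.Surjective q) (eR : R →ₐ[k] k) (eA : A →ₐ[k] k) (eb : Rb →ₐ[k] k)
    (hA : eA.comp π = eR) (hb : eb.comp q = eR) (l : List R) (hker : RingHom.ker π = Ideal.ofList l)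
    (hgen : Ideal.ofList (l.map q) = maximalIdeal Rb) (hreg : IsWeaklyRegular Rb (l.map q))
    (φ : R →ₐ[k] A ⊗[k] Rb)
    (hφR : (Algebra.TensorProduct.productMap ((Algebra.ofId k Rb).comp eA) (AlgHom.id k Rb)).comp φ = q)
    (hφA : (Algebra.TensorProduct.productMap (AlgHom.id k A) ((Algebra.ofId k A).comp eb)).comp φ = π) :
    Function.Bijective φ := by
  let PR : A ⊗[k] Rb →ₐ[k] Rb := Algebra.TensorProduct.productMap ((Algebra.ofId k Rb).comp eA) (AlgHom.id k Rb)
  let PA : A ⊗[k] Rb →ₐ[k] A := Algebra.TensorProduct.productMap (AlgHom.id k A) ((Algebra.ofId k A).comp eb)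
  let iA : A →ₐ[k] A ⊗[k] Rb := Algebra.TensorProduct.includeLeft
  let iR : Rb →ₐ[k] A ⊗[k] Rb := Algebra.TensorProduct.includeRight
  have hmax : ∀ {C : Type u} [CommRing C] [Algebra k C] [IsLocalRing C] (e : C →ₐ[k] k),
      RingHom.ker e = maximalIdeal C := fun {C} _ _ _ e =>
    IsLocalRing.eq_maximalIdeal (RingHom.ker_isMaximal_of_surjective e fun a => ⟨algebraMap k C a, e.commutes a⟩)
  have hPR : ∀ r, PR (φ r) = q r := fun r => AlgHom.congr_fun hφR r
  have hPA : ∀ r, PA (φ r) = π r := fun r => AlgHom.congr_fun hφA r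
  have hPRi : ∀ x, PR (iR x) = x := fun x => by simp [PR, iR]
  have hPAi : ∀ a, PA (iA a) = a := fun a => by simp [PA, iA]
  have hPRA : ∀ a, PR (iA a) = algebraMap k Rb (eA a) := fun a => by simp [PR, iA, Algebra.ofId_apply]
  have hebPR : ∀ z, eb (PR z) = eA (PA z) := fun z => by
    induction z using TensorProduct.induction_on with
    | zero => simp
    | add x y hx hy => simp [map_add, hx, hy]
    | tmul a x => simp [PR, PA, Algebra.ofId_apply]
  -- the two ideals
  let J : Ideal (A ⊗[k] Rb) := (maximalIdeal A).map iA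
  let K : Ideal (A ⊗[k] Rb) := (maximalIdeal Rb).map iR
  have hdec : ∀ z, z - iA (PA z) - iR (PR z) + algebraMap k _ (eb (PR z)) ∈ J * K := fun z => by
    induction z using TensorProduct.induction_on with
    | zero => simp
    | add x y hx hy =>
      convert add_mem hx hy using 1
      simp only [map_add]
      ring
    | tmul a x =>
      have e1 : a ⊗ₜ[k] x = iA a * iR x := by simp [iA, iR]
      rw [e1]
      simp only [map_mul, hPAi, hPRi, hPRA, show PA (iR x) = algebraMap k A (eb x) by simp [PA, iR, Algebra.ofId_apply],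
        AlgHom.commutes, Algebra.algebraMap_self, RingHom.id_apply]
      have e2 : iA a * iR x - iA a * algebraMap k _ (eb x) - algebraMap k _ (eA a) * iR x +
          algebraMap k _ (eA a) * algebraMap k _ (eb x) =
          iA (a - algebraMap k A (eA a)) * iR (x - algebraMap k Rb (eb x)) := by
        simp only [map_sub, AlgHom.commutes]; ring
      rw [e2]
      refine Ideal.mul_mem_mul (Ideal.mem_map_of_mem _ ?_) (Ideal.mem_map_of_mem _ ?_)
      · rw [← hmax eA]; simp
      · rw [← hmax eb]; simp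
  -- `J` is nilpotent
  obtain ⟨N, hN⟩ := IsArtinianRing.isNilpotent_jacobson_bot (R := A)
  rw [IsLocalRing.jacobson_eq_maximalIdeal ⊥ bot_ne_top] at hN
  have hJN : J ^ N = ⊥ := by rw [← Ideal.map_pow, hN, Ideal.zero_eq_bot, Ideal.map_bot]
  have hker' : ∀ z, z - iR (PR z) ∈ J := fun z => by
    have h1 : J * K ≤ J := Ideal.mul_le_left
    have h2 : iA (PA z) - algebraMap k _ (eb (PR z)) ∈ J := by
      rw [hebPR, ← iA.commutes, ← map_sub]
      exact Ideal.mem_map_of_mem _ (by rw [← hmax eA]; simp)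
    convert add_mem (h1 (hdec z)) h2 using 1
    ring
  -- `A ⊗ Rb` is finite over `R`
  letI := φ.toRingHom.toAlgebra
  haveI hfin : Module.Finite R (A ⊗[k] Rb) := finite_toAlgebra q hq eA φ hφR
  haveI : IsNoetherianRing (A ⊗[k] Rb) :=
    isNoetherianRing_iff.2 (isNoetherian_of_tower R (isNoetherian_of_isNoetherianRing_of_finite R (A ⊗[k] Rb)))
  -- the maximal ideal is generated by `m`
  let M : Ideal (A ⊗[k] Rb) := J ⊔ K
  let mB : Ideal (A ⊗[k] Rb) := (maximalIdeal R).map (algebraMap R (A ⊗[k] Rb))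
  have hJK : J * K ≤ M * M := Ideal.mul_mono le_sup_left le_sup_right
  have hgenR : ∀ x ∈ maximalIdeal R, iA (π x) + iR (q x) ∈ mB ⊔ M * M := fun x hx => by
    have h1 := hdec (φ x)
    rw [hPA, hPR] at h1
    have h0 : eb (q x) = 0 := by
      rw [show eb (q x) = eR x from AlgHom.congr_fun hb x]
      exact (hmax eR).ge hx
    rw [h0, map_zero, add_zero] at h1
    have h2 : φ x ∈ mB := Ideal.mem_map_of_mem _ hx
    convert sub_mem (Ideal.mem_sup_left h2) (Ideal.mem_sup_right (hJK h1) : _ ∈ mB ⊔ M * M) using 1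
    ring
  have hlmem : ∀ x ∈ l, x ∈ maximalIdeal R := fun x hx => by
    rw [← hmax eR, RingHom.mem_ker, ← AlgHom.congr_fun hA x, AlgHom.comp_apply,
      show π x = 0 from RingHom.mem_ker.1 (hker.ge (Ideal.subset_span hx)), map_zero]
  have hK : K ≤ mB ⊔ M * M := by
    rw [Ideal.map_le_iff_le_comap, ← hgen, Ideal.span_le]
    intro y hy
    obtain ⟨x, hx, rfl⟩ := List.mem_map.1 hy
    have h1 := hgenR x (hlmem x hx)
    rwa [show π x = 0 from RingHom.mem_ker.1 (hker.ge (Ideal.subset_span hx)), map_zero, zero_add] at h1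
  have hJ : J ≤ mB ⊔ M * M := by
    rw [Ideal.map_le_iff_le_comap]
    intro a ha
    obtain ⟨x, rfl⟩ := hπ a
    have hx : x ∈ maximalIdeal R := by
      rw [← hmax eR, RingHom.mem_ker, ← AlgHom.congr_fun hA x]
      exact (hmax eA).ge ha
    have hqx : q x ∈ maximalIdeal Rb := by
      rw [← hmax eb, RingHom.mem_ker, show eb (q x) = eR x from AlgHom.congr_fun hb x]
      exact (hmax eR).ge hx
    show iA (π x) ∈ mB ⊔ M * M
    have h2 : iR (q x) ∈ mB ⊔ M * M := hK (Ideal.mem_map_of_mem _ hqx)
    convert sub_mem (hgenR x hx) h2 using 1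
    ring
  have hunit : ∀ z, PR z ∉ maximalIdeal Rb → IsUnit z := fun z hz => by
    have hu : IsUnit (iR (PR z)) := (by simpa using hz : IsUnit (PR z)).map iR
    have hn : IsNilpotent (z - iR (PR z)) := ⟨N, by
      rw [← Ideal.mem_bot, ← hJN]
      exact Ideal.pow_mem_pow (hker' z) N⟩
    simpa using hn.isUnit_add_left_of_commute hu (Commute.all _ _)
  have hMjac : M ≤ (⊥ : Ideal (A ⊗[k] Rb)).jacobson := by
    intro z hz
    rw [Ideal.mem_jacobson_bot]
    intro w
    refine hunit _ fun h => ?_
    have hM : ∀ z ∈ M, PR z ∈ maximalIdeal Rb := by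
      intro z hz
      obtain ⟨u, hu, v, hv, rfl⟩ := Submodule.mem_sup.1 hz
      rw [map_add]
      refine add_mem ?_ ?_
      · have : J ≤ (maximalIdeal Rb).comap PR := by
          rw [Ideal.map_le_iff_le_comap]
          intro a ha
          show PR (iA a) ∈ maximalIdeal Rb
          rw [hPRA, show eA a = 0 from (hmax eA).ge ha, map_zero]
          exact zero_mem _
        exact this hu
      · have : K ≤ (maximalIdeal Rb).comap PR := by
          rw [Ideal.map_le_iff_le_comap]
          intro a ha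
          show PR (iR a) ∈ maximalIdeal Rb
          rw [hPRi]; exact ha
        exact this hv
    have h' := sub_mem h (hM _ (M.mul_mem_right w hz))
    rw [map_add, map_one, add_sub_cancel_left] at h'
    exact (maximalIdeal.isMaximal Rb).ne_top ((Ideal.eq_top_iff_one _).2 h')
  have hMle : M ≤ mB :=
    Submodule.le_of_le_smul_of_le_jacobson_bot (IsNoetherian.noetherian M) hMjac (sup_le hJ hK)
  have hsurj : Function.Surjective φ := by
    have htop : (⊤ : Submodule R (A ⊗[k] Rb)) ≤
        LinearMap.range (Algebra.linearMap R (A ⊗[k] Rb)) ⊔ maximalIdeal R • ⊤ := by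
      intro z _
      refine Submodule.mem_sup.2 ⟨φ (algebraMap k R (eb (PR z))), ⟨_, rfl⟩, z - φ (algebraMap k R (eb (PR z))), ?_,
        by ring⟩
      rw [Ideal.smul_top_eq_map]
      show z - _ ∈ mB
      refine hMle ?_
      rw [φ.commutes]
      have h1 : iR (PR z - algebraMap k Rb (eb (PR z))) ∈ K := Ideal.mem_map_of_mem _ (by rw [← hmax eb]; simp)
      rw [map_sub, iR.commutes] at h1
      convert add_mem (Ideal.mem_sup_left (hker' z) : _ ∈ M) (Ideal.mem_sup_right h1) using 1
      ring
    have h2 := Submodule.le_of_le_smul_of_le_jacobson_bot Module.Finite.fg_top (maximalIdeal_le_jacobson ⊥) htop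
    exact fun z => h2 (x := z) trivial
  refine ⟨?_, hsurj⟩
  -- the images of `l` form a regular sequence
  have hregB : IsWeaklyRegular (A ⊗[k] Rb) (l.map φ) := by
    refine weaklyRegular_of_prR eA _ ?_
    rw [List.map_map, show (prR (Rb := Rb) eA) ∘ φ = q from funext hPR]
    exact hreg
  have key : ∀ l' : List R, IsWeaklyRegular (A ⊗[k] Rb) (l'.map φ) → ∀ r ∈ Ideal.ofList l', φ r = 0 →
      r ∈ Ideal.ofList l' * RingHom.ker φ := by
    intro l'
    induction l' using List.reverseRecOn with
    | nil =>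
      intro _ r hr _
      rw [Ideal.ofList_nil, Ideal.mem_bot] at hr
      rw [hr]; exact zero_mem _
    | append_singleton l' x ih =>
      intro hw r hr hφr
      rw [List.map_append, isWeaklyRegular_append_iff, List.map_singleton, isWeaklyRegular_singleton_iff] at hw
      rw [Ideal.ofList_append, Ideal.ofList_singleton] at hr ⊢
      obtain ⟨a, ha, b, hb', rfl⟩ := Submodule.mem_sup.1 hr
      obtain ⟨c, rfl⟩ := Ideal.mem_span_singleton'.1 hb'
      have hφc : φ c ∈ (Ideal.ofList (l'.map φ) • ⊤ : Submodule (A ⊗[k] Rb) (A ⊗[k] Rb)) := by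
        refine (Submodule.Quotient.mk_eq_zero _).1 (hw.2.right_eq_zero_of_smul ?_)
        rw [← Submodule.Quotient.mk_smul, Submodule.Quotient.mk_eq_zero, smul_eq_mul, smul_eq_mul, Ideal.mul_top]
        have h1 : φ x * φ c = -φ a := by
          rw [map_add, map_mul] at hφr
          linear_combination hφr
        rw [h1, show l'.map φ = l'.map (φ : R →+* A ⊗[k] Rb) from rfl, ← Ideal.map_ofList]
        exact neg_mem (Ideal.mem_map_of_mem _ ha)
      rw [smul_eq_mul, Ideal.mul_top, show l'.map φ = l'.map (φ : R →+* A ⊗[k] Rb) from rfl,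
        ← Ideal.map_ofList] at hφc
      obtain ⟨c', hc', hcc⟩ := (Ideal.mem_map_iff_of_surjective (φ : R →+* A ⊗[k] Rb) hsurj).1 hφc
      have hi : c - c' ∈ RingHom.ker φ := by
        rw [RingHom.mem_ker, map_sub, sub_eq_zero]; exact hcc.symm
      have h0 : φ (a + c' * x) = 0 := by
        rw [map_add, map_mul] at hφr ⊢
        rw [show φ c' = φ c from hcc]; exact hφr
      have h1 := ih hw.1 (a + c' * x) (add_mem ha (Ideal.mul_mem_right _ _ hc')) h0
      have h2 : a + c * x = (a + c' * x) + x * (c - c') := by ring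
      rw [h2, Ideal.sup_mul]
      exact add_mem (Ideal.mem_sup_left h1)
        (Ideal.mem_sup_right (Ideal.mul_mem_mul (Ideal.mem_span_singleton_self x) hi))
  rw [injective_iff_map_eq_zero]
  intro r hr
  have hle : RingHom.ker φ ≤ Ideal.ofList l * RingHom.ker φ := fun r hr => by
    refine key l hregB r ?_ hr
    rw [← hker, RingHom.mem_ker, ← hPA, show φ r = 0 from hr, map_zero]
  have hbot := Submodule.eq_bot_of_le_smul_of_le_jacobson_bot _ (RingHom.ker φ) (IsNoetherian.noetherian _) hle
    ((Ideal.span_le.2 hlmem).trans (maximalIdeal_le_jacobson _))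
  exact (Ideal.mem_bot).1 (hbot.le (show r ∈ RingHom.ker φ from hr))

end Groth.Agent.CohDer1.Slice
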