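import Groth.Prelude.Def_ArtFun3
import Groth.Prelude.Def_W4c5t1liftcy3defoArt
import Mathlib.RingTheory.Flat.Basic
import Mathlib.LinearAlgebra.TensorProduct.Basic

/-!
# The T¹-lifting criterion in characteristic zero
-/

universe u v

open CategoryTheory Polynomial

namespace Groth.Agent.CohDer1.T1Lifting

open T1Lift ArtFun

variable (k : Type u) [Field k]

lemma αAlg_surjective (m : ℕ) : Function.Surjective (αAlg k m) := by
  intro a
  induction a using AdjoinRoot.induction_on with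
  | ih p =>
    refine ⟨AdjoinRoot.mk _ p, ?_⟩
    rw [← AdjoinRoot.aeval_eq, ← aeval_algHom_apply, αAlg_t, AdjoinRoot.aeval_eq]

lemma exists_of_αAlg_eq_zero (m : ℕ) (x : Tr k (m + 1)) (hx : αAlg k m x = 0) :
    ∃ c : k, x = algebraMap k _ c * t k (m + 1) ^ (m + 1) := by
  induction x using AdjoinRoot.induction_on with
  | ih p =>
    rw [← AdjoinRoot.aeval_eq, ← aeval_algHom_apply, αAlg_t, AdjoinRoot.aeval_eq, AdjoinRoot.mk_eq_zero] at hx
    obtain ⟨q, rfl⟩ := hx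
    obtain ⟨b, hb⟩ := eq_algebraMap_add_t_mul k (m + 1) (AdjoinRoot.mk _ q)
    refine ⟨resA k (m + 1) (AdjoinRoot.mk _ q), ?_⟩
    rw [map_mul, map_pow, AdjoinRoot.mk_X]
    have h := t_pow k (m + 1)
    rw [pow_succ] at h
    linear_combination b * h + t k (m + 1) ^ (m + 1) * hb

lemma t_pow_ne_zero (m : ℕ) : t k m ^ m ≠ 0 := by
  intro h
  rw [show t k m = AdjoinRoot.mk _ X from AdjoinRoot.mk_X.symm, ← map_pow, AdjoinRoot.mk_eq_zero] at h
  exact (monic_X_pow (m + 1)).not_dvd_of_degree_lt (pow_ne_zero _ X_ne_zero)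
    (by rw [degree_X_pow, degree_X_pow]; exact_mod_cast Nat.lt_succ_self m) h

lemma semismall_α (m : ℕ) : Art.IsSemismallExt (T1Lift.α k m) := by
  refine ⟨αAlg_surjective k m, eq_bot_iff.2 ?_⟩
  rw [Ideal.mul_le]
  intro a ha x hx
  obtain ⟨c, rfl⟩ := exists_of_αAlg_eq_zero k m x (RingHom.mem_ker.1 hx)
  obtain ⟨b, hb⟩ := eq_algebraMap_add_t_mul k (m + 1) a
  have ha0 : resA k (m + 1) a = 0 := ((T1Lift.A k (m + 1)).mem_maximalIdeal_iff a).1 ha
  rw [ha0, map_zero, zero_add] at hb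
  rw [Submodule.mem_bot, hb]
  have h := t_pow k (m + 1)
  rw [pow_succ] at h
  change t k (m + 1) * b * (algebraMap k _ c * t k (m + 1) ^ (m + 1)) = 0
  linear_combination b * algebraMap k _ c * h

/-- The element spanning the ideal we divide by. -/
noncomputable abbrev w (n : ℕ) : DualNumber (Tr k (n + 1)) := TrivSqZeroExt.inr (t k (n + 1) ^ (n + 1))

/-- The ideal we divide by. -/
noncomputable def K (n : ℕ) : Ideal (T1Lift.B k (n + 1)) := Ideal.span {w k n}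

lemma mem_K (n : ℕ) (x : DualNumber (Tr k (n + 1))) :
    x ∈ K k n ↔ x.fst = 0 ∧ αAlg k n x.snd = 0 := by
  change x ∈ Ideal.span {w k n} ↔ _
  rw [Ideal.mem_span_singleton']
  constructor
  · rintro ⟨a, rfl⟩
    refine ⟨by simp, ?_⟩
    simp [map_pow, t_pow]
  · rintro ⟨h1, h2⟩
    obtain ⟨c, hc⟩ := exists_of_αAlg_eq_zero k n _ h2
    refine ⟨TrivSqZeroExt.inl (algebraMap k _ c), TrivSqZeroExt.ext (by simp [h1]) ?_⟩
    simp [hc, AdjoinRoot.algebraMap_eq, mul_comm]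

lemma K_le (n : ℕ) : K k n ≤ IsLocalRing.maximalIdeal (T1Lift.B k (n + 1)) := by
  intro x hx
  rw [Art.mem_maximalIdeal_iff]
  change resA k (n + 1) (TrivSqZeroExt.fst (x : DualNumber (Tr k (n + 1)))) = 0
  rw [((mem_K k n x).1 hx).1, map_zero]

/-- The fibre product `B_n ×_{A_n} A_(n+1)`. -/
noncomputable abbrev C (n : ℕ) : Art k k := Art.quot (T1Lift.B k (n + 1)) (K k n) (K_le k n)

/-- The quotient map. -/
noncomputable abbrev ψ (n : ℕ) : T1Lift.B k (n + 1) ⟶ C k n := Art.quotMk _ _ (K_le k n)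

lemma K_le_ξ (n : ℕ) : K k n ≤ RingHom.ker (T1Lift.ξ k n).toAlgHom := by
  intro x hx
  obtain ⟨h1, h2⟩ := (mem_K k n x).1 hx
  rw [RingHom.mem_ker]
  change ((αAlg k n (TrivSqZeroExt.fst (x : DualNumber (Tr k (n + 1)))),
    αAlg k n (TrivSqZeroExt.snd (x : DualNumber (Tr k (n + 1))))) : DualNumber (Tr k n)) = 0
  rw [h1, h2, map_zero]
  rfl

lemma K_le_β (n : ℕ) : K k n ≤ RingHom.ker (T1Lift.β k (n + 1)).toAlgHom := by
  intro x hx
  rw [RingHom.mem_ker]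
  exact ((mem_K k n x).1 hx).1

/-- First projection. -/
noncomputable abbrev pB (n : ℕ) : C k n ⟶ T1Lift.B k n := Art.quotFactor (K_le k n) (T1Lift.ξ k n) (K_le_ξ k n)

/-- Second projection. -/
noncomputable abbrev pA (n : ℕ) : C k n ⟶ T1Lift.A k (n + 1) :=
  Art.quotFactor (K_le k n) (T1Lift.β k (n + 1)) (K_le_β k n)

lemma mem_ker_ψ (n : ℕ) (x : DualNumber (Tr k (n + 1))) :
    x ∈ RingHom.ker (ψ k n).toAlgHom ↔ x ∈ K k n := by
  exact ⟨fun h => Ideal.Quotient.eq_zero_iff_mem.1 h, fun h => Ideal.Quotient.eq_zero_iff_mem.2 h⟩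

lemma semismall_ψ (n : ℕ) : Art.IsSemismallExt (ψ k n) := by
  refine ⟨Art.quotMk_surjective _ _ _, eq_bot_iff.2 ?_⟩
  rw [Ideal.mul_le]
  intro a ha x hx
  obtain ⟨h1, h2⟩ := (mem_K k n x).1 ((mem_ker_ψ k n x).1 hx)
  obtain ⟨c, hc⟩ := exists_of_αAlg_eq_zero k n _ h2
  have ha0 : resA k (n + 1) (TrivSqZeroExt.fst (a : DualNumber (Tr k (n + 1)))) = 0 :=
    ((T1Lift.B k (n + 1)).mem_maximalIdeal_iff a).1 ha
  obtain ⟨b, hb⟩ := eq_algebraMap_add_t_mul k (n + 1) (TrivSqZeroExt.fst (a : DualNumber (Tr k (n + 1))))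
  rw [ha0, map_zero, zero_add] at hb
  rw [Submodule.mem_bot]
  have h := t_pow k (n + 1)
  rw [pow_succ] at h
  have aux : ∀ y z : DualNumber (Tr k (n + 1)), z.fst = 0 →
      z.snd = algebraMap k _ c * t k (n + 1) ^ (n + 1) → y.fst = t k (n + 1) * b → y * z = 0 := by
    intro y z hz1 hz2 hy
    refine TrivSqZeroExt.ext (by simp [hz1]) ?_
    rw [TrivSqZeroExt.snd_mul, hz1, hz2, hy, TrivSqZeroExt.snd_zero, smul_eq_mul, MulOpposite.op_zero, zero_smul,
      add_zero]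
    linear_combination b * algebraMap k _ c * h
  exact aux a x h1 hc hb

lemma isFibreProd (n : ℕ) : Art.IsFibreProd (pB k n) (pA k n) (T1Lift.β k n) (T1Lift.α k n) := by
  refine ⟨Art.hom_ext (AlgHom.ext fun x => ?_), ?_, ?_⟩
  · obtain ⟨x, rfl⟩ := Ideal.Quotient.mk_surjective x
    rfl
  · intro b₁ b₂ h1 h2
    obtain ⟨b₁, rfl⟩ := Ideal.Quotient.mk_surjective b₁
    obtain ⟨b₂, rfl⟩ := Ideal.Quotient.mk_surjective b₂
    refine Ideal.Quotient.eq.2 ((mem_K k n _).2 ⟨?_, ?_⟩)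
    · change TrivSqZeroExt.fst (b₁ : DualNumber (Tr k (n + 1))) - TrivSqZeroExt.fst (b₂ : DualNumber (Tr k (n + 1))) = 0
      exact sub_eq_zero.2 h2
    · change αAlg k n (TrivSqZeroExt.snd (b₁ : DualNumber (Tr k (n + 1))) -
        TrivSqZeroExt.snd (b₂ : DualNumber (Tr k (n + 1)))) = 0
      rw [map_sub]
      exact sub_eq_zero.2 (congrArg TrivSqZeroExt.snd h1)
  · intro a' a'' h
    change TrivSqZeroExt.fst (a' : DualNumber (Tr k n)) = αAlg k n a'' at h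
    obtain ⟨b, hb⟩ := αAlg_surjective k n (TrivSqZeroExt.snd (a' : DualNumber (Tr k n)))
    exact ⟨Ideal.Quotient.mk _ ((a'', b) : DualNumber (Tr k (n + 1))), TrivSqZeroExt.ext h.symm hb, rfl⟩

lemma inl_add_eps_pow (n j : ℕ) :
    ((TrivSqZeroExt.inl (t k n) : DualNumber (Tr k n)) + DualNumber.eps) ^ (j + 1) =
      TrivSqZeroExt.inl (t k n ^ (j + 1)) + TrivSqZeroExt.inr ((j + 1 : ℕ) * t k n ^ j) := by
  induction j with
  | zero => refine TrivSqZeroExt.ext ?_ ?_ <;> simp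
  | succ j ih =>
    rw [pow_succ, ih]
    refine TrivSqZeroExt.ext (by simp [pow_succ]) ?_
    simp [TrivSqZeroExt.snd_mul, smul_eq_mul, pow_succ]
    ring

lemma te_pow (n : ℕ) :
    TrivSqZeroExt.fst (((TrivSqZeroExt.inl (t k (n + 1)) : DualNumber (Tr k (n + 1))) + DualNumber.eps) ^ (n + 1 + 1)) = 0 ∧
      αAlg k n (TrivSqZeroExt.snd
        (((TrivSqZeroExt.inl (t k (n + 1)) : DualNumber (Tr k (n + 1))) + DualNumber.eps) ^ (n + 1 + 1))) = 0 := by
  rw [inl_add_eps_pow]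
  simp [t_pow, map_pow, map_natCast]

lemma dual_te (n : ℕ) :
    dualMap k (αAlg k n) ((TrivSqZeroExt.inl (t k (n + 1)) : DualNumber (Tr k (n + 1))) + DualNumber.eps) =
      TrivSqZeroExt.inl (t k n) + DualNumber.eps := by
  refine TrivSqZeroExt.ext ?_ ?_
  · change αAlg k n (TrivSqZeroExt.fst _) = _
    simp
  · change αAlg k n (TrivSqZeroExt.snd _) = _
    simp

lemma fst_te (n : ℕ) :
    TrivSqZeroExt.fst ((TrivSqZeroExt.inl (t k n) : DualNumber (Tr k n)) + DualNumber.eps) = t k n := by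
  simp

lemma g_aux (n : ℕ) :
    eval₂ (Algebra.ofId k (C k n)).toRingHom
      (Ideal.Quotient.mk (K k n) ((TrivSqZeroExt.inl (t k (n + 1)) : DualNumber (Tr k (n + 1))) + DualNumber.eps))
      ((X : k[X]) ^ (n + 2)) = 0 := by
  rw [eval₂_X_pow]
  refine ((map_pow (Ideal.Quotient.mk (K k n)) _ _).symm.trans ?_)
  exact Ideal.Quotient.eq_zero_iff_mem.2 ((mem_K k n _).2 (te_pow k n))

/-- The map `t ↦ t + y` into the fibre product. -/
noncomputable def gAlg (n : ℕ) : Tr k (n + 1) →ₐ[k] C k n :=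
  AdjoinRoot.liftAlgHom _ (Algebra.ofId k (C k n))
    (Ideal.Quotient.mk (K k n) ((TrivSqZeroExt.inl (t k (n + 1)) : DualNumber (Tr k (n + 1))) + DualNumber.eps))
    (g_aux k n)

lemma gAlg_t (n : ℕ) : gAlg k n (t k (n + 1)) =
    Ideal.Quotient.mk (K k n) ((TrivSqZeroExt.inl (t k (n + 1)) : DualNumber (Tr k (n + 1))) + DualNumber.eps) :=
  AdjoinRoot.liftAlgHom_root _ _ _ _

/-- The morphism. -/
noncomputable def g (n : ℕ) : T1Lift.A k (n + 1) ⟶ C k n :=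
  Art.homMk (gAlg k n) (AdjoinRoot.algHom_ext (by
    change (C k n).res (gAlg k n (t k (n + 1))) = resA k (n + 1) (t k (n + 1))
    rw [gAlg_t]
    change resA k (n + 1) (TrivSqZeroExt.fst
      ((TrivSqZeroExt.inl (t k (n + 1)) : DualNumber (Tr k (n + 1))) + DualNumber.eps)) = _
    simp))

lemma g_pB (n : ℕ) : g k n ≫ pB k n = T1Lift.ε k n := by
  refine Art.hom_ext (AdjoinRoot.algHom_ext ?_)
  change (pB k n).toAlgHom (gAlg k n (t k (n + 1))) = εAlg k n (t k (n + 1))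
  rw [gAlg_t, εAlg_t]
  exact dual_te k n

lemma g_pA (n : ℕ) : g k n ≫ pA k n = 𝟙 _ := by
  refine Art.hom_ext (AdjoinRoot.algHom_ext ?_)
  change (pA k n).toAlgHom (gAlg k n (t k (n + 1))) = t k (n + 1)
  rw [gAlg_t]
  exact fst_te k (n + 1)

lemma square (n : ℕ) : T1Lift.α k (n + 1) ≫ g k n = T1Lift.ε k (n + 1) ≫ ψ k n := by
  refine Art.hom_ext (AdjoinRoot.algHom_ext ?_)
  change gAlg k n (αAlg k (n + 1) (t k (n + 1 + 1))) = Ideal.Quotient.mk (K k n) (εAlg k (n + 1) (t k (n + 1 + 1)))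
  rw [αAlg_t, εAlg_t, gAlg_t]
  rfl

lemma ε_β (n : ℕ) : T1Lift.ε k n ≫ T1Lift.β k n = T1Lift.α k n := by
  refine Art.hom_ext (AdjoinRoot.algHom_ext ?_)
  change TrivSqZeroExt.fst (εAlg k n (t k (n + 1))) = αAlg k n (t k (n + 1))
  simp

lemma ε_ξ (n : ℕ) : T1Lift.ε k (n + 1) ≫ T1Lift.ξ k n = T1Lift.α k (n + 1) ≫ T1Lift.ε k n := by
  refine Art.hom_ext (AdjoinRoot.algHom_ext ?_)
  change dualMap k (αAlg k n) (εAlg k (n + 1) (t k (n + 1 + 1))) = εAlg k n (αAlg k (n + 1) (t k (n + 1 + 1)))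
  rw [εAlg_t, αAlg_t, εAlg_t]
  exact dual_te k n

lemma ε_ker_injective [CharZero k] (n : ℕ) (x : Tr k (n + 2)) (hx : αAlg k (n + 1) x = 0)
    (h0 : εAlg k (n + 1) x = 0) : x = 0 := by
  obtain ⟨c, rfl⟩ := exists_of_αAlg_eq_zero k (n + 1) x hx
  rw [map_mul, map_pow, εAlg_t, AlgHom.commutes, inl_add_eps_pow] at h0
  have h1 := congrArg TrivSqZeroExt.snd h0
  simp [TrivSqZeroExt.algebraMap_eq_inl', t_pow] at h1
  by_contra hne
  have hc : c ≠ 0 := fun hc => hne (by simp [hc])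
  apply t_pow_ne_zero k (n + 1)
  have hu : IsUnit (algebraMap k (Tr k (n + 1)) (c * (n + 2 : ℕ))) :=
    (isUnit_iff_ne_zero.2 (mul_ne_zero hc (Nat.cast_ne_zero.2 (by omega)))).map _
  refine hu.mul_right_eq_zero.1 ?_
  rw [map_mul, map_natCast, ← h1]
  simp only [AdjoinRoot.algebraMap_eq]
  push_cast
  ring

lemma cmp_ext (F : Art k k ⥤ Type v) {P A A' A'' : Art k k} {p' : P ⟶ A'} {p'' : P ⟶ A''} {f' : A' ⟶ A}
    {f'' : A'' ⟶ A} (h : Art.IsFibreProd p' p'' f' f'') (hb : Function.Bijective (cmp F h)) {z z' : F.obj P}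
    (h1 : F.map p' z = F.map p' z') (h2 : F.map p'' z = F.map p'' z') : z = z' :=
  hb.1 (Subtype.ext (Prod.ext h1 h2))

theorem main [CharZero k] (F : Art k k ⥤ Type v)
    (hRS : ∀ ⦃P A A' A'' : Art k k⦄ (p' : P ⟶ A') (p'' : P ⟶ A'') (f' : A' ⟶ A) (f'' : A'' ⟶ A)
      (h : Art.IsFibreProd p' p'' f' f''), Function.Surjective f'' → Function.Bijective (cmp F h))
    (V : Type u) [AddCommGroup V] [Module k V] (O : ObsTheory F V)
    (hnat : ∀ ⦃A' A C' C : Art k k⦄ (φ : A' ⟶ A) (hφ : Art.IsSemismallExt φ)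
      (ψ : C' ⟶ C) (hψ : Art.IsSemismallExt ψ) (g' : A' ⟶ C') (g : A ⟶ C), φ ≫ g = g' ≫ ψ →
      ∀ (ℓ : ↥(RingHom.ker φ.toAlgHom) →ₗ[k] ↥(RingHom.ker ψ.toAlgHom)),
        (∀ j : ↥(RingHom.ker φ.toAlgHom), ((ℓ j : ↥(RingHom.ker ψ.toAlgHom)) : C') = g' (j : A')) →
        ∀ u : F.obj A, O.obs ψ hψ (F.map g u) = LinearMap.lTensor V ℓ (O.obs φ hφ u))
    (n : ℕ) (X : F.obj (T1Lift.A k (n + 1))) :
    (∃ X' : F.obj (T1Lift.A k (n + 2)), F.map (T1Lift.α k (n + 1)) X' = X) ↔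
      ∃ Y : F.obj (T1Lift.B k (n + 1)), F.map (T1Lift.β k (n + 1)) Y = X ∧
        F.map (T1Lift.ξ k n) Y = F.map (T1Lift.ε k n) X := by
  have hm {P Q R : Art k k} (f : P ⟶ Q) (f' : Q ⟶ R) (z : F.obj P) :
      F.map f' (F.map f z) = F.map (f ≫ f') z := by simp
  constructor
  · rintro ⟨X', rfl⟩
    refine ⟨F.map (T1Lift.ε k (n + 1)) X', ?_, ?_⟩
    · rw [hm, ε_β]
    · rw [hm, hm, ε_ξ]
  · rintro ⟨Y, hY1, hY2⟩
    have hcmp : F.map (ψ k n) Y = F.map (g k n) X := by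
      refine cmp_ext k F (isFibreProd k n) (hRS _ _ _ _ _ (αAlg_surjective k n)) ?_ ?_
      · rw [hm, hm, g_pB, Art.quotMk_quotFactor, hY2]
      · rw [hm, hm, g_pA, Art.quotMk_quotFactor, hY1]
        simp
    have hobs : O.obs (ψ k n) (semismall_ψ k n) (F.map (g k n) X) = 0 :=
      (O.obs_eq_zero_iff _ _ _).2 ⟨Y, hcmp⟩
    let ℓ : ↥(RingHom.ker (T1Lift.α k (n + 1)).toAlgHom) →ₗ[k] ↥(RingHom.ker (ψ k n).toAlgHom) :=
      { toFun := fun j => ⟨(T1Lift.ε k (n + 1)).toAlgHom j, by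
          rw [RingHom.mem_ker]
          have h := DFunLike.congr_fun (congrArg Art.Hom.toAlgHom (square k n)) (j : T1Lift.A k (n + 1 + 1))
          rw [Art.comp_toAlgHom, Art.comp_toAlgHom, AlgHom.comp_apply, AlgHom.comp_apply] at h
          rw [← h, RingHom.mem_ker.1 j.2, map_zero]⟩
        map_add' := fun x y => Subtype.ext (map_add _ _ _)
        map_smul' := fun r x => Subtype.ext (map_smul (T1Lift.ε k (n + 1)).toAlgHom r (x : T1Lift.A k (n + 1 + 1))) }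
    have hinj : Function.Injective ℓ := by
      rw [injective_iff_map_eq_zero]
      intro j hj
      exact Subtype.ext (ε_ker_injective k n _ (RingHom.mem_ker.1 j.2) (congrArg Subtype.val hj))
    have h := hnat (T1Lift.α k (n + 1)) (semismall_α k (n + 1)) (ψ k n) (semismall_ψ k n)
      (T1Lift.ε k (n + 1)) (g k n) (square k n) ℓ (fun _ => rfl) X
    rw [hobs] at h
    have hz : O.obs (T1Lift.α k (n + 1)) (semismall_α k (n + 1)) X = 0 :=
      Module.Flat.lTensor_preserves_injective_linearMap ℓ hinj (by rw [← h, map_zero])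
    exact (O.obs_eq_zero_iff _ _ _).1 hz

end Groth.Agent.CohDer1.T1Lifting
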