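import Groth.Prelude.Def_EtRam
import Groth.Agent.ValCritLib.Refined
import Groth.Agent.CAlgH3.ValSubrings
import Groth.Agent.CAlgH3.MoriCompletion
import Mathlib.RingTheory.DedekindDomain.IntegralClosure
import Mathlib.FieldTheory.Separable
import Mathlib.RingTheory.Valuation.Discrete.Basic

/-!
# Unramified and tame extensions: passing to subextensions
-/

set_option autoImplicit false

universe u

open IsDedekindDomain IsLocalRing

namespace Groth.Agent.CohDer1.TameTower

theorem isDVR_of_dominates (A K : Type u) [CommRing A] [IsDomain A] [IsDiscreteValuationRing A] [Field K] [Algebra A K]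
    [IsFractionRing A K] (M : Type u) [Field M] [Algebra K M] [FiniteDimensional K M] [Algebra.IsSeparable K M]
    (W : ValuationSubring M) (hW : EtRam.Dominates A ((algebraMap K M).comp (algebraMap A K)) W) :
    IsDiscreteValuationRing W := by
  letI : Algebra A M := ((algebraMap K M).comp (algebraMap A K)).toAlgebra
  haveI : IsScalarTower A K M := IsScalarTower.of_algebraMap_eq fun _ => rfl
  haveI : IsDedekindDomain (integralClosure A M) := IsIntegralClosure.isDedekindDomain A K M _
  haveI : IsFractionRing (integralClosure A M) M :=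
    integralClosure.isFractionRing_of_finite_extension K M
  have hle : (algebraMap (integralClosure A M) M).range ≤ W.toSubring := by
    rintro _ ⟨x, rfl⟩
    let g : A →+* W := RingHom.codRestrict _ W.toSubring hW.1
    letI : Algebra A W := g.toAlgebra
    haveI : IsScalarTower A W M := IsScalarTower.of_algebraMap_eq fun _ => rfl
    obtain ⟨w, hw⟩ := (IsIntegrallyClosed.isIntegral_iff (R := W) (K := M)).mp
      (show IsIntegral W (x : M) from x.2.tower_top)
    show algebraMap (integralClosure A M) M x ∈ W.toSubring
    rw [show algebraMap (integralClosure A M) M x = (x : M) from rfl, ← hw]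
    exact w.2
  obtain ⟨π, hπ⟩ := IsDiscreteValuationRing.exists_irreducible A
  have hne : W ≠ ⊤ := by
    intro htop
    have hlt := hW.2 π hπ.not_isUnit
    have hπ0 : (algebraMap K M).comp (algebraMap A K) π ≠ 0 := by
      show algebraMap K M (algebraMap A K π) ≠ 0
      exact (map_ne_zero _).mpr ((map_ne_zero_iff _ (IsFractionRing.injective A K)).mpr hπ.ne_zero)
    have hinv : ((algebraMap K M).comp (algebraMap A K) π)⁻¹ ∈ W := htop ▸ ValuationSubring.mem_top _
    have h1 := (W.valuation_le_one_iff _).mpr hinv
    rw [map_inv₀] at h1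
    exact absurd h1 (not_le.mpr ((one_lt_inv₀ (zero_lt_iff.mpr ((Valuation.ne_zero_iff _).mpr hπ0))).mpr hlt))
  obtain ⟨v, hv⟩ := CAlgH3.ValSubrings.exists_heightOne (integralClosure A M) M W hle hne
  subst hv
  infer_instance

/-- The ramification index between DVRs, from a factorisation of the image of a uniformiser. -/
theorem ramificationIdx'_eq {R S : Type u} [CommRing R] [CommRing S] [IsDomain S] [IsDiscreteValuationRing S]
    [IsLocalRing R] [Algebra R S] (π : R) (hπ : maximalIdeal R = Ideal.span {π}) (ϖ : S) (hϖ : Irreducible ϖ)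
    (u : Sˣ) (n : ℕ) (h : algebraMap R S π = u * ϖ ^ n) :
    Ideal.ramificationIdx' (maximalIdeal R) (maximalIdeal S) = n := by
  have hm : maximalIdeal S = Ideal.span {ϖ} := hϖ.maximalIdeal_eq
  have e : (maximalIdeal R).map (algebraMap R S) = Ideal.span {ϖ ^ n} := by
    rw [hπ, Ideal.map_span, Set.image_singleton, h, Ideal.span_singleton_mul_left_unit u.isUnit]
  refine Ideal.ramificationIdx'_spec ?_ ?_
  · rw [e, hm, Ideal.span_singleton_pow]
  · rw [e, hm, Ideal.span_singleton_pow, Ideal.span_singleton_le_span_singleton,
      pow_dvd_pow_iff hϖ.ne_zero hϖ.not_isUnit]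
    omega

theorem main (A K : Type u) [CommRing A] [IsDomain A] [IsDiscreteValuationRing A] [Field K] [Algebra A K]
    [IsFractionRing A K] (L M : Type u) [Field L] [Field M] [Algebra K L] [Algebra K M] [Algebra L M]
    [IsScalarTower K L M] [FiniteDimensional K M] [Algebra.IsSeparable K M] :
    (EtRam.IsTamelyRamified A ((algebraMap K M).comp (algebraMap A K)) →
      EtRam.IsTamelyRamified A ((algebraMap K L).comp (algebraMap A K))) ∧
    (EtRam.IsUnramifiedExt A ((algebraMap K M).comp (algebraMap A K)) →
      EtRam.IsUnramifiedExt A ((algebraMap K L).comp (algebraMap A K))) := by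
  haveI : FiniteDimensional K L := Module.Finite.of_injective (IsScalarTower.toAlgHom K L M).toLinearMap (algebraMap L M).injective
  haveI : Algebra.IsSeparable K L := Algebra.isSeparable_tower_bot_of_isSeparable K L M
  have key : ∀ (V : ValuationSubring L) (hV : EtRam.Dominates A ((algebraMap K L).comp (algebraMap A K)) V),
      ∃ (W : ValuationSubring M) (_ : EtRam.Dominates A ((algebraMap K M).comp (algebraMap A K)) W), W.comap (algebraMap L M) = V := by
    intro V hV
    obtain ⟨W, hW⟩ := ValCritLib.exists_extension (algebraMap L M) V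
    refine ⟨W, ⟨fun a => ?_, fun a ha => ?_⟩, hW⟩
    · have := hV.1 a
      rw [← hW, ValuationSubring.mem_comap] at this
      simpa [← IsScalarTower.algebraMap_apply K L M] using this
    · subst hW
      have h1 := ((W.comap (algebraMap L M)).valuation_lt_one_iff ⟨_, hV.1 a⟩).mpr (hV.2 a ha)
      have h2 : EtRam.inclOfComap W (algebraMap L M) ⟨_, hV.1 a⟩ ∈ maximalIdeal W :=
        fun hu => h1 (IsLocalHom.map_nonunit (f := EtRam.inclOfComap W (algebraMap L M)) _ hu)
      have h3 := (W.valuation_lt_one_iff _).mp h2
      simpa [← IsScalarTower.algebraMap_apply K L M] using h3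
  constructor
  · intro hM V hV
    letI : Algebra A V := (RingHom.codRestrict _ V hV.1).toAlgebra
    intro _
    obtain ⟨W, hW, rfl⟩ := key V hV
    let ι := EtRam.inclOfComap W (algebraMap L M)
    letI : Algebra A W := (RingHom.codRestrict _ W hW.1).toAlgebra
    letI : Algebra (W.comap (algebraMap L M)) W := ι.toAlgebra
    haveI : IsScalarTower A (W.comap (algebraMap L M)) W := IsScalarTower.of_algebraMap_eq fun a => Subtype.ext (by
      show algebraMap K M (algebraMap A K a) = algebraMap L M (algebraMap K L (algebraMap A K a))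
      rw [← IsScalarTower.algebraMap_apply K L M])
    haveI : IsLocalHom (algebraMap (W.comap (algebraMap L M)) W) := EtRam.isLocalHom_inclOfComap _ _
    haveI : IsLocalHom (algebraMap A W) := by
      rw [IsScalarTower.algebraMap_eq A (W.comap (algebraMap L M)) W]
      exact RingHom.isLocalHom_comp _ _
    obtain ⟨hsep, hram⟩ := @hM W hW _
    refine ⟨Algebra.isSeparable_tower_bot_of_isSeparable (ResidueField A) (ResidueField (W.comap (algebraMap L M))) (ResidueField W),
      fun p hp hc hdvd => hram p hp hc ?_⟩
    haveI := isDVR_of_dominates A K L _ hV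
    haveI := isDVR_of_dominates A K M _ hW
    obtain ⟨π, hπ⟩ := IsDiscreteValuationRing.exists_irreducible A
    obtain ⟨ϖV, hϖV⟩ := IsDiscreteValuationRing.exists_irreducible (W.comap (algebraMap L M))
    obtain ⟨ϖW, hϖW⟩ := IsDiscreteValuationRing.exists_irreducible W
    have hπV : algebraMap A (W.comap (algebraMap L M)) π ≠ 0 := fun h0 => hπ.ne_zero (by
      have h1 : algebraMap K L (algebraMap A K π) = 0 := congrArg Subtype.val h0
      exact (map_eq_zero_iff _ (IsFractionRing.injective A K)).mp ((map_eq_zero _).mp h1))
    obtain ⟨n, u, hu⟩ := IsDiscreteValuationRing.eq_unit_mul_pow_irreducible hπV hϖV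
    have hιV : ι ϖV ≠ 0 := fun h0 => hϖV.ne_zero (Subtype.ext ((map_eq_zero (algebraMap L M)).mp (congrArg Subtype.val h0)))
    obtain ⟨m, w, hw⟩ := IsDiscreteValuationRing.eq_unit_mul_pow_irreducible hιV hϖW
    rw [ramificationIdx'_eq π hπ.maximalIdeal_eq ϖW hϖW (Units.map ι.toMonoidHom u * w ^ n) (m * n) (by
      rw [IsScalarTower.algebraMap_apply A (W.comap (algebraMap L M)) W, hu, RingHom.algebraMap_toAlgebra, map_mul, map_pow, hw]
      push_cast
      simp only [mul_pow, ← pow_mul, Units.coe_map]
      rw [mul_assoc]
      rfl)]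
    rw [ramificationIdx'_eq π hπ.maximalIdeal_eq ϖV hϖV u n hu] at hdvd
    exact hdvd.mul_left m
  · intro hM V hV
    letI : Algebra A V := (RingHom.codRestrict _ V hV.1).toAlgebra
    intro hlV
    obtain ⟨W, hW, rfl⟩ := key V hV
    let ι := EtRam.inclOfComap W (algebraMap L M)
    letI : Algebra A W := (RingHom.codRestrict _ W hW.1).toAlgebra
    letI : Algebra (W.comap (algebraMap L M)) W := ι.toAlgebra
    haveI : IsScalarTower A (W.comap (algebraMap L M)) W := IsScalarTower.of_algebraMap_eq fun a => Subtype.ext (by
      show algebraMap K M (algebraMap A K a) = algebraMap L M (algebraMap K L (algebraMap A K a))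
      rw [← IsScalarTower.algebraMap_apply K L M])
    haveI : IsLocalHom (algebraMap (W.comap (algebraMap L M)) W) := EtRam.isLocalHom_inclOfComap _ _
    haveI : IsLocalHom (algebraMap A W) := by
      rw [IsScalarTower.algebraMap_eq A (W.comap (algebraMap L M)) W]
      exact RingHom.isLocalHom_comp _ _
    obtain ⟨hun, hsep⟩ := @hM W hW _
    refine ⟨?_, Algebra.isSeparable_tower_bot_of_isSeparable (ResidueField A) (ResidueField (W.comap (algebraMap L M))) (ResidueField W)⟩
    haveI := isDVR_of_dominates A K L _ hV
    obtain ⟨π, hπ⟩ := IsDiscreteValuationRing.exists_irreducible A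
    refine le_antisymm (((local_hom_TFAE (algebraMap A (W.comap (algebraMap L M)))).out 0 2).mp hlV) fun x hx => ?_
    rw [hπ.maximalIdeal_eq, Ideal.map_span, Set.image_singleton, Ideal.mem_span_singleton]
    have hxW : ι x ∈ maximalIdeal W :=
      fun hu => hx (IsLocalHom.map_nonunit (f := EtRam.inclOfComap W (algebraMap L M)) _ hu)
    rw [← (show _ = maximalIdeal W from hun), hπ.maximalIdeal_eq, Ideal.map_span, Set.image_singleton, Ideal.mem_span_singleton] at hxW
    obtain ⟨c, hc⟩ := hxW
    have hπL : algebraMap K L (algebraMap A K π) ≠ 0 :=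
      (map_ne_zero _).mpr ((map_ne_zero_iff _ (IsFractionRing.injective A K)).mpr hπ.ne_zero)
    have hcV : (x : L) / algebraMap K L (algebraMap A K π) ∈ W.comap (algebraMap L M) := by
      rw [ValuationSubring.mem_comap, map_div₀]
      have h1 : algebraMap L M (x : L) = algebraMap K M (algebraMap A K π) * (c : M) := congrArg Subtype.val hc
      rw [h1, ← IsScalarTower.algebraMap_apply K L M, mul_div_cancel_left₀ _ (by
        rw [IsScalarTower.algebraMap_apply K L M]; exact (map_ne_zero _).mpr hπL)]
      exact c.2
    exact ⟨⟨_, hcV⟩, Subtype.ext (mul_div_cancel₀ _ hπL).symm⟩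

end Groth.Agent.CohDer1.TameTower
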