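import Groth.Prelude.Def_NonAbH2
import Groth.Prelude.Def_Red
import Groth.Agent.S9371
import Groth.Agent.S9372
import Mathlib.AlgebraicGeometry.Morphisms.Flat

/-!
# The diagonal of a torsor is pulled back from the unit section
-/

set_option autoImplicit false

universe u

open CategoryTheory CategoryTheory.Limits AlgebraicGeometry MonoidalCategory CartesianMonoidalCategory MonObj

namespace Groth.Agent.CohDer1.TorsorOmega

theorem exists_isConormalMap_isIso {K : Type u} [Field K]
    {G Y : Over (Spec (CommRingCat.of K))} [GrpObj G] [IsSeparated G.hom]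
    {X : Over Y.left} (a : AlgGrp.Action (Red.bc Y.hom G) X)
    (hX : NonAbH1.IsPseudoTorsorSch a)
    (g : pullback X.hom X.hom ⟶ G.left)
    (hg : (lift a.act (snd (Red.bc Y.hom G) X)).left ≫ g =
      (fst (Red.bc Y.hom G) X).left ≫ pullback.fst G.hom Y.hom) :
    ∃ φ : (Scheme.Modules.pullback (toUnit (Over.mk (X.hom ≫ Y.hom) : Over (Spec (CommRingCat.of K)))).left).obj
        (Omega.conormal (η[G]).left) ⟶ Omega.conormal (pullback.diagonal X.hom),
      OmegaSh.IsConormalMap (pullback.diagonal X.hom) (η[G]).left g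
        (toUnit (Over.mk (X.hom ≫ Y.hom) : Over (Spec (CommRingCat.of K)))).left φ ∧ IsIso φ := by
  let GB := Red.bc Y.hom G
  let π : X.left ⟶ Spec (CommRingCat.of K) := X.hom ≫ Y.hom
  let q : (GB ⊗ X).left ⟶ G.left := (fst GB X).left ≫ pullback.fst G.hom Y.hom
  let r : (GB ⊗ X).left ⟶ X.left := (snd GB X).left
  have hW : IsPullback q r G.hom π :=
    (IsPullback.of_hasPullback GB.hom X.hom).paste_horiz (IsPullback.of_hasPullback G.hom Y.hom)
  let σ : X ⟶ GB ⊗ X := lift (toUnit X ≫ η[GB]) (𝟙 X)
  haveI : IsIso (lift a.act (snd GB X)) := hX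
  let Ψ : (GB ⊗ X).left ≅ pullback X.hom X.hom := (Over.forget _).mapIso (asIso (lift a.act (snd GB X)))
  have he : η[G].left ≫ G.hom = 𝟙 _ := Over.w η[G]
  have hσr : σ.left ≫ r = 𝟙 X.left := by
    show (σ ≫ snd GB X).left = _
    rw [show σ ≫ snd GB X = 𝟙 X from lift_snd _ _]
    rfl
  have hσq : σ.left ≫ q = π ≫ η[G].left := by
    show σ.left ≫ (fst GB X).left ≫ pullback.fst G.hom Y.hom = _
    rw [← Category.assoc, ← Over.comp_left, show σ ≫ fst GB X = toUnit X ≫ η[GB] from lift_fst _ _,
      Functor.obj.η_def, ← Category.assoc, Over.comp_left, Category.assoc]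
    let u : X ⟶ (Over.pullback Y.hom).obj (𝟙_ (Over (Spec (CommRingCat.of K)))) :=
      toUnit X ≫ Functor.LaxMonoidal.ε (Over.pullback Y.hom)
    have h1 : ((Over.pullback Y.hom).map η[G]).left ≫ pullback.fst G.hom Y.hom =
        pullback.fst _ Y.hom ≫ η[G].left :=
      pullback.lift_fst _ _ _
    have h2 : u.left ≫ pullback.fst (𝟙_ (Over (Spec (CommRingCat.of K)))).hom Y.hom = π := by
      refine (Category.comp_id _).symm.trans ?_
      show (u.left ≫ pullback.fst (𝟙_ (Over (Spec (CommRingCat.of K)))).hom Y.hom) ≫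
        (𝟙_ (Over (Spec (CommRingCat.of K)))).hom = π
      rw [Category.assoc, pullback.condition, ← Category.assoc]
      exact congrArg (· ≫ Y.hom) (Over.w u)
    show u.left ≫ ((Over.pullback Y.hom).map η[G]).left ≫ pullback.fst G.hom Y.hom = _
    rw [h1, ← Category.assoc, h2]
  have hsec : IsPullback σ.left π q η[G].left := by
    have key : ∀ c : PullbackCone q η[G].left, c.snd = c.fst ≫ r ≫ π := fun c =>
      calc c.snd = c.snd ≫ η[G].left ≫ G.hom := by rw [he]; exact (Category.comp_id _).symm
        _ = c.fst ≫ q ≫ G.hom := by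
          rw [← Category.assoc, ← show c.fst ≫ q = c.snd ≫ η[G].left from c.condition, Category.assoc]
        _ = c.fst ≫ r ≫ π := by rw [hW.w]
    refine ⟨⟨hσq⟩, ⟨PullbackCone.IsLimit.mk _ (fun c => c.fst ≫ r) (fun c => ?_) (fun c => ?_) ?_⟩⟩
    · refine hW.hom_ext ?_ ?_
      · rw [Category.assoc, Category.assoc, hσq, c.condition, key c]
        simp only [Category.assoc]
      · rw [Category.assoc, Category.assoc, hσr, Category.comp_id]
    · rw [Category.assoc]; exact (key c).symm
    · intro c m h₁ _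
      rw [← h₁, Category.assoc, hσr, Category.comp_id]
  have hd : σ.left ≫ Ψ.hom = pullback.diagonal X.hom := by
    have h : σ ≫ lift a.act (snd GB X) = lift (𝟙 X) (𝟙 X) := by
      have hact : σ ≫ a.act = 𝟙 X := by
        have hσ : σ = (λ_ X).inv ≫ (η[GB] ▷ X) := by
          apply CartesianMonoidalCategory.hom_ext <;> simp [σ]
        rw [hσ, Category.assoc, a.one_act, Iso.inv_hom_id]
      rw [comp_lift, hact, show σ ≫ snd GB X = 𝟙 X from lift_snd _ _]
    show (σ ≫ lift a.act (snd GB X)).left = _
    rw [h]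
    apply pullback.hom_ext
    · show (lift (𝟙 X) (𝟙 X) ≫ fst X X).left = _
      rw [lift_fst, pullback.diagonal_fst]
      rfl
    · show (lift (𝟙 X) (𝟙 X) ≫ snd X X).left = _
      rw [lift_snd, pullback.diagonal_snd]
      rfl
  have hsq : IsPullback (pullback.diagonal X.hom) π g η[G].left :=
    hsec.of_iso (Iso.refl _) Ψ (Iso.refl _) (Iso.refl _) (by simpa using hd)
      (by simp) ((Category.comp_id q).trans hg.symm) (by simp)
  haveI : IsImmersion η[G].left :=
    haveI : IsImmersion (η[G].left ≫ G.hom) :=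
      he.symm ▸ (inferInstance : IsImmersion (𝟙 (Spec (CommRingCat.of K))))
    IsImmersion.of_comp η[G].left G.hom
  haveI : QuasiCompact η[G].left :=
    haveI : QuasiCompact (η[G].left ≫ G.hom) :=
      he.symm ▸ (inferInstance : QuasiCompact (𝟙 (Spec (CommRingCat.of K))))
    QuasiCompact.of_comp η[G].left G.hom
  have hgz : (toUnit (Over.mk (X.hom ≫ Y.hom) : Over (Spec (CommRingCat.of K)))).left = π := by
    have h := Over.w (toUnit (Over.mk (X.hom ≫ Y.hom) : Over (Spec (CommRingCat.of K))))
    exact (Category.comp_id _).symm.trans h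
  rw [← hgz] at hsq
  haveI : IsImmersion (pullback.diagonal X.hom) := inferInstance
  haveI : QuasiCompact (pullback.diagonal X.hom) := MorphismProperty.of_isPullback hsq.flip inferInstance
  obtain ⟨φ, hφ, -⟩ := Groth.Agent.S9371.result (pullback.diagonal X.hom) η[G].left g _ hsq.w.symm
  obtain ⟨-, hi⟩ := Groth.Agent.S9372.result (pullback.diagonal X.hom) η[G].left g _ hsq φ hφ
  refine ⟨φ, hφ, hi ?_⟩
  have hq : Flat q := by
    haveI : Subsingleton ↥(Spec (CommRingCat.of K)) := inferInstanceAs (Subsingleton (PrimeSpectrum K))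
    haveI : Flat π := inferInstance
    exact MorphismProperty.of_isPullback hW.flip inferInstance
  have : g = Ψ.inv ≫ q := by rw [Iso.eq_inv_comp]; exact hg
  rw [this]
  infer_instance

end Groth.Agent.CohDer1.TorsorOmega
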