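import Groth.Agent.CohDer1.HomTrunc
import Mathlib

/-!
# The secondary map of a morphism vanishing in two degrees
-/

set_option autoImplicit false
set_option backward.isDefEq.respectTransparency.types false
set_option linter.style.haveILetI false
set_option maxHeartbeats 400000

universe w v u

open CategoryTheory CategoryTheory.Limits CategoryTheory.Pretriangulated CategoryTheory.Triangulated DerivedCategory

namespace Groth.Agent.CohDer1.TruncMap

variable {A : Type u} [Category.{v} A] [Abelian A] [HasDerivedCategory.{w} A]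

local notation "t₀" => (TStructure.t (C := A))
local notation "H" => DerivedCategory.homologyFunctor A

theorem existsUnique_of_concentrated (q : ℤ) (W A' M' : DerivedCategory A) [W.IsLE q]
    [M'.IsGE (q - 1)] [A'.IsLE (q - 1)] [A'.IsGE (q - 1)] (j : A' ⟶ M') (hj : IsIso ((H (q - 1)).map j))
    (g : ((t₀).truncGE (q - 1)).obj W ⟶ M') (h₁ : (H (q - 1)).map g = 0) (h₂ : (H q).map g = 0) :
    ∃! L : ((t₀).truncGE q).obj W ⟶ A',
      g = ((t₀).natTransTruncGEOfLE (q - 1) q (by lia)).app W ≫ L ≫ j := by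
  let p := ((t₀).natTransTruncGEOfLE (q - 1) q (by lia)).app W
  let π := ((t₀).truncGEπ q).app W
  let π' := ((t₀).truncGEπ (q - 1)).app W
  have hπ : π' ≫ p = π := (t₀).π_natTransTruncGEOfLE_app _ _ _ W
  haveI : (((t₀).truncLT q).obj W).IsLE (q - 1) := (t₀).isLE_truncLT_obj _ _ _ (by lia)
  haveI : (((t₀).truncGE q).obj W).IsLE q := (inferInstance : (t₀).IsLE _ q)
  -- `τ_{<q} M'` is `A'`
  haveI : (((t₀).truncLT q).obj M').IsLE (q - 1) := (t₀).isLE_truncLT_obj _ _ _ (by lia)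
  haveI : (((t₀).truncLT q).obj M').IsGE (q - 1) := (inferInstance : (t₀).IsGE _ (q - 1))
  let j' := (t₀).liftTruncLT j (q - 1) q (by lia)
  have hj' : j' ≫ ((t₀).truncLTι q).app M' = j := (t₀).liftTruncLT_ι j (q - 1) q (by lia)
  haveI : IsIso j' := by
    rw [DerivedCategory.isIso_iff]
    intro i
    rcases lt_trichotomy i (q - 1) with hi | rfl | hi
    · exact ⟨⟨0, (HomTrunc.isZero_H_of_isGE _ (q - 1) _ hi).eq_of_src _ _,
        (HomTrunc.isZero_H_of_isGE _ (q - 1) _ hi).eq_of_src _ _⟩⟩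
    · haveI := HomTrunc.isIso_H_truncLTι M' q (q - 1) (by lia)
      haveI : IsIso ((H (q - 1)).map j' ≫ (H (q - 1)).map (((t₀).truncLTι q).app M')) := by
        rw [← Functor.map_comp, hj']; exact hj
      exact IsIso.of_isIso_comp_right ((H (q - 1)).map j') ((H (q - 1)).map (((t₀).truncLTι q).app M'))
    · exact ⟨⟨0, (HomTrunc.isZero_H_of_isLE _ (q - 1) _ hi).eq_of_src _ _,
        (HomTrunc.isZero_H_of_isLE _ (q - 1) _ hi).eq_of_src _ _⟩⟩
  -- descend along `π`
  have hg0 : ((t₀).truncLTι q).app W ≫ π' ≫ g = 0 :=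
    HomTrunc.eq_zero (q - 1) _ (by rw [Functor.map_comp, Functor.map_comp, h₁, comp_zero, comp_zero])
  obtain ⟨g', hg'⟩ := Triangle.yoneda_exact₂ _ ((t₀).triangleLTGE_distinguished q W) (π' ≫ g) hg0
  change ((t₀).truncGE q).obj W ⟶ M' at g'
  have hgp : g = p ≫ g' := (t₀).from_truncGE_obj_ext (by rw [← Category.assoc]; erw [hπ]; exact hg')
  have hg'q : (H q).map g' = 0 := by
    haveI := HomTrunc.isIso_H_truncGEπ W q q le_rfl
    rw [← cancel_epi ((H q).map π), comp_zero, ← Functor.map_comp, show π ≫ g' = π' ≫ g from hg'.symm,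
      Functor.map_comp, h₂, comp_zero]
  obtain ⟨L', hL'⟩ := HomTrunc.exists_lift q g' hg'q
  refine ⟨L' ≫ inv j', ?_, fun L hL => ?_⟩
  · show g = p ≫ (L' ≫ inv j') ≫ j
    rw [hgp, ← hj', Category.assoc, IsIso.inv_hom_id_assoc, hL']
  · have h0 : π ≫ ((L - L' ≫ inv j') ≫ j) = 0 := by
      rw [← hπ, Category.assoc, Preadditive.sub_comp, Preadditive.comp_sub, Preadditive.comp_sub,
        show p ≫ L ≫ j = g from hL.symm,
        show p ≫ (L' ≫ inv j') ≫ j = g by rw [hgp, ← hj', Category.assoc, IsIso.inv_hom_id_assoc, hL'], sub_self]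
    obtain ⟨u, hu⟩ := Triangle.yoneda_exact₃ _ ((t₀).triangleLTGE_distinguished q W) ((L - L' ≫ inv j') ≫ j) h0
    haveI : ((((t₀).truncLT q).obj W)⟦(1 : ℤ)⟧).IsLE (q - 2) := (t₀).isLE_shift _ (q - 1) 1 (q - 2) (by lia)
    change (((t₀).truncLT q).obj W)⟦(1 : ℤ)⟧ ⟶ M' at u
    have hu0 : u = 0 := (t₀).zero u (q - 2) (q - 1) (by lia)
    have hu' : ((L - L' ≫ inv j') ≫ j') ≫ ((t₀).truncLTι q).app M' = 0 := by
      rw [Category.assoc, hj']
      exact hu.trans (by rw [hu0]; exact comp_zero)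
    obtain ⟨v, hv⟩ := Triangle.coyoneda_exact₂ _ (inv_rot_of_distTriang _ ((t₀).triangleLTGE_distinguished q M'))
      ((L - L' ≫ inv j') ≫ j') hu'
    haveI : ((((t₀).truncGE q).obj M')⟦(-1 : ℤ)⟧).IsGE (q + 1) := (t₀).isGE_shift _ q (-1) (q + 1) (by lia)
    change ((t₀).truncGE q).obj W ⟶ (((t₀).truncGE q).obj M')⟦(-1 : ℤ)⟧ at v
    have hv0 : v = 0 := (t₀).zero v q (q + 1) (by lia)
    rw [hv0] at hv
    have h1 : (L - L' ≫ inv j') ≫ j' = 0 := hv.trans zero_comp
    rw [← zero_comp (f := j'), cancel_mono] at h1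
    exact sub_eq_zero.1 h1

theorem main {K K' : DerivedCategory A} (f : K ⟶ K') (q : ℤ)
    (h₁ : (H (q - 1)).map f = 0) (h₂ : (H q).map f = 0) :
    ∃! L : ((t₀).truncGELT q (q + 1)).obj K ⟶ ((t₀).truncGELT (q - 1) q).obj K',
      ((t₀).truncGELT (q - 1) (q + 1)).map f =
        ((t₀).natTransTruncGEOfLE (q - 1) q (sub_one_lt q).le).app (((t₀).truncLT (q + 1)).obj K) ≫ L ≫
          ((t₀).truncGE (q - 1)).map (((t₀).natTransTruncLTOfLE q (q + 1) (lt_add_one q).le).app K') := by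
  haveI : (((t₀).truncLT (q + 1)).obj K).IsLE q := (t₀).isLE_truncLT_obj _ _ _ (by lia)
  haveI : (((t₀).truncLT q).obj K').IsLE (q - 1) := (t₀).isLE_truncLT_obj _ _ _ (by lia)
  haveI : (((t₀).truncGELT (q - 1) q).obj K').IsLE (q - 1) :=
    (inferInstance : (t₀).IsLE (((t₀).truncGE (q - 1)).obj _) (q - 1))
  haveI : (((t₀).truncGELT (q - 1) q).obj K').IsGE (q - 1) :=
    (inferInstance : (t₀).IsGE (((t₀).truncGE (q - 1)).obj _) (q - 1))
  haveI : (((t₀).truncGELT (q - 1) (q + 1)).obj K').IsGE (q - 1) :=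
    (inferInstance : (t₀).IsGE (((t₀).truncGE (q - 1)).obj _) (q - 1))
  have hzero : ∀ i, q - 1 ≤ i → i < q + 1 → (H i).map f = 0 →
      (H i).map (((t₀).truncGELT (q - 1) (q + 1)).map f) = 0 := fun i hi hi' hf => by
    haveI := HomTrunc.isIso_H_truncGEπ (((t₀).truncLT (q + 1)).obj K) (q - 1) i hi
    haveI := HomTrunc.isIso_H_truncLTι K' (q + 1) i hi'
    have h3 : (H i).map (((t₀).truncLT (q + 1)).map f) = 0 := by
      rw [← cancel_mono ((H i).map (((t₀).truncLTι (q + 1)).app K')), zero_comp, ← Functor.map_comp,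
        NatTrans.naturality]
      show (H i).map (_ ≫ f) = 0
      rw [Functor.map_comp, hf, comp_zero]
    rw [← cancel_epi ((H i).map (((t₀).truncGEπ (q - 1)).app (((t₀).truncLT (q + 1)).obj K))), comp_zero,
      ← Functor.map_comp]
    show (H i).map (_ ≫ ((t₀).truncGE (q - 1)).map (((t₀).truncLT (q + 1)).map f)) = 0
    rw [← NatTrans.naturality]
    show (H i).map (((t₀).truncLT (q + 1)).map f ≫ _) = 0
    rw [Functor.map_comp, h3, zero_comp]
  refine existsUnique_of_concentrated q (((t₀).truncLT (q + 1)).obj K) _ _ _ ?_ _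
    (hzero _ le_rfl (by lia) h₁) (hzero _ (by lia) (by lia) h₂)
  let x := ((t₀).natTransTruncLTOfLE q (q + 1) (lt_add_one q).le).app K'
  haveI := HomTrunc.isIso_H_truncLTι K' q (q - 1) (by lia)
  haveI := HomTrunc.isIso_H_truncLTι K' (q + 1) (q - 1) (by lia)
  haveI : IsIso ((H (q - 1)).map x ≫ (H (q - 1)).map (((t₀).truncLTι (q + 1)).app K')) := by
    rw [← Functor.map_comp, (t₀).natTransTruncLTOfLE_ι_app]; infer_instance
  haveI : IsIso ((H (q - 1)).map x) :=
    IsIso.of_isIso_comp_right _ ((H (q - 1)).map (((t₀).truncLTι (q + 1)).app K'))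
  haveI := HomTrunc.isIso_H_truncGEπ (((t₀).truncLT q).obj K') (q - 1) (q - 1) le_rfl
  haveI := HomTrunc.isIso_H_truncGEπ (((t₀).truncLT (q + 1)).obj K') (q - 1) (q - 1) le_rfl
  haveI : IsIso ((H (q - 1)).map (((t₀).truncGEπ (q - 1)).app (((t₀).truncLT q).obj K')) ≫
      (H (q - 1)).map (((t₀).truncGE (q - 1)).map x)) := by
    rw [← Functor.map_comp, ← NatTrans.naturality]
    show IsIso ((H (q - 1)).map (x ≫ _))
    rw [Functor.map_comp]; infer_instance
  exact IsIso.of_isIso_comp_left ((H (q - 1)).map (((t₀).truncGEπ (q - 1)).app (((t₀).truncLT q).obj K'))) _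

end Groth.Agent.CohDer1.TruncMap
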