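import Groth.Agent.CiLib.Brauer
import Mathlib.FieldTheory.Galois.Basic
import Mathlib.GroupTheory.Sylow
import Mathlib.GroupTheory.Index
import Mathlib.GroupTheory.IndexNormal
import Mathlib.RingTheory.Norm.Transitivity
import Mathlib.LinearAlgebra.LinearIndependent.Defs

/-!
# Norms in Galois extensions of `C₁` fields
-/

set_option autoImplicit false

universe u

open Finset

namespace Groth.Agent.CohDer1.TsenNorm

/-- The norm of a finite extension of a `C₁` field is surjective. -/
theorem norm_surjective_of_isCi {M L : Type u} [Field M] [Field L] [Algebra M L] [FiniteDimensional M L]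
    (hM : Curves.IsCi M 1) (c : M) : ∃ x : L, Algebra.norm M x = c := by
  classical
  let b := Module.finBasis M L
  let n := Module.finrank M L
  let σ := Option (Fin n)
  let A : Matrix (Fin n) (Fin n) (MvPolynomial σ M) :=
    Matrix.of fun p q => ∑ j : Fin n, MvPolynomial.C (Algebra.leftMulMatrix b (b j) p q) * MvPolynomial.X (some j)
  have hA : A.det.IsHomogeneous n := by
    simpa using Groth.Agent.CiLib.det_isHomogeneous A (d := 1) fun p q => by
      simp only [A, Matrix.of_apply]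
      exact MvPolynomial.IsHomogeneous.sum _ _ _ fun j _ => (MvPolynomial.isHomogeneous_X M _).C_mul _
  let F : MvPolynomial σ M := A.det - MvPolynomial.C c * MvPolynomial.X none ^ n
  have hF : F.IsHomogeneous n := hA.sub (by
    simpa using ((MvPolynomial.isHomogeneous_X M (none : σ)).pow n).C_mul c)
  obtain ⟨a, ha, hz⟩ := Groth.Agent.CiLib.exists_zero hM (fun _ : Fin 1 => F) (fun _ => n) (fun _ => hF)
    (fun _ => Module.finrank_pos) (by simp [σ, n])
  let x : L := ∑ j, a (some j) • b j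
  have hev : MvPolynomial.eval a A.det = Algebra.norm M x := by
    rw [Algebra.norm_eq_matrix_det b, RingHom.map_det]
    congr 1
    ext p q
    simp only [x, A, RingHom.mapMatrix_apply, Matrix.map_apply, Matrix.of_apply, map_sum, map_mul,
      MvPolynomial.eval_C, MvPolynomial.eval_X, map_smul, Matrix.sum_apply, Matrix.smul_apply, smul_eq_mul]
    exact Finset.sum_congr rfl fun j _ => mul_comm _ _
  have h := hz 0
  simp only [F, map_sub, map_mul, map_pow, MvPolynomial.eval_C, MvPolynomial.eval_X, hev, sub_eq_zero] at h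
  have hn : a none ≠ 0 := fun h0 => ha (funext fun i => by
    rw [h0, zero_pow (Module.finrank_pos (R := M) (M := L)).ne', mul_zero, Algebra.norm_eq_zero_iff] at h
    rcases i with _ | j
    · exact h0
    · exact Fintype.linearIndependent_iff.1 b.linearIndependent (fun j => a (some j)) h j)
  refine ⟨(a none)⁻¹ • x, ?_⟩
  rw [Algebra.smul_def, map_mul, Algebra.norm_algebraMap, h, inv_pow]
  field_simp
  exact mul_comm _ _

variable {K L : Type u} [Field K] [Field L] [Algebra K L] [FiniteDimensional K L] [IsGalois K L]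

/-- Product of the conjugates by a subgroup. -/
noncomputable def Nm (H : Subgroup (L ≃ₐ[K] L)) : L →* L :=
  haveI := Fintype.ofFinite H
  { toFun := fun x => ∏ h : H, (h : L ≃ₐ[K] L) x
    map_one' := by simp
    map_mul' := fun x y => by simp [Finset.prod_mul_distrib] }

lemma Nm_eq (H : Subgroup (L ≃ₐ[K] L)) [Fintype H] (x : L) : Nm H x = ∏ h : H, (h : L ≃ₐ[K] L) x := by
  cases Subsingleton.elim ‹Fintype H› (Fintype.ofFinite H)
  rfl

/-- The subgroup generated by the quotients `w / h w`. -/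
def aug (H : Subgroup (L ≃ₐ[K] L)) : Subgroup Lˣ :=
  Subgroup.closure {v : Lˣ | ∃ w : Lˣ, ∃ h ∈ H, (v : L) = (w : L) / h (w : L)}

lemma exists_Nm_eq (hK : Curves.IsCi K 1) (H : Subgroup (L ≃ₐ[K] L)) (c : L)
    (hc : ∀ h ∈ H, h c = c) : ∃ x : L, Nm H x = c := by
  classical
  haveI := Fintype.ofFinite H
  let M := IntermediateField.fixedField H
  obtain ⟨x, hx⟩ := norm_surjective_of_isCi (L := L) (Groth.Agent.CiLib.isCi_of_finite (L := M) hK) ⟨c, fun h => hc h h.2⟩
  refine ⟨x, ?_⟩
  have h := Algebra.norm_eq_prod_automorphisms (K := M) (L := L) x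
  rw [hx] at h
  refine Eq.trans ?_ h.symm
  rw [Nm_eq]
  exact Fintype.prod_equiv (IntermediateField.subgroupEquivAlgEquiv H).toEquiv _ _ fun h => rfl

lemma exists_gen {p : ℕ} [Fact p.Prime] {H : Subgroup (L ≃ₐ[K] L)} (hH : IsPGroup p H) (hne : H ≠ ⊥) :
    ∃ (H' : Subgroup (L ≃ₐ[K] L)) (g : L ≃ₐ[K] L), H' ≤ H ∧ g ∈ H ∧ Nat.card H' < Nat.card H ∧
      (∀ h ∈ H', g * h * g⁻¹ ∈ H') ∧ g ^ p ∈ H' ∧ (∀ i < p, g ^ i ∈ H' → i = 0) ∧
      p * Nat.card H' = Nat.card H := by
  have hp := (Fact.out : p.Prime)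
  obtain ⟨n, hn⟩ := IsPGroup.iff_card.1 hH
  obtain ⟨m, rfl⟩ : ∃ m, n = m + 1 := Nat.exists_eq_succ_of_ne_zero fun h0 => hne (by
    rw [h0, pow_zero] at hn
    exact Subgroup.eq_bot_of_card_eq H hn)
  obtain ⟨Q, hQ⟩ := Sylow.exists_subgroup_card_pow_prime (G := H) p (n := m) (hn ▸ pow_dvd_pow p m.le_succ)
  have hidx : Q.index = p := by
    have h := Q.card_mul_index
    rw [hQ, hn, pow_succ] at h
    exact Nat.eq_of_mul_eq_mul_left (pow_pos hp.pos m) h
  haveI : Q.Normal := Subgroup.normal_of_index_eq_minFac_card (by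
    rw [hidx, hn, Nat.pow_minFac m.succ_ne_zero, hp.minFac_eq])
  obtain ⟨g, hg⟩ : ∃ g : H, g ∉ Q := by
    by_contra! hall
    exact hp.ne_one (hidx.symm.trans (by rw [Q.eq_top_iff'.2 hall, Subgroup.index_top]))
  have hord : orderOf (QuotientGroup.mk g : H ⧸ Q) = p := by
    haveI : Fintype (H ⧸ Q) := Fintype.ofFinite _
    refine (hp.eq_one_or_self_of_dvd _ ?_).resolve_left fun h1 => hg ((QuotientGroup.eq_one_iff g).1 (orderOf_eq_one_iff.1 h1))
    have h := orderOf_dvd_natCard (QuotientGroup.mk g : H ⧸ Q)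
    rwa [show Nat.card (H ⧸ Q) = p from hidx] at h
  have hmem : ∀ i, (g : L ≃ₐ[K] L) ^ i ∈ Q.map H.subtype ↔ p ∣ i := fun i => by
    rw [show (g : L ≃ₐ[K] L) ^ i = H.subtype (g ^ i) from (map_pow H.subtype g i).symm,
      Subgroup.mem_map_iff_mem H.subtype_injective, ← hord, orderOf_dvd_iff_pow_eq_one, ← QuotientGroup.mk_pow,
      QuotientGroup.eq_one_iff]
  have hcard : Nat.card (Q.map H.subtype) = p ^ m := by
    rw [Nat.card_congr (Q.equivMapOfInjective _ H.subtype_injective).toEquiv.symm, hQ]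
  refine ⟨Q.map H.subtype, g, Subgroup.map_subtype_le Q, g.2, ?_, ?_, (hmem p).2 dvd_rfl, fun i hi h => ?_, ?_⟩
  · rw [hcard, hn]
    exact Nat.pow_lt_pow_right hp.one_lt m.lt_succ_self
  · rintro _ ⟨h, hh, rfl⟩
    exact ⟨g * h * g⁻¹, ‹Q.Normal›.conj_mem h hh g, rfl⟩
  · exact Nat.eq_zero_of_dvd_of_lt ((hmem i).1 h) hi
  · rw [hcard, hn, pow_succ']

lemma mem_aug_of_isPGroup (hK : Curves.IsCi K 1) {p : ℕ} [Fact p.Prime] (H : Subgroup (L ≃ₐ[K] L))
    (hH : IsPGroup p H) : ∀ u : Lˣ, Nm H (u : L) = 1 → u ∈ aug H := by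
  classical
  induction hN : Nat.card H using Nat.strong_induction_on generalizing H with
  | _ N ih =>
  intro u hu
  haveI := Fintype.ofFinite H
  by_cases hne : H = ⊥
  · subst hne
    rw [Nm_eq, Fintype.prod_subsingleton _ (1 : (⊥ : Subgroup (L ≃ₐ[K] L)))] at hu
    rw [show u = 1 from Units.ext (by simpa using hu)]
    exact one_mem _
  obtain ⟨H', g, hle, hgH, hlt, hconj, hgp, hginj, hcard⟩ := exists_gen hH hne
  haveI := Fintype.ofFinite H'
  have hp := (Fact.out : p.Prime)
  -- the coset decomposition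
  let β : Fin p × H' → H := fun q => ⟨g ^ (q.1 : ℕ) * q.2, mul_mem (pow_mem hgH _) (hle q.2.2)⟩
  have hβ : Function.Bijective β := by
    rw [Fintype.bijective_iff_injective_and_card]
    refine ⟨fun q q' h => ?_, by rw [Fintype.card_prod, Fintype.card_fin, ← Nat.card_eq_fintype_card,
      ← Nat.card_eq_fintype_card, hcard]⟩
    have h' : g ^ (q.1 : ℕ) * (q.2 : L ≃ₐ[K] L) = g ^ (q'.1 : ℕ) * (q'.2 : L ≃ₐ[K] L) := congrArg Subtype.val h
    have key : ∀ {i j : ℕ} {a b : L ≃ₐ[K] L}, a ∈ H' → b ∈ H' → i ≤ j → j < p → g ^ i * a = g ^ j * b → i = j :=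
      fun {i j a b} ha hb hij hj e => by
        obtain ⟨d, rfl⟩ := Nat.exists_eq_add_of_le hij
        rw [pow_add, mul_assoc] at e
        have hd : g ^ d = a * b⁻¹ := eq_mul_inv_of_mul_eq (mul_left_cancel e).symm
        rw [hginj d (by omega) (hd ▸ mul_mem ha (inv_mem hb)), add_zero]
    have h1 : q.1 = q'.1 := Fin.ext (by
      rcases le_total (q.1 : ℕ) q'.1 with hle' | hle'
      · exact key q.2.2 q'.2.2 hle' q'.1.2 h'
      · exact (key q'.2.2 q.2.2 hle' q.1.2 h'.symm).symm)
    rw [h1] at h'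
    exact Prod.ext h1 (Subtype.ext (mul_left_cancel h'))
  have hsplit : ∀ x : L, Nm H x = ∏ i : Fin p, (g ^ (i : ℕ)) (Nm H' x) := fun x => by
    rw [Nm_eq, ← hβ.prod_comp fun h : H => (h : L ≃ₐ[K] L) x, Fintype.prod_prod_type]
    refine Finset.prod_congr rfl fun i _ => ?_
    rw [Nm_eq, map_prod]
    rfl
  have hfix : ∀ x : L, ∀ h ∈ H', h (Nm H' x) = Nm H' x := fun x h hh => by
    rw [Nm_eq, map_prod]
    exact Fintype.prod_equiv (Equiv.mulLeft (⟨h, hh⟩ : H')) _ _ fun _ => rfl
  have hconj' : ∀ i : ℕ, ∀ h ∈ H', ∃ h' ∈ H', h * g ^ i = g ^ i * h' := fun i => by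
    induction i with
    | zero => exact fun h hh => ⟨h, hh, by simp⟩
    | succ i ih2 =>
      intro h hh
      obtain ⟨h', hh', e⟩ := ih2 h hh
      have hbij : ∃ h'' ∈ H', g * h'' * g⁻¹ = h' := by
        let c : H' → H' := fun x => ⟨g * x * g⁻¹, hconj x x.2⟩
        have hc : Function.Surjective c := Finite.surjective_of_injective fun a b e =>
          Subtype.ext (by simpa [c] using congrArg Subtype.val e)
        obtain ⟨x, hx⟩ := hc ⟨h', hh'⟩
        exact ⟨x, x.2, congrArg Subtype.val hx⟩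
      obtain ⟨h'', hh'', e''⟩ := hbij
      exact ⟨h'', hh'', by rw [pow_succ, ← mul_assoc, e, ← e'']; group⟩
  -- Hilbert 90 for the cyclic quotient
  let M := IntermediateField.fixedField H'
  let v : L := Nm H' (u : L)
  have hv0 : v ≠ 0 := by
    simp only [v, Nm_eq]
    exact Finset.prod_ne_zero_iff.2 fun h _ => (map_ne_zero_iff _ (AlgEquiv.injective _)).2 u.ne_zero
  let c : ℕ → L := fun i => ∏ j ∈ Finset.range i, (g ^ j) v
  let χ : Fin p → (M →* L) := fun i =>
    { toFun := fun x => (g ^ (i : ℕ)) (x : L)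
      map_one' := by simp
      map_mul' := fun x y => by simp }
  have hχ : Function.Injective χ := by
    have key : ∀ i j : Fin p, i ≤ j → χ i = χ j → i = j := fun i j hij he => by
      obtain ⟨d, hd⟩ := Nat.exists_eq_add_of_le (Fin.le_def.1 hij)
      have hd' : g ^ d ∈ IntermediateField.fixingSubgroup M := fun x => by
        have h1 := DFunLike.congr_fun he x
        simp only [χ, MonoidHom.coe_mk, OneHom.coe_mk, hd, pow_add, AlgEquiv.mul_apply] at h1
        exact ((g ^ (i : ℕ)).injective h1).symm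
      rw [IntermediateField.fixingSubgroup_fixedField] at hd'
      exact Fin.ext (by rw [hd, hginj d (by omega) hd', add_zero])
    intro i j he
    rcases le_total i j with h | h
    · exact key i j h he
    · exact (key j i h he.symm).symm
  obtain ⟨θ, hθ⟩ : ∃ θ : M, ∑ i : Fin p, c i * (g ^ (i : ℕ)) (θ : L) ≠ 0 := by
    by_contra! hall
    have hli := Fintype.linearIndependent_iff.1 ((linearIndependent_monoidHom M L).comp χ hχ) (fun i => c i)
      (funext fun x => by simpa [Finset.sum_apply, χ] using hall x) ⟨0, hp.pos⟩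
    simp [c] at hli
  let w : L := ∑ i : Fin p, c i * (g ^ (i : ℕ)) (θ : L)
  have hwfix : ∀ h ∈ H', h w = w := fun h hh => by
    rw [map_sum]
    refine Finset.sum_congr rfl fun i _ => ?_
    rw [map_mul, map_prod]
    have key : ∀ (i : ℕ) (y : L), (∀ h ∈ H', h y = y) → h ((g ^ i) y) = (g ^ i) y := fun i y hy => by
      obtain ⟨h', hh', e⟩ := hconj' i h hh
      rw [← AlgEquiv.mul_apply, e, AlgEquiv.mul_apply, hy h' hh']
    rw [key i θ fun h hh => θ.2 ⟨h, hh⟩]
    congr 1
    exact Finset.prod_congr rfl fun j _ => key j v (hfix _)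
  have hgw : v * g w = w := by
    rw [map_sum, Finset.mul_sum]
    have e1 : ∀ i : ℕ, v * g (c i * (g ^ i) (θ : L)) = c (i + 1) * (g ^ (i + 1)) (θ : L) := fun i => by
      simp only [c, map_mul, map_prod, Finset.prod_range_succ', pow_zero, AlgEquiv.one_apply, pow_succ',
        AlgEquiv.mul_apply]
      ring
    simp only [e1, w, Fin.sum_univ_eq_sum_range (fun i => c (i + 1) * (g ^ (i + 1)) (θ : L)),
      Fin.sum_univ_eq_sum_range (fun i => c i * (g ^ i) (θ : L))]
    have hcp : c p = 1 := by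
      have h := hsplit (u : L)
      rw [hu] at h
      simp only [c, v]
      rw [← Fin.prod_univ_eq_prod_range (fun j => (g ^ j) (Nm H' (u : L)))]
      exact h.symm
    have h1 := Finset.sum_range_succ' (fun i => c i * (g ^ i) (θ : L)) p
    have h2 := Finset.sum_range_succ (fun i => c i * (g ^ i) (θ : L)) p
    rw [h1] at h2
    have hθp : (g ^ p) (θ : L) = θ := θ.2 ⟨g ^ p, hgp⟩
    simp only [hcp, hθp, c, Finset.prod_range_zero, pow_zero, AlgEquiv.one_apply, one_mul] at h2
    exact add_right_cancel h2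
  obtain ⟨w', hw'⟩ := exists_Nm_eq hK H' w hwfix
  have hw'0 : w' ≠ 0 := fun h0 => hθ (by
    change w = 0
    rw [← hw', h0, Nm_eq]
    exact Finset.prod_eq_zero (Finset.mem_univ (1 : H')) (by simp))
  have hgw0 : g w' ≠ 0 := (map_ne_zero_iff _ g.injective).2 hw'0
  let z : Lˣ := Units.mk0 (w' / g w') (div_ne_zero hw'0 hgw0)
  have hz : z ∈ aug H := Subgroup.subset_closure ⟨Units.mk0 w' hw'0, g, hgH, rfl⟩
  have hNg : Nm H' (g w') = g w := by
    rw [← hw', Nm_eq, Nm_eq, map_prod]
    have hc : Function.Bijective (fun x : H' => (⟨g * x * g⁻¹, hconj x x.2⟩ : H')) :=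
      Finite.injective_iff_bijective.1 fun a b e => Subtype.ext (by simpa using congrArg Subtype.val e)
    rw [← hc.prod_comp fun h : H' => (h : L ≃ₐ[K] L) (g w')]
    exact Finset.prod_congr rfl fun x _ => by simp [AlgEquiv.mul_apply]
  have hNz : Nm H' (z : L) = v := by
    have h := (Nm H').map_mul (z : L) (g w')
    rw [show (z : L) * g w' = w' from div_mul_cancel₀ _ hgw0, hw', hNg] at h
    have hgwne : g w ≠ 0 := (map_ne_zero_iff _ g.injective).2 hθ
    exact mul_right_cancel₀ hgwne (h.symm.trans hgw.symm)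
  have hu' : u * z⁻¹ ∈ aug H' := ih _ (hN ▸ hlt) H' (hH.to_le hle) rfl _ (by
    have h := (Nm H').map_mul ((u * z⁻¹ : Lˣ) : L) (z : L)
    rw [← Units.val_mul, inv_mul_cancel_right, hNz] at h
    exact mul_right_cancel₀ hv0 (by rw [one_mul]; exact h.symm))
  have hmono : aug H' ≤ aug H := Subgroup.closure_mono fun x ⟨w, h, hh, e⟩ => ⟨w, h, hle hh, e⟩
  simpa using mul_mem (hmono hu') hz

lemma aug_top : aug (⊤ : Subgroup (L ≃ₐ[K] L)) =
    Subgroup.closure {v : Lˣ | ∃ (w : Lˣ) (g : L ≃ₐ[K] L), (v : L) = (w : L) / g (w : L)} := by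
  simp [aug]

theorem norm_surjective_and_ker (hK : Curves.IsCi K 1) :
    Function.Surjective (Algebra.norm K : L → K) ∧
      ∀ u : Lˣ, Algebra.norm K (u : L) = 1 ↔
        u ∈ Subgroup.closure {v : Lˣ | ∃ (w : Lˣ) (g : L ≃ₐ[K] L), (v : L) = (w : L) / g (w : L)} := by
  classical
  refine ⟨fun c => norm_surjective_of_isCi hK c, fun u => ⟨fun hu => ?_, fun hu => ?_⟩⟩
  · rw [← aug_top]
    let π := QuotientGroup.mk' (aug (⊤ : Subgroup (L ≃ₐ[K] L)))
    have hdvd : ∀ p : ℕ, p.Prime → ∃ m : ℕ, ¬ p ∣ m ∧ π u ^ m = 1 := fun p hp => by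
      haveI := Fact.mk hp
      let P : Sylow p (L ≃ₐ[K] L) := default
      let H : Subgroup (L ≃ₐ[K] L) := P
      haveI := Fintype.ofFinite ((L ≃ₐ[K] L) ⧸ H)
      haveI := Fintype.ofFinite H
      let r : (L ≃ₐ[K] L) ⧸ H → (L ≃ₐ[K] L) := fun q => q.out⁻¹
      let y : Lˣ := ∏ q, Units.map (r q : L →* L) u
      have hy : Nm H (y : L) = 1 := by
        have hbij : Function.Bijective fun q : H × ((L ≃ₐ[K] L) ⧸ H) => (q.1 : L ≃ₐ[K] L) * r q.2 := by
          rw [Fintype.bijective_iff_surjective_and_card]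
          refine ⟨fun g => ?_, ?_⟩
          · obtain ⟨h, hh⟩ := QuotientGroup.mk_out_eq_mul H g⁻¹
            exact ⟨(h, QuotientGroup.mk g⁻¹), by simp [r, hh, mul_assoc]⟩
          · rw [Fintype.card_prod, ← Nat.card_eq_fintype_card, ← Nat.card_eq_fintype_card,
              ← Nat.card_eq_fintype_card]
            exact H.card_mul_index
        have h := congrArg (algebraMap K L) hu
        rw [map_one, Algebra.norm_eq_prod_automorphisms, ← hbij.prod_comp fun σ => σ (u : L),
          Fintype.prod_prod_type] at h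
        rw [Nm_eq]
        refine Eq.trans (Finset.prod_congr rfl fun x _ => ?_) h
        simp [y, Units.coe_prod, map_prod, AlgEquiv.mul_apply]
      have h1 : π y = 1 := (QuotientGroup.eq_one_iff y).2
        ((Subgroup.closure_mono fun x hx => by
          obtain ⟨w, g, -, e⟩ := hx
          exact ⟨w, g, Subgroup.mem_top g, e⟩) (mem_aug_of_isPGroup hK H P.2 y hy))
      refine ⟨H.index, P.not_dvd_index, ?_⟩
      have h2 : ∀ q, π (Units.map (r q : L →* L) u) = π u := fun q => by
        refine Eq.symm ((QuotientGroup.eq_iff_div_mem (N := aug (⊤ : Subgroup (L ≃ₐ[K] L)))).2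
          (Subgroup.subset_closure ?_))
        exact ⟨u, r q, Subgroup.mem_top _, by simp [Units.val_div_eq_div_val]⟩
      rw [← h1, map_prod, Finset.prod_congr rfl fun q _ => h2 q, Finset.prod_const, Finset.card_univ,
        Subgroup.index, Nat.card_eq_fintype_card]
    refine (QuotientGroup.eq_one_iff u).1 (orderOf_eq_one_iff.1 ?_)
    by_contra hne
    obtain ⟨m, hm, hm1⟩ := hdvd _ (Nat.minFac_prime hne)
    exact hm ((Nat.minFac_dvd _).trans (orderOf_dvd_of_pow_eq_one hm1))
  · let N : Lˣ →* K := (Algebra.norm K (S := L)).comp (Units.coeHom L)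
    refine (Subgroup.closure_le (K := N.ker)).2 ?_ hu
    rintro v ⟨w, g, e⟩
    rw [SetLike.mem_coe, MonoidHom.mem_ker]
    change Algebra.norm K (v : L) = 1
    have h := map_mul (Algebra.norm K (S := L)) ((w : L) / g (w : L)) (g (w : L))
    rw [div_mul_cancel₀ _ ((map_ne_zero_iff _ g.injective).2 w.ne_zero), Algebra.norm_eq_of_algEquiv g] at h
    rw [e]
    exact mul_right_cancel₀ (Algebra.norm_ne_zero_iff.2 w.ne_zero) (h.symm.trans (one_mul _).symm)

end Groth.Agent.CohDer1.TsenNorm
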