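import Mathlib.CategoryTheory.Triangulated.Subcategory
import Mathlib.CategoryTheory.Linear.LinearFunctor
import Mathlib.CategoryTheory.ObjectProperty.Retract
import Mathlib.Algebra.Module.LocalizedModule.Basic

/-!
# The Verdier quotient by the torsion objects localizes the Hom modules
-/

set_option autoImplicit false

universe w v u v' u'

open CategoryTheory CategoryTheory.Limits CategoryTheory.Pretriangulated CategoryTheory.Category
open ZeroObject

namespace Groth.Agent.CohDer1.VerdierTorsion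

variable {A : Type w} [CommRing A] (S : Submonoid A)
  {T : Type u} [Category.{v} T] [Preadditive T] [Linear A T]

/-- The objects killed by an element of `S`. -/
def killed : ObjectProperty T := fun Z => ∃ f ∈ S, f • 𝟙 Z = 0

theorem killed_retract {X Y : T} (h : Retract X Y) (hY : killed S Y) : killed S X := by
  obtain ⟨f, hf, h0⟩ := hY
  refine ⟨f, hf, ?_⟩
  rw [← h.retract]
  calc f • (h.i ≫ h.r) = h.i ≫ (f • 𝟙 Y) ≫ h.r := by
        rw [Linear.smul_comp, id_comp, Linear.comp_smul]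
    _ = 0 := by rw [h0, zero_comp, comp_zero]

instance : (killed S : ObjectProperty T).IsStableUnderRetracts where
  of_retract := killed_retract S

instance : (killed S : ObjectProperty T).IsClosedUnderIsomorphisms where
  of_iso e := killed_retract S ⟨e.inv, e.hom, e.inv_hom_id⟩

variable [HasZeroObject T] [HasShift T ℤ]
  [∀ n : ℤ, (shiftFunctor T n).Additive] [∀ n : ℤ, (shiftFunctor T n).Linear A]
  [Pretriangulated T]

instance : (killed S : ObjectProperty T).IsTriangulated where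
  exists_zero := ⟨0, isZero_zero T, 1, S.one_mem, by rw [one_smul]; exact (isZero_zero T).eq_of_src _ _⟩
  isStableUnderShiftBy n :=
    ⟨fun Z hZ => by
      obtain ⟨f, hf, h0⟩ := hZ
      refine ⟨f, hf, ?_⟩
      rw [← CategoryTheory.Functor.map_id, ← CategoryTheory.Functor.map_smul, h0, CategoryTheory.Functor.map_zero]⟩
  ext₂' Tr hTr h₁ h₃ := by
    refine ObjectProperty.le_isoClosure _ _ ?_
    obtain ⟨f, hf, h1⟩ := h₁
    obtain ⟨g, hg, h3⟩ := h₃
    obtain ⟨b, hb⟩ := Triangle.coyoneda_exact₂ _ hTr (g • 𝟙 Tr.obj₂) (by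
      rw [Linear.smul_comp, id_comp, ← comp_id Tr.mor₂, ← Linear.comp_smul, h3, comp_zero])
    refine ⟨f * g, S.mul_mem hf hg, ?_⟩
    rw [mul_smul, hb, ← Linear.comp_smul]
    rw [show f • Tr.mor₁ = 0 by rw [← id_comp Tr.mor₁, ← Linear.smul_comp, h1, zero_comp], comp_zero]

/-- A cone of multiplication by `f` is killed by `f ^ 2`. -/
theorem killed_cone {X Z : T} {f : A} (hf : f ∈ S) (g : X ⟶ Z) (h : Z ⟶ X⟦(1 : ℤ)⟧)
    (hT : Triangle.mk (f • 𝟙 X) g h ∈ distTriang T) : killed S Z := by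
  have hg : f • g = 0 := by
    have h' : (f • 𝟙 X) ≫ g = 0 := comp_distTriang_mor_zero₁₂ _ hT
    rwa [Linear.smul_comp, id_comp] at h'
  have hh : f • h = 0 := by
    have h' : h ≫ (shiftFunctor T (1 : ℤ)).map (f • 𝟙 X) = 0 := comp_distTriang_mor_zero₃₁ _ hT
    rwa [CategoryTheory.Functor.map_smul, CategoryTheory.Functor.map_id, Linear.comp_smul, comp_id] at h'
  obtain ⟨b, hb⟩ := Triangle.coyoneda_exact₃ _ hT (f • 𝟙 Z) (by
    show (f • 𝟙 Z) ≫ h = 0
    rw [Linear.smul_comp, id_comp, hh])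
  change Z ⟶ X at b
  change f • 𝟙 Z = b ≫ g at hb
  exact ⟨f * f, S.mul_mem hf hf, by rw [mul_smul, hb, ← Linear.comp_smul, hg, comp_zero]⟩

/-- A map whose cone is killed by `f` splits up to `f`. -/
theorem exists_section (U : ObjectProperty T) (hU : U ≤ killed S) {X' X : T} {s : X' ⟶ X}
    (hs : U.trW s) : ∃ f ∈ S, ∃ t : X ⟶ X', t ≫ s = f • 𝟙 X := by
  obtain ⟨Z, g, h, hT, hZ⟩ := hs
  obtain ⟨f, hf, h0⟩ := hU _ hZ
  obtain ⟨t, ht⟩ := Triangle.coyoneda_exact₂ _ hT (f • 𝟙 X) (by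
    show (f • 𝟙 X) ≫ g = 0
    rw [Linear.smul_comp, id_comp, ← comp_id g, ← Linear.comp_smul, h0, comp_zero])
  exact ⟨f, hf, t, ht.symm⟩

variable [IsTriangulated T] {E : Type u'} [Category.{v'} E] [Preadditive E] [Linear A E]
  (Q : T ⥤ E) [Q.Additive] [Q.Linear A]

theorem isLocalizedModule (U : ObjectProperty T) [U.IsTriangulated] (hU : U ≤ killed S)
    (hcone : ∀ (X : T) (f : A), f ∈ S → U.trW (f • 𝟙 X))
    [Q.IsLocalization U.trW] (X Y : T) :
    IsLocalizedModule S (Q.mapLinearMap A : (X ⟶ Y) →ₗ[A] (Q.obj X ⟶ Q.obj Y)) where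
  map_units x := by
    have hi : IsIso ((x : A) • 𝟙 (Q.obj X)) := by
      rw [← CategoryTheory.Functor.map_id, ← CategoryTheory.Functor.map_smul]
      exact Localization.inverts Q U.trW _ (hcone X x x.2)
    refine (Module.End.isUnit_iff _).2 ⟨fun a b hab => ?_, fun c => ⟨inv ((x : A) • 𝟙 (Q.obj X)) ≫ c, ?_⟩⟩
    · simp only [Module.algebraMap_end_apply] at hab
      rw [← cancel_epi ((x : A) • 𝟙 (Q.obj X))]
      simpa [Linear.smul_comp] using hab
    · simp only [Module.algebraMap_end_apply]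
      have := IsIso.hom_inv_id_assoc ((x : A) • 𝟙 (Q.obj X)) c
      rwa [Linear.smul_comp, id_comp] at this
  surj φ := by
    obtain ⟨ρ, hρ⟩ := Localization.exists_rightFraction Q U.trW φ
    obtain ⟨f, hf, t, ht⟩ := exists_section S U hU ρ.hs
    refine ⟨⟨t ≫ ρ.f, ⟨f, hf⟩⟩, ?_⟩
    show f • φ = Q.map (t ≫ ρ.f)
    rw [Q.map_comp, hρ, ← ρ.map_s_comp_map Q (Localization.inverts Q U.trW), ← assoc, ← Q.map_comp,
      ht, CategoryTheory.Functor.map_smul, CategoryTheory.Functor.map_id, Linear.smul_comp, id_comp]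
  exists_of_eq {x₁ x₂} h := by
    obtain ⟨X', s, hs, hsx⟩ := (MorphismProperty.map_eq_iff_precomp Q U.trW x₁ x₂).1 h
    obtain ⟨f, hf, t, ht⟩ := exists_section S U hU hs
    refine ⟨⟨f, hf⟩, ?_⟩
    show f • x₁ = f • x₂
    rw [← id_comp x₁, ← id_comp x₂, ← Linear.smul_comp, ← Linear.smul_comp, ← ht, assoc, assoc, hsx]

end Groth.Agent.CohDer1.VerdierTorsion
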