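import Mathlib

/-!
# Derived category with cohomology in a weak Serre class
-/

set_option autoImplicit false
set_option backward.isDefEq.respectTransparency.types false

universe w v u

open CategoryTheory CategoryTheory.Limits CategoryTheory.Pretriangulated
open ZeroObject

namespace Groth.Agent.CohDer1.WeakSerre

variable {A : Type u} [Category.{v} A] [Abelian A] [HasDerivedCategory.{w} A]
  (P : ObjectProperty A) [P.IsClosedUnderIsomorphisms]

/-- Objects with cohomology in `P`. -/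
abbrev coh : ObjectProperty (DerivedCategory A) :=
  fun X => ∀ n : ℤ, P ((DerivedCategory.homologyFunctor A n).obj X)

variable (h0 : ∃ Z : A, IsZero Z ∧ P Z)
  (hP : ∀ S : ComposableArrows A 4, S.Exact → P (S.obj 0) → P (S.obj 1) → P (S.obj 3) → P (S.obj 4) → P (S.obj 2))

include h0 in
theorem prop_of_isZero {X : A} (hX : IsZero X) : P X := by
  obtain ⟨Z, hZ, hPZ⟩ := h0
  exact P.prop_of_iso (hZ.iso hX) hPZ

include hP in
theorem middle {X₀ X₁ X₂ X₃ X₄ : A} (f : X₀ ⟶ X₁) (g : X₁ ⟶ X₂) (h : X₂ ⟶ X₃) (k : X₃ ⟶ X₄)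
    (w₁ : f ≫ g = 0) (w₂ : g ≫ h = 0) (w₃ : h ≫ k = 0)
    (e₁ : (ShortComplex.mk f g w₁).Exact) (e₂ : (ShortComplex.mk g h w₂).Exact)
    (e₃ : (ShortComplex.mk h k w₃).Exact) (p₀ : P X₀) (p₁ : P X₁) (p₃ : P X₃) (p₄ : P X₄) : P X₂ :=
  hP (ComposableArrows.mk₄ f g h k)
    (ComposableArrows.exact_of_δ₀ e₁.exact_toComposableArrows
      (ComposableArrows.exact_of_δ₀ e₂.exact_toComposableArrows e₃.exact_toComposableArrows)) p₀ p₁ p₃ p₄

include h0 hP in
theorem main : ObjectProperty.IsTriangulated (coh P) ∧ ObjectProperty.IsStableUnderRetracts (coh P) := by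
  haveI : (coh P).IsClosedUnderIsomorphisms :=
    ⟨fun e hX n => P.prop_of_iso ((DerivedCategory.homologyFunctor A n).mapIso e) (hX n)⟩
  haveI hz : (coh P).ContainsZero :=
    ⟨⟨0, isZero_zero _, fun n => prop_of_isZero P h0 ((DerivedCategory.homologyFunctor A n).map_isZero (isZero_zero _))⟩⟩
  haveI hs : (coh P).IsStableUnderShift ℤ := ⟨fun a => ⟨fun X hX n =>
    P.prop_of_iso (((DerivedCategory.homologyFunctor A 0).shiftIso a n (a + n) rfl).app X).symm (hX (a + n))⟩⟩
  haveI h₃ : (coh P).IsTriangulatedClosed₃ := by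
    refine ObjectProperty.IsTriangulatedClosed₃.mk' fun T hT h₁ h₂ n => ?_
    exact middle P hP _ _ _ _ _ _ _ (DerivedCategory.HomologySequence.exact₂ T hT n)
      (DerivedCategory.HomologySequence.exact₃ T hT n (n + 1))
      (DerivedCategory.HomologySequence.exact₁ T hT n (n + 1)) (h₁ n) (h₂ n) (h₁ (n + 1)) (h₂ (n + 1))
  haveI h₂ : (coh P).IsTriangulatedClosed₂ := ObjectProperty.IsTriangulatedClosed₂.of_isTriangulatedClosed₃
  refine ⟨{ }, ⟨fun {X Y} r hY n => ?_⟩⟩
  let i := (DerivedCategory.homologyFunctor A n).map r.i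
  let s := (DerivedCategory.homologyFunctor A n).map r.r
  have his : i ≫ s = 𝟙 _ := by rw [← Functor.map_comp, r.retract, CategoryTheory.Functor.map_id]
  haveI : Epi s := (IsSplitEpi.mk' ⟨i, his⟩).epi
  obtain ⟨Z, hZ, hPZ⟩ := h0
  refine middle P hP (𝟙 _ - s ≫ i) s (0 : _ ⟶ Z) (0 : Z ⟶ Z) ?_ comp_zero comp_zero ?_ ?_ ?_ (hY n) (hY n) hPZ hPZ
  · rw [Preadditive.sub_comp, Category.assoc, his, Category.comp_id, Category.id_comp, sub_self]
  · refine (ShortComplex.exact_iff_exact_up_to_refinements _).2 fun T g hg => ⟨T, 𝟙 T, inferInstance, g, ?_⟩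
    dsimp at hg ⊢
    rw [Category.id_comp, Preadditive.comp_sub, Category.comp_id, ← Category.assoc, hg, zero_comp, sub_zero]
  · exact (ShortComplex.exact_iff_epi _ rfl).2 inferInstance
  · exact ShortComplex.exact_of_isZero_X₂ _ hZ

end Groth.Agent.CohDer1.WeakSerre
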